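import Cfsg.Agent.Suz27.NearFieldFusion

/-!
The NEAR-FIELD lemmas of `PLAN.md`: consequences of an element of `C_D(t)` whose centraliser in `Q`
has a single involution.
-/

set_option autoImplicit false

namespace Cfsg.Agent.Suz27

open MulAction RankOne

universe u v

variable {G : Type u} {Ω : Type v} [Group G] [MulAction G Ω] {a : Ω} {t : G} {Q : Subgroup G}

/-- If some `v ∈ C_D(t)` has exactly one involution and eight elements in its centraliser in `Q`,
then `r² = 1`. -/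
theorem rInv_of_card_eight [Finite G] (hR : R1 G Ω a t Q) {v : G} (hv : v ∈ vGrp a t)
    (hq : qOf (Q ⊓ Subgroup.centralizer {v}) = 2)
    (h8 : Nat.card ↥(Q ⊓ Subgroup.centralizer {v}) = 8) : RInv a t Q :=
  fun _ _ hs hr heq => NearFld.r_sq_of_card_eight ⟨hR, hv, hq, hs, hr, heq⟩ h8

/-- With `qOf Q = 2 ^ p` and `|Q| = |C_Q(v)| ^ p` (the Frobenius lemma): if `W ≠ 1` and some `v` of
prime order has a single involution in its centraliser in `Q`, then `Q` is a 2-group. -/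
theorem isPGroup_two_of_cent_two' [Finite G] (hR : R1 G Ω a t Q) (hG : Gen t Q)
    (hT : SubTypes a t Q) {v : G} (hv : v ∈ vGrp a t) {p : ℕ} (hp : p.Prime) (hord : orderOf v = p)
    (hq : qOf (Q ⊓ Subgroup.centralizer {v}) = 2) (hW : RankOneK.wker G a t ≠ ⊥)
    (hqQ : qOf Q = 2 ^ p)
    (hnQ : Nat.card Q = Nat.card ↥(Q ⊓ Subgroup.centralizer {v}) ^ p) : IsPGroup 2 Q := by
  haveI : Fact (Nat.Prime 2) := ⟨Nat.prime_two⟩
  obtain ⟨s, r, hs, hr, heq⟩ := structure_exists hR.setup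
  have hD : NearFld.VData G Ω a t Q v s r := ⟨hR, hv, hq, hs, hr, heq⟩
  have hgen : ∀ x ∈ vGrp a t, ∃ j : ℤ, v ^ j * x ∈ RankOneK.wker G a t := fun x hx =>
    NearFld.exists_zpow_mul_mem_wker hR hp hqQ hv (NearFld.not_mem_wker hD) hx
  by_contra hno
  have hnot : ¬ IsPGroup 2 ↥(Q ⊓ Subgroup.centralizer {v}) := fun h => hno (by
    obtain ⟨j, hj⟩ := IsPGroup.iff_card.1 h
    exact IsPGroup.of_card (n := j * p) (by rw [hnQ, hj, pow_mul]))
  obtain ⟨ℓ, f, M, hP⟩ := NearFld.exists_plane hD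
  have hℓ : ℓ = p := by
    have h := NearFld.dvd_card_fix hD hG hp hord hgen
    rw [hP.card] at h
    exact ((Nat.prime_dvd_prime_iff_eq hp hP.prime).1 (hp.dvd_of_dvd_pow h)).symm
  subst hℓ
  have hy : NearFld.Hyp G Ω a t Q v s r ℓ := ⟨hD, hT, hp, hord, hgen, hnQ, hnot⟩
  have hf := NearFld.f_eq_one hy hP
  obtain ⟨⟨u, hu⟩, hu1⟩ := @exists_ne _ ((Subgroup.nontrivial_iff_ne_bot _).2 hW)
    (1 : RankOneK.wker G a t)
  have hu1' : u ≠ 1 := fun e => hu1 (Subtype.ext e)
  have hut : u * t = t * u :=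
    Subgroup.mem_centralizer_singleton_iff.1 (NearFld.wker_le hR hu).2
  have hru : r ∈ Q ⊓ Subgroup.centralizer {u} := Subgroup.mem_inf.2 ⟨hr,
    Subgroup.mem_centralizer_singleton_iff.2
      (comm_of_comm_t hR.setup hs hr heq hu.1 hut).1.symm⟩
  obtain ⟨h2, -, hiff⟩ := NearFld.hasType_wker hR hT hu hu1'
  rw [NearFld.qOf_cent_wker hR hu] at hiff
  have hr4 : r ^ 4 = 1 := by
    by_cases hc : Nat.card ↥(Q ⊓ Subgroup.centralizer {u}) = qOf Q ^ 2
    · refine NearFld.pow_four_eq_one hR inf_le_left (fun x hx hx2 => ?_) (fun k hk x hx => ?_) hc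
        h2 hru
      · exact Subgroup.mem_inf.2
          ⟨hx, Subgroup.mem_centralizer_singleton_iff.2 (NearFld.wker_comm_sq_one hR hu hx hx2)⟩
      · obtain ⟨hxQ, hxu⟩ := Subgroup.mem_inf.1 hx
        refine Subgroup.mem_inf.2 ⟨hR.setup.conj_mem k hk.1.1 x hxQ,
          Subgroup.mem_centralizer_singleton_iff.2 ?_⟩
        have c1 : Commute u k := (NearFld.wker_comm_K hR hu hk).symm
        have c2 : Commute u x := (Subgroup.mem_centralizer_singleton_iff.1 hxu).symm
        exact ((c1.mul_right c2).mul_right c1.inv_right).eq.symm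
    · have h := hiff.2 hc s r hs hr heq
      rw [show 4 = 2 * 2 from rfl, pow_mul, pow_two r, h, one_pow]
  have h16 := (NearFld.r_pow_eq_one_iff hD hP 4).1 hr4
  have hdvd : ℓ ∣ 3 * 5 := (Nat.modEq_iff_dvd' (by norm_num)).1 h16.symm
  have hc := NearFld.card_cQ hy hP
  rw [hf, pow_one] at hc
  rcases hp.dvd_mul.1 hdvd with h | h
  · have := (Nat.prime_dvd_prime_iff_eq hp Nat.prime_three).1 h
    exact hnot (IsPGroup.of_card (n := 1) (by omega))
  · have := (Nat.prime_dvd_prime_iff_eq hp Nat.prime_five).1 h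
    exact hnot (IsPGroup.of_card (n := 2) (by omega))

end Cfsg.Agent.Suz27
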