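import Cfsg.Agent.Suz27.Defs
import Cfsg.Agent.Lib.Zassenhaus.Moebius

/-!
The interface between the subgroup `⟨Z, t⟩ ≅ SL(2, F)` and the uniqueness proof.
-/

set_option autoImplicit false

namespace Cfsg.Agent.Suz27

open MulAction RankOne
open Cfsg.Agent.ZassNormal
open scoped MatrixGroups

universe u v

variable {G : Type u} {Ω : Type v} [Group G] [MulAction G Ω]

/-- `⟨Z, t⟩` as `SL(2, F)`, with the action of `D` on it and its semiregularity off its orbit. -/
structure LineData (F : Type) [Field F] (a : Ω) (t : G) (Q : Subgroup G) where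
  /-- The embedding. -/
  hom : SL(2, F) →* G
  inj : Function.Injective hom
  weyl : hom weylMat = t
  sq_one : ∀ x : G, (x ∈ Q ∧ x * x = 1) ↔ ∃ ζ : F, hom (transMat ζ) = x
  diag_mem : ∀ (μ : F) (hμ : μ ≠ 0), hom (diagMat μ hμ) ∈ twoStab G a t
  conj : ∀ d ∈ twoStab G a t, ∃ (μ : F) (hμ : μ ≠ 0) (σ : F ≃+* F), ∀ l : SL(2, F),
    d * hom l * d⁻¹ = hom (diagMat μ hμ *
      Matrix.SpecialLinearGroup.map (σ : F →+* F) l * (diagMat μ hμ)⁻¹)
  free : ∀ (l : SL(2, F)) (p : Ω), l ≠ 1 → p ≠ a →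
    (∀ ζ : F, hom (transMat ζ) • (t • a) ≠ p) → hom l • p ≠ p

end Cfsg.Agent.Suz27
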