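import Cfsg.Agent.Suz27.Line
import Cfsg.Agent.Suz27.LineData
import Cfsg.Agent.Lib.LinearGroup.Card

/-!
Semiregularity of the line outside its orbit, and its consequences.
-/

set_option autoImplicit false

namespace Cfsg.Agent.Suz27

open MulAction RankOne ZassNormal OnePoint
open scoped MatrixGroups

universe u v

section Matrices

variable {F : Type} [Field F] [CharP F 2]

/-- An element of `SL₂` with non-zero lower left entry is a translation times an involution. -/
theorem exists_trans_mul_invol (A : SL(2, F)) (hc : A.1 1 0 ≠ 0) :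
    ∃ (k : F) (B : SL(2, F)), A = transMat k * B ∧ B ≠ 1 ∧ B * B = 1 ∧ (k = 0 → A * A = 1) := by
  classical
  have h2 : (2 : F) = 0 := CharTwo.two_eq_zero
  have hdet : A.1 0 0 * A.1 1 1 - A.1 0 1 * A.1 1 0 = 1 := by
    rw [← Matrix.det_fin_two]; exact A.2
  have hsq : ∀ B : SL(2, F), B.1 0 0 = B.1 1 1 → B * B = 1 := by
    intro B hB
    have hd : B.1 0 0 * B.1 1 1 - B.1 0 1 * B.1 1 0 = 1 := by
      rw [← Matrix.det_fin_two]; exact B.2
    refine Subtype.ext ?_
    show B.1 * B.1 = 1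
    ext i j
    fin_cases i <;> fin_cases j <;>
      simp [Matrix.mul_apply, Fin.sum_univ_two] <;> rw [hB] at * 
    · linear_combination hd + (B.1 0 1 * B.1 1 0) * h2
    · linear_combination (B.1 1 1 * B.1 0 1) * h2
    · linear_combination (B.1 1 1 * B.1 1 0) * h2
    · linear_combination hd + (B.1 0 1 * B.1 1 0) * h2
  set k := (A.1 0 0 + A.1 1 1) / A.1 1 0 with hk
  have hkc : k * A.1 1 0 = A.1 0 0 + A.1 1 1 := div_mul_cancel₀ _ hc
  have hB10 : (transMat k * A).1 1 0 = A.1 1 0 := by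
    show ((transMat k).1 * A.1) 1 0 = _
    simp [transMat, Matrix.mul_apply, Fin.sum_univ_two]
  have hB00 : (transMat k * A).1 0 0 = (transMat k * A).1 1 1 := by
    show ((transMat k).1 * A.1) 0 0 = ((transMat k).1 * A.1) 1 1
    simp [transMat, Matrix.mul_apply, Fin.sum_univ_two]
    linear_combination hkc + A.1 0 0 * h2
  refine ⟨k, transMat k * A, ?_, fun e => hc ?_, hsq _ hB00, fun k0 => hsq A ?_⟩
  · rw [← mul_assoc]
    have : transMat k * transMat k = (1 : SL(2, F)) := by
      refine Subtype.ext ?_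
      show (transMat k).1 * (transMat k).1 = 1
      ext i j
      fin_cases i <;> fin_cases j <;> simp [transMat, Matrix.mul_apply, Fin.sum_univ_two]
      exact CharTwo.add_self_eq_zero k
    rw [this, one_mul]
  · rw [← hB10, e]; simp
  · rw [k0, zero_mul] at hkc
    linear_combination -hkc - A.1 1 1 * h2

end Matrices

section
variable {G : Type u} {Ω : Type v} [Group G] [MulAction G Ω] [Finite G]
variable {a : Ω} {t : G} {Q : Subgroup G} {F : Type} [Field F] [Fintype F] [CharP F 2]

theorem Line.z_zero (L : Line a t Q F) : L.z 0 = 1 := by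
  have := L.z_add 0 0
  rw [add_zero] at this
  exact left_eq_mul.1 this

open Classical in
theorem Line.ι_smul_ne (L : Line a t Q F) {p : Ω}
    (hp : ∀ c, linePt a t L.z c ≠ p) (A : SL(2, F)) (c : OnePoint F) :
    linePt a t L.z c ≠ L.ι A • p := fun e =>
  hp ((Matrix.SpecialLinearGroup.toGL A⁻¹) • c) (by
    rw [← L.ι_smul, e, map_inv, inv_smul_smul])

/-- An element fixing `∞` and a point off the line is trivial. -/
theorem Line.eq_one_of_fix_infty (L : Line a t Q F) (h : R1 G Ω a t Q) {l : SL(2, F)}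
    (hl : l.1 1 0 = 0) {p : Ω} (hp : ∀ c, linePt a t L.z c ≠ p) (hfix : L.ι l • p = p) :
    l = 1 := by
  classical
  have hS := h.setup
  obtain ⟨s, r, hs, rfl⟩ : ∃ (s r : F) (hs : s ≠ 0), l = diagMat s hs * transMat r := by
    rcases sl_two_decomp l with h1 | ⟨x, s, r, hs, rfl⟩
    · exact h1
    · exfalso
      change ((transMat x).1 * (weylMat (F := F)).1 * ((diagMat s hs).1 * (transMat r).1)) 1 0 = 0
        at hl
      simp [transMat, weylMat, diagMat, Matrix.mul_apply, Fin.sum_univ_two, hs] at hl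
  have hzQ : ∀ x, L.z x ∈ Q := fun x => ((L.z_range _).2 ⟨x, rfl⟩).1
  set w := Units.mk0 s hs ^ 2 with hwdef
  rw [map_mul, L.ι_diag, L.ι_trans, ← hwdef, mul_smul] at hfix
  by_cases hw : w = 1
  · rw [hw, map_one, one_smul] at hfix
    have hr : r = 0 := L.z_inj
      ((Q_fix_unique hS (hzQ r) (fun e => hp ∞ e.symm) hfix).trans L.z_zero.symm)
    have hs1 : s = 1 := by
      have e : s ^ 2 = 1 := by
        have := congrArg Units.val hw
        simpa [hwdef] using this
      have h2 : (2 : F) = 0 := CharTwo.two_eq_zero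
      have : (s - 1) ^ 2 = 0 := by linear_combination e + (1 - s) * h2
      exact sub_eq_zero.1 ((pow_eq_zero_iff two_ne_zero).1 this)
    subst hr hs1
    refine Subtype.ext ?_
    show (diagMat 1 hs).1 * (transMat 0).1 = 1
    ext i j
    fin_cases i <;> fin_cases j <;> simp [diagMat, transMat, Matrix.mul_apply, Fin.sum_univ_two]
  · exfalso
    have hw1 : (1 : F) + (w : F) ≠ 0 := fun e => hw (Units.ext (by
      rw [Units.val_one]; exact (CharTwo.add_eq_zero.1 e).symm))
    set k : F := (w : F) * r / (1 + (w : F)) with hkdef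
    have hk : (w : F) * (r + k) = k := by
      have h2 : (2 : F) = 0 := CharTwo.two_eq_zero
      have : k * (1 + (w : F)) = (w : F) * r := div_mul_cancel₀ _ hw1
      linear_combination -this + (w : F) * k * h2
    have e : L.kk w * L.z r * L.z k = L.z k * L.kk w := by
      rw [mul_assoc, ← L.z_add]
      calc L.kk w * L.z (r + k) = L.kk w * L.z (r + k) * (L.kk w)⁻¹ * L.kk w := by group
        _ = _ := by rw [L.kk_z, hk]
    have hkk : L.z k * L.z k = 1 := by rw [← L.z_add, CharTwo.add_self_eq_zero, L.z_zero]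
    have hp' : ∀ c, linePt a t L.z c ≠ L.z k • p := by
      rw [← L.ι_trans]; exact L.ι_smul_ne hp _
    have hfix' : L.kk w • L.z k • p = L.z k • p := by
      have h3 : L.kk w * L.z r = L.z k * L.kk w * L.z k := by
        rw [← e, mul_assoc, hkk, mul_one]
      have : (L.z k * L.kk w * L.z k) • p = p := by rw [← h3, mul_smul]; exact hfix
      calc L.kk w • L.z k • p = (L.z k * (L.z k * L.kk w * L.z k)) • p := by
            rw [← mul_assoc, ← mul_assoc, hkk, one_mul, mul_smul]
        _ = _ := by rw [mul_smul, this]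
    have := inverted_eq_one_of_fix hS ((L.kk_range _).2 ⟨w, rfl⟩) (fun e => hp' ∞ e.symm)
      (fun e => hp' (0 : F) (by
        show L.z 0 • t • a = _
        rw [L.z_zero, one_smul, e])) hfix'
    exact hw (L.kk_inj (this.trans (map_one _).symm))

open Classical in
/-- An element with a fixed point on the line and one off it is trivial. -/
theorem Line.eq_one_of_fix_line (L : Line a t Q F) (h : R1 G Ω a t Q) {l : SL(2, F)}
    {c : OnePoint F} (hc : (Matrix.SpecialLinearGroup.toGL l) • c = c) {p : Ω}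
    (hp : ∀ c, linePt a t L.z c ≠ p) (hfix : L.ι l • p = p) : l = 1 := by
  obtain ⟨m, hm⟩ : ∃ m : SL(2, F), (Matrix.SpecialLinearGroup.toGL m) • (∞ : OnePoint F) = c := by
    cases c with
    | infty => exact ⟨1, by rw [map_one, one_smul]⟩
    | coe x => exact ⟨transMat x * weylMat, by
        rw [map_mul, mul_smul, weylMat_smul_infty, transMat_smul]; simp⟩
  have h1 : (m⁻¹ * l * m).1 1 0 = 0 := by
    have : (Matrix.SpecialLinearGroup.toGL (m⁻¹ * l * m)) • (∞ : OnePoint F) = ∞ := by
      rw [map_mul, map_mul, mul_smul, mul_smul, hm, hc, map_inv, ← hm, inv_smul_smul]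
    rw [toGL_smul_infty] at this
    by_contra hne
    rw [if_neg hne] at this
    exact OnePoint.coe_ne_infty _ this
  have h2 := L.eq_one_of_fix_infty h h1 (L.ι_smul_ne hp m⁻¹) (by
    rw [← mul_smul, ← map_mul]
    simp only [mul_assoc, mul_inv_cancel, mul_one]
    rw [map_mul, mul_smul, hfix])
  calc l = m * (m⁻¹ * l * m) * m⁻¹ := by group
    _ = 1 := by rw [h2]; group

/-- The involutions fixing a point are `card F - 1` in number. -/
theorem Line.card_invol_at (L : Line a t Q F) (h : R1 G Ω a t Q) (p : Ω) :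
    Nat.card {x : G // x • p = p ∧ x ≠ 1 ∧ x * x = 1} = Fintype.card F - 1 := by
  classical
  have hS := h.setup
  haveI := pretransitive hS
  obtain ⟨g, hg⟩ := exists_smul_eq G a p
  have hg' : g⁻¹ • p = a := by rw [inv_smul_eq_iff, hg]
  have hmem : ∀ x : F, x ≠ 0 →
      (g * L.z x * g⁻¹) • p = p ∧ g * L.z x * g⁻¹ ≠ 1 ∧
        g * L.z x * g⁻¹ * (g * L.z x * g⁻¹) = 1 := by
    intro x hx
    obtain ⟨hQ, h2⟩ := (L.z_range _).2 ⟨x, rfl⟩
    refine ⟨?_, fun e => hx (L.z_inj ?_), ?_⟩
    · rw [mul_smul, mul_smul, hg', Q_fix_a hS hQ, hg]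
    · rw [L.z_zero, show L.z x = g⁻¹ * (g * L.z x * g⁻¹) * g by group, e]; group
    · calc _ = g * (L.z x * L.z x) * g⁻¹ := by group
        _ = 1 := by rw [h2]; group
  let e : {x : F // x ≠ 0} → {x : G // x • p = p ∧ x ≠ 1 ∧ x * x = 1} :=
    fun x => ⟨g * L.z x * g⁻¹, hmem x x.2⟩
  have hbij : Function.Bijective e := by
    refine ⟨fun x y hxy => Subtype.ext (L.z_inj ?_), fun x => ?_⟩
    · exact mul_left_cancel (mul_right_cancel (congrArg Subtype.val hxy))
    · obtain ⟨x, hxp, hx1, hx2⟩ := x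
      have hxa : (g⁻¹ * x * g) • a = a := by rw [mul_smul, mul_smul, hg, hxp, hg']
      have hi : IsInv (g⁻¹ * x * g) := by
        simpa using (IsInv.conj ⟨hx1, hx2⟩ g⁻¹)
      obtain ⟨y, hy⟩ := (L.z_range _).1 ⟨invol_mem_Q hS hi hxa, hi.2⟩
      have hy0 : y ≠ 0 := fun e0 => hi.1 (by rw [← hy, e0, L.z_zero])
      exact ⟨⟨y, hy0⟩, Subtype.ext (by show g * L.z y * g⁻¹ = x; rw [hy]; group)⟩
  rw [← Nat.card_congr (Equiv.ofBijective e hbij), Nat.card_eq_fintype_card,
    Fintype.card_subtype_compl, Fintype.card_subtype_eq]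

/-- A non-trivial element of the line fixes no point off the line. -/
theorem Line.semireg (L : Line a t Q F) (h : R1 G Ω a t Q) {l : SL(2, F)} (hl : l ≠ 1) {p : Ω}
    (hp : ∀ c, linePt a t L.z c ≠ p) : L.ι l • p ≠ p := by
  classical
  intro hfix
  have hS := h.setup
  -- a power of prime order
  obtain ⟨ℓ, hℓ, hdvd⟩ := Nat.exists_prime_and_dvd (fun e => hl (orderOf_eq_one_iff.1 e))
  haveI := Fact.mk hℓ
  set m := l ^ (orderOf l / ℓ) with hm
  have hord : orderOf m = ℓ := orderOf_pow_orderOf_div (orderOf_pos l).ne' hdvd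
  have hm1 : m ≠ 1 := fun e => hℓ.ne_one (by rw [← hord, e, orderOf_one])
  have hmfix : L.ι m • p = p := by
    rw [hm, map_pow]
    generalize orderOf l / ℓ = i
    induction i with
    | zero => rw [pow_zero, one_smul]
    | succ i ih => rw [pow_succ, mul_smul, hfix, ih]
  have hpow : m ^ ℓ = 1 := by rw [← hord]; exact pow_orderOf_eq_one m
  have hno : ∀ c : OnePoint F, (Matrix.SpecialLinearGroup.toGL m) • c ≠ c := fun c hc =>
    hm1 (L.eq_one_of_fix_line h hc hp hmfix)
  have hdq : ℓ ∣ Fintype.card F + 1 := by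
    by_contra hn
    let σ : Equiv.Perm (OnePoint F) := MulAction.toPerm (Matrix.SpecialLinearGroup.toGL m)
    have hσ : σ ^ ℓ ^ 1 = 1 := by
      rw [pow_one]
      show (MulAction.toPermHom _ (OnePoint F) (Matrix.SpecialLinearGroup.toGL m)) ^ ℓ = 1
      rw [← map_pow, ← map_pow, hpow, map_one, map_one]
    haveI : Fintype (OnePoint F) := inferInstanceAs (Fintype (Option F))
    obtain ⟨c, hc⟩ := Equiv.Perm.exists_fixed_point_of_prime (α := OnePoint F) (p := ℓ) (n := 1)
      (by
        rwa [show Fintype.card (OnePoint F) = Fintype.card F + 1 by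
          rw [← Nat.card_eq_fintype_card, ← Nat.card_eq_fintype_card (α := F)]
          exact Finite.card_option]) hσ
    exact hno c hc
  have hq : 2 ∣ Fintype.card F := by
    obtain ⟨n, -, hn⟩ := FiniteField.card F 2
    rw [hn]; exact dvd_pow_self 2 n.ne_zero
  have hℓ2 : ℓ ≠ 2 := by rintro rfl; omega
  have hc : m.1 1 0 ≠ 0 := fun e => hno ∞ (by rw [toGL_smul_infty, if_pos e])
  obtain ⟨k, B, hkB, hB1, hB2, hk0⟩ := exists_trans_mul_invol m hc
  have hk : k ≠ 0 := fun e => by
    have h2 := hk0 e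
    have : ℓ ∣ 2 := hord ▸ orderOf_dvd_of_pow_eq_one (by rw [pow_two]; exact h2)
    exact hℓ2 ((Nat.prime_dvd_prime_iff_eq hℓ Nat.prime_two).1 this)
  have hU : IsInv (L.ι (transMat k)) := by
    rw [L.ι_trans]
    refine ⟨fun e => hk (L.z_inj (e.trans L.z_zero.symm)), ?_⟩
    rw [← L.z_add, CharTwo.add_self_eq_zero, L.z_zero]
  have hV : IsInv (L.ι B) :=
    ⟨fun e => hB1 (L.ι_inj (e.trans (map_one _).symm)), by rw [← map_mul, hB2, map_one]⟩
  obtain ⟨-, hodd⟩ := strongly_real hS h.rank2 hU hV (by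
    rw [← map_mul, ← hkB, ← map_mul, ← map_one L.ι]
    intro e
    have : ℓ ∣ 2 := hord ▸ orderOf_dvd_of_pow_eq_one (by rw [pow_two]; exact L.ι_inj e)
    exact hℓ2 ((Nat.prime_dvd_prime_iff_eq hℓ Nat.prime_two).1 this))
  rw [← map_mul, ← hkB] at hodd
  -- a fixed involution at `p`
  set g := L.ι m with hg
  have hgp : g⁻¹ • p = p := by rw [inv_smul_eq_iff]; exact hmfix.symm
  let τ : Equiv.Perm {x : G // x • p = p ∧ x ≠ 1 ∧ x * x = 1} :=
    (MulAut.conj g).toEquiv.subtypeEquiv fun x => by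
      show _ ↔ (g * x * g⁻¹) • p = p ∧ g * x * g⁻¹ ≠ 1 ∧ g * x * g⁻¹ * (g * x * g⁻¹) = 1
      refine and_congr ?_ (and_congr (not_congr conj_eq_one_iff.symm) ?_)
      · rw [mul_smul, mul_smul, hgp]
        exact ⟨fun e => by rw [e]; exact hmfix, fun e => smul_left_cancel g (e.trans hmfix.symm)⟩
      · rw [show g * x * g⁻¹ * (g * x * g⁻¹) = g * (x * x) * g⁻¹ by group, conj_eq_one_iff]
  have hτ : ∀ (i : ℕ) x, ((τ ^ i) x : G) = g ^ i * (x : G) * (g ^ i)⁻¹ := by
    intro i
    induction i with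
    | zero => intro x; simp
    | succ i ih =>
      intro x
      rw [pow_succ, Equiv.Perm.mul_apply, ih]
      show g ^ i * (g * (x : G) * g⁻¹) * (g ^ i)⁻¹ = _
      group
  have hτℓ : τ ^ ℓ ^ 1 = 1 := by
    rw [pow_one]
    refine Equiv.ext fun x => Subtype.ext ?_
    rw [hτ, hg, ← map_pow, hpow, map_one]; simp
  haveI : Fintype {x : G // x • p = p ∧ x ≠ 1 ∧ x * x = 1} := Fintype.ofFinite _
  obtain ⟨⟨x, hxp, hx1, hx2⟩, hx⟩ := Equiv.Perm.exists_fixed_point_of_prime (p := ℓ) (n := 1)
    (α := {x : G // x • p = p ∧ x ≠ 1 ∧ x * x = 1}) (by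
      rw [← Nat.card_eq_fintype_card, L.card_invol_at h p]
      intro hd
      have h2 : ℓ ∣ 2 := by
        have h1 : 1 ≤ Fintype.card F := Fintype.card_pos
        have := Nat.dvd_sub hdq hd
        rwa [show Fintype.card F + 1 - (Fintype.card F - 1) = 2 by omega] at this
      exact hℓ2 ((Nat.prime_dvd_prime_iff_eq hℓ Nat.prime_two).1 h2)) hτℓ
  have hxg : g * x * g⁻¹ = x := congrArg Subtype.val hx
  have hxc : x ∈ Subgroup.centralizer {g} := Subgroup.mem_centralizer_singleton_iff.2 (by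
    calc x * g = g * x * g⁻¹ * g := by rw [hxg]
      _ = _ := by group)
  have := odd_orderOf_of_mem hodd hxc
  rw [orderOf_eq_prime (p := 2) (by rw [pow_two]; exact hx2) hx1] at this
  exact absurd this (by decide)

/-- The line gives the interface structure. -/
theorem exists_lineData (h : R1 G Ω a t Q) (hr : RInv a t Q) :
    ∃ (F : Type) (_ : Field F) (_ : Fintype F) (_ : CharP F 2),
      4 ≤ Fintype.card F ∧ Fintype.card F = qOf Q ∧ Nonempty (LineData F a t Q) := by
  classical
  have hS := h.setup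
  obtain ⟨F, i1, i2, i3, hq4, hqc, ⟨L⟩⟩ := exists_line h hr
  refine ⟨F, i1, i2, i3, hq4, hqc, ⟨{
    hom := L.ι
    inj := L.ι_inj
    weyl := L.ι_weyl
    sq_one := fun x => by simp only [L.ι_trans]; exact L.z_range x
    diag_mem := fun μ hμ => by rw [L.ι_diag]; exact ((L.kk_range _).2 ⟨_, rfl⟩).1
    conj := fun d hd => ?_
    free := fun l p hl hpa hp => L.semireg h hl fun c => ?_ }⟩⟩
  · have h1 : L.z 1 ∈ Cfsg.involutionsIn (stabilizer G a : Set G) :=
      (inv_mem_iff h).2 ⟨(L.z_range _).2 ⟨1, rfl⟩,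
        fun e => one_ne_zero (L.z_inj (e.trans L.z_zero.symm))⟩
    obtain ⟨hQ1, h21⟩ := (L.z_range _).2 ⟨1, rfl⟩
    have hda : d • a = a := mem_stabilizer_iff.1 (Subgroup.mem_inf.1 hd).1
    obtain ⟨μ', hμ'⟩ := (L.z_range (d * L.z 1 * d⁻¹)).1
      ⟨hS.conj_mem d (Subgroup.mem_inf.1 hd).1 _ hQ1, by
        calc _ = d * (L.z 1 * L.z 1) * d⁻¹ := by group
          _ = 1 := by rw [h21]; group⟩
    have hμ'0 : μ' ≠ 0 := fun e => one_ne_zero (α := F) (L.z_inj (by
      rw [L.z_zero, show L.z 1 = d⁻¹ * (d * L.z 1 * d⁻¹) * d by group, ← hμ', e, L.z_zero]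
      group))
    obtain ⟨μ, rfl⟩ := (FiniteField.isSquare_of_char_two (ringChar.eq F 2) μ')
    have hμ : μ ≠ 0 := fun e => hμ'0 (by rw [e, mul_zero])
    set k := L.ι (diagMat μ hμ) with hk
    have hkd : k ∈ twoStab G a t := by
      rw [hk, L.ι_diag]; exact ((L.kk_range _).2 ⟨_, rfl⟩).1
    have hk1 : k * L.z 1 * k⁻¹ = L.z (μ * μ) := by
      rw [hk, L.ι_diag, L.kk_z]; simp [sq]
    set v := k⁻¹ * d with hv
    have hvV : v ∈ vGrp a t := by
      rw [vGrp, centralizer_t_eq hS h1 hQ1 (by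
        rw [inv_eq_self h21]; exact L.structure_eq)]
      refine Subgroup.mem_inf.2 ⟨mul_mem (inv_mem hkd) hd,
        Subgroup.mem_centralizer_singleton_iff.2 ?_⟩
      calc k⁻¹ * d * L.z 1 = k⁻¹ * (d * L.z 1 * d⁻¹) * d := by group
        _ = k⁻¹ * (k * L.z 1 * k⁻¹) * d := by rw [← hμ', hk1]
        _ = _ := by rw [hv]; group
    obtain ⟨σ, -, -, hσ⟩ := L.exists_aut h hvV
    refine ⟨μ, hμ, σ, fun l => ?_⟩
    rw [map_mul, map_mul, map_inv, ← hσ, ← hk, hv]
    group
  · cases c with
    | infty => exact fun e => hpa e.symm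
    | coe x => exact fun e => hp x (by rw [L.ι_trans]; exact e)

/-- `q (q² - 1)` divides `|Q| - q`. -/
theorem card_dvd (h : R1 G Ω a t Q) (hr : RInv a t Q) :
    qOf Q * (qOf Q ^ 2 - 1) ∣ Nat.card Q - qOf Q := by
  classical
  have hS := h.setup
  haveI := finite_omega hS
  obtain ⟨F, i1, i2, i3, hq4, hqc, ⟨L⟩⟩ := exists_line h hr
  set φ := linePt a t L.z
  let X := {p : Ω // ∀ c, φ c ≠ p}
  letI : MulAction SL(2, F) X :=
    { smul := fun A p => ⟨L.ι A • p.1, L.ι_smul_ne p.2 A⟩
      one_smul := fun p => Subtype.ext (by show L.ι 1 • p.1 = p.1; rw [map_one, one_smul])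
      mul_smul := fun A B p => Subtype.ext (by
        show L.ι (A * B) • p.1 = L.ι A • L.ι B • p.1; rw [map_mul, mul_smul]) }
  have hfree : ∀ p : X, stabilizer SL(2, F) p = ⊥ := fun p => by
    rw [eq_bot_iff]
    intro A hA
    rw [Subgroup.mem_bot]
    by_contra hne
    exact L.semireg h hne p.2 (congrArg Subtype.val hA)
  have h1 := Nat.card_congr (MulAction.selfEquivOrbitsQuotientProd hfree)
  rw [Nat.card_prod, LinearGroup.card_SL_two, Nat.card_eq_fintype_card (α := F), hqc] at h1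
  have hφinj : Function.Injective φ := by
    intro c d e
    have hne : ∀ x : F, φ x ≠ a := fun x =>
      smul_Q_ne hS ((L.z_range _).2 ⟨x, rfl⟩).1 (ta_ne hS)
    cases c with
    | infty =>
      cases d with
      | infty => rfl
      | coe y => exact absurd e.symm (hne y)
    | coe x =>
      cases d with
      | infty => exact absurd e (hne x)
      | coe y =>
        exact congrArg _ (L.z_inj (regular_unique hS (ta_ne hS) ((L.z_range _).2 ⟨x, rfl⟩).1
          ((L.z_range _).2 ⟨y, rfl⟩).1 e))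
  have h2 : Nat.card X = Nat.card Ω - (Fintype.card F + 1) := by
    haveI := Fintype.ofFinite Ω
    haveI : Fintype (OnePoint F) := inferInstanceAs (Fintype (Option F))
    rw [Nat.card_eq_fintype_card (α := Ω),
      show Fintype.card F + 1 = Fintype.card (OnePoint F) by
        rw [← Nat.card_eq_fintype_card, ← Nat.card_eq_fintype_card (α := OnePoint F)]
        exact Finite.card_option.symm,
      Nat.card_eq_fintype_card, ← Set.card_range_of_injective hφinj,
      ← Fintype.card_subtype_compl]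
    exact Fintype.card_congr (Equiv.subtypeEquivRight fun p => by simp [Set.mem_range])
  rw [h2, card_omega hS, hqc, Nat.add_sub_add_right] at h1
  exact ⟨_, h1.trans (mul_comm _ _)⟩

end

end Cfsg.Agent.Suz27
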