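import Cfsg.Agent.Suz27.Core
import Cfsg.Agent.Suz27.NearField
import Cfsg.Agent.Suz27.Semireg
import Cfsg.Agent.S1120
import Cfsg.Agent.S1127
import Cfsg.Agent.S1137
import Cfsg.Agent.Lib.Zassenhaus.TwoKernelMain

/-!
The three shapes of a 2-group `Q` and the position of `r` (`PLAN.md`, part D).
-/

set_option autoImplicit false
set_option linter.style.haveILetI false

namespace Cfsg.Agent.Suz27

open MulAction RankOne

universe u v

variable {G : Type u} {Ω : Type v} [Group G] [MulAction G Ω] [Finite G] {a : Ω} {t : G}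
  {Q : Subgroup G}

/-- The elements of square one of a non-abelian `Q` of two-power order. -/
theorem card_of_not_comm (hR : R1 G Ω a t Q) (h2 : IsPGroup 2 Q)
    (hna : ∃ x ∈ Q, ∃ y ∈ Q, x * y ≠ y * x) :
    (Nat.card Q = qOf Q ^ 2 ∨ Nat.card Q = qOf Q ^ 3) ∧
      (∀ x ∈ Q, ∀ y ∈ Q, (x⁻¹ * y⁻¹ * x * y) * (x⁻¹ * y⁻¹ * x * y) = 1) ∧
      ∀ x ∈ Q, (∀ y ∈ Q, x * y = y * x) → x * x = 1 := by
  classical
  haveI := hR.faithful
  obtain ⟨S⟩ := (inferInstance : Nonempty (Sylow 2 ↥Q))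
  have htop : (S : Subgroup ↥Q) = ⊤ :=
    (S.is_maximal' (h2.of_equiv Subgroup.topEquiv.symm) le_top).symm
  have hmem : ∀ z : Q, z ∈ (S : Subgroup ↥Q) := fun z => htop ▸ Subgroup.mem_top z
  obtain ⟨u, hu, w, hw, huw⟩ := hna
  rcases Cfsg.Agent.S1132.result hR.setup hR.rank2 S with h | h
  · exact absurd (congrArg (fun z : (S : Subgroup ↥Q) => ((z : Q) : G))
      (h.is_comm.comm ⟨⟨u, hu⟩, hmem _⟩ ⟨⟨w, hw⟩, hmem _⟩)) huw
  obtain ⟨-, hcom, hcard, -⟩ := Cfsg.Agent.S1138.result h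
  obtain ⟨hinv, hcz⟩ := Cfsg.Agent.S1137.result h
  let e : {x : (S : Subgroup ↥Q) // x ∈ Subgroup.center (S : Subgroup ↥Q)} ≃
      {x : G // x ∈ Q ∧ x * x = 1} :=
    { toFun := fun x => ⟨((x.1 : Q) : G), (x.1 : Q).2,
        congrArg (fun z : (S : Subgroup ↥Q) => ((z : Q) : G)) (hcz x.1 x.2)⟩
      invFun := fun x => ⟨⟨⟨x.1, x.2.1⟩, hmem _⟩, by
        by_cases h1 : (⟨⟨x.1, x.2.1⟩, hmem _⟩ : (S : Subgroup ↥Q)) = 1
        · rw [h1]; exact one_mem _
        · exact ((hinv _).1 ⟨h1, Subtype.ext (Subtype.ext x.2.2)⟩).1⟩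
      left_inv := fun _ => rfl
      right_inv := fun _ => rfl }
  have hq : Nat.card (Subgroup.center (S : Subgroup ↥Q)) = qOf Q := Nat.card_congr e
  have hn : Nat.card (S : Subgroup ↥Q) = Nat.card Q := by
    rw [htop]; exact Subgroup.card_top
  rw [hn, hq] at hcard
  refine ⟨hcard, fun x hx y hy => ?_, fun x hx hc => ?_⟩
  swap
  · exact congrArg (fun z : (S : Subgroup ↥Q) => ((z : Q) : G)) (hcz ⟨⟨x, hx⟩, hmem _⟩
      (Subgroup.mem_center_iff.2 fun y => Subtype.ext (Subtype.ext (hc ((y : Q) : G) (y : Q).2).symm)))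
  exact congrArg (fun z : (S : Subgroup ↥Q) => ((z : Q) : G))
    (hcz _ (hcom ⟨⟨x, hx⟩, hmem _⟩ ⟨⟨y, hy⟩, hmem _⟩))

/-- A group generated by `Q` and `t` is simple. -/
theorem isSimpleGroup_of_gen (hR : R1 G Ω a t Q) (hG : Gen t Q) : IsSimpleGroup G := by
  classical
  have hS := hR.setup
  haveI := hR.faithful
  haveI := pretransitive hS
  haveI : Nontrivial G := ⟨t, 1, hS.ne_one⟩
  refine ⟨fun N hN => ?_⟩
  by_cases hodd : Odd (Nat.card N)
  · left
    have h1 : N ≤ (stabilizer G a).normalCore :=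
      le_trans (le_sSup (s := {N : Subgroup G | N.Normal ∧ (Nat.card N).Coprime 2})
          ⟨hN, Nat.coprime_two_right.2 hodd⟩)
        (Cfsg.Agent.S1120.result hS hR.rank2).le
    refine (Subgroup.eq_bot_iff_forall _).2 fun n hn => FaithfulSMul.eq_of_smul_eq_smul (α := Ω) fun c => ?_
    obtain ⟨g, rfl⟩ := exists_smul_eq G a c
    have h2 := h1 hn g⁻¹
    rw [inv_inv, mem_stabilizer_iff, mul_smul, mul_smul, inv_smul_eq_iff] at h2
    rw [one_smul, h2]
  · right
    have hev : 2 ∣ Nat.card N := even_iff_two_dvd.1 (Nat.not_odd_iff_even.1 hodd)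
    haveI : Fact (Nat.Prime 2) := ⟨Nat.prime_two⟩
    obtain ⟨u, hu⟩ := exists_prime_orderOf_dvd_card' (G := N) 2 hev
    have huI : IsInv (u : G) := by
      have h := pow_orderOf_eq_one u
      rw [hu, pow_two] at h
      refine ⟨fun h1 => ?_, congrArg Subtype.val h⟩
      rw [OneMemClass.coe_eq_one] at h1
      rw [h1, orderOf_one] at hu
      omega
    have hall : ∀ v : G, IsInv v → v ∈ N := fun v hv => by
      obtain ⟨g, rfl⟩ := invol_conj hS huI hv
      exact hN.conj_mem _ u.2 g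
    have ht : t ∈ N := hall t (t_isInv hS)
    obtain ⟨k, hk, hk1⟩ := exists_inverted_ne_one hS hR.rank2
    have hkN : k ∈ N := by
      have hkt : (k * t) * (k * t) = 1 := by
        calc k * t * (k * t) = k * (t * k * t⁻¹) := by rw [t_inv hS]; group
          _ = 1 := by rw [hk.2, mul_inv_cancel]
      have hkt1 : k * t ≠ 1 := fun h => hS.not_mem (by
        rw [show t = k⁻¹ from eq_inv_of_mul_eq_one_right h]
        exact inv_mem hk.1.1)
      simpa [mul_assoc, hS.mul_self] using mul_mem (hall _ ⟨hkt1, hkt⟩) ht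
    let φ : Q → Q := fun x => ⟨k * x * k⁻¹ * (x : G)⁻¹,
      mul_mem (hS.conj_mem k hk.1.1 x x.2) (inv_mem x.2)⟩
    have hφ : Function.Injective φ := fun x y hxy => by
      have h : k * (x : G) * k⁻¹ * (x : G)⁻¹ = k * y * k⁻¹ * (y : G)⁻¹ := congrArg Subtype.val hxy
      have hc : k * ((y : G)⁻¹ * x) = ((y : G)⁻¹ * x) * k := by
        calc k * ((y : G)⁻¹ * x)
            = (k * y * k⁻¹)⁻¹ * (k * x * k⁻¹ * (x : G)⁻¹) * x * k := by group
          _ = _ := by rw [h]; group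
      exact Subtype.ext (inv_mul_eq_one.1 (inverted_fpf hS hk hk1 (mul_mem (inv_mem y.2) x.2) hc)).symm
    refine eq_top_iff.2 (hG.symm.le.trans ((Subgroup.closure_le _).2 ?_))
    rintro x (hx | hx)
    · obtain ⟨y, hy⟩ := (Finite.injective_iff_surjective.1 hφ) ⟨x, hx⟩
      have h : k * (y : G) * k⁻¹ * (y : G)⁻¹ = x := congrArg Subtype.val hy
      rw [← h, mul_assoc k, mul_assoc k]
      exact mul_mem hkN (by simpa using hN.conj_mem _ (inv_mem hkN) y)
    · rw [Set.mem_singleton_iff.1 hx]; exact ht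

/-- `q ≥ 2`. -/
theorem R1.two_le_qOf (hR : R1 G Ω a t Q) : 2 ≤ qOf Q := by
  classical
  obtain ⟨s, hs, s', hs', hne, -⟩ := exists_two_invol hR.setup hR.rank2
  refine Finite.one_lt_card_iff_nontrivial.2 ⟨⟨s, invol_mem_Q hR.setup ⟨hs.2.1, hs.2.2⟩ hs.1, hs.2.2⟩,
    ⟨1, one_mem _, one_mul 1⟩, fun h => hs.2.1 (congrArg Subtype.val h)⟩

/-- A non-trivial `V = C_D(t)` is forced when `|Q| = q³`. -/
theorem vGrp_ne_bot_of_cube (hR : R1 G Ω a t Q) (hG : Gen t Q) (h2 : IsPGroup 2 Q)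
    (hn : Nat.card Q = qOf Q ^ 3) (hna : ∃ x ∈ Q, ∃ y ∈ Q, x * y ≠ y * x) : vGrp a t ≠ ⊥ := by
  classical
  intro hV
  have hS := hR.setup
  haveI := hR.faithful
  haveI : Finite Ω := finite_omega hS
  letI := Fintype.ofFinite G
  letI := Fintype.ofFinite Ω
  haveI := isSimpleGroup_of_gen hR hG
  have hDK : ∀ d ∈ twoStab G a t, d ∈ Cfsg.invertedBy (twoStab G a t) t := by
    intro d hd
    obtain ⟨c, i, hc, hct, hi, hit, rfl, -⟩ :=
      odd_decomp hS.mul_self hS.odd_card (fun y hy => conj_t_twoStab hS hy) hd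
    have : c ∈ vGrp a t := ⟨hc, Subgroup.mem_centralizer_singleton_iff.2 hct.symm⟩
    rw [hV, Subgroup.mem_bot] at this
    rw [this, one_mul]
    exact ⟨hi, hit⟩
  have hfix3 : ∀ d ∈ twoStab G a t, ∀ c, c ≠ a → c ≠ t • a → d • c = c → d = 1 :=
    fun d hd c hca hcb h => inverted_eq_one_of_fix hS (hDK d hd) hca hcb h
  obtain ⟨k, hk, hk1⟩ := exists_inverted_ne_one hS hR.rank2
  have hZ : Cfsg.IsZassenhausGroup G Ω := by
    refine ⟨hR.faithful, hS.two_transitive, ?_,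
      ⟨k, hk1, a, t • a, (ta_ne hS).symm, (Subgroup.mem_inf.1 hk.1).1, (Subgroup.mem_inf.1 hk.1).2⟩,
      fun N hN htr => ?_⟩
    · intro g x y z hxy hyz hxz hgx hgy hgz
      obtain ⟨h, hhx, hhy⟩ := exists_smul_pair hS hxy (ta_ne hS).symm
      have hix : h⁻¹ • a = x := inv_smul_eq_iff.2 hhx.symm
      have hiy : h⁻¹ • t • a = y := inv_smul_eq_iff.2 hhy.symm
      have hd : h * g * h⁻¹ ∈ twoStab G a t := by
        refine Subgroup.mem_inf.2 ⟨?_, ?_⟩ <;> rw [mem_stabilizer_iff, mul_smul, mul_smul]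
        · rw [hix, hgx, hhx]
        · rw [hiy, hgy, hhy]
      have h1 := hfix3 _ hd (h • z) (fun e => hxz (smul_left_cancel h (hhx.trans e.symm)))
        (fun e => hyz (smul_left_cancel h (hhy.trans e.symm)))
        (by rw [mul_smul, mul_smul, inv_smul_smul, hgz])
      rw [mul_inv_eq_one] at h1
      exact mul_left_cancel (h1.trans (mul_one h).symm)
    · rcases hN.eq_bot_or_eq_top with rfl | rfl
      · obtain ⟨g, hg⟩ := htr.exists_smul_eq a (t • a)
        have hg1 : (g : G) = 1 := Subgroup.mem_bot.1 g.2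
        exact absurd (show (g : G) • a = t • a from hg) (by rw [hg1, one_smul]; exact (ta_ne hS).symm)
      · refine ⟨a, fun h => hk1 ?_⟩
        have : (⟨k, Subgroup.mem_top k⟩ : (⊤ : Subgroup G)) ∈ stabilizer (⊤ : Subgroup G) a :=
          (Subgroup.mem_inf.1 hk.1).1
        rw [h, Subgroup.mem_bot] at this
        exact congrArg Subtype.val this
  have hreg : ∀ c d : Ω, c ≠ a → d ≠ a → ∃! u : Q, (u : G) • c = d := by
    intro c d hc hd
    obtain ⟨x, hx, h⟩ := regular hS hc hd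
    exact ⟨⟨x, hx⟩, h, fun y hy => Subtype.ext (regular_unique hS hc y.2 hx (hy.trans h.symm))⟩
  have hK := ZassNormal.TwoKer.isKernel_of_regular (ta_ne hS).symm hS.le hreg
  obtain ⟨-, -, hcz⟩ := card_of_not_comm hR h2 hna
  have hcenter : Nat.card (Subgroup.center Q) = qOf Q := Nat.card_congr
    { toFun := fun x => ⟨((x : Q) : G), (x : Q).2, hcz _ (x : Q).2 fun y hy =>
        (congrArg Subtype.val (Subgroup.mem_center_iff.1 x.2 ⟨y, hy⟩)).symm⟩
      invFun := fun x => ⟨⟨x.1, x.2.1⟩, Subgroup.mem_center_iff.2 fun y => Subtype.ext (by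
        show (y : G) * x.1 = x.1 * y
        by_cases h1 : x.1 = 1
        · rw [h1, one_mul, mul_one]
        · exact (invol_central hS hR.rank2 ⟨h1, x.2.2⟩ (hS.le x.2.1) y.2).symm)⟩
      left_inv := fun _ => rfl
      right_inv := fun _ => rfl }
  obtain ⟨x, hx, y, hy, hxy⟩ := hna
  obtain ⟨m, -, -, -, hsquare, -⟩ := ZassNormal.TwoKer.numerics hZ (ta_ne hS).symm hK h2
    ⟨⟨x, hx⟩, ⟨y, hy⟩, fun h => hxy (congrArg Subtype.val h)⟩
  rw [hcenter, hn] at hsquare
  have := Nat.pow_right_injective hR.two_le_qOf hsquare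
  omega

/-- When `|Q| = q³` and the structure of `Q` is known, the centraliser in `Q` of a non-trivial
element of `W` consists of elements of square one. -/
theorem sq_of_wker (hR : R1 G Ω a t Q) (h2 : IsPGroup 2 Q)
    (hna : ∃ x ∈ Q, ∃ y ∈ Q, x * y ≠ y * x) {w : G} (hw : w ∈ RankOneK.wker G a t) (hw1 : w ≠ 1)
    {x : G} (hx : x ∈ Q) (hxw : w * x = x * w) : x * x = 1 := by
  classical
  have hS := hR.setup
  haveI := hR.faithful
  obtain ⟨-, hcom, -⟩ := card_of_not_comm hR h2 hna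
  have hsq := sq_sq_of_not_comm hR h2 hna
  obtain ⟨hwD, hwI⟩ := Subgroup.mem_inf.1 hw
  have hZw : ∀ z ∈ Q, z * z = 1 → w * z = z * w := fun z hz hz2 => by
    by_cases h1 : z = 1
    · rw [h1, one_mul, mul_one]
    · exact (Subgroup.mem_centralizer_iff.1 hwI z ⟨hS.le hz, h1, hz2⟩).symm
  have hwo : Odd (orderOf w) := odd_orderOf_of_mem hS.odd_card hwD
  -- an element `w u w⁻¹ u⁻¹` centralised by `w` is trivial
  have hfix : ∀ u ∈ Q, w * (w * u * w⁻¹ * u⁻¹) = (w * u * w⁻¹ * u⁻¹) * w →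
      w * u * w⁻¹ * u⁻¹ = 1 := by
    intro u hu hc
    set y := w * u * w⁻¹ * u⁻¹ with hy
    have hyQ : y ∈ Q := mul_mem (hS.conj_mem w hwD.1 u hu) (inv_mem hu)
    have hiter : ∀ i : ℕ, w ^ i * u = y ^ i * u * w ^ i := by
      intro i
      induction i with
      | zero => simp
      | succ i ih =>
        have hcy : Commute w (y ^ i) := Commute.pow_right hc i
        calc w ^ (i + 1) * u = w * (w ^ i * u) := by rw [pow_succ', mul_assoc]
          _ = w * (y ^ i * u * w ^ i) := by rw [ih]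
          _ = (w * y ^ i) * u * w ^ i := by group
          _ = y ^ i * (w * u * w⁻¹ * u⁻¹) * u * (w * w ^ i) := by rw [hcy.eq]; group
          _ = y ^ (i + 1) * u * w ^ (i + 1) := by rw [← hy, ← pow_succ, ← pow_succ']
    have h1 := hiter (orderOf w)
    rw [pow_orderOf_eq_one, one_mul, mul_one] at h1
    have h1' : y ^ orderOf w = 1 := mul_eq_right.1 h1.symm
    obtain ⟨k, hk⟩ := h2 ⟨y, hyQ⟩
    have hk' : y ^ 2 ^ k = 1 := congrArg Subtype.val hk
    have hg := Nat.dvd_gcd (orderOf_dvd_of_pow_eq_one hk') (orderOf_dvd_of_pow_eq_one h1')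
    rw [((Nat.coprime_two_left.2 hwo).pow_left k).gcd_eq_one, Nat.dvd_one, orderOf_eq_one_iff] at hg
    exact hg
  by_contra hx2
  -- an element of `Q` of order four centralised by `w` commutes with every `w u w⁻¹ u⁻¹`
  have hcomm : ∀ x' ∈ Q, w * x' = x' * w → ∀ u ∈ Q,
      x' * (w * u * w⁻¹ * u⁻¹) = (w * u * w⁻¹ * u⁻¹) * x' := by
    intro x' hx' hx'w u hu
    have hc := hZw (x'⁻¹ * u⁻¹ * x' * u)
      (mul_mem (mul_mem (mul_mem (inv_mem hx') (inv_mem hu)) hx') hu) (hcom x' hx' u hu)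
    have e1 : w * x' * w⁻¹ = x' := by rw [hx'w]; group
    have e2 : (w * u * w⁻¹)⁻¹ * x' * (w * u * w⁻¹) = u⁻¹ * x' * u := by
      calc (w * u * w⁻¹)⁻¹ * x' * (w * u * w⁻¹)
          = (w * u⁻¹ * w⁻¹) * (w * x' * w⁻¹) * (w * u * w⁻¹) := by rw [e1]; group
        _ = (w * x' * w⁻¹) * (w * (x'⁻¹ * u⁻¹ * x' * u) * w⁻¹) := by group
        _ = x' * (w * (x'⁻¹ * u⁻¹ * x' * u) * w⁻¹) := by rw [e1]
        _ = _ := by rw [hc]; group
    calc x' * (w * u * w⁻¹ * u⁻¹)
        = (w * u * w⁻¹) * ((w * u * w⁻¹)⁻¹ * x' * (w * u * w⁻¹)) * u⁻¹ := by group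
      _ = _ := by rw [e2]; group
  -- hence `w` centralises `Q`
  have hall : ∀ u ∈ Q, w * u * w⁻¹ * u⁻¹ = 1 := by
    intro u hu
    have hyQ : w * u * w⁻¹ * u⁻¹ ∈ Q := mul_mem (hS.conj_mem w hwD.1 u hu) (inv_mem hu)
    by_cases hy2 : (w * u * w⁻¹ * u⁻¹) * (w * u * w⁻¹ * u⁻¹) = 1
    · exact hfix u hu (hZw _ hyQ hy2)
    refine hfix u hu ?_
    set y := w * u * w⁻¹ * u⁻¹ with hy
    obtain ⟨k, hk, hkx⟩ := inverted_transitive hS
      (s := x * x) (s' := y * y) ⟨hS.le (mul_mem hx hx), hx2, hsq x hx⟩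
      ⟨hS.le (mul_mem hyQ hyQ), hy2, hsq y hyQ⟩
    have hwk : w * k = k * w := by
      have h1 : w ∈ twoStab G a t ⊓ Subgroup.centralizer {t} ⊓
          Subgroup.centralizer (Cfsg.invertedBy (twoStab G a t) t) := by
        rw [(Cfsg.Agent.S1127.result hS).2]; exact hw
      exact (Subgroup.mem_centralizer_iff.1 (Subgroup.mem_inf.1 h1).2 k hk).symm
    set x' := k⁻¹ * x * k with hx'
    have hx'Q : x' ∈ Q := by
      have := hS.conj_mem k⁻¹ (inv_mem hk.1.1) x hx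
      rwa [inv_inv] at this
    have hx'w : w * x' = x' * w :=
      ((Commute.inv_right hwk).mul_right hxw).mul_right hwk
    have hxy : x' * y = y * x' := hcomm x' hx'Q hx'w u hu
    have hp : (x' * y) * (x' * y) = 1 := by
      calc (x' * y) * (x' * y) = x' * (y * x') * y := by group
        _ = (x' * x') * (y * y) := by rw [← hxy]; group
        _ = (k⁻¹ * (x * x) * k) * (y * y) := by rw [hx']; group
        _ = 1 := by rw [hkx]; exact hsq y hyQ
    have h3 := hZw _ (mul_mem hx'Q hyQ) hp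
    have h4 : y = x'⁻¹ * (x' * y) := by group
    rw [h4]
    exact ((Commute.inv_right hx'w).mul_right h3).eq
  refine hw1 (FaithfulSMul.eq_of_smul_eq_smul (α := Ω) fun c => ?_)
  rw [one_smul]
  rcases eq_or_ne c a with rfl | hc
  · exact (Subgroup.mem_inf.1 hwD).1
  · obtain ⟨u, hu, rfl⟩ := regular' hS hc
    rw [← mul_smul, mul_inv_eq_iff_eq_mul.1 (mul_inv_eq_one.1 (hall u hu)), mul_smul,
      (Subgroup.mem_inf.1 hwD).2]

/-- The conclusion of part D for a 2-group `Q`, from the sub-configurations and the Frobenius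
lemma. -/
theorem hasType_of (hR : R1 G Ω a t Q) (hG : Gen t Q) (hT : SubTypes a t Q) (h2 : IsPGroup 2 Q)
    (hexp : (∀ x ∈ Q, ∀ y ∈ Q, x * y = y * x) → ∀ x ∈ Q, x * x = 1)
    (hfrob : ∀ v ∈ vGrp a t, ∀ p : ℕ, p.Prime → orderOf v = p → v ∉ RankOneK.wker G a t →
      qOf Q = qOf (Q ⊓ Subgroup.centralizer {v}) ^ p ∧
      ∀ X : Subgroup G, X ≤ Q →
        (∀ k ∈ Cfsg.invertedBy (twoStab G a t) t, ∀ x ∈ X, k * x * k⁻¹ ∈ X) →
        (∀ x ∈ X, v * x * v⁻¹ ∈ X) →
        Nat.card X = Nat.card ↥(X ⊓ Subgroup.centralizer {v}) ^ p) :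
    HasType Q (RInv a t Q) := by
  classical
  have hS := hR.setup
  haveI := hR.faithful
  have hq2 := hR.two_le_qOf
  by_cases hna : ∀ x ∈ Q, ∀ y ∈ Q, x * y = y * x
  · have hn : Nat.card Q = qOf Q :=
      Nat.card_congr (Equiv.subtypeEquivRight fun x => ⟨fun h => ⟨h, hexp hna x h⟩, fun h => h.1⟩)
    refine ⟨h2, Or.inl hn, fun _ => ?_, fun _ s r _ hr _ => hexp hna r hr⟩
    rw [hn]
    intro h
    nlinarith
  push Not at hna
  obtain ⟨hcard, -, -⟩ := card_of_not_comm hR h2 hna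
  rcases hcard with hn | hn
  · refine ⟨h2, Or.inr (Or.inl hn), fun hr => ?_, fun h => absurd hn h⟩
    exfalso
    have hd := card_dvd hR hr
    rw [hn] at hd
    have h1 : 1 ≤ qOf Q ^ 2 := Nat.one_le_pow _ _ (by omega)
    have hpos : 0 < qOf Q ^ 2 - qOf Q := by
      have : qOf Q * 2 ≤ qOf Q * qOf Q := Nat.mul_le_mul_left _ hq2
      rw [pow_two]; omega
    have hle := Nat.le_of_dvd hpos hd
    rw [pow_two] at hle h1
    nlinarith [Nat.sub_add_cancel h1, Nat.sub_add_cancel (show qOf Q ≤ qOf Q * qOf Q by nlinarith)]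
  refine ⟨h2, Or.inr (Or.inr hn), fun _ => ?_, fun _ => ?_⟩
  · rw [hn]
    intro h
    exact absurd (Nat.pow_right_injective hq2 h) (by norm_num)
  by_cases hW : RankOneK.wker G a t = ⊥
  · have hV := vGrp_ne_bot_of_cube hR hG h2 hn hna
    haveI : Nontrivial (vGrp a t) := (Subgroup.nontrivial_iff_ne_bot _).2 hV
    obtain ⟨p, hp, hpd⟩ := Nat.exists_prime_and_dvd
      (ne_of_gt (Finite.one_lt_card : 1 < Nat.card (vGrp a t)))
    haveI := Fact.mk hp
    obtain ⟨v, hv⟩ := exists_prime_orderOf_dvd_card' (G := vGrp a t) p hpd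
    have hv' : orderOf (v : G) = p := by rw [Subgroup.orderOf_coe, hv]
    have hvW : (v : G) ∉ RankOneK.wker G a t := by
      rw [hW, Subgroup.mem_bot]
      intro h
      rw [h, orderOf_one] at hv'
      exact hp.one_lt.ne hv'
    obtain ⟨hq, hX⟩ := hfrob v v.2 p hp hv' hvW
    have hnv := hX Q le_rfl (fun k hk x hx => hS.conj_mem k hk.1.1 x hx)
      (fun x hx => hS.conj_mem v v.2.1.1 x hx)
    set Qv := Q ⊓ Subgroup.centralizer {(v : G)} with hQv
    have hcube : Nat.card Qv = qOf Qv ^ 3 := by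
      refine Nat.pow_left_injective hp.ne_zero ?_
      show Nat.card Qv ^ p = (qOf Qv ^ 3) ^ p
      rw [← hnv, hn, hq, ← pow_mul, ← pow_mul, mul_comm]
    have hqv1 : qOf Qv ≠ 1 := fun h => by rw [h, one_pow] at hq; omega
    have hqv0 : qOf Qv ≠ 0 := fun h => by rw [h, zero_pow hp.ne_zero] at hq; omega
    rcases Nat.lt_or_ge 2 (qOf Qv) with hlt | hle
    · obtain ⟨-, -, hiff⟩ := hT v v.2 (fun h => hp.one_lt.ne (by rw [← hv', h, orderOf_one])) hlt
      refine hiff.2 ?_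
      rw [hcube]
      intro h
      exact absurd (Nat.pow_right_injective hlt.le h) (by norm_num)
    · have hqv : qOf Qv = 2 := by omega
      exact rInv_of_card_eight hR v.2 hqv (by rw [hcube, hqv]; norm_num)
  · obtain ⟨⟨w, hw⟩, hw1'⟩ := Subgroup.ne_bot_iff_exists_ne_one.1 hW
    have hw1 : w ≠ 1 := fun h => hw1' (Subtype.ext h)
    intro s r hs hr heq
    have hwV : w ∈ twoStab G a t ⊓ Subgroup.centralizer {t} := by
      have h1 : w ∈ twoStab G a t ⊓ Subgroup.centralizer {t} ⊓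
          Subgroup.centralizer (Cfsg.invertedBy (twoStab G a t) t) := by
        rw [(Cfsg.Agent.S1127.result hS).2]; exact hw
      exact (Subgroup.mem_inf.1 h1).1
    exact sq_of_wker hR h2 hna hw hw1 hr (comm_of_comm_t hS hs hr heq hwV.1
      (Subgroup.mem_centralizer_singleton_iff.1 hwV.2)).1

end Cfsg.Agent.Suz27
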