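import Cfsg.Agent.Suz27.Assemble
import Cfsg.Agent.Suz27.Shapes

/-!
The propositions used in the assembly follow from the shape theorem and non-commutativity.
-/

set_option autoImplicit false

namespace Cfsg.Agent.Suz27

open MulAction RankOne

universe u v

/-- The shape theorem without the generation hypothesis, as a proposition. -/
def HasTypeStmt : Prop :=
  ∀ (G : Type u) [Group G] [Finite G] (Ω : Type v) [MulAction G Ω] (a : Ω) (t : G) (Q : Subgroup G),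
    R1 G Ω a t Q → HasType Q (RInv a t Q)

/-- `Q` is non-abelian unless all its elements square to one, as a proposition. -/
def NotCommStmt : Prop :=
  ∀ (G : Type u) [Group G] [Finite G] (Ω : Type v) [MulAction G Ω] (a : Ω) (t : G) (Q : Subgroup G),
    R1 G Ω a t Q → Nat.card Q ≠ qOf Q → ∃ x ∈ Q, ∃ y ∈ Q, x * y ≠ y * x

theorem card_ne_qOf {G : Type u} [Group G] [Finite G] {Ω : Type v} [MulAction G Ω] {a : Ω} {t : G}
    {Q : Subgroup G} (hR : R1 G Ω a t Q) {m : ℕ} (hm : 2 ≤ m) (h : Nat.card Q = qOf Q ^ m) :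
    Nat.card Q ≠ qOf Q := by
  intro e
  have h1 : qOf Q ^ 1 = qOf Q ^ m := by rw [pow_one, ← h, e]
  have := Nat.pow_right_injective hR.two_le_qOf h1
  omega

theorem shapeStmt_of (hT : HasTypeStmt.{u, v}) (hC : NotCommStmt.{u, v}) : ShapeStmt.{u, v} :=
  fun G _ _ Ω _ a t Q hR _ =>
    ⟨hT G Ω a t Q hR, fun h => hC G Ω a t Q hR (card_ne_qOf hR le_rfl h)⟩

theorem uniqStmt_of (hC : NotCommStmt.{u, v}) (hC₀ : NotCommStmt.{0, 0}) : UniqStmt.{u, v} :=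
  fun G _ _ Ω _ a t Q hR hG h2 hn hr G₂ _ _ Ω₂ _ a₂ t₂ Q₂ hR₂ hG₂ h2₂ hn₂ hr₂ hq =>
    psu_unique_of_not_comm hR hG h2 hn hr (hC G Ω a t Q hR (card_ne_qOf hR (by norm_num) hn))
      hR₂ hG₂ h2₂ hn₂ hr₂ (hC₀ G₂ Ω₂ a₂ t₂ Q₂ hR₂ (card_ne_qOf hR₂ (by norm_num) hn₂)) hq

/-- A rank one group with `|Q| = q³` is `PSU(3, q)`. -/
theorem psu_of_cubed_of (hT : HasTypeStmt.{u, v}) (hC : NotCommStmt.{u, v})
    (hC₀ : NotCommStmt.{0, 0}) {G : Type u} [Group G] [Finite G] {Ω : Type v} [MulAction G Ω]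
    {a : Ω} {t : G} {Q : Subgroup G} (hR : R1 G Ω a t Q) (hG : Gen t Q)
    (h : Nat.card Q = qOf Q ^ 3) {n : ℕ} (hn : 2 ≤ n) (hq : qOf Q = 2 ^ n) (F : Type) [Field F]
    [Fintype F] (hF : Fintype.card F = (2 ^ n) ^ 2) : Nonempty (G ≃* Cfsg.PSU 3 F (2 ^ n)) := by
  obtain ⟨h2, -, hrc⟩ := hT G Ω a t Q hR
  refine psu_case_of (Ω := Ω) (uniqStmt_of hC hC₀ G Ω a t Q hR hG h2 h (hrc.2 fun e => ?_)) hn hq F hF
  have h1 : qOf Q ^ 3 = qOf Q ^ 2 := h.symm.trans e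
  have := Nat.pow_right_injective hR.two_le_qOf h1
  omega

end Cfsg.Agent.Suz27
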