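import Cfsg.Agent.Suz27.Cases
import Cfsg.Agent.Lib.RankOne.SzBridge

/-!
The forms of the conclusion used for simple groups (S1222, S0349).
-/

set_option autoImplicit false

namespace Cfsg.Agent.Suz27

theorem isSuzuki_of_iso {G : Type*} [Group G] [IsSimpleGroup G] (h : Cfsg.Lie.IsoSuzuki G) :
    Cfsg.IsSuzuki G := by
  obtain ⟨F, iF, iT, m, hm, hF, ⟨e⟩⟩ := h
  exact ⟨inferInstance, m, hm,
    by rw [Nat.card_congr (e.trans (RankOne.SzBridge.szEquiv hF hm).symm).toEquiv,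
      Suzuki.card_Sz hF hm]⟩

/-- The shape of the conclusion of S1222 and S0222. -/
theorem bender_form {G : Type*} [Group G] [IsSimpleGroup G] (h : IsR1Type G) :
    (∃ (F : Type) (_ : Field F) (_ : Fintype F), CharP F 2 ∧ 4 ≤ Fintype.card F ∧
        Nonempty (G ≃* Matrix.ProjectiveSpecialLinearGroup (Fin 2) F)) ∨ Cfsg.IsSuzuki G ∨
      (∃ (F : Type) (_ : Field F) (_ : Fintype F) (q : ℕ), Fintype.card F = q ^ 2 ∧ Even q ∧ 4 ≤ q ∧
        Nonempty (G ≃* Cfsg.PSU 3 F q)) := by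
  rcases h with ⟨F, iF, iT, ⟨n, hn, hF⟩, he⟩ | hs | ⟨F, iF, iT, n, hn, hF, he⟩
  · haveI : Fact (Nat.Prime 2) := ⟨Nat.prime_two⟩
    exact Or.inl ⟨F, iF, iT, charP_of_card_eq_prime_pow hF,
      hF ▸ Nat.pow_le_pow_right (n := 2) two_pos hn, he⟩
  · exact Or.inr (Or.inl (isSuzuki_of_iso hs))
  · exact Or.inr (Or.inr ⟨F, iF, iT, 2 ^ n, hF, even_iff_two_dvd.2 (dvd_pow_self 2 (by omega)),
      Nat.pow_le_pow_right (n := 2) two_pos hn, he⟩)

/-- The shape of the conclusion of S0349. -/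
theorem bn_form {G : Type*} [Group G] [IsSimpleGroup G] (h : IsR1Type G) :
    (∃ (F : Type) (_ : Field F) (_ : Fintype F), (∃ n : ℕ, Fintype.card F = 2 ^ n) ∧
        Nonempty (G ≃* Matrix.ProjectiveSpecialLinearGroup (Fin 2) F)) ∨
      Cfsg.IsSuzuki G ∨
      (∃ (F : Type) (_ : Field F) (_ : Fintype F) (n : ℕ), 2 ≤ n ∧ Fintype.card F = (2 ^ n) ^ 2 ∧
        Nonempty (G ≃* Cfsg.PSU 3 F (2 ^ n))) := by
  rcases h with ⟨F, iF, iT, ⟨n, -, hF⟩, he⟩ | hs | h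
  · exact Or.inl ⟨F, iF, iT, ⟨n, hF⟩, he⟩
  · exact Or.inr (Or.inl (isSuzuki_of_iso hs))
  · exact Or.inr (Or.inr h)

end Cfsg.Agent.Suz27
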