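import Cfsg.Agent.Suz27.CharFamily

/-!
The family lemma for `D`-stable sets of characters, counted with all their conjugates.
-/

set_option autoImplicit false

namespace Cfsg.Agent.Suz27

open MulAction RankOne

universe u v w'

variable {G : Type u} {Ω : Type v} [Group G] [MulAction G Ω] {a : Ω} {t : G} {Q : Subgroup G}

/-- The conjugate of an irreducible character of `Q`. -/
def twistIrr [Finite G] (hS : Cfsg.IsRankOneSetup G Ω a t Q) (d : twoStab G a t)
    (ψ : Cfsg.IrrCharacter Q) : Cfsg.IrrCharacter Q :=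
  ⟨twist hS d (ψ : Q → ℂ), isIrr_twist hS d ψ⟩

lemma trivZ_twist {hS : Cfsg.IsRankOneSetup G Ω a t Q} (d : twoStab G a t) {f : Q → ℂ}
    (h : TrivZ f) : TrivZ (twist hS d f) := fun z hz => by
  show f (conjHom hS d z) = f (conjHom hS d 1)
  rw [map_one]
  exact h _ (by rw [← map_mul, hz, map_one])

lemma trivZ_twist_iff (hS : Cfsg.IsRankOneSetup G Ω a t Q) (d : twoStab G a t) (f : Q → ℂ) :
    TrivZ (twist hS d f) ↔ TrivZ f := by
  refine ⟨fun h => ?_, trivZ_twist d⟩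
  have := trivZ_twist (hS := hS) d⁻¹ h
  rwa [twist_twist, inv_mul_cancel, twist_one] at this

open Classical in
/-- The bounds for disjoint `D`-stable sets of characters, summed over all conjugates. -/
theorem families_bounds_stable [Finite G] (hR : R1 G Ω a t Q) {J : Type w'} [Fintype J]
    (e : J → ℕ) (F : J → Finset (Cfsg.IrrCharacter Q)) (w : J → Cfsg.IrrCharacter Q → ℕ)
    (hdeg : ∀ j, ∀ ψ ∈ F j, (ψ : Q → ℂ) 1 = ((e j * w j ψ : ℕ) : ℂ))
    (hfree : ∀ j, ∀ ψ ∈ F j, DFree hR.setup (ψ : Q → ℂ))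
    (hstable : ∀ j, ∀ ψ ∈ F j, ∀ d, twistIrr hR.setup d ψ ∈ F j)
    (hbound : ∀ j, ∀ ψ ∈ F j, w j ψ ≠ 1 →
      Nat.card (twoStab G a t) * (2 * w j ψ + 1) < ((F j).filter fun φ => w j φ = 1).card)
    (hthree : ∀ j, Nat.card (twoStab G a t) * 3 ≤ ((F j).filter fun φ => w j φ = 1).card)
    (htriv : ∀ j, ∃ ψ ∈ F j, w j ψ = 1 ∧ TrivZ (ψ : Q → ℂ))
    (hnontriv : ∀ j, ∃ ψ ∈ F j, ¬ TrivZ (ψ : Q → ℂ))
    (hdisj : ∀ j j', j ≠ j' → Disjoint (F j) (F j')) :
    ∃ c : J → ℤ,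
      (∀ j, 2 * c j + ((qOf Q : ℤ) - 2) * Nat.card (vGrp a t) * e j ≠ 0 ∧
        Even (2 * c j + ((qOf Q : ℤ) - 2) * Nat.card (vGrp a t) * e j)) ∧
      ((Nat.card Q : ℤ) + 1) * ((qOf Q : ℤ) - 1) *
          ∑ j, (∑ ψ ∈ F j, (w j ψ : ℤ) ^ 2) *
            (2 * c j + ((qOf Q : ℤ) - 2) * Nat.card (vGrp a t) * e j) ^ 2 <
        ((qOf Q : ℤ) - 2) ^ 2 * Nat.card Q * Nat.card (vGrp a t) *
          Nat.card (twoStab G a t) ∧
      ∑ j, ∑ ψ ∈ F j, (w j ψ : ℤ) ^ 2 *
          (if TrivZ (ψ : Q → ℂ) then ((e j : ℤ) * Nat.card (twoStab G a t) + c j) ^ 2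
            else (c j - (e j : ℤ) * Nat.card (vGrp a t)) ^ 2) <
        (Nat.card Q : ℤ) * Nat.card (vGrp a t) * Nat.card (twoStab G a t) := by
  haveI := Fintype.ofFinite G
  haveI := Fintype.ofFinite (twoStab G a t)
  have hS := hR.setup
  set k := Nat.card (twoStab G a t) with hk
  have hk0 : 0 < k := Nat.card_pos
  let st : ∀ j, Setoid {ψ : Cfsg.IrrCharacter Q // ψ ∈ F j} := fun j =>
    ⟨fun x y => Rel hS (x.1 : Q → ℂ) (y.1 : Q → ℂ),
      fun x => Rel.refl hS _, fun h => h.symm, fun h h' => h.trans h'⟩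
  let ρ : ∀ j, Quotient (st j) → Cfsg.IrrCharacter Q := fun j x => (Quotient.out x).1
  have hρ : ∀ j x, ρ j x ∈ F j := fun j x => (Quotient.out x).2
  have hwinv : ∀ j, ∀ ψ ∈ F j, ∀ d, w j (twistIrr hS d ψ) = w j ψ := by
    intro j ψ hψ d
    have h1 := hdeg j _ (hstable j ψ hψ d)
    rw [show ((twistIrr hS d ψ : Cfsg.IrrCharacter Q) : Q → ℂ) 1 = (ψ : Q → ℂ) 1 from
      congrArg (ψ : Q → ℂ) (map_one (conjHom hS d)), hdeg j ψ hψ, Nat.cast_inj] at h1
    exact (Nat.eq_of_mul_eq_mul_left (Nat.pos_of_ne_zero fun h => by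
      refine CharCore.irr_apply_one_ne_zero ψ ?_
      rw [hdeg j ψ hψ, h, zero_mul, Nat.cast_zero]) h1).symm
  have hfib : ∀ j (f : Cfsg.IrrCharacter Q → ℤ),
      (∀ ψ ∈ F j, ∀ d, f (twistIrr hS d ψ) = f ψ) →
      ∑ ψ ∈ F j, f ψ = (k : ℤ) * ∑ x : Quotient (st j), f (ρ j x) := by
    intro j f hf
    rw [← Finset.sum_coe_sort, Finset.mul_sum,
      ← Finset.sum_fiberwise (g := fun x => Quotient.mk (st j) x)]
    refine Finset.sum_congr rfl fun x _ => ?_
    have hmem : (Finset.univ.filter fun y : {ψ // ψ ∈ F j} => Quotient.mk (st j) y = x) =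
        Finset.univ.image fun d : twoStab G a t =>
          (⟨twistIrr hS d (ρ j x), hstable j _ (hρ j x) d⟩ : {ψ // ψ ∈ F j}) := by
      ext y
      simp only [Finset.mem_filter, Finset.mem_univ, true_and, Finset.mem_image]
      constructor
      · intro h
        obtain ⟨d, hd⟩ : Rel hS (ρ j x : Q → ℂ) (y.1 : Q → ℂ) :=
          (Quotient.exact (h.trans (Quotient.out_eq x).symm)).symm
        exact ⟨d, Subtype.ext (Subtype.ext hd)⟩
      · rintro ⟨d, rfl⟩
        exact (Quotient.sound (show Rel hS _ _ from ⟨d, rfl⟩)).symm.trans (Quotient.out_eq x)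
    rw [hmem, Finset.sum_image fun c _ d _ h => (hfree j _ (hρ j x)).inj
        (congrArg (fun z : {ψ // ψ ∈ F j} => (z.1 : Q → ℂ)) h),
      Finset.sum_congr rfl fun d _ => hf _ (hρ j x) d, Finset.sum_const, Finset.card_univ,
      nsmul_eq_mul, hk, Nat.card_eq_fintype_card]
  have hbase : ∀ j, ((F j).filter fun φ => w j φ = 1).card =
      k * Nat.card {x : Quotient (st j) // w j (ρ j x) = 1} := by
    intro j
    have h := hfib j (fun ψ => if w j ψ = 1 then 1 else 0)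
      fun ψ hψ d => by rw [hwinv j ψ hψ d]
    rw [Finset.sum_boole, Finset.sum_boole] at h
    rw [Nat.card_eq_fintype_card, Fintype.card_subtype]
    exact_mod_cast h
  have hout : ∀ j ψ (hψ : ψ ∈ F j), ∃ x d, twistIrr hS d (ρ j x) = ψ := by
    intro j ψ hψ
    obtain ⟨d, hd⟩ : Rel hS (ρ j (Quotient.mk (st j) ⟨ψ, hψ⟩) : Q → ℂ) (ψ : Q → ℂ) :=
      Quotient.mk_out (s := st j) (⟨ψ, hψ⟩ : {ψ // ψ ∈ F j})
    exact ⟨_, d, Subtype.ext hd⟩
  obtain ⟨c, hc, h1, h2⟩ := families_bounds hR e ρ (fun j x => w j (ρ j x))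
    (fun j =>
      { deg := fun x => hdeg j _ (hρ j x)
        one_le := fun x => Nat.pos_of_ne_zero fun h => CharCore.irr_apply_one_ne_zero (ρ j x)
          (by rw [hdeg j _ (hρ j x), h, mul_zero, Nat.cast_zero])
        free := fun x => hfree j _ (hρ j x)
        orbit := fun x y hxy hr => hxy (Quotient.out_equiv_out.1 hr)
        bound := fun x hx => Nat.lt_of_mul_lt_mul_left (a := k)
          (by rw [← hbase j]; exact hbound j _ (hρ j x) hx)
        three := Nat.le_of_mul_le_mul_left (by rw [← hbase j]; exact hthree j) hk0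
        triv := by
          obtain ⟨ψ, hψ, hw, hz⟩ := htriv j
          obtain ⟨x, d, rfl⟩ := hout j ψ hψ
          exact ⟨x, (hwinv j _ (hρ j x) d).symm.trans hw, (trivZ_twist_iff hS d _).1 hz⟩
        nontriv := by
          obtain ⟨ψ, hψ, hz⟩ := hnontriv j
          obtain ⟨x, d, rfl⟩ := hout j ψ hψ
          exact ⟨x, fun h => hz ((trivZ_twist_iff hS d _).2 h)⟩ })
    (fun j j' hj x x' => fun ⟨d, hd⟩ => Finset.disjoint_left.1 (hdisj j j' hj)
      (hstable j _ (hρ j x) d)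
      (by rw [show twistIrr hS d (ρ j x) = ρ j' x' from Subtype.ext hd]; exact hρ j' x'))
  refine ⟨c, hc, ?_, ?_⟩
  · rw [Finset.sum_congr rfl fun j _ => by
      rw [hfib j _ (fun ψ hψ d => by rw [hwinv j ψ hψ d]), mul_assoc], ← Finset.mul_sum,
      mul_left_comm, mul_comm _ (k : ℤ)]
    exact mul_lt_mul_of_pos_left h1 (by exact_mod_cast hk0)
  · rw [Finset.sum_congr rfl fun j _ => hfib j _ (fun ψ hψ d => by
      rw [hwinv j ψ hψ d]
      exact congrArg _ (if_congr (trivZ_twist_iff hS d _) rfl rfl)), ← Finset.mul_sum,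
      mul_comm _ (k : ℤ)]
    exact mul_lt_mul_of_pos_left h2 (by exact_mod_cast hk0)

end Cfsg.Agent.Suz27
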