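import Mathlib

/-!
A commutative ring of endomorphisms of a module of exponent four, generated by a group acting
regularly on the non-zero doubles: sums of two squares determine their summands.
-/

set_option autoImplicit false

namespace Cfsg.Agent.Suz27.Teich

variable {R : Type*} [CommRing R]

/-- In a ring with `4 = 0` whose quotient by `2` is a domain, `A² + B² = C² + D²` gives
`{A, B} = {C, D}` modulo `2`. -/
theorem pair_eq (h4 : (4 : R) = 0) (hdiv : ∀ u : R, 2 * u = 0 → ∃ w, u = 2 * w)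
    (hdom : ∀ u v : R, 2 * (u * v) = 0 → 2 * u = 0 ∨ 2 * v = 0) {A B C D : R}
    (h : A * A + B * B = C * C + D * D) : 2 * A = 2 * C ∨ 2 * A = 2 * D := by
  have h1 : 2 * ((A + B - C - D) * (A + B - C - D)) = 0 := by
    linear_combination 2 * h +
      (A * B - A * C - A * D - B * C - B * D + C * D + C * C + D * D) * h4
  have h2 : 2 * (A + B - C - D) = 0 := (hdom _ _ h1).elim id id
  obtain ⟨W, hW⟩ := hdiv _ h2
  have h3 : 2 * ((A - C) * (A - D)) = 0 := by
    linear_combination h + (A - B - C - D + 2 * W) * hW + (W * W - W * B) * h4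
  rcases hdom _ _ h3 with e | e
  · exact Or.inl (by linear_combination e)
  · exact Or.inr (by linear_combination e)

variable {A : Type*} [AddCommGroup A] {C : Type*} [CommGroup C] (ρ : C →* AddMonoid.End A)

/-- `0` or the image of `r` under an element of `C`. -/
def val (r : A) : Option C → A := fun o => o.elim 0 fun c => ρ c r

/-- Sums of two translates of a generator determine them. -/
theorem val_add_eq (hsq : ∀ c : C, ∃ d, d * d = c) {r : A} (h4 : ∀ x : A, 4 • x = 0)
    (hker : ∀ x : A, 2 • x = 0 → ∃ y, x = 2 • y)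
    (hspan : ∀ x : A, 2 • x ≠ 0 → ∃ c, 2 • (x - ρ c r) = 0)
    (hne : ∀ c, 2 • ρ c r ≠ 0) (hfree : ∀ c d, 2 • ρ c r = 2 • ρ d r → c = d)
    {a b c d : Option C} (h : val ρ r a + val ρ r b = val ρ r c + val ρ r d) : a = c ∨ a = d := by
  classical
  let R : Subring (AddMonoid.End A) := Subring.closure (Set.range ρ)
  have hcomm : ∀ x ∈ Set.range ρ, ∀ y ∈ Set.range ρ, x * y = y * x := by
    rintro _ ⟨x, rfl⟩ _ ⟨y, rfl⟩
    rw [← map_mul, ← map_mul, mul_comm]
  letI : CommRing R := Subring.closureCommRingOfComm hcomm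
  let ev : R →+ A := AddMonoidHom.mk' (fun u => (u : AddMonoid.End A) r) fun u w => rfl
  let k : C → R := fun c => ⟨ρ c, Subring.subset_closure ⟨c, rfl⟩⟩
  have hk : ∀ c c', k (c * c') = k c * k c' := fun c c' => Subtype.ext (map_mul ρ c c')
  have hmul : ∀ (u w : R), ev (u * w) = (u : AddMonoid.End A) (ev w) := fun u w => rfl
  have htwo : ∀ u : R, ev (2 * u) = 2 • ev u := fun u => by rw [two_mul, map_add, two_nsmul]
  have hcover : ∀ x : A, ∃ u : R, x = ev u := by
    have h0 : ∀ x : A, 2 • x = 0 → ∃ u : R, x = ev u := by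
      intro x hx
      obtain ⟨y, rfl⟩ := hker x hx
      by_cases hy : 2 • y = 0
      · exact ⟨0, by rw [hy, map_zero]⟩
      obtain ⟨e, he⟩ := hspan y hy
      refine ⟨2 * k e, ?_⟩
      rw [htwo]
      rw [smul_sub, sub_eq_zero] at he
      exact he
    intro x
    by_cases hx : 2 • x = 0
    · exact h0 x hx
    obtain ⟨e, he⟩ := hspan x hx
    obtain ⟨u, hu⟩ := h0 _ he
    exact ⟨u + k e, by rw [map_add, ← hu]; exact (sub_add_cancel x (ρ e r)).symm⟩
  have hinj : ∀ u : R, ev u = 0 → u = 0 := fun u hu => Subtype.ext (AddMonoidHom.ext fun x => by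
    obtain ⟨w, rfl⟩ := hcover x
    show (u : AddMonoid.End A) (ev w) = 0
    exact (hmul u w).symm.trans ((congrArg ev (mul_comm u w)).trans
      ((hmul w u).trans ((congrArg (w : AddMonoid.End A) hu).trans (map_zero _)))))
  have h4' : (4 : R) = 0 := hinj _ (by
    rw [show (4 : R) = 2 * (2 * 1) by ring, htwo, htwo, ← mul_nsmul']
    exact h4 _)
  have hdiv : ∀ u : R, 2 * u = 0 → ∃ w, u = 2 * w := by
    intro u hu
    obtain ⟨y, hy⟩ := hker (ev u) (by rw [← htwo, hu, map_zero])
    obtain ⟨w, rfl⟩ := hcover y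
    exact ⟨w, sub_eq_zero.1 (hinj _ (by rw [map_sub, htwo, hy, sub_self]))⟩
  have hunit : ∀ u : R, 2 * u ≠ 0 → ∃ e, 2 * (u - k e) = 0 := by
    intro u hu
    obtain ⟨e, he⟩ := hspan (ev u) fun h => hu (hinj _ (by rw [htwo, h]))
    exact ⟨e, hinj _ (by rw [htwo, map_sub]; exact he)⟩
  have hdom : ∀ u v : R, 2 * (u * v) = 0 → 2 * u = 0 ∨ 2 * v = 0 := by
    intro u v huv
    by_contra hcon
    push Not at hcon
    obtain ⟨e, he⟩ := hunit u hcon.1
    obtain ⟨f, hf⟩ := hunit v hcon.2
    have h2 : 2 * (k e * k f) = 0 := by linear_combination huv - v * he - k e * hf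
    apply hne (e * f)
    have := congrArg ev h2
    rw [map_zero, htwo, ← hk] at this
    exact this
  have hroot : ∀ o : Option C, ∃ U : R, ev (U * U) = val ρ r o ∧
      (o = none → U = 0) ∧ ∀ e, o = some e → ∃ f, f * f = e ∧ U = k f := by
    rintro (_ | e)
    · exact ⟨0, by simp [val], fun _ => rfl, fun e he => (Option.some_ne_none e he.symm).elim⟩
    · obtain ⟨f, hf⟩ := hsq e
      exact ⟨k f, by rw [← hk, hf]; rfl, fun h => (Option.some_ne_none e h).elim,
        fun e' he' => ⟨f, hf.trans (Option.some.inj he'), rfl⟩⟩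
  obtain ⟨U, hU, hU0, hU1⟩ := hroot a
  obtain ⟨V, hV, -, -⟩ := hroot b
  obtain ⟨W, hW, hW0, hW1⟩ := hroot c
  obtain ⟨X, hX, hX0, hX1⟩ := hroot d
  have hmod : ∀ {o o' : Option C} {Y Y' : R}, (o = none → Y = 0) →
      (∀ e, o = some e → ∃ f, f * f = e ∧ Y = k f) → (o' = none → Y' = 0) →
      (∀ e, o' = some e → ∃ f, f * f = e ∧ Y' = k f) → 2 * Y = 2 * Y' → o = o' := by
    intro o o' Y Y' h0 h1 h0' h1' he
    have hev := congrArg ev he
    rcases o with _ | e <;> rcases o' with _ | e'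
    · rfl
    · obtain ⟨f, -, rfl⟩ := h1' e' rfl
      rw [h0 rfl, mul_zero, map_zero, htwo] at hev
      exact absurd hev.symm (hne f)
    · obtain ⟨f, -, rfl⟩ := h1 e rfl
      rw [h0' rfl, mul_zero, map_zero, htwo] at hev
      exact absurd hev (hne f)
    · obtain ⟨f, hf, rfl⟩ := h1 e rfl
      obtain ⟨f', hf', rfl⟩ := h1' e' rfl
      rw [htwo, htwo] at hev
      rw [← hf, ← hf', hfree f f' hev]
  have heq : U * U + V * V = W * W + X * X :=
    sub_eq_zero.1 (hinj _ (by rw [map_sub, map_add, map_add, hU, hV, hW, hX, h, sub_self]))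
  rcases pair_eq h4' hdiv hdom heq with e | e
  · exact Or.inl (hmod hU0 hU1 hW0 hW1 e)
  · exact Or.inr (hmod hU0 hU1 hX0 hX1 e)

end Cfsg.Agent.Suz27.Teich
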