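import Cfsg.Agent.Suz27.CharFamilyBase
import Cfsg.Agent.Suz27.Teich

/-!
`Q` abelian of order `q²` with `r² ≠ 1`: the products of two conjugates of `r^{±1}` cover `Q - Z`, so
every `h(x)` lies in `K`, hence `D = K` and `V = 1`.
-/

set_option autoImplicit false

namespace Cfsg.Agent.Suz27

open MulAction RankOne

universe u v

variable {G : Type u} {Ω : Type v} [Group G] [MulAction G Ω] {a : Ω} {t : G}
  {Q C : Subgroup G}

/-- `h(x)` lies in `C`. -/
def HMem (t : G) (Q C : Subgroup G) (x : G) : Prop :=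
  ∃ g ∈ Q, ∃ h ∈ C, ∃ f ∈ Q, t * x * t = g * h * t * f

section
variable (hS : Cfsg.IsRankOneSetup G Ω a t Q)
  (hCD : ∀ k ∈ C, k ∈ twoStab G a t) (hCt : ∀ k ∈ C, t * k * t = k⁻¹)
include hS hCD hCt

lemma conj_mem_Q {k x : G} (hk : k ∈ C) (hx : x ∈ Q) : k * x * k⁻¹ ∈ Q :=
  hS.conj_mem k (Subgroup.mem_inf.1 (hCD k hk)).1 x hx

lemma conj_mem_Q' {k x : G} (hk : k ∈ C) (hx : x ∈ Q) : k⁻¹ * x * k ∈ Q := by
  simpa using conj_mem_Q hS hCD hCt (inv_mem hk) hx

omit hCD in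
lemma t_comm {k : G} (hk : k ∈ C) : k * t = t * k⁻¹ := by
  rw [← hCt k hk, ← mul_assoc, ← mul_assoc, hS.mul_self, one_mul]

/-- If all `h(x)` lie in `C` then `D = C` for `G = ⟨Q, t⟩`. -/
lemma twoStab_le_of_hmem (hG : Gen t Q) (hall : ∀ x ∈ Q, x ≠ 1 → HMem t Q C x) :
    twoStab G a t ≤ C := by
  let P : G → Prop := fun g => (∃ q ∈ Q, ∃ k ∈ C, g = q * k) ∨
    ∃ q ∈ Q, ∃ k ∈ C, ∃ f ∈ Q, g = q * k * t * f
  have hQP : ∀ x ∈ Q, ∀ g, P g → P (x * g) := by
    intro x hx g hg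
    rcases hg with ⟨q, hq, k, hk, rfl⟩ | ⟨q, hq, k, hk, f, hf, rfl⟩
    · exact Or.inl ⟨x * q, mul_mem hx hq, k, hk, by group⟩
    · exact Or.inr ⟨x * q, mul_mem hx hq, k, hk, f, hf, by group⟩
  have htP : ∀ g, P g → P (t * g) := by
    intro g hg
    rcases hg with ⟨q, hq, k, hk, rfl⟩ | ⟨q, hq, k, hk, f, hf, rfl⟩
    · refine Or.inr ⟨1, one_mem _, k⁻¹, inv_mem hk, k⁻¹ * q * k, conj_mem_Q' hS hCD hCt hk hq, ?_⟩
      have h1 := t_comm hS hCt (inv_mem hk)
      rw [inv_inv] at h1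
      rw [one_mul, h1]
      group
    · by_cases hq1 : q = 1
      · subst hq1
        refine Or.inl ⟨k⁻¹ * f * k, conj_mem_Q' hS hCD hCt hk hf, k⁻¹, inv_mem hk, ?_⟩
        calc t * (1 * k * t * f) = (t * k * t) * f := by group
          _ = k⁻¹ * f * k * k⁻¹ := by rw [hCt k hk]; group
      · obtain ⟨g, hg, h, hh, f', hf', e⟩ := hall q hq hq1
        refine Or.inr ⟨g, hg, h * k, mul_mem hh hk, k * f' * k⁻¹ * f,
          mul_mem (conj_mem_Q hS hCD hCt hk hf') hf, ?_⟩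
        calc t * (q * k * t * f) = (t * q * t) * ((t⁻¹ * k * t) * f) := by group
          _ = g * h * t * f' * (k⁻¹ * f) := by rw [e, t_inv hS, hCt k hk]
          _ = g * h * (t * k⁻¹) * (k * f' * k⁻¹ * f) := by group
          _ = _ := by rw [← t_comm hS hCt hk]; group
  have hP : ∀ g : G, P g := by
    intro g
    have hg : g ∈ Subgroup.closure ((Q : Set G) ∪ {t}) := by rw [hG]; trivial
    induction hg using Subgroup.closure_induction_left with
    | one => exact Or.inl ⟨1, one_mem _, 1, one_mem _, (one_mul 1).symm⟩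
    | mul_left x hx y _ ih =>
      rcases hx with hx | hx
      · exact hQP x hx y ih
      · rw [Set.mem_singleton_iff] at hx
        exact hx ▸ htP y ih
    | inv_mul_cancel x hx y _ ih =>
      rcases hx with hx | hx
      · exact hQP x⁻¹ (inv_mem hx) y ih
      · rw [Set.mem_singleton_iff] at hx
        rw [hx, t_inv hS]
        exact htP y ih
  intro d hd
  rcases hP d with ⟨q, hq, k, hk, rfl⟩ | ⟨q, hq, k, hk, f, hf, rfl⟩
  · have hq' : q = 1 := (decomp_unique hS hq (hCD k hk) Q.one_mem hd (one_mul (q * k)).symm).1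
    rw [hq', one_mul]
    exact hk
  · exfalso
    have h := (Subgroup.mem_inf.1 hd).1
    rw [mem_stabilizer_iff, mul_smul, mul_smul, mul_smul, Q_fix_a hS hf,
      (Subgroup.mem_inf.1 (hCD k hk)).2] at h
    exact smul_Q_ne hS hq (ta_ne hS) h

variable {s r : G} (hrQ : r ∈ Q) (heq : t * s * t = r⁻¹ * t * r)
include hrQ heq

lemma hmem_conj_s {k : G} (hk : k ∈ C) :
    t * (k⁻¹ * s * k) * t = (k * r⁻¹ * k⁻¹) * (k * k) * t * (k * r * k⁻¹) := by
  have e : t * k⁻¹ * t = k := by rw [hCt _ (inv_mem hk), inv_inv]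
  calc t * (k⁻¹ * s * k) * t = (t * k⁻¹ * t⁻¹) * (t * s * t) * (t⁻¹ * k * t) := by group
    _ = k * (r⁻¹ * t * r) * k⁻¹ := by rw [t_inv hS, e, heq, hCt k hk]
    _ = (k * r⁻¹ * k⁻¹) * k * (t * k⁻¹) * (k * r * k⁻¹) := by group
    _ = _ := by rw [← t_comm hS hCt hk]; group

lemma hmem_r {k : G} (hk : k ∈ C) (hsQ : s ∈ Q) : HMem t Q C (k * r * k⁻¹) := by
  have e1 : t * r = r * t * s * t * t⁻¹ * t := by
    calc t * r = r * (r⁻¹ * t * r) := by group
      _ = r * (t * s * t) := by rw [heq]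
      _ = _ := by group
  refine ⟨k⁻¹ * r * k, conj_mem_Q' hS hCD hCt hk hrQ, k⁻¹ * k⁻¹,
    mul_mem (inv_mem hk) (inv_mem hk), k⁻¹ * s * k, conj_mem_Q' hS hCD hCt hk hsQ, ?_⟩
  have e2 : t * r * t = r * t * s := by
    rw [e1]
    calc r * t * s * t * t⁻¹ * t * t = r * t * s * (t * t) := by group
      _ = _ := by rw [hS.mul_self, mul_one]
  have e3 : t * k⁻¹ * t = k := by rw [hCt _ (inv_mem hk), inv_inv]
  calc t * (k * r * k⁻¹) * t = (t * k * t⁻¹) * (t * r * t) * (t⁻¹ * k⁻¹ * t) := by group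
    _ = k⁻¹ * (r * t * s) * k := by rw [t_inv hS, hCt k hk, e2, e3]
    _ = (k⁻¹ * r * k) * k⁻¹ * (t * k) * (k⁻¹ * s * k) := by group
    _ = _ := by
      have h1 := t_comm hS hCt (inv_mem hk)
      rw [inv_inv] at h1
      rw [← h1]; group

omit hrQ heq in
lemma hmem_inv {x : G} (h : HMem t Q C x) : HMem t Q C x⁻¹ := by
  obtain ⟨g, hg, k, hk, f, hf, e⟩ := h
  refine ⟨f⁻¹, inv_mem hf, k, hk, g⁻¹, inv_mem hg, ?_⟩
  calc t * x⁻¹ * t = (t⁻¹ * x * t⁻¹)⁻¹ := by group
    _ = (g * k * t * f)⁻¹ := by rw [t_inv hS, e]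
    _ = f⁻¹ * (t⁻¹ * k⁻¹) * g⁻¹ := by group
    _ = _ := by rw [t_inv hS, ← t_comm hS hCt hk]; group

/-- The middle factor of a product lies in `C`. -/
lemma hmem_middle {x y : G} {gx hx fx gy hy fy : G}
    (hgx : gx ∈ Q) (hhx : hx ∈ C) (hhy : hy ∈ C) (hfy : fy ∈ Q)
    (ex : t * x * t = gx * hx * t * fx) (ey : t * y * t = gy * hy * t * fy)
    (hxy : HMem t Q C (x * y)) : HMem t Q C (fx * gy) := by
  obtain ⟨g', hg', h', hh', f', hf', e'⟩ := hxy
  refine ⟨hx⁻¹ * (gx⁻¹ * g') * hx, conj_mem_Q' hS hCD hCt hhx (mul_mem (inv_mem hgx) hg'),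
    hx⁻¹ * h' * hy⁻¹, mul_mem (mul_mem (inv_mem hhx) hh') (inv_mem hhy),
    hy⁻¹ * (f' * fy⁻¹) * hy, conj_mem_Q' hS hCD hCt hhy (mul_mem hf' (inv_mem hfy)), ?_⟩
  have e1 : t * hy⁻¹ * t = hy := by rw [hCt _ (inv_mem hhy), inv_inv]
  have e2 : t * (fx * gy) = hx⁻¹ * gx⁻¹ * (g' * h' * t * f') * fy⁻¹ * t⁻¹ * hy⁻¹ := by
    rw [← e']
    calc t * (fx * gy) = hx⁻¹ * gx⁻¹ * ((gx * hx * t * fx) * (gy * hy * t * fy)) * fy⁻¹ * t⁻¹ * hy⁻¹
        := by group
      _ = hx⁻¹ * gx⁻¹ * ((t * x * t) * (t * y * t)) * fy⁻¹ * t⁻¹ * hy⁻¹ := by rw [ex, ey]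
      _ = hx⁻¹ * gx⁻¹ * (t * x * (t * t) * y * t) * fy⁻¹ * t⁻¹ * hy⁻¹ := by group
      _ = _ := by rw [hS.mul_self]; group
  calc t * (fx * gy) * t = hx⁻¹ * gx⁻¹ * (g' * h' * t * f') * fy⁻¹ * (t⁻¹ * hy⁻¹ * t) := by
        rw [e2]; group
    _ = hx⁻¹ * (gx⁻¹ * g') * h' * t * (f' * fy⁻¹) * hy := by rw [t_inv hS, e1]; group
    _ = hx⁻¹ * (gx⁻¹ * g') * hx * (hx⁻¹ * h') * (t * hy) * (hy⁻¹ * (f' * fy⁻¹) * hy) := by group
    _ = _ := by
      have h1 := t_comm hS hCt (inv_mem hhy)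
      rw [inv_inv] at h1
      rw [← h1]; group

end

/-- `Q` abelian of order `q²` and `r² ≠ 1` force `V = 1`. -/
theorem covering [Finite G] (hR : R1 G Ω a t Q) (hG : Gen t Q)
    (hab : ∀ x ∈ Q, ∀ y ∈ Q, x * y = y * x) (hn : Nat.card Q = qOf Q ^ 2)
    {s r : G} (hs : s ∈ Cfsg.involutionsIn (stabilizer G a : Set G)) (hrQ : r ∈ Q)
    (heq : t * s * t = r⁻¹ * t * r) (hr2 : r * r ≠ 1)
    (hC : (C : Set G) = Cfsg.invertedBy (twoStab G a t) t)
    (hCc : ∀ x ∈ C, ∀ y ∈ C, x * y = y * x) : vGrp a t = ⊥ := by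
  classical
  have hS := hR.setup
  have hsQ : s ∈ Q := invol_mem_Q hS ⟨hs.2.1, hs.2.2⟩ hs.1
  have hmemC : ∀ k, k ∈ C ↔ k ∈ Cfsg.invertedBy (twoStab G a t) t := fun k => by rw [← hC]; rfl
  have hCD : ∀ k ∈ C, k ∈ twoStab G a t := fun k hk => ((hmemC k).1 hk).1
  have hCt : ∀ k ∈ C, t * k * t = k⁻¹ := fun k hk => by
    have := ((hmemC k).1 hk).2
    rwa [t_inv hS] at this
  have hinv : ∀ {x : G}, x ∈ Q → x ≠ 1 → x * x = 1 → ∃ k : C, x = (k : G)⁻¹ * s * k := by
    intro x hx h1 h2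
    obtain ⟨k, hk, e⟩ := inverted_transitive hS hs ⟨hS.le hx, h1, h2⟩
    exact ⟨⟨k, (hmemC k).2 hk⟩, e.symm⟩
  letI : CommGroup C := { (inferInstance : Group C) with
    mul_comm := fun x y => Subtype.ext (hCc x x.2 y y.2) }
  letI : CommGroup Q := { (inferInstance : Group Q) with
    mul_comm := fun x y => Subtype.ext (hab x x.2 y y.2) }
  let ρ : C →* AddMonoid.End (Additive Q) :=
    { toFun := fun k => AddMonoidHom.mk'
        (fun x => Additive.ofMul (⟨(k : G) * (Additive.toMul x : Q) * (k : G)⁻¹,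
          conj_mem_Q hS hCD hCt k.2 (Additive.toMul x).2⟩ : Q))
        fun x y => congrArg Additive.ofMul (Subtype.ext (by
          show (k : G) * ((Additive.toMul x : Q) * (Additive.toMul y : Q) : Q) * (k : G)⁻¹ = _
          simp [mul_assoc]))
      map_one' := AddMonoidHom.ext fun x => congrArg Additive.ofMul (Subtype.ext (by
        show ((1 : C) : G) * (Additive.toMul x : Q) * ((1 : C) : G)⁻¹ = (Additive.toMul x : Q)
        simp))
      map_mul' := fun k l => AddMonoidHom.ext fun x =>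
        congrArg Additive.ofMul (Subtype.ext (by
          show ((k * l : C) : G) * (Additive.toMul x : Q) * ((k * l : C) : G)⁻¹ =
            (k : G) * ((l : G) * (Additive.toMul x : Q) * (l : G)⁻¹) * (k : G)⁻¹
          simp [mul_assoc])) }
  -- the squaring map
  let sq : Q →* Q := powMonoidHom 2
  have hsq : ∀ x : Q, ((sq x : Q) : G) = (x : G) * x := fun x => by
    rw [powMonoidHom_apply, pow_two, Subgroup.coe_mul]
  have hker : Nat.card sq.ker = qOf Q := by
    refine Nat.card_congr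
      { toFun := fun x => ⟨((x : Q) : G), (x : Q).2, by
          rw [← hsq, MonoidHom.mem_ker.1 x.2]; rfl⟩
        invFun := fun z => ⟨⟨z.1, z.2.1⟩, MonoidHom.mem_ker.2 (Subtype.ext (by rw [hsq]; exact z.2.2))⟩
        left_inv := fun _ => rfl
        right_inv := fun _ => rfl }
  have hrange : Nat.card sq.range = qOf Q := by
    have h := sq.ker.card_mul_index
    rw [Subgroup.index_ker, hn, hker, pow_two] at h
    exact Nat.eq_of_mul_eq_mul_left (by have := hR.four_le_q; omega) h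
  haveI : Fact (Nat.Prime 2) := ⟨Nat.prime_two⟩
  have h2Q : IsPGroup 2 Q := by
    have hz : IsPGroup 2 sq.ker := fun x => ⟨1, Subtype.ext (MonoidHom.mem_ker.1 x.2)⟩
    obtain ⟨f, hf⟩ := IsPGroup.iff_card.1 hz
    exact IsPGroup.of_card (n := f * 2) (by rw [hn, ← hker, hf, ← pow_mul])
  have hkr : sq.ker ≤ sq.range := by
    intro x hx
    rcases eq_or_ne x 1 with rfl | hx1
    · exact one_mem _
    obtain ⟨i, hi⟩ := exists_prime_orderOf_dvd_card' (G := sq.range) 2 (by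
      rw [hrange]; exact hR.two_dvd_q)
    obtain ⟨y, hy⟩ := i.2
    have hi2 : ((i : Q) : G) * (i : Q) = 1 := by
      have h := pow_orderOf_eq_one i
      rw [hi, pow_two] at h
      exact congrArg (fun z : sq.range => ((z : Q) : G)) h
    have hi1 : ((i : Q) : G) ≠ 1 := fun e => by
      have : i = 1 := Subtype.ext (Subtype.ext e)
      rw [this, orderOf_one] at hi
      omega
    obtain ⟨k, hk⟩ := hinv (i : Q).2 hi1 hi2
    have hx2 : (x : G) * x = 1 := by rw [← hsq, MonoidHom.mem_ker.1 hx]; rfl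
    obtain ⟨l, hl⟩ := hinv x.2 (fun e => hx1 (Subtype.ext e)) hx2
    refine ⟨⟨(l : G)⁻¹ * (k * y * (k : G)⁻¹) * l,
      conj_mem_Q' hS hCD hCt l.2 (conj_mem_Q hS hCD hCt k.2 y.2)⟩, Subtype.ext ?_⟩
    rw [hsq]
    calc (l : G)⁻¹ * (k * y * (k : G)⁻¹) * l * ((l : G)⁻¹ * (k * y * (k : G)⁻¹) * l)
        = (l : G)⁻¹ * (k * ((y : G) * y) * (k : G)⁻¹) * l := by group
      _ = _ := by rw [← hsq, hy, hk, hl]; group
  have heqkr : sq.ker = sq.range := Subgroup.eq_of_le_of_card_ge hkr (by rw [hker, hrange])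
  have hsq4 : ∀ x : Q, sq (sq x) = 1 := fun x =>
    MonoidHom.mem_ker.1 (heqkr ▸ ⟨x, rfl⟩)
  let A := Additive Q
  let rA : A := Additive.ofMul (⟨r, hrQ⟩ : Q)
  have two : ∀ x : A, 2 • x = Additive.ofMul (sq (Additive.toMul x)) := fun x => by
    rw [powMonoidHom_apply, ofMul_pow, ofMul_toMul]
  have hρ : ∀ (k : C) (x : A), ((Additive.toMul (ρ k x) : Q) : G) =
      (k : G) * (Additive.toMul x : Q) * (k : G)⁻¹ := fun _ _ => rfl
  have hzero : ∀ x : A, x = 0 ↔ ((Additive.toMul x : Q) : G) = 1 := fun x =>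
    ⟨fun h => by rw [h]; rfl, fun h => congrArg Additive.ofMul (Subtype.ext h : Additive.toMul x = 1)⟩
  have hcoe2 : ∀ x : A, ((Additive.toMul (2 • x) : Q) : G) =
      (Additive.toMul x : Q) * (Additive.toMul x : Q) := fun x => by rw [two, toMul_ofMul, hsq]
  have hne : ∀ k, 2 • ρ k rA ≠ 0 := fun k h => hr2 (by
    rw [hzero, hcoe2, hρ] at h
    calc r * r = (k : G)⁻¹ * ((k : G) * r * (k : G)⁻¹ * ((k : G) * r * (k : G)⁻¹)) * k := by group
      _ = 1 := by rw [show (k : G) * r * (k : G)⁻¹ * ((k : G) * r * (k : G)⁻¹) = 1 from h]; group)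
  have hrr : r * r ∈ Cfsg.involutionsIn (stabilizer G a : Set G) := ⟨hS.le (mul_mem hrQ hrQ), hr2,
    (congrArg Subtype.val (hsq4 ⟨r, hrQ⟩)).symm.trans (by rw [hsq, hsq]) |>.symm⟩
  have hfree : ∀ k l, 2 • ρ k rA = 2 • ρ l rA → k = l := by
    intro k l h
    have h' := congrArg (fun z : A => ((Additive.toMul z : Q) : G)) h
    simp only [hcoe2, hρ] at h'
    have e : (k : G) * (r * r) * (k : G)⁻¹ = l * (r * r) * (l : G)⁻¹ := by
      calc (k : G) * (r * r) * (k : G)⁻¹ = k * r * (k : G)⁻¹ * (k * r * (k : G)⁻¹) := by group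
        _ = _ := h'
        _ = _ := by simp only [rA, toMul_ofMul]; group
    exact inv_injective (Subtype.ext (inverted_conj_inj hS hrr ((hmemC _).1 (inv_mem k.2))
      ((hmemC _).1 (inv_mem l.2)) (by simpa using e)))
  have hspan : ∀ x : A, 2 • x ≠ 0 → ∃ k, 2 • (x - ρ k rA) = 0 := by
    intro x hx
    rw [Ne, hzero, hcoe2] at hx
    set y : G := ((Additive.toMul x : Q) : G) with hy
    have hy4 : y * y * (y * y) = 1 := by
      rw [← hsq, ← hsq]
      exact congrArg Subtype.val (hsq4 _)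
    obtain ⟨k, hk, e⟩ := inverted_transitive hS hrr
      ⟨hS.le (mul_mem (Additive.toMul x).2 (Additive.toMul x).2), hx, hy4⟩
    refine ⟨⟨k⁻¹, inv_mem ((hmemC k).2 hk)⟩, ?_⟩
    rw [smul_sub, sub_eq_zero]
    refine Additive.toMul.injective (Subtype.ext ?_)
    rw [hcoe2, hcoe2, hρ, ← hy, ← e]
    simp only [rA, toMul_ofMul, inv_inv]
    group
  have hkerA : ∀ x : A, 2 • x = 0 → ∃ y, x = 2 • y := by
    intro x hx
    have : Additive.toMul x ∈ sq.ker := MonoidHom.mem_ker.2 (Subtype.ext (by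
      rw [hsq, ← hcoe2]; exact (hzero _).1 hx))
    rw [heqkr] at this
    obtain ⟨y, hy⟩ := this
    exact ⟨Additive.ofMul y, Additive.toMul.injective (by rw [two, toMul_ofMul, toMul_ofMul, hy])⟩
  have h4 : ∀ x : A, 4 • x = 0 := fun x => by
    rw [show 4 = 2 * 2 from rfl, mul_nsmul, two, two, toMul_ofMul, hsq4, ofMul_one]
  have hsqC : ∀ k : C, ∃ l, l * l = k := fun k =>
    ⟨⟨sqrt (k : G), sqrt_mem k.2⟩, Subtype.ext (sqrt_mul_self (odd_orderOf_of_mem hS.odd_card
      (hCD k k.2)))⟩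
  have key := @Teich.val_add_eq A _ C _ ρ hsqC rA h4 hkerA hspan hne hfree
  -- the covering
  let Pr := {p : C × C // p.1 ≠ p.2}
  let Φ : Pr ⊕ (C ⊕ C) → {x : A // 2 • x ≠ 0} := fun o => match o with
    | .inl p => ⟨ρ p.1.1 rA - ρ p.1.2 rA, fun h => p.2 (hfree _ _ (by
        rwa [smul_sub, sub_eq_zero] at h))⟩
    | .inr (.inl k) => ⟨ρ k rA, hne k⟩
    | .inr (.inr k) => ⟨-ρ k rA, fun h => hne k (by rwa [smul_neg, neg_eq_zero] at h)⟩
  have hΦ : Function.Injective Φ := by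
    intro o o' h
    have h' := congrArg Subtype.val h
    rcases o with ⟨⟨α, β⟩, hαβ⟩ | k | k <;> rcases o' with ⟨⟨α', β'⟩, hαβ'⟩ | k' | k' <;>
      simp only [Φ] at h'
    · rcases key (a := some α) (b := some β') (c := some α') (d := some β)
        (by show ρ α rA + ρ β' rA = ρ α' rA + ρ β rA; exact sub_eq_sub_iff_add_eq_add.1 h') with e | e
      · cases e
        have : β = β' := hfree _ _ (congrArg (2 • ·) (sub_right_injective h'))
        subst this; rfl
      · cases e; exact absurd rfl hαβ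
    · rcases key (a := some α) (b := none) (c := some k') (d := some β)
        (by show ρ α rA + 0 = ρ k' rA + ρ β rA; rw [add_zero, ← h', sub_add_cancel]) with e | e
      · cases e
        exact absurd (sub_eq_self.1 h') (fun e' => hne β (by rw [e', smul_zero]))
      · cases e; exact absurd rfl hαβ
    · rcases key (a := some α) (b := some k') (c := some β) (d := none)
        (by show ρ α rA + ρ k' rA = ρ β rA + 0
            rw [add_zero, ← sub_eq_zero, add_sub_right_comm, h', neg_add_cancel]) with e | e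
      · cases e; exact absurd rfl hαβ
      · cases e
    · rcases key (a := some α') (b := none) (c := some k) (d := some β')
        (by show ρ α' rA + 0 = ρ k rA + ρ β' rA; rw [add_zero, h', sub_add_cancel]) with e | e
      · cases e
        exact absurd (sub_eq_self.1 h'.symm) (fun e' => hne β' (by rw [e', smul_zero]))
      · cases e; exact absurd rfl hαβ'
    · rw [hfree k k' (congrArg (2 • ·) h')]
    · rcases key (a := some k) (b := some k') (c := none) (d := none)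
        (by show ρ k rA + ρ k' rA = 0 + 0; rw [add_zero, h', neg_add_cancel]) with e | e <;> cases e
    · rcases key (a := some α') (b := some k) (c := some β') (d := none)
        (by show ρ α' rA + ρ k rA = ρ β' rA + 0
            rw [add_zero, ← sub_eq_zero, add_sub_right_comm, ← h', neg_add_cancel]) with e | e
      · cases e; exact absurd rfl hαβ'
      · cases e
    · rcases key (a := some k) (b := some k') (c := none) (d := none)
        (by show ρ k rA + ρ k' rA = 0 + 0; rw [add_zero, ← h', add_neg_cancel]) with e | e <;> cases e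
    · rw [hfree k k' (congrArg (2 • ·) (neg_injective h'))]
  have hcardC : Nat.card C + 1 = qOf Q := by
    have : Nat.card C = Nat.card (Cfsg.invertedBy (twoStab G a t) t) :=
      Nat.card_congr (Equiv.setCongr hC)
    rw [this, card_inverted hS, ← hR.qOf_eq]
  have hcardA : Nat.card {x : A // 2 • x ≠ 0} + qOf Q = qOf Q ^ 2 := by
    have h0 : Nat.card {x : A // 2 • x = 0} = qOf Q := by
      rw [← hker]
      exact Nat.card_congr (Equiv.subtypeEquiv Additive.toMul fun x => by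
        rw [MonoidHom.mem_ker, two]; exact Iff.rfl)
    have hsum := Nat.card_congr (Equiv.sumCompl (fun x : A => 2 • x = 0))
    rw [Nat.card_sum, h0, show Nat.card A = Nat.card Q from rfl, hn] at hsum
    show Nat.card {x : A // ¬ 2 • x = 0} + qOf Q = qOf Q ^ 2
    omega
  have hle : Nat.card {x : A // 2 • x ≠ 0} ≤ Nat.card (Pr ⊕ (C ⊕ C)) := by
    have hd : Nat.card {p : C × C // p.1 = p.2} = Nat.card C :=
      Nat.card_congr { toFun := fun p => p.1.1, invFun := fun k => ⟨(k, k), rfl⟩,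
                       left_inv := fun p => Subtype.ext (Prod.ext rfl p.2), right_inv := fun _ => rfl }
    have hp := Nat.card_congr (Equiv.sumCompl (fun p : C × C => p.1 = p.2))
    rw [Nat.card_sum, hd, Nat.card_prod] at hp
    rw [Nat.card_sum, Nat.card_sum]
    rw [← hcardC, pow_two] at hcardA
    change Nat.card C + Nat.card Pr = _ at hp
    nlinarith
  have hcov := (hΦ.bijective_of_nat_card_le hle).2
  have hall : ∀ x ∈ Q, x ≠ 1 → HMem t Q C x := by
    intro x hx hx1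
    by_cases hxx : x * x = 1
    · obtain ⟨k, hk⟩ := hinv hx hx1 hxx
      rw [hk]
      exact ⟨_, conj_mem_Q hS hCD hCt k.2 (inv_mem hrQ), _, mul_mem k.2 k.2, _,
        conj_mem_Q hS hCD hCt k.2 hrQ, hmem_conj_s hS hCD hCt hrQ heq k.2⟩
    obtain ⟨o, ho⟩ := hcov ⟨Additive.ofMul (⟨x, hx⟩ : Q), fun h => hxx (by
      rwa [hzero, hcoe2] at h)⟩
    have ho' : x = ((Additive.toMul (Φ o).1 : Q) : G) := by rw [ho]; rfl
    rw [ho']
    rcases o with ⟨⟨α, β⟩, hαβ⟩ | k | k
    · show HMem t Q C ((Additive.toMul (ρ α rA - ρ β rA) : Q) : G)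
      rw [toMul_sub, Subgroup.coe_div, div_eq_mul_inv, hρ, hρ]
      simp only [rA, toMul_ofMul]
      have hmid : HMem t Q C (((α : G) * r * (α : G)⁻¹) * ((β : G) * r⁻¹ * (β : G)⁻¹)) := by
        refine hmem_middle hS hCD hCt hrQ heq (conj_mem_Q hS hCD hCt α.2 (inv_mem hrQ))
          (mul_mem α.2 α.2) (mul_mem β.2 β.2) (conj_mem_Q hS hCD hCt β.2 hrQ)
          (hmem_conj_s hS hCD hCt hrQ heq α.2) (hmem_conj_s hS hCD hCt hrQ heq β.2) ?_
        have hQ' : (α : G)⁻¹ * s * α * ((β : G)⁻¹ * s * β) ∈ Q :=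
          mul_mem (conj_mem_Q' hS hCD hCt α.2 hsQ) (conj_mem_Q' hS hCD hCt β.2 hsQ)
        have hne1 : (α : G)⁻¹ * s * α * ((β : G)⁻¹ * s * β) ≠ 1 := fun e => hαβ (Subtype.ext
          (inverted_conj_inj hS hs ((hmemC _).1 α.2) ((hmemC _).1 β.2) (by
            rw [mul_eq_one_iff_eq_inv.1 e]
            simp only [mul_inv_rev, inv_inv, inv_eq_self hs.2.2]
            group)))
        have hsq1 : (α : G)⁻¹ * s * α * ((β : G)⁻¹ * s * β) *
            ((α : G)⁻¹ * s * α * ((β : G)⁻¹ * s * β)) = 1 := by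
          have ec := hab _ (conj_mem_Q' hS hCD hCt β.2 hsQ) _ (conj_mem_Q' hS hCD hCt α.2 hsQ)
          calc _ = (α : G)⁻¹ * s * α * (((β : G)⁻¹ * s * β) * ((α : G)⁻¹ * s * α)) *
              ((β : G)⁻¹ * s * β) := by group
            _ = (α : G)⁻¹ * (s * s) * α * ((β : G)⁻¹ * (s * s) * β) := by rw [ec]; group
            _ = 1 := by rw [hs.2.2]; group
        obtain ⟨k, hk⟩ := hinv hQ' hne1 hsq1
        rw [hk]
        exact ⟨_, conj_mem_Q hS hCD hCt k.2 (inv_mem hrQ), _, mul_mem k.2 k.2, _,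
          conj_mem_Q hS hCD hCt k.2 hrQ, hmem_conj_s hS hCD hCt hrQ heq k.2⟩
      convert hmid using 1
      group
    · exact hmem_r hS hCD hCt hrQ heq k.2 hsQ
    · exact hmem_inv hS hCD hCt (hmem_r hS hCD hCt hrQ heq k.2 hsQ)
  have hle' := twoStab_le_of_hmem hS hCD hCt hG hall
  refine (Subgroup.eq_bot_iff_forall _).2 fun v hv => ?_
  have hvC := hle' hv.1
  have h1 := hCt v hvC
  rw [← Subgroup.mem_centralizer_singleton_iff.1 hv.2, mul_assoc, hS.mul_self, mul_one] at h1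
  exact eq_one_of_mul_self (odd_orderOf_of_mem hS.odd_card hv.1) (eq_inv_iff_mul_eq_one.1 h1)

end Cfsg.Agent.Suz27
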