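import Cfsg.Agent.Suz27.FpfFormula

/-!
The order formula for nilpotent groups, by induction along the centre.
-/

set_option autoImplicit false

namespace Cfsg.Agent.Suz27.Fpf

universe u

private lemma iterate_conj {X : Type u} [Group X] (φ : MulAut X) (n : ℕ) (x : X) :
    (φ ^ (n + 1)) x = φ ((φ ^ n) x) := by rw [pow_succ']; rfl

/-- Induced automorphism of the centre. -/
def centerAut {X : Type u} [Group X] : MulAut X →* MulAut (Subgroup.center X) where
  toFun φ :=
    { toFun := fun z => ⟨φ z, Subgroup.mem_center_iff.2 fun g => by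
        obtain ⟨y, rfl⟩ := φ.surjective g
        rw [← map_mul, ← map_mul, Subgroup.mem_center_iff.1 z.2]⟩
      invFun := fun z => ⟨φ.symm z, Subgroup.mem_center_iff.2 fun g => by
        obtain ⟨y, rfl⟩ := φ.symm.surjective g
        rw [← map_mul, ← map_mul, Subgroup.mem_center_iff.1 z.2]⟩
      left_inv := fun z => Subtype.ext (φ.symm_apply_apply z)
      right_inv := fun z => Subtype.ext (φ.apply_symm_apply z)
      map_mul' := fun z w => Subtype.ext (map_mul φ _ _) }
  map_one' := MulEquiv.ext fun _ => rfl
  map_mul' _ _ := MulEquiv.ext fun _ => rfl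

/-- Induced automorphism of the central quotient. -/
def quotAut {X : Type u} [Group X] : MulAut X →* MulAut (X ⧸ Subgroup.center X) where
  toFun φ := QuotientGroup.congr _ _ φ (by
    ext z
    simp only [Subgroup.mem_map, Subgroup.mem_center_iff]
    constructor
    · rintro ⟨w, hw, rfl⟩ g
      obtain ⟨y, rfl⟩ := φ.surjective g
      show φ y * φ w = φ w * φ y
      rw [← map_mul, ← map_mul, hw]
    · intro hz
      refine ⟨φ.symm z, fun g => φ.injective ?_, φ.apply_symm_apply z⟩
      rw [map_mul, map_mul, φ.apply_symm_apply, hz])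
  map_one' := MulEquiv.ext fun x => by
    induction x using QuotientGroup.induction_on with | H y => rfl
  map_mul' _ _ := MulEquiv.ext fun x => by
    induction x using QuotientGroup.induction_on with | H y => rfl

/-- The order formula. -/
theorem card_eq_fixed_pow : ∀ (X : Type u) [Group X] [Finite X] [Group.IsNilpotent X]
    (σ φ : MulAut X) {ℓ p c : ℕ}, ℓ.Prime → p.Prime → σ ^ ℓ = 1 → φ ^ p = 1 →
    (c : ZMod ℓ) ≠ 1 → φ * σ = σ ^ c * φ → (∀ x, σ x = x → x = 1) →
    Nat.card X = Nat.card {x : X // φ x = x} ^ p := by
  intro X _ _ _ σ φ ℓ p c hℓ hp hσ hφ hc hrel hfix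
  induction hn : Nat.card X using Nat.strong_induction_on generalizing X with
  | _ n ih =>
    subst hn
    rcases subsingleton_or_nontrivial X with hX | hX
    · haveI : Unique X := ⟨⟨1⟩, fun x => Subsingleton.elim _ _⟩
      haveI : Unique {x : X // φ x = x} :=
        ⟨⟨⟨1, map_one φ⟩⟩, fun x => Subtype.ext (Subsingleton.elim _ _)⟩
      simp
    set Z := Subgroup.center X with hZ
    haveI : Nontrivial Z := (Subgroup.nontrivial_iff_ne_bot _).2 (Group.IsNilpotent.center_ne_bot X)
    letI : CommGroup Z := { (inferInstance : Group Z) with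
      mul_comm := fun x y => Subtype.ext (Subgroup.mem_center_iff.1 y.2 x) }
    let T : MulAut Z →* AddMonoid.End (Additive Z) :=
      { toFun := fun f => (f.toMonoidHom.toAdditive : Additive Z →+ Additive Z)
        map_one' := rfl
        map_mul' := fun _ _ => rfl }
    have hT : ∀ (f : MulAut X) (z : Z),
        ((Additive.toMul (T (centerAut f) (Additive.ofMul z)) : Z) : X) = f z := fun _ _ => rfl
    obtain ⟨hcard, hcomm⟩ := abelian_formula (E := Additive Z) (σ := T (centerAut σ))
      (φ := T (centerAut φ)) (c := c) hℓ hp
      (by rw [← map_pow, ← map_pow, hσ, map_one, map_one])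
      (by rw [← map_pow, ← map_pow, hφ, map_one, map_one]) hc
      (by rw [← map_mul, ← map_mul, hrel, map_mul, map_mul, map_pow, map_pow])
      (fun e he => by
        refine Additive.toMul.injective (Subtype.ext (hfix _ ?_))
        exact congrArg (fun z : Additive Z => ((Additive.toMul z : Z) : X)) he)
    have hZfix : Nat.card {e : Additive Z // T (centerAut φ) e = e} =
        Nat.card {z : Z // φ (z : X) = z} :=
      Nat.card_congr (Equiv.subtypeEquiv Additive.toMul fun e =>
        ⟨fun h => congrArg (fun z : Additive Z => ((Additive.toMul z : Z) : X)) h,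
          fun h => Additive.toMul.injective (Subtype.ext h)⟩)
    -- the quotient
    have hqfix : ∀ x : X ⧸ Z, quotAut σ x = x → x = 1 := by
      intro x
      induction x using QuotientGroup.induction_on with
      | H y =>
        intro h
        have hz : σ y * y⁻¹ ∈ Z := QuotientGroup.eq_iff_div_mem.1 h |> fun h' => by
          rwa [div_eq_mul_inv] at h'
        have hinj : Function.Injective (fun z : Z => centerAut σ z * z⁻¹) := by
          intro z w hzw
          have h1 : centerAut σ z * (centerAut σ w)⁻¹ = z * w⁻¹ := by
            have e : centerAut σ z * z⁻¹ = centerAut σ w * w⁻¹ := hzw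
            have e' : centerAut σ z * (centerAut σ w)⁻¹ =
                (centerAut σ z * z⁻¹) * (centerAut σ w * w⁻¹)⁻¹ * (z * w⁻¹) := by
              simp [mul_inv_rev, mul_comm, mul_left_comm, mul_assoc]
            rw [e', e, mul_inv_cancel, one_mul]
          rw [← map_inv, ← map_mul] at h1
          have := hfix _ (congrArg Subtype.val h1)
          exact eq_of_mul_inv_eq_one (Subtype.ext this)
        obtain ⟨w, hw⟩ := Finite.surjective_of_injective hinj ⟨_, hz⟩
        have hw' : σ (w : X) * (w : X)⁻¹ = σ y * y⁻¹ := congrArg Subtype.val hw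
        have hy : σ ((w : X)⁻¹ * y) = (w : X)⁻¹ * y := by
          rw [map_mul, map_inv]
          calc (σ (w : X))⁻¹ * σ y = (σ (w : X))⁻¹ * ((σ y * y⁻¹) * y) := by group
            _ = _ := by rw [← hw']; group
        have := hfix _ hy
        rw [inv_mul_eq_one] at this
        rw [← this]
        exact (QuotientGroup.eq_one_iff _).2 w.2
    have hlt : Nat.card (X ⧸ Z) < Nat.card X := by
      have h1 := Subgroup.card_eq_card_quotient_mul_card_subgroup Z
      have h2 : 1 < Nat.card Z := Finite.one_lt_card
      have h3 : 0 < Nat.card (X ⧸ Z) := Nat.card_pos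
      nlinarith
    have hq := ih _ hlt (X ⧸ Z) (quotAut σ) (quotAut φ)
      (by rw [← map_pow, hσ, map_one]) (by rw [← map_pow, hφ, map_one])
      (by rw [← map_mul, hrel, map_mul, map_pow]) hqfix rfl
    -- fixed points lift
    let C : Subgroup X :=
      { carrier := {x | φ x = x}
        one_mem' := map_one φ
        mul_mem' := fun {x y} hx hy => by
          show φ (x * y) = x * y
          rw [map_mul, hx, hy]
        inv_mem' := fun {x} hx => by
          show φ x⁻¹ = x⁻¹
          rw [map_inv, hx] }
    let D : Subgroup (X ⧸ Z) :=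
      { carrier := {x | quotAut φ x = x}
        one_mem' := map_one _
        mul_mem' := fun {x y} hx hy => by
          show quotAut φ (x * y) = x * y
          rw [map_mul, hx, hy]
        inv_mem' := fun {x} hx => by
          show quotAut φ x⁻¹ = x⁻¹
          rw [map_inv, hx] }
    let π : C →* D :=
      { toFun := fun x => ⟨QuotientGroup.mk (x : X), congrArg QuotientGroup.mk x.2⟩
        map_one' := Subtype.ext rfl
        map_mul' := fun _ _ => Subtype.ext rfl }
    have hπ : Function.Surjective π := by
      rintro ⟨x, hx⟩
      induction x using QuotientGroup.induction_on with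
      | H y =>
        have hz : φ y * y⁻¹ ∈ Z := QuotientGroup.eq_iff_div_mem.1 hx |> fun h' => by
          rwa [div_eq_mul_inv] at h'
        set z : Z := ⟨_, hz⟩
        have hnorm : ∀ m : ℕ, ((∏ k ∈ Finset.range m, ((centerAut φ) ^ k) z : Z) : X) =
            (φ ^ m) y * y⁻¹ := by
          intro m
          induction m with
          | zero => simp
          | succ m ihm =>
            rw [Finset.prod_range_succ, Subgroup.coe_mul, ihm, ← map_pow]
            show _ * (φ ^ m) (φ y * y⁻¹) = _
            have hc' := Subgroup.mem_center_iff.1 ((centerAut (φ ^ m)) z).2 ((φ ^ m) y * y⁻¹)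
            change (φ ^ m) y * y⁻¹ * (φ ^ m) (φ y * y⁻¹) = (φ ^ m) (φ y * y⁻¹) * _ at hc'
            rw [hc', map_mul, map_inv, pow_succ]
            show _ = (φ ^ m) (φ y) * y⁻¹
            group
        obtain ⟨w, hw⟩ := hcomm (Additive.ofMul z) (by
          have h1 := hnorm p
          rw [hφ] at h1
          simp only [← map_pow]
          have h2 : (∏ k ∈ Finset.range p, (centerAut φ ^ k) z : Z) = 1 :=
            Subtype.ext (h1.trans (mul_inv_cancel y))
          rw [← ofMul_one, ← h2, ofMul_prod]
          exact Finset.sum_congr rfl fun k _ => by rw [map_pow]; rfl)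
        set w' : Z := Additive.toMul w
        have hw' : (w' : X) * (φ (w' : X))⁻¹ = φ y * y⁻¹ := by
          have := congrArg (fun e : Additive Z => ((Additive.toMul e : Z) : X)) hw
          simp only [toMul_sub, div_eq_mul_inv, Subgroup.coe_mul, Subgroup.coe_inv,
            toMul_ofMul] at this
          exact this
        refine ⟨⟨(w' : X) * y, ?_⟩, Subtype.ext ?_⟩
        · show φ ((w' : X) * y) = w' * y
          rw [map_mul]
          have hcm := Subgroup.mem_center_iff.1 w'.2 (φ (w' : X))
          calc φ (w' : X) * φ y = φ (w' : X) * ((φ y * y⁻¹) * y) := by group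
            _ = φ (w' : X) * w' * (φ (w' : X))⁻¹ * y := by rw [← hw']; group
            _ = _ := by rw [hcm]; group
        · show QuotientGroup.mk ((w' : X) * y) = QuotientGroup.mk y
          rw [QuotientGroup.mk_mul, (QuotientGroup.eq_one_iff _).2 w'.2, one_mul]
    have hker : Nat.card π.ker = Nat.card {z : Z // φ (z : X) = z} := Nat.card_congr
      { toFun := fun x => ⟨⟨((x : C) : X),
          (QuotientGroup.eq_one_iff _).1 (congrArg Subtype.val x.2)⟩, (x : C).2⟩
        invFun := fun z => ⟨⟨z.1, z.2⟩, Subtype.ext ((QuotientGroup.eq_one_iff _).2 z.1.2)⟩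
        left_inv := fun _ => rfl
        right_inv := fun _ => rfl }
    have hC : Nat.card C = Nat.card D * Nat.card {z : Z // φ (z : X) = z} := by
      rw [← hker, Subgroup.card_eq_card_quotient_mul_card_subgroup π.ker,
        Nat.card_congr (QuotientGroup.quotientKerEquivOfSurjective π hπ).toEquiv]
    show Nat.card X = Nat.card C ^ p
    have hAdd : Nat.card (Additive Z) = Nat.card Z := Nat.card_congr Additive.toMul
    rw [hC, mul_pow, ← hZfix, ← hcard, hAdd]
    show Nat.card X = Nat.card {x : X ⧸ Z // quotAut φ x = x} ^ p * _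
    rw [← hq]
    exact Subgroup.card_eq_card_quotient_mul_card_subgroup Z

end Cfsg.Agent.Suz27.Fpf
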