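import Mathlib

/-!
An automorphism of prime order normalising a cyclic group that is transitive on the non-identity
elements of an elementary abelian 2-group and fixing one of them is a field automorphism: the
order of the group is a `p`th power of that of the fixed group.  Plus the prime divisor of
`(Q ^ p - 1) / (Q - 1)` not dividing `Q - 1`.
-/

set_option autoImplicit false

namespace Cfsg.Agent.Suz27

/-- The semilinear situation. -/
theorem card_semilinear {E : Type*} [AddCommGroup E] [Finite E] (f φ : AddMonoid.End E)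
    {s : E} (hs : s ≠ 0) (hfinj : Function.Injective f)
    (htr : ∀ e : E, e ≠ 0 → ∃ j : ℕ, (f ^ j) s = e) (hφs : φ s = s)
    {c : ℕ} (hrel : φ * f = f ^ c * φ) {p : ℕ} (hp : p.Prime) (hφp : φ ^ p = 1) (hφ1 : φ ≠ 1) :
    Nat.card E = Nat.card {e : E // φ e = e} ^ p := by
  classical
  have hmul : ∀ (x y : AddMonoid.End E) (e : E), (x * y) e = x (y e) := fun _ _ _ => rfl
  have hfj : ∀ j : ℕ, Function.Injective (f ^ j) := fun j => by
    induction j with
    | zero => exact fun x y h => h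
    | succ j ih =>
      intro x y h
      rw [pow_succ, hmul, hmul] at h
      exact hfinj (ih h)
  haveI : Finite (AddMonoid.End E) := Finite.of_injective (fun x : AddMonoid.End E => (x : E → E))
    DFunLike.coe_injective
  let A : Subring (AddMonoid.End E) := Subring.closure {f}
  letI : CommRing A := Subring.closureCommRingOfComm fun x hx y hy => by
    rw [Set.mem_singleton_iff.1 hx, Set.mem_singleton_iff.1 hy]
  have hfA : f ∈ A := Subring.subset_closure (Set.mem_singleton f)
  have hcomm : ∀ x ∈ A, ∀ y ∈ A, x * y = y * x := fun x hx y hy =>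
    congrArg Subtype.val (mul_comm (⟨x, hx⟩ : A) ⟨y, hy⟩)
  have heval : ∀ x ∈ A, x s = 0 → x = 0 := by
    intro x hx h
    refine AddMonoidHom.ext fun e => ?_
    rcases eq_or_ne e 0 with rfl | he
    · exact map_zero x
    obtain ⟨j, rfl⟩ := htr e he
    show x ((f ^ j) s) = 0
    rw [← hmul, hcomm x hx _ (A.pow_mem hfA j), hmul, h, map_zero]
  have hev : Function.Bijective (fun x : A => (x : AddMonoid.End E) s) := by
    refine ⟨fun x y h => ?_, fun e => ?_⟩
    · refine Subtype.ext (sub_eq_zero.1 (heval _ (A.sub_mem x.2 y.2) ?_))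
      show (x : AddMonoid.End E) s - (y : AddMonoid.End E) s = 0
      exact sub_eq_zero.2 h
    · rcases eq_or_ne e 0 with rfl | he
      · exact ⟨0, rfl⟩
      · obtain ⟨j, rfl⟩ := htr e he
        exact ⟨⟨f ^ j, A.pow_mem hfA j⟩, rfl⟩
  haveI : Nontrivial A := ⟨⟨1, 0, fun h => hs (congrArg (fun z : A => (z : AddMonoid.End E) s) h)⟩⟩
  haveI : NoZeroDivisors A := ⟨fun {x y} hxy => by
    rcases eq_or_ne ((y : AddMonoid.End E) s) 0 with h | h
    · exact Or.inr (Subtype.ext (heval _ y.2 h))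
    refine Or.inl (Subtype.ext (heval _ x.2 ?_))
    obtain ⟨j, hj⟩ := htr _ h
    have e : (x : AddMonoid.End E) ((y : AddMonoid.End E) s) = 0 :=
      congrArg (fun z : A => (z : AddMonoid.End E) s) hxy
    rw [← hj, ← hmul, hcomm _ x.2 _ (A.pow_mem hfA j), hmul] at e
    exact hfj j (e.trans (map_zero (f ^ j)).symm)⟩
  haveI : IsDomain A := NoZeroDivisors.to_isDomain A
  haveI : Fintype A := Fintype.ofFinite A
  letI : Field A := Fintype.fieldOfDomain A
  set φ' := φ ^ (p - 1) with hφ'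
  have hl : φ' * φ = 1 := by rw [hφ', ← pow_succ, Nat.sub_add_cancel hp.one_le, hφp]
  have hr : φ * φ' = 1 := by rw [hφ', ← pow_succ', Nat.sub_add_cancel hp.one_le, hφp]
  have hA : ∀ x ∈ A, φ * x * φ' ∈ A := by
    intro x hx
    induction hx using Subring.closure_induction with
    | mem z hz =>
      rw [Set.mem_singleton_iff.mp hz, hrel, mul_assoc, hr, mul_one]
      exact A.pow_mem hfA c
    | zero => simp [A.zero_mem]
    | one => rw [mul_one, hr]; exact A.one_mem
    | add x y _ _ ihx ihy => rw [mul_add, add_mul]; exact A.add_mem ihx ihy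
    | neg x _ ih => rw [mul_neg, neg_mul]; exact A.neg_mem ih
    | mul x y _ _ ihx ihy =>
      have e : φ * (x * y) * φ' = φ * x * φ' * (φ * y * φ') := by
        simp only [mul_assoc]
        rw [← mul_assoc φ' φ, hl, one_mul]
      rw [e]; exact A.mul_mem ihx ihy
  let θ₀ : A →+* A :=
    { toFun := fun x => ⟨φ * x * φ', hA x x.2⟩
      map_one' := Subtype.ext (by simp [hr])
      map_mul' := fun x y => Subtype.ext (by
        show φ * ((x : AddMonoid.End E) * y) * φ' = φ * x * φ' * (φ * y * φ')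
        simp only [mul_assoc]
        rw [← mul_assoc φ' φ, hl, one_mul])
      map_zero' := Subtype.ext (by simp)
      map_add' := fun x y => Subtype.ext (by simp [mul_add, add_mul]) }
  have hφinj : Function.Injective θ₀ := θ₀.injective
  let θ : A ≃+* A := RingEquiv.ofBijective θ₀ (Finite.injective_iff_bijective.1 hφinj)
  have hφ's : φ' s = s := by
    have := congrArg (fun g : AddMonoid.End E => g s) hl
    simpa [hmul, hφs] using this
  have hθ : ∀ x : A, ((θ x : A) : AddMonoid.End E) s = φ ((x : AddMonoid.End E) s) := fun x => by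
    show (φ * (x : AddMonoid.End E) * φ') s = _
    rw [hmul, hmul, hφ's]
  have hθn : ∀ (n : ℕ) (x : A), (((θ ^ n) x : A) : AddMonoid.End E) s =
      (φ ^ n) ((x : AddMonoid.End E) s) := by
    intro n
    induction n with
    | zero => exact fun _ => rfl
    | succ n ih =>
      intro x
      rw [pow_succ' θ, pow_succ' φ, hmul, ← ih]
      exact hθ _
  have hord : orderOf θ = p := by
    haveI := Fact.mk hp
    refine orderOf_eq_prime (RingEquiv.ext fun x => hev.1 ?_) fun h => hφ1 ?_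
    · show (((θ ^ p) x : A) : AddMonoid.End E) s = _
      rw [hθn, hφp]
      rfl
    · refine AddMonoidHom.ext fun e => ?_
      obtain ⟨x, rfl⟩ := hev.2 e
      show φ ((x : AddMonoid.End E) s) = (x : AddMonoid.End E) s
      rw [← hθ, h]
      rfl
  haveI : Finite (A ≃+* A) := Finite.of_injective (fun e : A ≃+* A => (e : A → A)) DFunLike.coe_injective
  let Γ := Subgroup.zpowers θ
  haveI : Fintype Γ := Fintype.ofFinite Γ
  have hΓ : Fintype.card Γ = p := by rw [← Nat.card_eq_fintype_card, Nat.card_zpowers, hord]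
  haveI : FaithfulSMul Γ A := ⟨fun {g h} e => Subtype.ext (RingEquiv.ext fun x => e x)⟩
  have hfix : ∀ x : A, x ∈ FixedPoints.subfield Γ A ↔ θ x = x := by
    intro x
    refine ⟨fun h => h ⟨θ, Subgroup.mem_zpowers θ⟩, fun h => ?_⟩
    rintro ⟨g, hg⟩
    obtain ⟨n, -, rfl⟩ := (mem_zpowers_iff_mem_range_orderOf (x := θ)).1 hg |> fun h' => by
      simpa [Finset.mem_image] using h'
    show (θ ^ n) x = x
    clear hg
    induction n with
    | zero => rfl
    | succ n ih => rw [pow_succ]; show (θ ^ n) (θ x) = x; rw [h, ih]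
  have hcard := Module.natCard_eq_pow_finrank (K := FixedPoints.subfield Γ A) (V := A)
  rw [FixedPoints.finrank_eq_card Γ A, hΓ] at hcard
  rw [← Nat.card_congr (Equiv.ofBijective _ hev), hcard]
  congr 1
  refine Nat.card_congr (Equiv.subtypeEquiv (Equiv.ofBijective _ hev) fun x => ?_)
  rw [hfix]
  show θ x = x ↔ φ ((x : AddMonoid.End E) s) = (x : AddMonoid.End E) s
  rw [← hθ]
  exact ⟨fun h => by rw [h], fun h => hev.1 h⟩

/-- A prime dividing `Q ^ p - 1` but not `Q - 1`. -/
theorem exists_prime_dvd_pow_sub_one {Q p : ℕ} (hQ : 2 ≤ Q) (hp : p.Prime) (hp2 : p ≠ 2) :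
    ∃ ℓ : ℕ, ℓ.Prime ∧ ℓ ∣ Q ^ p - 1 ∧ ¬ ℓ ∣ Q - 1 := by
  haveI := Fact.mk hp
  set N := ∑ i ∈ Finset.range p, Q ^ i with hN
  have hmul : (Q - 1) * N + 1 = Q ^ p := by
    obtain ⟨a, rfl⟩ : ∃ a, Q = a + 1 := ⟨Q - 1, by omega⟩
    rw [Nat.add_sub_cancel, mul_comm]
    exact geom_sum_mul_add a p
  have hNd : N ∣ Q ^ p - 1 := ⟨Q - 1, by rw [← hmul, Nat.add_sub_cancel, mul_comm]⟩
  have hpN : p < N := by
    calc p = ∑ i ∈ Finset.range p, 1 := by simp
      _ < N := Finset.sum_lt_sum (fun i _ => Nat.one_le_pow _ _ (by omega))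
        ⟨1, Finset.mem_range.2 hp.one_lt, by rw [pow_one]; omega⟩
  by_contra hcon
  push Not at hcon
  have hall : ∀ ℓ : ℕ, ℓ.Prime → ℓ ∣ N → ℓ = p := by
    intro ℓ hℓ hd
    have h1 := hcon ℓ hℓ (hd.trans hNd)
    haveI := Fact.mk hℓ
    have hQ1 : (Q : ZMod ℓ) = 1 := by
      have := (ZMod.natCast_eq_zero_iff _ _).2 h1
      rwa [Nat.cast_sub (by omega), Nat.cast_one, sub_eq_zero] at this
    have hp0 : (p : ZMod ℓ) = 0 := by
      have hN0 := (ZMod.natCast_eq_zero_iff _ _).2 hd
      rw [hN, Nat.cast_sum] at hN0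
      simpa [hQ1] using hN0
    exact (Nat.prime_dvd_prime_iff_eq hℓ hp).1 ((ZMod.natCast_eq_zero_iff _ _).1 hp0)
  have hN0 : N ≠ 0 := by omega
  obtain ⟨e, he⟩ : ∃ e, N = p ^ e := ⟨_, Nat.eq_prime_pow_of_unique_prime_dvd hN0
    fun {d} hd hdvd => hall d hd hdvd⟩
  have he2 : 2 ≤ e := by
    by_contra h
    interval_cases e <;> simp only [pow_zero, pow_one] at he <;> have := hp.one_lt <;> omega
  have hpQ : p ∣ Q - 1 := hcon p hp ((Dvd.intro_left _ (by
    rw [← pow_succ, Nat.sub_add_cancel (show 1 ≤ e by omega), ← he] : p ^ (e - 1) * p = N)).trans hNd)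
  obtain ⟨m, hm⟩ := hpQ
  have hQm : (Q : ZMod (p ^ 2)) = 1 + (p * m : ℕ) := by
    rw [← hm, Nat.cast_sub (by omega : 1 ≤ Q)]; push_cast; ring
  have hsq : (((p * m : ℕ)) : ZMod (p ^ 2)) * ((p * m : ℕ) : ZMod (p ^ 2)) = 0 := by
    rw [← Nat.cast_mul, ZMod.natCast_eq_zero_iff]
    exact ⟨m * m, by ring⟩
  have hpow : ∀ i : ℕ, (Q : ZMod (p ^ 2)) ^ i = 1 + i * ((p * m : ℕ) : ZMod (p ^ 2)) := by
    intro i
    induction i with
    | zero => simp
    | succ i ih =>
      rw [pow_succ (Q : ZMod (p ^ 2)), ih, hQm, Nat.cast_succ]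
      linear_combination (i : ZMod (p ^ 2)) * hsq
  have hN2 : (N : ZMod (p ^ 2)) = p := by
    rw [hN, Nat.cast_sum]
    simp only [Nat.cast_pow, hpow, Finset.sum_add_distrib, ← Finset.sum_mul,
      Finset.sum_const, Finset.card_range, Nat.smul_one_eq_cast]
    rw [← Nat.cast_sum, Finset.sum_range_id]
    have h0 : ((p * (p - 1) / 2 : ℕ) : ZMod (p ^ 2)) * ((p * m : ℕ) : ZMod (p ^ 2)) = 0 := by
      rw [← Nat.cast_mul, ZMod.natCast_eq_zero_iff]
      obtain ⟨k, hk⟩ := (hp.odd_of_ne_two hp2)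
      refine ⟨k * m, ?_⟩
      rw [show p - 1 = k * 2 by omega, show p * (k * 2) = p * k * 2 by ring, Nat.mul_div_cancel _ two_pos]
      ring
    rw [h0, add_zero]
  have h0 : (p : ZMod (p ^ 2)) = 0 := by
    rw [← hN2, ZMod.natCast_eq_zero_iff, he]
    exact pow_dvd_pow p he2
  rw [ZMod.natCast_eq_zero_iff] at h0
  have := Nat.le_of_dvd hp.pos h0
  have := hp.two_le
  nlinarith

end Cfsg.Agent.Suz27
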