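import Cfsg.Agent.Suz27.Defs
import Cfsg.Agent.Suz27.FpfNilpotent
import Cfsg.Agent.Suz27.Semilinear
import Cfsg.Agent.RankOneK.Results
import Cfsg.Agent.PF14.Compose

/-!
The Frobenius lemma of the rank one theorem: an element of prime order `p` of `V` outside `W`
raises orders of fixed groups on invariant subgroups of `Q` to the `p`th power.
-/

set_option autoImplicit false

namespace Cfsg.Agent.Suz27

open MulAction RankOne

universe u v

variable {G : Type u} {Ω : Type v} [Group G] [Finite G] [MulAction G Ω] {a : Ω} {t : G}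
  {Q : Subgroup G}

theorem isNilpotent_of_le (Q X : Subgroup G) [Group.IsNilpotent Q] (hX : X ≤ Q) : Group.IsNilpotent X :=
  Group.nilpotent_of_mulEquiv (Subgroup.subgroupOfEquivOfLe hX)

namespace R1

section
variable (hR : R1 G Ω a t Q)
include hR

theorem inverted_cyclic :
    ∃ g ∈ Cfsg.invertedBy (twoStab G a t) t,
      (∀ k, k ∈ Cfsg.invertedBy (twoStab G a t) t ↔ k ∈ Subgroup.zpowers g) ∧
      ∀ d ∈ twoStab G a t, d * g * d⁻¹ ∈ Subgroup.zpowers g := by
  haveI := hR.faithful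
  obtain ⟨g, hg, hK, hn, -⟩ := RankOneK.structure_twoStab PF14.feitThompson hR.setup hR.rank2
  exact ⟨g, hg, hK, hn⟩

/-- The elements of square one of `Q`, as a subgroup. -/
def omega : Subgroup G where
  carrier := {x | x ∈ Q ∧ x * x = 1}
  one_mem' := ⟨Q.one_mem, one_mul 1⟩
  mul_mem' := fun {x y} hx hy => by
    refine ⟨mul_mem hx.1 hy.1, ?_⟩
    rcases eq_or_ne x 1 with rfl | hx1
    · rw [one_mul]; exact hy.2
    have hc := invol_central hR.setup hR.rank2 ⟨hx1, hx.2⟩ (hR.setup.le hx.1) hy.1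
    calc x * y * (x * y) = x * (y * x) * y := by group
      _ = (x * x) * (y * y) := by rw [← hc]; group
      _ = 1 := by rw [hx.2, hy.2, one_mul]
  inv_mem' := fun {x} hx => ⟨inv_mem hx.1, by rw [← mul_inv_rev, hx.2, inv_one]⟩

omit [Finite G] in
theorem mem_involutions {x : G} (hx : x ∈ Q) (hx1 : x ≠ 1) (hxx : x * x = 1) :
    x ∈ Cfsg.involutionsIn (stabilizer G a : Set G) := ⟨hR.setup.le hx, hx1, hxx⟩

theorem two_lt_qOf : 2 < qOf Q := by
  obtain ⟨s, hs, s', hs', hne, -⟩ := exists_two_invol hR.setup hR.rank2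
  have hsQ := invol_mem_Q hR.setup ⟨hs.2.1, hs.2.2⟩ hs.1
  have hs'Q := invol_mem_Q hR.setup ⟨hs'.2.1, hs'.2.2⟩ hs'.1
  have hcard : Nat.card (Fin 3) ≤ qOf Q := Nat.card_le_card_of_injective
    (fun i : Fin 3 => (![⟨1, Q.one_mem, one_mul 1⟩, ⟨s, hsQ, hs.2.2⟩, ⟨s', hs'Q, hs'.2.2⟩] i :
      {x : G // x ∈ Q ∧ x * x = 1})) (fun i j h => by
      have h1 := hs.2.1
      have h2 := hs'.2.1
      fin_cases i <;> fin_cases j <;>
        first
          | rfl
          | (exfalso; have := congrArg Subtype.val h; simp at this; simp_all))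
  have h3 : 3 ≤ qOf Q := by simpa using hcard
  exact h3

end

end R1

/-- **The Frobenius lemma**, with no coprimality assumption. -/
theorem frobenius_card (hR : R1 G Ω a t Q) {v : G} (hv : v ∈ vGrp a t) {p : ℕ} (hp : p.Prime)
    (hord : orderOf v = p) (hvW : v ∉ RankOneK.wker G a t) :
    qOf Q = qOf (Q ⊓ Subgroup.centralizer {v}) ^ p ∧
    ∀ X : Subgroup G, X ≤ Q →
      (∀ k ∈ Cfsg.invertedBy (twoStab G a t) t, ∀ x ∈ X, k * x * k⁻¹ ∈ X) →
      (∀ x ∈ X, v * x * v⁻¹ ∈ X) →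
      Nat.card X = Nat.card ↥(X ⊓ Subgroup.centralizer {v}) ^ p := by
  classical
  have hS := hR.setup
  haveI := hR.faithful
  obtain ⟨hvD, hvt⟩ := Subgroup.mem_inf.1 hv
  rw [Subgroup.mem_centralizer_singleton_iff] at hvt
  obtain ⟨g, hgK, hK, hn⟩ := R1.inverted_cyclic hR
  obtain ⟨c, hc⟩ : ∃ c : ℕ, v * g * v⁻¹ = g ^ c := by
    obtain ⟨c, hc⟩ := mem_powers_iff_mem_zpowers.2 (hn v hvD)
    exact ⟨c, hc.symm⟩
  have hvp : v ^ p = 1 := hord ▸ pow_orderOf_eq_one v
  have hv1 : v ≠ 1 := fun h => hp.one_lt.ne' (by rw [← hord, h, orderOf_one])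
  -- the group of elements of square one
  set Z₀ := R1.omega hR with hZ₀
  letI : CommGroup Z₀ := { (inferInstance : Group Z₀) with
    mul_comm := fun x y => by
      apply Subtype.ext
      rcases eq_or_ne (x : G) 1 with h | h
      · show (x : G) * y = y * x
        rw [h, one_mul, mul_one]
      · exact invol_central hS hR.rank2 ⟨h, x.2.2⟩ (hS.le x.2.1) y.2.1 }
  have hDZ : ∀ (d : twoStab G a t) (x : Z₀), (d : G) * x * (d : G)⁻¹ ∈ Z₀ := fun d x =>
    ⟨hS.conj_mem d (Subgroup.mem_inf.1 d.2).1 x x.2.1, by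
      calc (d : G) * x * (d : G)⁻¹ * (d * x * (d : G)⁻¹) = d * (x * x) * (d : G)⁻¹ := by group
        _ = 1 := by rw [x.2.2]; group⟩
  let ρ : twoStab G a t →* AddMonoid.End (Additive Z₀) :=
    { toFun := fun d =>
        { toFun := fun x => Additive.ofMul ⟨_, hDZ d (Additive.toMul x)⟩
          map_zero' := by
            apply Additive.toMul.injective
            exact Subtype.ext (by simp)
          map_add' := fun x y => by
            apply Additive.toMul.injective
            exact Subtype.ext (by simp [mul_assoc]) }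
      map_one' := by
        refine AddMonoidHom.ext fun x => Additive.toMul.injective (Subtype.ext ?_)
        show (1 : G) * _ * (1 : G)⁻¹ = _
        simp
        rfl
      map_mul' := fun d e => by
        refine AddMonoidHom.ext fun x => Additive.toMul.injective (Subtype.ext ?_)
        show ((d : G) * e) * _ * ((d : G) * e)⁻¹ = d * (e * _ * (e : G)⁻¹) * (d : G)⁻¹
        group }
  have hρ : ∀ (d : twoStab G a t) (x : Z₀),
      ((Additive.toMul (ρ d (Additive.ofMul x)) : Z₀) : G) = d * x * (d : G)⁻¹ := fun _ _ => rfl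
  obtain ⟨s, r, hs, hr, heq⟩ := structure_exists hS
  have hsZ : s ∈ Z₀ := ⟨invol_mem_Q hS ⟨hs.2.1, hs.2.2⟩ hs.1, hs.2.2⟩
  set F : AddMonoid.End (Additive Z₀) := ρ ⟨g, hgK.1⟩ with hF
  set Φ : AddMonoid.End (Additive Z₀) := ρ ⟨v, hvD⟩ with hΦ
  have hsne : Additive.ofMul (⟨s, hsZ⟩ : Z₀) ≠ 0 := fun h =>
    hs.2.1 (congrArg (fun e : Additive Z₀ => ((Additive.toMul e : Z₀) : G)) h)
  have hFinj : Function.Injective F := by
    intro x y h
    have := congrArg (fun e => ρ (⟨g, hgK.1⟩⁻¹) e) h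
    simp only [hF] at this
    change (ρ _ * ρ _) x = (ρ _ * ρ _) y at this
    rwa [← map_mul, inv_mul_cancel, map_one] at this
  have hFtr : ∀ e : Additive Z₀, e ≠ 0 → ∃ j : ℕ, (F ^ j) (Additive.ofMul ⟨s, hsZ⟩) = e := by
    intro e he
    obtain ⟨x, rfl⟩ := Additive.ofMul.surjective e
    have hx1 : (x : G) ≠ 1 := fun h => he (congrArg Additive.ofMul (Subtype.ext h : x = 1))
    obtain ⟨k, hk, hks⟩ := inverted_transitive hS hs (R1.mem_involutions hR x.2.1 hx1 x.2.2)
    obtain ⟨j, hj⟩ := mem_powers_iff_mem_zpowers.2 (inv_mem ((hK k).1 hk))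
    refine ⟨j, ?_⟩
    rw [hF, ← map_pow]
    refine Additive.toMul.injective (Subtype.ext ?_)
    rw [hρ]
    show g ^ j * s * (g ^ j)⁻¹ = (x : G)
    rw [show g ^ j = k⁻¹ from hj, inv_inv, hks]
  have hΦs : Φ (Additive.ofMul ⟨s, hsZ⟩) = Additive.ofMul ⟨s, hsZ⟩ := by
    refine Additive.toMul.injective (Subtype.ext ?_)
    rw [hΦ, hρ]
    show v * s * v⁻¹ = s
    exact mul_inv_eq_iff_eq_mul.2 (comm_of_comm_t hS hs hr heq hvD hvt).2
  have hrel : Φ * F = F ^ c * Φ := by
    rw [hΦ, hF, ← map_pow, ← map_mul, ← map_mul]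
    refine congrArg ρ (Subtype.ext ?_)
    show v * g = g ^ c * v
    rw [← hc, inv_mul_cancel_right]
  have hΦp : Φ ^ p = 1 := by
    rw [hΦ, ← map_pow, show (⟨v, hvD⟩ : twoStab G a t) ^ p = 1 from Subtype.ext hvp, map_one]
  have hΦ1 : Φ ≠ 1 := by
    intro h
    refine hvW ⟨hvD, Subgroup.mem_centralizer_iff.2 fun x hx => ?_⟩
    have hxZ : x ∈ Z₀ := ⟨invol_mem_Q hS ⟨hx.2.1, hx.2.2⟩ hx.1, hx.2.2⟩
    have := congrArg (fun f : AddMonoid.End (Additive Z₀) =>
      ((Additive.toMul (f (Additive.ofMul ⟨x, hxZ⟩)) : Z₀) : G)) h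
    simp only [hΦ, hρ] at this
    change v * x * v⁻¹ = x at this
    exact (mul_inv_eq_iff_eq_mul.1 this).symm
  have hq0 := card_semilinear F Φ hsne hFinj hFtr hΦs hrel hp hΦp hΦ1
  set Qv := Q ⊓ Subgroup.centralizer {v} with hQv
  have hqQ : Nat.card (Additive Z₀) = qOf Q :=
    Nat.card_congr (Additive.toMul.trans (Equiv.subtypeEquivRight fun x => Iff.rfl))
  have hqv : Nat.card {e : Additive Z₀ // Φ e = e} = qOf Qv := Nat.card_congr
    { toFun := fun e => ⟨((Additive.toMul e.1 : Z₀) : G), Subgroup.mem_inf.2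
        ⟨(Additive.toMul e.1 : Z₀).2.1, Subgroup.mem_centralizer_singleton_iff.2
          ((mul_inv_eq_iff_eq_mul.1 (congrArg (fun z : Additive Z₀ =>
            ((Additive.toMul z : Z₀) : G)) e.2)).symm)⟩, (Additive.toMul e.1 : Z₀).2.2⟩
      invFun := fun x => ⟨Additive.ofMul ⟨x.1, (Subgroup.mem_inf.1 x.2.1).1, x.2.2⟩,
        Additive.toMul.injective (Subtype.ext (mul_inv_eq_iff_eq_mul.2
          (Subgroup.mem_centralizer_singleton_iff.1 (Subgroup.mem_inf.1 x.2.1).2).symm))⟩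
      left_inv := fun _ => rfl
      right_inv := fun _ => rfl }
  rw [hqQ, hqv] at hq0
  refine ⟨hq0, fun X hX hKX hvX => ?_⟩
  -- a prime order subgroup of `K` moved by `v`
  set qv := qOf Qv with hqvdef
  have hq2 : 2 < qOf Q := R1.two_lt_qOf hR
  have hqv2 : 2 ≤ qv := by
    by_contra h
    have : qv ^ p ≤ 1 := pow_le_one₀ (by omega) (by omega)
    omega
  have hp2 : p ≠ 2 := by
    intro h
    have := odd_orderOf_of_mem hS.odd_card hvD
    rw [hord, h] at this
    exact absurd this (by decide)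
  obtain ⟨ℓ, hℓ, hℓd, hℓn⟩ := exists_prime_dvd_pow_sub_one hqv2 hp hp2
  haveI := Fact.mk hℓ
  haveI : Fintype G := Fintype.ofFinite G
  -- `K` is regular on the involutions
  have hcardK : Nat.card (Subgroup.zpowers g) = qOf Q - 1 := by
    have h1 : Nat.card (Subgroup.zpowers g) =
        Nat.card (Cfsg.involutionsIn (stabilizer G a : Set G)) := by
      rw [← card_inverted hS]
      exact Nat.card_congr (Equiv.subtypeEquivRight fun k => (hK k).symm)
    have h2 : qOf Q = Nat.card (Cfsg.involutionsIn (stabilizer G a : Set G)) + 1 := by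
      rw [← Finite.card_option]
      refine Nat.card_congr ((Equiv.optionSubtypeNe
        (⟨1, Q.one_mem, one_mul 1⟩ : {x : G // x ∈ Q ∧ x * x = 1})).symm.trans
          (Equiv.optionCongr ?_))
      exact
        { toFun := fun x => ⟨x.1.1, R1.mem_involutions hR x.1.2.1
            (fun h => x.2 (Subtype.ext h)) x.1.2.2⟩
          invFun := fun x => ⟨⟨x.1, invol_mem_Q hS ⟨x.2.2.1, x.2.2.2⟩ x.2.1, x.2.2.2⟩,
            fun h => x.2.2.1 (congrArg Subtype.val h)⟩
          left_inv := fun _ => rfl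
          right_inv := fun _ => rfl }
    omega
  obtain ⟨⟨k, hk⟩, hkord⟩ := exists_prime_orderOf_dvd_card' (G := Subgroup.zpowers g) ℓ
    (by rw [hcardK, hq0]; exact hℓd)
  rw [Subgroup.orderOf_mk] at hkord
  obtain ⟨i, rfl⟩ := mem_powers_iff_mem_zpowers.2 hk
  change orderOf (g ^ i) = ℓ at hkord
  change g ^ i ∈ Subgroup.zpowers g at hk
  have hkK : g ^ i ∈ Cfsg.invertedBy (twoStab G a t) t := (hK _).2 hk
  have hvk : v * g ^ i * v⁻¹ = (g ^ i) ^ c := by
    rw [← conj_pow, hc, ← pow_mul, ← pow_mul, mul_comm]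
  have hcℓ : (c : ZMod ℓ) ≠ 1 := by
    intro h1
    have hfix : v * g ^ i * v⁻¹ = g ^ i := by
      rw [hvk]
      conv_rhs => rw [← pow_one (g ^ i)]
      rw [pow_eq_pow_iff_modEq, hkord]
      exact (ZMod.natCast_eq_natCast_iff _ _ _).1 (by rw [h1, Nat.cast_one])
    apply hℓn
    have hdvd : ℓ ∣ Nat.card ↥(Subgroup.zpowers g ⊓ Subgroup.centralizer {v}) := by
      rw [← hkord]
      exact Subgroup.orderOf_dvd_natCard _ (Subgroup.mem_inf.2
        ⟨hk, Subgroup.mem_centralizer_singleton_iff.2 (mul_inv_eq_iff_eq_mul.1 hfix).symm⟩)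
    refine hdvd.trans (dvd_of_eq ?_)
    have e : Nat.card ↥(Subgroup.zpowers g ⊓ Subgroup.centralizer {v}) + 1 = qv := by
      rw [hqvdef, ← Finite.card_option]
      have hvs : v * s * v⁻¹ = s :=
        mul_inv_eq_iff_eq_mul.2 (comm_of_comm_t hS hs hr heq hvD hvt).2
      have hmap : ∀ k ∈ Subgroup.zpowers g ⊓ Subgroup.centralizer {v},
          k⁻¹ * s * k ∈ Qv ∧ k⁻¹ * s * k * (k⁻¹ * s * k) = 1 ∧ k⁻¹ * s * k ≠ 1 := by
        intro k hk'
        have hkc := Subgroup.mem_centralizer_singleton_iff.1 (Subgroup.mem_inf.1 hk').2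
        have hkD := ((hK k).2 (Subgroup.mem_inf.1 hk').1).1
        refine ⟨Subgroup.mem_inf.2 ⟨?_, Subgroup.mem_centralizer_singleton_iff.2 ?_⟩, ?_, ?_⟩
        · simpa using hS.conj_mem k⁻¹ (inv_mem (Subgroup.mem_inf.1 hkD).1) s hsZ.1
        · have h3 : Commute v s := mul_inv_eq_iff_eq_mul.1 hvs
          exact (((Commute.inv_left hkc).mul_left h3.symm).mul_left hkc).eq
        · calc k⁻¹ * s * k * (k⁻¹ * s * k) = k⁻¹ * (s * s) * k := by group
            _ = 1 := by rw [hs.2.2]; group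
        · intro h
          exact hs.2.1 (by calc s = k * (k⁻¹ * s * k) * k⁻¹ := by group
            _ = 1 := by rw [h]; group)
      refine (Nat.card_congr ((Equiv.optionCongr ?_).trans (Equiv.optionSubtypeNe
        (⟨1, Qv.one_mem, one_mul 1⟩ : {x : G // x ∈ Qv ∧ x * x = 1}))))
      refine Equiv.ofBijective (fun k => ⟨⟨(k : G)⁻¹ * s * k, (hmap k k.2).1, (hmap k k.2).2.1⟩,
        fun h => (hmap k k.2).2.2 (congrArg Subtype.val h)⟩) ⟨fun k l h => Subtype.ext ?_, ?_⟩
      · exact inverted_conj_inj hS hs ((hK _).2 (Subgroup.mem_inf.1 k.2).1)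
          ((hK _).2 (Subgroup.mem_inf.1 l.2).1)
          (congrArg (fun z : {x : {x : G // x ∈ Qv ∧ x * x = 1} // x ≠ _} => (z.1.1 : G)) h)
      · rintro ⟨⟨x, hxQv, hxx⟩, hx1⟩
        obtain ⟨hxQ, hxv⟩ := Subgroup.mem_inf.1 hxQv
        have hxI := R1.mem_involutions hR hxQ (fun h => hx1 (Subtype.ext h)) hxx
        obtain ⟨k, hk', hkx⟩ := inverted_transitive hS hs hxI
        have hvk' : v * k * v⁻¹ ∈ Cfsg.invertedBy (twoStab G a t) t := by
          refine ⟨mul_mem (mul_mem hvD hk'.1) (inv_mem hvD), ?_⟩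
          calc t * (v * k * v⁻¹) * t⁻¹ = (t * v * t⁻¹) * (t * k * t⁻¹) * (t * v * t⁻¹)⁻¹ := by group
            _ = _ := by rw [hk'.2, mul_inv_eq_iff_eq_mul.2 hvt.symm]; group
        have heqk := inverted_conj_inj hS hs hvk' hk' (by
          calc (v * k * v⁻¹)⁻¹ * s * (v * k * v⁻¹)
              = v * (k⁻¹ * (v⁻¹ * s * v) * k) * v⁻¹ := by group
            _ = v * (k⁻¹ * s * k) * v⁻¹ := by
              rw [show v⁻¹ * s * v = s by
                conv_lhs => rw [← hvs]
                group]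
            _ = k⁻¹ * s * k := by
              rw [hkx]
              exact mul_inv_eq_iff_eq_mul.2 (Subgroup.mem_centralizer_singleton_iff.1 hxv).symm)
        refine ⟨⟨k, Subgroup.mem_inf.2 ⟨(hK k).1 hk', Subgroup.mem_centralizer_singleton_iff.2
          (mul_inv_eq_iff_eq_mul.1 heqk).symm⟩⟩, Subtype.ext (Subtype.ext hkx)⟩
    omega
  -- apply the formula
  haveI := isNilpotent_Q hS hR.rank2
  haveI : Group.IsNilpotent X :=
    isNilpotent_of_le Q X hX
  have hnorm : ∀ d : G, (∀ x ∈ X, d * x * d⁻¹ ∈ X) → d ∈ Subgroup.normalizer (X : Set G) := by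
    intro d hd
    refine Subgroup.mem_normalizer_iff.2 fun x => ⟨hd x, fun hx => ?_⟩
    have hmaps : Function.Surjective (fun y : X => (⟨d * y * d⁻¹, hd y y.2⟩ : X)) :=
      Finite.surjective_of_injective fun y z h => Subtype.ext
        (mul_left_cancel (mul_right_cancel (congrArg Subtype.val h)))
    obtain ⟨y, hy⟩ := hmaps ⟨_, hx⟩
    have : (y : G) = x := mul_left_cancel (mul_right_cancel (congrArg Subtype.val hy))
    exact this ▸ y.2
  set ψ := X.normalizerMonoidHom with hψ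
  have hψapp : ∀ (d : Subgroup.normalizer (X : Set G)) (x : X),
      ((ψ d x : X) : G) = d * x * (d : G)⁻¹ := fun _ _ => rfl
  have hkn : g ^ i ∈ Subgroup.normalizer (X : Set G) := hnorm _ (hKX _ hkK)
  have hvn : v ∈ Subgroup.normalizer (X : Set G) := hnorm _ hvX
  have hkℓ : (g ^ i) ^ ℓ = 1 := hkord ▸ pow_orderOf_eq_one _
  rw [Fpf.card_eq_fixed_pow X (ψ ⟨g ^ i, hkn⟩) (ψ ⟨v, hvn⟩) (ℓ := ℓ) (c := c) hℓ hp
    (by rw [← map_pow]; exact (congrArg ψ (Subtype.ext hkℓ : _ = (1 : Subgroup.normalizer (X : Set G)))).trans (map_one ψ))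
    (by rw [← map_pow]; exact (congrArg ψ (Subtype.ext hvp : _ = (1 : Subgroup.normalizer (X : Set G)))).trans (map_one ψ))
    hcℓ
    (by
      rw [← map_pow, ← map_mul, ← map_mul]
      refine congrArg ψ (Subtype.ext ?_)
      show v * g ^ i = (g ^ i) ^ c * v
      rw [← hvk, inv_mul_cancel_right])
    (fun x hx => Subtype.ext (inverted_fpf hS hkK
      (fun h => hℓ.one_lt.ne' (by rw [← hkord, h, orderOf_one])) (hX x.2)
      (mul_inv_eq_iff_eq_mul.1 (congrArg Subtype.val hx))))]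
  congr 1
  exact Nat.card_congr
    { toFun := fun x => ⟨(x.1 : G), Subgroup.mem_inf.2 ⟨x.1.2,
        Subgroup.mem_centralizer_singleton_iff.2
          (mul_inv_eq_iff_eq_mul.1 (congrArg Subtype.val x.2)).symm⟩⟩
      invFun := fun x => ⟨⟨x.1, (Subgroup.mem_inf.1 x.2).1⟩, Subtype.ext
        (mul_inv_eq_iff_eq_mul.2
          (Subgroup.mem_centralizer_singleton_iff.1 (Subgroup.mem_inf.1 x.2).2).symm)⟩
      left_inv := fun _ => rfl
      right_inv := fun _ => rfl }

end Cfsg.Agent.Suz27
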