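import Cfsg.Agent.Suz27.AbelianFixed
import Cfsg.Agent.Suz27.CharFamilyStable
import Cfsg.Agent.Suz27.Covering
import Cfsg.Agent.Suz27.Frobenius
import Cfsg.Agent.Suz27.Semireg
import Cfsg.Agent.Lib.RankOne.AbelianExponent

/-!
An abelian 2-group `Q` has exponent two (`PLAN.md`, part C2).
-/

set_option autoImplicit false

namespace Cfsg.Agent.Suz27

open MulAction RankOne

universe u v

variable {G : Type u} {Ω : Type v} [Group G] [MulAction G Ω] {a : Ω} {t : G} {Q : Subgroup G}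

lemma cube_step {N A n : ℕ} (h : N ^ 3 ≤ A ^ 3 * n) (hA : A ^ 3 < n ^ 2) (hn : 0 < n) : N < n := by
  by_contra hle
  push Not at hle
  have h1 := Nat.mul_lt_mul_of_pos_right hA hn
  have h2 := Nat.pow_le_pow_left hle 3
  have h3 : n ^ 2 * n = n ^ 3 := (pow_succ n 2).symm
  omega

/-- With `|V| = 1` an abelian `Q` has exponent two. -/
lemma exp_two_of_card_one [Finite G] (hR : R1 G Ω a t Q) (h2 : IsPGroup 2 Q)
    (hab : ∀ x ∈ Q, ∀ y ∈ Q, x * y = y * x) (hm : Nat.card (vGrp a t) = 1) :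
    ∀ x ∈ Q, x * x = 1 := by
  haveI := Fintype.ofFinite G
  have hS := hR.setup
  have hV : vGrp a t = ⊥ := Subgroup.card_eq_one.1 hm
  have hinv : ∀ d ∈ twoStab G a t, d ∈ Cfsg.invertedBy (twoStab G a t) t := by
    intro d hd
    obtain ⟨c, i, hc, hct, hi, hit, rfl, -⟩ :=
      odd_decomp hS.mul_self hS.odd_card (fun y hy => conj_t_twoStab hS hy) hd
    have hc1 : c ∈ vGrp a t :=
      Subgroup.mem_inf.2 ⟨hc, Subgroup.mem_centralizer_singleton_iff.2 hct.symm⟩
    rw [hV, Subgroup.mem_bot] at hc1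
    rw [hc1, one_mul]
    exact ⟨hi, hit⟩
  refine exponent_two
    { setup := hS, comm := hab, two_group := h2
      free := fun d hd x hx hc hx1 => by_contra fun hd1 =>
        hx1 (inverted_fpf hS (hinv d hd) hd1 hx hc)
      inverted := fun d hd => (hinv d hd).2
      nontriv := fun h => ?_ }
  have h1 := hR.one_lt_card_twoStab
  rw [h, Subgroup.card_bot] at h1
  exact lt_irrefl 1 h1

set_option maxHeartbeats 800000 in
open Classical in
/-- An abelian 2-group `Q` has exponent two; the centraliser lemma of part D is a hypothesis. -/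
theorem exp_two_of_frobenius [Finite G] (hR : R1 G Ω a t Q) (hG : Gen t Q) (h2 : IsPGroup 2 Q)
    (hab : ∀ x ∈ Q, ∀ y ∈ Q, x * y = y * x)
    (hFrob : ∀ v ∈ vGrp a t, ∀ p : ℕ, p.Prime → orderOf v = p → v ∉ RankOneK.wker G a t →
      qOf Q = qOf (Q ⊓ Subgroup.centralizer {v}) ^ p ∧
      ∀ X : Subgroup G, X ≤ Q →
        (∀ k ∈ Cfsg.invertedBy (twoStab G a t) t, ∀ x ∈ X, k * x * k⁻¹ ∈ X) →
        (∀ x ∈ X, v * x * v⁻¹ ∈ X) →
        Nat.card X = Nat.card (X ⊓ Subgroup.centralizer {v} : Subgroup G) ^ p) :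
    ∀ x ∈ Q, x * x = 1 := by
  by_contra hcon
  push Not at hcon
  obtain ⟨x₀, hx₀, hx₀2⟩ := hcon
  have hS := hR.setup
  haveI := hR.faithful
  have hm : Nat.card (vGrp a t) ≠ 1 := fun h => hx₀2 (exp_two_of_card_one hR h2 hab h x₀ hx₀)
  have hq4 := hR.four_le_q
  set q := qOf Q with hq
  set m := Nat.card (vGrp a t) with hmdef
  set n := Nat.card Q with hn
  rcases abelian_card hR hab h2 ⟨x₀, hx₀, hx₀2⟩ with hsq | hL2
  · -- `|Q| = q²`: covering
    obtain ⟨C, hC, hCc, -⟩ := RankOneK.exists_cyclic PF14.feitThompson hS hR.rank2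
    obtain ⟨s, r, hs, hr, heq⟩ := structure_exists hS
    have hr2 : r * r ≠ 1 := by
      intro hrr
      have hRI : RInv a t Q := fun s' r' hs' hr' h' => by
        rw [(structure_unique hS hs' hr' h' hs hr heq).2]; exact hrr
      have hdvd := card_dvd hR hRI
      rw [hsq, ← hq, show q ^ 2 - q = q * (q - 1) by rw [Nat.mul_sub, mul_one, pow_two]] at hdvd
      have h3 := Nat.dvd_of_mul_dvd_mul_left (by omega) hdvd
      have h4 := Nat.le_of_dvd (by omega) h3
      have h5 : q * 4 ≤ q ^ 2 := by rw [pow_two]; exact Nat.mul_le_mul_left q hq4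
      omega
    haveI := hCc
    have hcomm : ∀ x ∈ C, ∀ y ∈ C, x * y = y * x := fun x hx y hy =>
      congrArg Subtype.val (IsCyclic.commGroup.mul_comm (⟨x, hx⟩ : C) ⟨y, hy⟩)
    exact hm (by rw [hmdef, covering hR hG hab hsq hs hr heq hr2 hC hcomm, Subgroup.card_bot])
  -- the squares `L`
  have hQD : ∀ d ∈ twoStab G a t, ∀ y ∈ Q, d⁻¹ * y * d ∈ Q := fun d hd y hy => by
    simpa using hS.conj_mem d⁻¹ (inv_mem hd.1) y hy
  set L := sqImage hab Q le_rfl with hLdef
  have hLQ : L ≤ Q := sqImage_le hR hab Q le_rfl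
  have hLD := sqImage_conj hR hab le_rfl hQD
  have hQne : Q ≠ ⊥ := fun h => hx₀2 (by
    rw [h, Subgroup.mem_bot] at hx₀; rw [hx₀, one_mul])
  have hnL : n = q * Nat.card L := card_sqImage hR hab h2 le_rfl hQne hQD
  have hn3 : q ^ 3 ≤ n := by
    rw [hnL, pow_succ, mul_comm]
    exact Nat.mul_le_mul_left q hL2
  haveI := Fintype.ofFinite G
  haveI := (card_hom_abelian hab).1
  haveI := Fintype.ofFinite (Q →* ℂˣ)
  have hLab : ∀ x ∈ L, ∀ y ∈ L, x * y = y * x := fun x hx y hy => hab x (hLQ hx) y (hLQ hy)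
  haveI := (card_hom_abelian hLab).1
  obtain ⟨r, hr1, hr8, hN⟩ := card_notFree_le hR hab h2 hFrob hm le_rfl hQD
  obtain ⟨r', hr1', hr8', hN'⟩ := card_notFree_le hR hab h2 hFrob hm hLQ hLD
  rw [← hq] at hr8 hr8' hN hN'
  rw [← hn] at hN
  -- the squaring map
  let sq : Q →* L :=
    { toFun := fun y => ⟨(y : G) * y, y, y.2, rfl⟩
      map_one' := Subtype.ext (one_mul 1)
      map_mul' := fun y y' => Subtype.ext (by
        show (y : G) * y' * (y * y') = (y : G) * y * (y' * y')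
        calc (y : G) * y' * (y * y') = y * ((y' : G) * y) * y' := by group
          _ = _ := by rw [hab y' y'.2 y y.2]; group) }
  have hsqsurj : Function.Surjective sq := by
    rintro ⟨z, y, hy, rfl⟩
    exact ⟨⟨y, hy⟩, rfl⟩
  have hsqconj : ∀ d z, sq (subConj hQD d z) = subConj hLD d (sq z) := fun d z => Subtype.ext (by
    show (d : G)⁻¹ * z * d * ((d : G)⁻¹ * z * d) = (d : G)⁻¹ * ((z : G) * z) * d
    group)
  -- the family of `D`-free linear characters
  let lin : (Q →* ℂˣ) → Cfsg.IrrCharacter Q := fun μ =>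
    ⟨fun z => (μ z : ℂ), CharCore.isIrrCharacter_hom μ⟩
  have hlin : Function.Injective lin := fun μ μ' h => MonoidHom.ext fun z =>
    Units.ext (congrFun (congrArg Subtype.val h) z)
  have htw : ∀ d μ, twistIrr hS d (lin μ) = lin (μ.comp (subConj hQD d)) :=
    fun d μ => Subtype.ext (funext fun z => rfl)
  set F₀ : Finset (Q →* ℂˣ) := Finset.univ.filter fun μ => HomFree hQD μ with hF₀
  set F : Finset (Cfsg.IrrCharacter Q) := F₀.image lin with hF
  have hFcard : F.card = F₀.card := Finset.card_image_of_injective _ hlin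
  have hf : 3 * n ≤ 4 * F₀.card := by
    have hsum : F₀.card + Nat.card {μ : Q →* ℂˣ // ¬ HomFree hQD μ} = n := by
      rw [Nat.card_eq_fintype_card, Fintype.card_subtype, hF₀,
        Finset.card_filter_add_card_filter_not, Finset.card_univ, ← Nat.card_eq_fintype_card,
        (card_hom_abelian hab).2]
    set N := Nat.card {μ : Q →* ℂˣ // ¬ HomFree hQD μ}
    have h4r : 4 * r ≤ q := by
      have h8 : ∀ j : ℕ, 1 ≤ j → 4 * j ≤ 8 ^ j := by
        intro j hj
        induction j, hj using Nat.le_induction with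
        | base => norm_num
        | succ j _ ih => rw [pow_succ]; omega
      exact (h8 r hr1).trans hr8
    have h4A : 4 * ((q - 1) * r) ≤ q ^ 2 := by
      calc 4 * ((q - 1) * r) = (q - 1) * (4 * r) := by ring
        _ ≤ q * q := Nat.mul_le_mul (Nat.sub_le _ _) h4r
        _ = q ^ 2 := (pow_two q).symm
    have h4N : (4 * N) ^ 3 ≤ n ^ 3 := by
      calc (4 * N) ^ 3 ≤ (4 * ((q - 1) * r)) ^ 3 * n := by
            rw [mul_pow, mul_pow 4, mul_assoc]; exact Nat.mul_le_mul_left _ hN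
        _ ≤ (q ^ 2) ^ 3 * n := Nat.mul_le_mul_right _ (Nat.pow_le_pow_left h4A 3)
        _ = (q ^ 3) ^ 2 * n := by ring
        _ ≤ n ^ 2 * n := Nat.mul_le_mul_right _ (Nat.pow_le_pow_left hn3 2)
        _ = n ^ 3 := (pow_succ n 2).symm
    have := (Nat.pow_le_pow_iff_left (by norm_num : (3 : ℕ) ≠ 0)).1 h4N
    omega
  have htriv : ∃ ψ ∈ F, TrivZ (ψ : Q → ℂ) := by
    obtain ⟨ν, hν⟩ : ∃ ν : L →* ℂˣ, HomFree hLD ν := by
      by_contra hall
      push Not at hall
      have h1 : Nat.card {μ : L →* ℂˣ // ¬ HomFree hLD μ} = Nat.card L := by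
        rw [← (card_hom_abelian hLab).2]
        exact Nat.card_congr (Equiv.subtypeUnivEquiv hall)
      rw [h1] at hN'
      refine lt_irrefl (Nat.card L) (cube_step hN' ?_ Nat.card_pos)
      have h3 : r' ^ 3 ≤ q := by
        refine le_trans ?_ hr8'
        rw [show (8 : ℕ) ^ r' = (2 ^ r') ^ 3 by rw [← pow_mul, mul_comm, pow_mul]; norm_num]
        exact Nat.pow_le_pow_left (Nat.lt_pow_self (by norm_num)).le 3
      calc ((q - 1) * r') ^ 3 = (q - 1) ^ 3 * r' ^ 3 := mul_pow _ _ _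
        _ ≤ (q - 1) ^ 3 * q := Nat.mul_le_mul_left _ h3
        _ < q ^ 3 * q := Nat.mul_lt_mul_of_pos_right
            (Nat.pow_lt_pow_left (by omega) (by norm_num)) (by omega)
        _ = (q ^ 2) ^ 2 := by ring
        _ ≤ Nat.card L ^ 2 := Nat.pow_le_pow_left hL2 2
    refine ⟨lin (ν.comp sq), Finset.mem_image_of_mem _ (Finset.mem_filter.2
      ⟨Finset.mem_univ _, fun d hd => hν d (MonoidHom.ext fun y => ?_)⟩), fun z hz => ?_⟩
    · obtain ⟨z, rfl⟩ := hsqsurj y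
      rw [MonoidHom.comp_apply, ← hsqconj]
      exact DFunLike.congr_fun hd z
    · show ((ν (sq z) : ℂˣ) : ℂ) = (ν (sq 1) : ℂˣ)
      have hz' : (z : G) * z = 1 := congrArg Subtype.val hz
      rw [show sq z = 1 from Subtype.ext hz', map_one sq]
  have hnontriv : ∃ ψ ∈ F, ¬ TrivZ (ψ : Q → ℂ) := by
    by_contra hall
    push Not at hall
    have hker : ∀ μ : F₀, sq.ker ≤ (μ : Q →* ℂˣ).ker := by
      intro μ z hz
      have hz' : (z : G) * z = 1 := congrArg Subtype.val (MonoidHom.mem_ker.1 hz)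
      have h := hall _ (Finset.mem_image_of_mem lin μ.2) z (Subtype.ext hz')
      rw [MonoidHom.mem_ker]
      refine Units.ext ?_
      simpa [lin] using h
    have hle : F₀.card ≤ Nat.card L := by
      rw [← (card_hom_abelian hLab).2, ← Nat.card_eq_finsetCard]
      refine Nat.card_le_card_of_injective
        (fun μ => sq.liftOfSurjective hsqsurj ⟨(μ : Q →* ℂˣ), hker μ⟩)
        fun μ μ' h => Subtype.ext (MonoidHom.ext fun z => ?_)
      have h' := DFunLike.congr_fun h (sq z)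
      simpa only [MonoidHom.liftOfRightInverse_comp_apply] using h'
    have h4 : 4 * Nat.card L ≤ n := by rw [hnL]; exact Nat.mul_le_mul_right _ hq4
    have : 0 < n := Nat.card_pos
    omega
  obtain ⟨-, hmq⟩ := exists_gen_vGrp hR hab h2
  rw [← hq, ← hmdef] at hmq
  have hk := hR.card_twoStab
  rw [← hq, ← hmdef] at hk
  have hthree : Nat.card (twoStab G a t) * 3 ≤ F.card := by
    rw [hFcard, hk]
    have h1 : (q - 1) * m * 4 ≤ q ^ 3 := by
      calc (q - 1) * m * 4 ≤ q * q * q :=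
            Nat.mul_le_mul (Nat.mul_le_mul (Nat.sub_le _ _) (hmq.trans (Nat.sub_le _ _))) hq4
        _ = q ^ 3 := by ring
    omega
  have hmem : ∀ ψ ∈ F, ∃ μ, HomFree hQD μ ∧ lin μ = ψ := fun ψ hψ => by
    obtain ⟨μ, hμ, h⟩ := Finset.mem_image.1 hψ
    exact ⟨μ, (Finset.mem_filter.1 hμ).2, h⟩
  obtain ⟨c, -, hb1, hb2⟩ := families_bounds_stable hR (J := PUnit.{1}) (fun _ => 1) (fun _ => F)
    (fun _ _ => 1)
    (fun _ ψ hψ => by obtain ⟨μ, -, rfl⟩ := hmem ψ hψ; simp [lin])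
    (fun _ ψ hψ d hd => by
      obtain ⟨μ, hμ, rfl⟩ := hmem ψ hψ
      exact hμ d (hlin ((htw d μ).symm.trans (Subtype.ext hd))))
    (fun _ ψ hψ d => by
      obtain ⟨μ, hμ, rfl⟩ := hmem ψ hψ
      rw [htw]
      refine Finset.mem_image_of_mem _ (Finset.mem_filter.2 ⟨Finset.mem_univ _, fun e he => ?_⟩)
      -- conjugate the stabiliser
      have h1 : twist hS e (twist hS d (lin μ : Q → ℂ)) = twist hS d (lin μ : Q → ℂ) :=
        funext fun z => congrArg (fun u : ℂˣ => (u : ℂ)) (DFunLike.congr_fun he z)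
      have h2' : twist hS (d⁻¹ * (e * d)) (lin μ : Q → ℂ) = (lin μ : Q → ℂ) := by
        rw [← twist_twist, ← twist_twist, h1, twist_twist, inv_mul_cancel, twist_one]
      have h3 := hμ (d⁻¹ * (e * d)) (hlin ((htw _ μ).symm.trans (Subtype.ext h2')))
      rwa [inv_mul_eq_one, right_eq_mul] at h3)
    (fun _ _ _ h => absurd rfl h)
    (fun _ => by rw [Finset.filter_true_of_mem (fun _ _ => rfl)]; exact hthree)
    (fun _ => by obtain ⟨ψ, hψ, hz⟩ := htriv; exact ⟨ψ, hψ, rfl, hz⟩)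
    (fun _ => hnontriv) (fun j j' h => absurd (Subsingleton.elim j j') h)
  -- the two inequalities
  simp only [Fintype.sum_unique, Nat.cast_one, one_pow, mul_one, one_mul, Finset.sum_const,
    nsmul_eq_mul] at hb1 hb2
  rw [← hq, ← hn, ← hmdef, hk, hFcard] at hb1
  rw [← hn, ← hmdef, hk] at hb2
  push_cast [Nat.cast_sub (show 1 ≤ q by omega)] at hb1 hb2
  set X : ℤ := 2 * c default + ((q : ℤ) - 2) * m with hX
  have hm0 : (0 : ℤ) < m := by exact_mod_cast (Nat.card_pos (α := vGrp a t))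
  have hq8 : (8 : ℤ) ≤ q := by
    exact_mod_cast le_trans (le_trans (by norm_num) (Nat.pow_le_pow_right (by norm_num) hr1)) hr8
  have hfn : 3 * (n : ℤ) ≤ 4 * F₀.card := by exact_mod_cast hf
  have hn3' : (q : ℤ) ^ 3 ≤ n := by exact_mod_cast hn3
  have hn0 : (0 : ℤ) < n := by exact_mod_cast (Nat.card_pos (α := Q))
  have hfX : (F₀.card : ℤ) * X ^ 2 < ((q : ℤ) - 2) ^ 2 * m ^ 2 := by
    refine lt_of_mul_lt_mul_left (a := ((n : ℤ) + 1) * ((q : ℤ) - 1)) (hb1.trans_le ?_)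
      (mul_nonneg (by linarith) (by linarith))
    have h0 : 0 ≤ ((q : ℤ) - 2) ^ 2 * m ^ 2 * ((q : ℤ) - 1) :=
      mul_nonneg (by positivity) (by linarith)
    nlinarith
  have hX2 : 4 * X ^ 2 < (m : ℤ) ^ 2 := by
    have h1 : 3 * (q : ℤ) ^ 3 * X ^ 2 ≤ 4 * F₀.card * X ^ 2 :=
      mul_le_mul_of_nonneg_right (by linarith) (sq_nonneg X)
    have h2' : ((q : ℤ) - 2) ^ 2 * m ^ 2 ≤ (q : ℤ) ^ 2 * m ^ 2 :=
      mul_le_mul_of_nonneg_right (pow_le_pow_left₀ (by linarith) (by linarith) 2) (sq_nonneg _)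
    have h3 : (q : ℤ) ^ 2 * (3 * q * X ^ 2) < (q : ℤ) ^ 2 * (4 * m ^ 2) := by linarith
    have h4 := lt_of_mul_lt_mul_left h3 (sq_nonneg _)
    have h5 : 24 * X ^ 2 ≤ 3 * (q : ℤ) * X ^ 2 :=
      mul_le_mul_of_nonneg_right (by linarith) (sq_nonneg X)
    linarith [sq_nonneg X]
  have hXb : -(m : ℤ) < 2 * X ∧ 2 * X < m :=
    abs_lt.1 (abs_lt_of_sq_lt_sq (by rw [mul_pow]; linarith) hm0.le)
  have hterm : ∀ ψ ∈ F, (2 * (q : ℤ) - 1) ^ 2 * m ^ 2 ≤ 16 *
      (if TrivZ (ψ : Q → ℂ) then (((q : ℤ) - 1) * m + c default) ^ 2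
        else (c default - (m : ℤ)) ^ 2) := by
    intro ψ _
    have hnn : 0 ≤ (2 * (q : ℤ) - 1) * m := mul_nonneg (by linarith) hm0.le
    rw [← mul_pow]
    split_ifs
    · rw [show (16 : ℤ) * (((q : ℤ) - 1) * m + c default) ^ 2 = (2 * X + 2 * q * m) ^ 2 by
        rw [hX]; ring]
      exact pow_le_pow_left₀ hnn (by linarith [hXb.1]) 2
    · rw [show (16 : ℤ) * (c default - (m : ℤ)) ^ 2 = (2 * q * m - 2 * X) ^ 2 by rw [hX]; ring]
      exact pow_le_pow_left₀ hnn (by linarith [hXb.2]) 2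
  have hsum := Finset.sum_le_sum hterm
  rw [Finset.sum_const, nsmul_eq_mul, hFcard, ← Finset.mul_sum] at hsum
  have hlow : 3 * (n : ℤ) * ((2 * (q : ℤ) - 1) ^ 2 * m ^ 2) <
      (n : ℤ) * m ^ 2 * (64 * ((q : ℤ) - 1)) := by
    have h1 := mul_le_mul_of_nonneg_right hfn
      (show (0 : ℤ) ≤ (2 * (q : ℤ) - 1) ^ 2 * m ^ 2 by positivity)
    linarith
  have hfin : 3 * (2 * (q : ℤ) - 1) ^ 2 < 64 * ((q : ℤ) - 1) :=
    lt_of_mul_lt_mul_left (a := (n : ℤ) * m ^ 2) (by linarith) (by positivity)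
  have hqq : 8 * (q : ℤ) ≤ q * q := mul_le_mul_of_nonneg_right hq8 (by linarith)
  linarith

/-- An abelian 2-group `Q` has exponent two. -/
theorem exp_two [Finite G] (hR : R1 G Ω a t Q) (hG : Gen t Q) (_hsub : SubTypes a t Q)
    (h2 : IsPGroup 2 Q) (hab : ∀ x ∈ Q, ∀ y ∈ Q, x * y = y * x) : ∀ x ∈ Q, x * x = 1 :=
  exp_two_of_frobenius hR hG h2 hab fun _ hv _ hp hord hvW => frobenius_card hR hv hp hord hvW

end Cfsg.Agent.Suz27
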