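import Cfsg.Agent.Suz27.Defs
import Cfsg.Agent.S1119

/-!
The subgroup generated by `Q` and `t`: normal of odd index and again a rank one group.
-/

set_option autoImplicit false

namespace Cfsg.Agent.Suz27

open MulAction RankOne

variable {G Ω : Type*} [Group G] [MulAction G Ω] [Finite G] {a : Ω} {t : G} {Q : Subgroup G}

/-- The reduction to a group generated by `Q` and `t`. -/
theorem exists_gen_subgroup (hR : R1 G Ω a t Q) :
    ∃ (L : Subgroup G) (ht : t ∈ L), L.Normal ∧ Odd L.index ∧ Q ≤ L ∧
      R1 L Ω a ⟨t, ht⟩ (Q.subgroupOf L) ∧ Gen (⟨t, ht⟩ : L) (Q.subgroupOf L) := by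
  classical
  set L : Subgroup G := Subgroup.closure ((Q : Set G) ∪ {t}) with hL
  have hS := hR.setup
  have ht : t ∈ L := Subgroup.subset_closure (Or.inr rfl)
  have hQL : Q ≤ L := fun x hx => Subgroup.subset_closure (Or.inl hx)
  haveI := pretransitive hS
  -- transitivity
  have hmove : ∀ c : Ω, ∃ x ∈ L, x • a = c := by
    intro c
    rcases eq_or_ne c a with rfl | hc
    · exact ⟨1, L.one_mem, one_smul _ _⟩
    · obtain ⟨x, hx, hxc⟩ := regular' hS hc
      exact ⟨x * t, mul_mem (hQL hx) ht, by rw [mul_smul, hxc]⟩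
  -- all involutions lie in `L`
  have hinv : ∀ u : G, IsInv u → u ∈ L := by
    intro u hu
    obtain ⟨c, hc⟩ := exists_fixed hS hu
    obtain ⟨x, hx, rfl⟩ := hmove c
    have h := invol_mem_Q hS (IsInv.conj hu x⁻¹) (by
      rw [inv_inv, mul_smul, mul_smul, hc, inv_smul_smul])
    have := mul_mem (mul_mem hx (hQL h)) (inv_mem hx)
    simpa [mul_assoc] using this
  have hdec : ∀ g : G, ∃ x ∈ L, ∃ d ∈ twoStab G a t, g = x * d := by
    intro g
    obtain ⟨x, hx, hxa⟩ := hmove (g • a)
    obtain ⟨q, hq, d, hd, h⟩ := exists_decomp hS (g := x⁻¹ * g) (by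
      rw [mul_smul, ← hxa, inv_smul_smul])
    exact ⟨x * q, mul_mem hx (hQL hq), d, hd, by rw [mul_assoc, ← h, mul_inv_cancel_left]⟩
  have hnormal : L.Normal := by
    refine ⟨fun y hy g => ?_⟩
    obtain ⟨x, hx, d, hd, rfl⟩ := hdec g
    have hd' : d * y * d⁻¹ ∈ L := by
      revert hy
      intro hy
      induction hy using Subgroup.closure_induction with
      | mem z hz =>
        rcases hz with hz | hz
        · exact hQL (hS.conj_mem d (Subgroup.mem_inf.1 hd).1 z hz)
        · rw [Set.mem_singleton_iff] at hz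
          subst hz
          exact hinv _ (IsInv.conj (t_isInv hS) d)
      | one => simp
      | mul z w _ _ h1 h2 =>
        have e : d * (z * w) * d⁻¹ = (d * z * d⁻¹) * (d * w * d⁻¹) := by group
        rw [e]; exact mul_mem h1 h2
      | inv z _ h1 =>
        have e : d * z⁻¹ * d⁻¹ = (d * z * d⁻¹)⁻¹ := by group
        rw [e]; exact inv_mem h1
    have e : x * d * y * (x * d)⁻¹ = x * (d * y * d⁻¹) * x⁻¹ := by group
    rw [e]
    exact mul_mem (mul_mem hx hd') (inv_mem hx)
  have hodd : Odd L.index := by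
    haveI : Fact (Nat.Prime 2) := ⟨Nat.prime_two⟩
    obtain ⟨P, hP⟩ := (S1119.result hS).2.2.2.1
    rw [Nat.odd_iff, ← Nat.two_dvd_ne_zero]
    exact fun h => P.not_dvd_index (h.trans (Subgroup.index_dvd_of_le (hP.trans hQL)))
  have hstab : ∀ (c : Ω) (g : L), g ∈ stabilizer L c ↔ (g : G) ∈ stabilizer G c := fun c g => Iff.rfl
  refine ⟨L, ht, hnormal, hodd, hQL, ?_, ?_⟩
  · refine { setup := ?_, faithful := ?_, rank2 := ?_ }
    · refine { two_transitive := ?_, mul_self := Subtype.ext hS.mul_self,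
               ne_one := fun h => hS.ne_one (congrArg Subtype.val h),
               not_mem := fun h => hS.not_mem h, le := fun x hx => hS.le hx,
               conj_mem := fun h hh x hx => hS.conj_mem h hh x hx,
               inf_eq_bot := ?_, sup_eq := ?_, even_card := ?_, odd_card := ?_ }
      · rw [is_two_pretransitive_iff]
        intro p q r s hpq hrs
        have key : ∀ p q : Ω, p ≠ q → ∃ g ∈ L, g • a = p ∧ g • t • a = q := by
          intro p q hpq
          obtain ⟨x, hx, hxp⟩ := hmove p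
          have hxq : x⁻¹ • q ≠ a := fun h => hpq (by rw [← hxp, ← h, smul_inv_smul])
          obtain ⟨u, hu, huq⟩ := regular' hS hxq
          exact ⟨x * u, mul_mem hx (hQL hu), by rw [mul_smul, Q_fix_a hS hu, hxp],
            by rw [mul_smul, huq, smul_inv_smul]⟩
        obtain ⟨g, hg, hgp, hgq⟩ := key p q hpq
        obtain ⟨g', hg', hgr, hgs⟩ := key r s hrs
        refine ⟨⟨g' * g⁻¹, mul_mem hg' (inv_mem hg)⟩, ?_, ?_⟩
        · show (g' * g⁻¹) • p = r
          rw [← hgp, mul_smul, inv_smul_smul, hgr]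
        · show (g' * g⁻¹) • q = s
          rw [← hgq, mul_smul, inv_smul_smul, hgs]
      · refine (Subgroup.eq_bot_iff_forall _).2 fun x hx => ?_
        have : (x : G) ∈ Q ⊓ stabilizer G (t • a) := ⟨(Subgroup.mem_inf.1 hx).1, (Subgroup.mem_inf.1 hx).2⟩
        rw [hS.inf_eq_bot, Subgroup.mem_bot] at this
        exact Subtype.ext this
      · refine le_antisymm (sup_le (fun x hx => hS.le hx) inf_le_left) fun g hg => ?_
        obtain ⟨q, hq, d, hd, h⟩ := exists_decomp hS (g := (g : G)) hg
        have hdL : d ∈ L := by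
          have := mul_mem (inv_mem (hQL hq)) g.2
          rwa [h, inv_mul_cancel_left] at this
        have e : g = (⟨q, hQL hq⟩ : L) * ⟨d, hdL⟩ := Subtype.ext h
        rw [e]
        exact mul_mem (Subgroup.mem_sup_left (show (⟨q, hQL hq⟩ : L) ∈ Q.subgroupOf L from hq))
          (Subgroup.mem_sup_right
            (Subgroup.mem_inf.2 ⟨(Subgroup.mem_inf.1 hd).1, (Subgroup.mem_inf.1 hd).2⟩))
      · rw [Nat.card_congr (Subgroup.subgroupOfEquivOfLe hQL).toEquiv]
        exact hS.even_card
      · refine hS.odd_card.of_dvd_nat ?_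
        rw [← Subgroup.card_map_of_injective (L.subtype_injective)]
        refine Subgroup.card_dvd_of_le ?_
        rintro _ ⟨y, hy, rfl⟩
        exact Subgroup.mem_inf.2 ⟨(Subgroup.mem_inf.1 hy).1, (Subgroup.mem_inf.1 hy).2⟩
    · haveI := hR.faithful
      exact ⟨fun {x y} h => Subtype.ext (eq_of_smul_eq_smul h)⟩
    · obtain ⟨x, y, hx, hy, hxy, hxx, hyy, hc⟩ := hR.rank2
      exact ⟨⟨x, hinv x ⟨hx, hxx⟩⟩, ⟨y, hinv y ⟨hy, hyy⟩⟩, fun h => hx (congrArg Subtype.val h),
        fun h => hy (congrArg Subtype.val h), fun h => hxy (congrArg Subtype.val h),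
        Subtype.ext hxx, Subtype.ext hyy, Subtype.ext hc⟩
  · rw [Gen, eq_top_iff]
    rintro ⟨z, hz⟩ -
    have hall : ∀ z (hz : z ∈ L), (⟨z, hz⟩ : L) ∈
        Subgroup.closure (((Q.subgroupOf L : Subgroup L) : Set L) ∪ {(⟨t, ht⟩ : L)}) := by
      intro z hz
      induction hz using Subgroup.closure_induction with
      | mem w hw =>
        rcases hw with hw | hw
        · exact Subgroup.subset_closure (Or.inl hw)
        · rw [Set.mem_singleton_iff] at hw
          subst hw
          exact Subgroup.subset_closure (Or.inr rfl)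
      | one => exact one_mem _
      | mul w v hw hv h1 h2 => exact mul_mem h1 h2
      | inv w hw h1 => exact inv_mem h1
    exact hall z hz

end Cfsg.Agent.Suz27
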