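import Cfsg.Agent.Suz27.CharFamilyBase
import Cfsg.Agent.RankOneK.Results
import Cfsg.Agent.PF14.Compose

/-!
Facts about `K`, `D` and their action on `Q` used in part C of `PLAN.md`.
-/

set_option autoImplicit false

namespace Cfsg.Agent.Suz27

open MulAction RankOne

universe u v

variable {G : Type u} {Ω : Type v} [Group G] [MulAction G Ω] [Finite G] {a : Ω} {t : G}
  {Q : Subgroup G}

section
variable (hR : R1 G Ω a t Q)
include hR

/-- The elements of `D` inverted by `t`, as a cyclic subgroup normalised by `D`. -/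
theorem R1.exists_kGrp :
    ∃ C : Subgroup G, (C : Set G) = Cfsg.invertedBy (twoStab G a t) t ∧ IsCyclic C ∧
      ∀ d ∈ twoStab G a t, ∀ c ∈ C, d * c * d⁻¹ ∈ C :=
  haveI := hR.faithful
  RankOneK.exists_cyclic PF14.feitThompson hR.setup hR.rank2

omit [Finite G] in
/-- An element of `D` centralising all of `Q` is trivial. -/
theorem R1.eq_one_of_centralizes {w : G} (hw : w ∈ twoStab G a t)
    (hc : ∀ x ∈ Q, w * x = x * w) : w = 1 := by
  haveI := hR.faithful
  refine eq_of_smul_eq_smul (α := Ω) fun b => ?_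
  rw [one_smul]
  rcases eq_or_ne b a with rfl | hb
  · exact (Subgroup.mem_inf.1 hw).1
  · obtain ⟨x, hx, rfl⟩ := regular' hR.setup hb
    rw [← mul_smul, hc x hx, mul_smul, (Subgroup.mem_inf.1 hw).2]

/-- An element of `D` with a nontrivial fixed point in `Q` is `D`-conjugate into `V`. -/
theorem R1.conj_into_V {d x : G} (hd : d ∈ twoStab G a t) (hx : x ∈ Q) (hx1 : x ≠ 1)
    (hc : d * x = x * d) : ∃ k ∈ twoStab G a t, k * d * k⁻¹ ∈ vGrp a t := by
  have hS := hR.setup
  have hf : d • x • t • a = x • t • a := by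
    rw [← mul_smul, hc, mul_smul, (Subgroup.mem_inf.1 hd).2]
  obtain ⟨k, hk, hkt⟩ := conj_into_centralizer hS (X := {d}) (Set.singleton_subset_iff.2 hd)
    ⟨a, t • a, x • t • a, (ta_ne hS).symm, (smul_Q_ne hS hx (ta_ne hS)).symm,
      fun e => hx1 (Q_fix_unique hS hx (ta_ne hS) e.symm),
      fun y hy => by rw [Set.mem_singleton_iff.1 hy]; exact (Subgroup.mem_inf.1 hd).1,
      fun y hy => by rw [Set.mem_singleton_iff.1 hy]; exact (Subgroup.mem_inf.1 hd).2,
      fun y hy => by rw [Set.mem_singleton_iff.1 hy]; exact hf⟩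
  exact ⟨k, hk, Subgroup.mem_inf.2 ⟨mul_mem (mul_mem hk hd) (inv_mem hk),
    Subgroup.mem_centralizer_singleton_iff.2 (hkt d rfl)⟩⟩

/-- The involutions fixing `a` are the non-identity elements of square one of `Q`. -/
theorem R1.mem_invol_iff {x : G} :
    x ∈ Cfsg.involutionsIn (stabilizer G a : Set G) ↔ x ∈ Q ∧ x ≠ 1 ∧ x * x = 1 :=
  ⟨fun h => ⟨invol_mem_Q hR.setup ⟨h.2.1, h.2.2⟩ h.1, h.2.1, h.2.2⟩,
    fun h => ⟨hR.setup.le h.1, h.2.1, h.2.2⟩⟩

/-- `K` has `q - 1` elements. -/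
theorem R1.card_inverted :
    Nat.card (Cfsg.invertedBy (twoStab G a t) t) = qOf Q - 1 := by
  rw [RankOne.card_inverted hR.setup, hR.qOf_eq, Nat.add_sub_cancel]

/-- A subgroup of `Q` of elements of square one has at most `q` elements. -/
theorem R1.sq_one_card_le {X : Subgroup G} (hX : X ≤ Q) (h : ∀ x ∈ X, x * x = 1) :
    Nat.card X ≤ qOf Q := by
  rw [← hR.card_zGrp]
  exact Subgroup.card_le_of_le fun x hx => ⟨hX hx, h x hx⟩

end

end Cfsg.Agent.Suz27
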