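import Cfsg.Agent.Suz27.OddDecomp
import Cfsg.Agent.Suz27.CBase
import Cfsg.Agent.CharDeep.Expand
import Cfsg.Agent.CharDeep.Deg.DegreeP

/-!
Counting the characters fixed by elements of `D` (part C of `PLAN.md`).
-/

set_option autoImplicit false

namespace Cfsg.Agent.Suz27

open MulAction RankOne
open scoped ComplexConjugate

universe u v

variable {G : Type u} {Ω : Type v} [Group G] [MulAction G Ω] [Finite G] {a : Ω} {t : G}
  {Q : Subgroup G} {hS : Cfsg.IsRankOneSetup G Ω a t Q} {Y : Subgroup Q}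

/-- Brauer's permutation lemma for an element of `D`. -/
lemma card_tw_fixed (hY : DInv hS Y) (d : twoStab G a t) :
    Nat.card {θ : Cfsg.IrrCharacter Y // tw hY d θ = θ} =
      Nat.card {C : ConjClasses Y // ConjClasses.map (conjSub hY d) C = C} := by
  haveI := Fintype.ofFinite Y
  refine CharDeep.card_fixed_irr_eq (tw hY d) (ConjClasses.map (conjSub hY d)) fun θ g g' h => ?_
  have hc : IsConj (conjSub hY d g) g' := ConjClasses.mk_eq_mk_iff_isConj.1 h
  exact (CharCore.isConj_iff_forall_irr _ _).1 hc θ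

/-- An element of `D` without fixed points on `Y` fixes only the trivial character. -/
lemma eq_trivial_of_fpf (hY : DInv hS Y) (d : twoStab G a t)
    (hfpf : ∀ y, conjSub hY d y = y → y = 1) {θ : Cfsg.IrrCharacter Y}
    (hθ : tw hY d θ = θ) : (θ : Y → ℂ) = 1 := by
  have hsub : ∀ C : ConjClasses Y, ConjClasses.map (conjSub hY d) C = C →
      C = ConjClasses.mk 1 := by
    intro C hC
    obtain ⟨g, rfl⟩ := ConjClasses.exists_rep C
    obtain ⟨h, hh⟩ := isConj_iff.1 (ConjClasses.mk_eq_mk_iff_isConj.1 hC).symm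
    have hinj : Function.Injective fun x : Y => (conjSub hY d x)⁻¹ * x := by
      intro x y he
      have he' : (conjSub hY d x)⁻¹ * x = (conjSub hY d y)⁻¹ * y := he
      refine (mul_inv_eq_one.1 (hfpf (x * y⁻¹) ?_))
      rw [map_mul, map_inv]
      calc conjSub hY d x * (conjSub hY d y)⁻¹
          = conjSub hY d x * ((conjSub hY d y)⁻¹ * y) * y⁻¹ := by group
        _ = x * y⁻¹ := by rw [← he']; group
    obtain ⟨x, hx⟩ := Finite.surjective_of_injective hinj h
    have hx' : (conjSub hY d x)⁻¹ * x = h := hx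
    have hfix : conjSub hY d (x * g * x⁻¹) = x * g * x⁻¹ := by
      rw [map_mul, map_mul, map_inv, ← hh, ← hx']
      group
    have := hfpf _ hfix
    rw [conj_eq_one_iff] at this
    rw [this]
  have h1 : Nat.card {θ : Cfsg.IrrCharacter Y // tw hY d θ = θ} ≤ 1 := by
    rw [card_tw_fixed]
    haveI : Finite (ConjClasses Y) := Finite.of_surjective _ ConjClasses.mk_surjective
    rw [Finite.card_le_one_iff_subsingleton]
    exact ⟨fun C C' => Subtype.ext ((hsub _ C.2).trans (hsub _ C'.2).symm)⟩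
  rw [Finite.card_le_one_iff_subsingleton] at h1
  exact congrArg Subtype.val (congrArg Subtype.val (h1.elim
    (⟨θ, hθ⟩ : {θ : Cfsg.IrrCharacter Y // tw hY d θ = θ})
    ⟨⟨1, CharCore.isIrrCharacter_one⟩, Subtype.ext (funext fun x => rfl)⟩))

/-- For abelian `Y` the fixed characters are as many as the fixed elements. -/
lemma card_tw_fixed_abelian (hY : DInv hS Y) (hab : ∀ x y : Y, x * y = y * x)
    (d : twoStab G a t) :
    Nat.card {θ : Cfsg.IrrCharacter Y // tw hY d θ = θ} =
      Nat.card {y : Y // conjSub hY d y = y} := by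
  rw [card_tw_fixed]
  have hinj : ∀ x y : Y, ConjClasses.mk x = ConjClasses.mk y → x = y := by
    intro x y h
    obtain ⟨c, hc⟩ := isConj_iff.1 (ConjClasses.mk_eq_mk_iff_isConj.1 h)
    rw [← hc, hab c x, mul_inv_cancel_right]
  refine (Nat.card_congr (Equiv.ofBijective
    (fun y : {y : Y // conjSub hY d y = y} =>
      (⟨ConjClasses.mk y.1, congrArg ConjClasses.mk y.2⟩ :
        {C : ConjClasses Y // ConjClasses.map (conjSub hY d) C = C})) ⟨?_, ?_⟩)).symm
  · exact fun x y h => Subtype.ext (hinj _ _ (congrArg Subtype.val h))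
  · rintro ⟨C, hC⟩
    obtain ⟨g, rfl⟩ := ConjClasses.exists_rep C
    exact ⟨⟨g, hinj _ _ hC⟩, rfl⟩

open Classical in
/-- The number of characters of an abelian invariant subgroup fixed by some element of `D#`, when
`C_D(t) = ⟨v⟩` has prime order. -/
theorem card_le_free (hR : R1 G Ω a t Q) {Y : Subgroup Q} (hY : DInv hR.setup Y)
    (hab : ∀ x y : Y, x * y = y * x) {v : twoStab G a t} (hv : (v : G) ∈ vGrp a t) {p : ℕ}
    (hp : p.Prime) (hord : orderOf v = p) (hgen : ∀ x ∈ vGrp a t, x ∈ Subgroup.zpowers (v : G)) :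
    Nat.card Y ≤ (Finset.univ.filter fun θ : Cfsg.IrrCharacter Y => Free hY θ).card + 1 +
      (qOf Q - 1) * (Nat.card {y : Y // conjSub hY v y = y} - 1) := by
  haveI := Fintype.ofFinite (twoStab G a t)
  haveI := Fintype.ofFinite Y
  set c := Nat.card {y : Y // conjSub hY v y = y} with hc
  set one : Cfsg.IrrCharacter Y := ⟨1, CharCore.isIrrCharacter_one⟩ with hone
  let conjV : twoStab G a t → twoStab G a t := fun k => k⁻¹ * v * k
  let Fix : twoStab G a t → Finset (Cfsg.IrrCharacter Y) := fun u =>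
    (Finset.univ.filter fun θ => tw hY u θ = θ).erase one
  have hFix : ∀ k, (Fix (conjV k)).card = c - 1 := by
    intro k
    have hmem : one ∈ Finset.univ.filter fun θ => tw hY (conjV k) θ = θ :=
      Finset.mem_filter.2 ⟨Finset.mem_univ _, Subtype.ext (funext fun x => rfl)⟩
    show ((Finset.univ.filter fun θ => tw hY (conjV k) θ = θ).erase one).card = _
    rw [Finset.card_erase_of_mem hmem, ← Fintype.card_subtype, ← Nat.card_eq_fintype_card,
      card_tw_fixed_abelian hY hab, hc]
    congr 1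
    refine Nat.card_congr ((Equiv.ofBijective (conjSub hY k⁻¹)
      ⟨conjSub_injective hY k⁻¹, conjSub_surjective hY k⁻¹⟩).subtypeEquiv fun y => ?_)
    show conjSub hY (conjV k) y = y ↔
      conjSub hY v (conjSub hY k⁻¹ y) = conjSub hY k⁻¹ y
    rw [conjSub_conjSub]
    refine ⟨fun h => ?_, fun h => ?_⟩
    · apply conjSub_injective hY k
      rw [conjSub_conjSub, conjSub_conjSub, inv_mul_cancel, conjSub_one]
      exact h
    · have h' := congrArg (conjSub hY k) h
      rwa [conjSub_conjSub, conjSub_conjSub, inv_mul_cancel, conjSub_one] at h'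
  have himg : (Finset.univ.image conjV).card ≤ qOf Q - 1 := by
    have hm : Nat.card (vGrp a t) * (Finset.univ.image conjV).card ≤
        Nat.card (twoStab G a t) := by
      rw [Nat.card_eq_fintype_card (α := twoStab G a t), ← Finset.card_univ]
      refine Finset.mul_card_image_le_card Finset.univ _ fun u hu => ?_
      obtain ⟨k, -, rfl⟩ := Finset.mem_image.1 hu
      haveI := Fintype.ofFinite (vGrp a t)
      rw [Nat.card_eq_fintype_card, ← Finset.card_univ]
      refine Finset.card_le_card_of_injOn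
        (fun x : vGrp a t => (⟨x.1, (Subgroup.mem_inf.1 x.2).1⟩ : twoStab G a t) * k)
        (fun x _ => ?_) fun x _ y _ h => Subtype.ext (congrArg Subtype.val
          (mul_right_cancel (b := k) h) :)
      refine Finset.mem_filter.2 ⟨Finset.mem_univ _, Subtype.ext ?_⟩
      obtain ⟨j, hj⟩ := Subgroup.mem_zpowers_iff.1 (hgen x x.2)
      show ((x : G) * k)⁻¹ * v * ((x : G) * k) = (k : G)⁻¹ * v * k
      rw [← hj]
      group
    rw [hR.card_twoStab, mul_comm] at hm
    exact Nat.le_of_mul_le_mul_right hm Nat.card_pos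
  have hcov : (Finset.univ : Finset (Cfsg.IrrCharacter Y)) ⊆
      (Finset.univ.filter fun θ => Free hY θ) ∪ {one} ∪
        (Finset.univ.image conjV).biUnion Fix := by
    intro θ _
    by_cases hfree : Free hY θ
    · simp [hfree]
    by_cases h1 : θ = one
    · simp [h1]
    obtain ⟨d, hd, hd1⟩ : ∃ d, tw hY d θ = θ ∧ d ≠ 1 := by
      by_contra hcon
      exact hfree fun d hd => of_not_not fun hh => hcon ⟨d, hd, hh⟩
    obtain ⟨y, hy, hy1⟩ : ∃ y, conjSub hY d y = y ∧ y ≠ 1 := by
      by_contra hcon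
      exact h1 (Subtype.ext (eq_trivial_of_fpf hY d
        (fun y hy => of_not_not fun hh => hcon ⟨y, hy, hh⟩) hd))
    have hyG : (d : G)⁻¹ * ((y : Q) : G) * d = ((y : Q) : G) := congrArg
      (fun z : Y => ((z : Q) : G)) hy
    obtain ⟨k, hk, hkV⟩ := hR.conj_into_V (d := (d : G)) (x := ((y : Q) : G)) d.2 (y : Q).2
      (fun e => hy1 (Subtype.ext (Subtype.ext e))) (by
        calc (d : G) * ((y : Q) : G) = (d : G) * ((d : G)⁻¹ * ((y : Q) : G) * d) := by rw [hyG]
          _ = _ := by group)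
    set u : twoStab G a t := ⟨k, hk⟩ * d * ⟨k, hk⟩⁻¹ with hu
    have hu1 : u ≠ 1 := fun e => hd1 (conj_eq_one_iff.1 e)
    obtain ⟨j, hj⟩ := Subgroup.mem_zpowers_iff.1 (hgen _ hkV)
    have huv : u ∈ Subgroup.zpowers v := ⟨j, Subtype.ext (by
      show ((v ^ j : twoStab G a t) : G) = k * d * k⁻¹
      rw [Subgroup.coe_zpow, hj])⟩
    haveI := Fact.mk hp
    have hvu : v ∈ Subgroup.zpowers u := by
      have e : Nat.card (Subgroup.zpowers v) = p := by rw [Nat.card_zpowers, hord]
      have := zpowers_eq_top_of_prime_card (g := (⟨u, huv⟩ : Subgroup.zpowers v)) e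
        (fun h => hu1 (congrArg Subtype.val h))
      obtain ⟨i, hi⟩ := Subgroup.mem_zpowers_iff.1
        (this.symm ▸ Subgroup.mem_top (⟨v, Subgroup.mem_zpowers v⟩ : Subgroup.zpowers v))
      exact ⟨i, congrArg Subtype.val hi⟩
    obtain ⟨i, hi⟩ := Subgroup.mem_zpowers_iff.1 hvu
    have hci : conjV ⟨k, hk⟩ = d ^ i := by
      show (⟨k, hk⟩ : twoStab G a t)⁻¹ * v * ⟨k, hk⟩ = _
      rw [← hi, hu, conj_zpow]
      group
    obtain ⟨n, hn⟩ : ∃ n : ℕ, d ^ n = d ^ i := by
      obtain ⟨n, hn⟩ := mem_powers_iff_mem_zpowers.2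
        (⟨i, rfl⟩ : d ^ i ∈ Subgroup.zpowers d)
      exact ⟨n, hn⟩
    have hfixn : ∀ n : ℕ, tw hY (d ^ n) θ = θ := by
      intro n
      induction n with
      | zero => rw [pow_zero, tw_one]
      | succ n ih => rw [pow_succ, ← tw_tw, hd, ih]
    refine Finset.mem_union_right _ (Finset.mem_biUnion.2
      ⟨_, Finset.mem_image_of_mem conjV (Finset.mem_univ ⟨k, hk⟩), Finset.mem_erase.2
        ⟨h1, Finset.mem_filter.2 ⟨Finset.mem_univ _, ?_⟩⟩⟩)
    rw [hci, ← hn]
    exact hfixn n
  have hY' : Nat.card Y = (Finset.univ : Finset (Cfsg.IrrCharacter Y)).card := by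
    rw [Finset.card_univ, ← Nat.card_eq_fintype_card, CharCore.card_irr]
    exact Nat.card_congr (Equiv.ofBijective ConjClasses.mk ⟨fun x y h => by
      obtain ⟨c', hc'⟩ := isConj_iff.1 (ConjClasses.mk_eq_mk_iff_isConj.1 h)
      rw [← hc', hab c' x, mul_inv_cancel_right], ConjClasses.mk_surjective⟩)
  rw [hY']
  refine (Finset.card_le_card hcov).trans ((Finset.card_union_le _ _).trans ?_)
  refine Nat.add_le_add ((Finset.card_union_le _ _).trans (by rw [Finset.card_singleton])) ?_
  refine (Finset.card_biUnion_le_card_mul _ _ (c - 1) fun u hu => ?_).trans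
    (Nat.mul_le_mul_right _ himg)
  obtain ⟨k, -, rfl⟩ := Finset.mem_image.1 hu
  exact (hFix k).le

/-- Every irreducible character of a subgroup of the centre lies under one of the whole group. -/
lemma exists_over {P : Type u} [Group P] [Finite P] (Z : Subgroup P)
    (hZ : Z ≤ Subgroup.center P) (l : Cfsg.IrrCharacter Z) :
    ∃ θ : Cfsg.IrrCharacter P, ∀ z : Z,
      (θ : P → ℂ) z = (θ : P → ℂ) 1 * (l : Z → ℂ) z := by
  classical
  haveI := Fintype.ofFinite P
  haveI := Fintype.ofFinite Z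
  have hμ : ∀ θ : Cfsg.IrrCharacter P, ∃ μ : Cfsg.IrrCharacter Z, ∀ z : Z,
      (θ : P → ℂ) z = (θ : P → ℂ) 1 * (μ : Z → ℂ) z := by
    intro θ
    choose c hc hcy using fun z : Z => CharDeep.Deg.exists_central_scalar θ (hZ z.2)
    have h0 : ∀ z, c z ≠ 0 := fun z h => by simpa [h] using hc z
    have h1 : ∀ z : Z, (θ : P → ℂ) z = (θ : P → ℂ) 1 * c z := fun z => by
      have := hcy z 1
      rw [mul_one] at this
      rw [this, mul_comm]
    have hθ := CharCore.irr_apply_one_ne_zero θ
    let f : Z →* ℂˣ := MonoidHom.mk' (fun z => Units.mk0 (c z) (h0 z)) fun x y => Units.ext (by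
      show c (x * y) = c x * c y
      have e : (θ : P → ℂ) ((x : P) * y) = c x * ((θ : P → ℂ) 1 * c y) :=
        (hcy x y).trans (by rw [h1 y])
      rw [← Subgroup.coe_mul, h1 (x * y)] at e
      exact mul_left_cancel₀ hθ (by linear_combination e))
    exact ⟨⟨_, CharCore.isIrrCharacter_hom f⟩, h1⟩
  choose μ hμ using hμ
  by_contra hcon
  have hne : ∀ θ, μ θ ≠ l := fun θ e => hcon ⟨θ, fun z => by rw [hμ θ z, e]⟩
  let g : Z → ℂ := fun z => ∑ θ : Cfsg.IrrCharacter P, (θ : P → ℂ) 1 * (θ : P → ℂ) z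
  have h1 : g = ∑ θ : Cfsg.IrrCharacter P, ((θ : P → ℂ) 1 * (θ : P → ℂ) 1) • (μ θ : Z → ℂ) := by
    funext z
    simp only [g, Finset.sum_apply, Pi.smul_apply, smul_eq_mul]
    exact Finset.sum_congr rfl fun θ _ => by rw [hμ θ z]; ring
  have h2 : Cfsg.classInner g (l : Z → ℂ) = 0 := by
    rw [h1, CharCore.classInner_sum_left]
    refine Finset.sum_eq_zero fun θ _ => ?_
    rw [CharCore.classInner_smul_left, CharCore.classInner_irr_of_ne (hne θ), mul_zero]
  rw [CharCore.classInner_def, Finset.sum_eq_single (1 : Z)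
    (fun z _ hz => by
      have : g z = 0 := (CharCore.sum_degree_mul_apply (z : P)).trans
        (if_neg fun e => hz (Subtype.ext e))
      rw [this, zero_mul]) (by simp),
    show g 1 = (Nat.card P : ℂ) from (CharCore.sum_degree_mul_apply ((1 : Z) : P)).trans
      (if_pos rfl)] at h2
  simp [CharCore.irr_apply_one_ne_zero l] at h2

end Cfsg.Agent.Suz27
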