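import Cfsg.Agent.Suz27.OddFamily
import Cfsg.Agent.Suz27.OddFree
import Cfsg.Agent.Suz27.Frobenius
import Cfsg.Agent.Suz27.NearField

/-!
`Q` is a 2-group (part C of `PLAN.md`).
-/

set_option autoImplicit false

namespace Cfsg.Agent.Suz27

open MulAction RankOne

universe u v

/-! ### Numerical facts -/

lemma free_lower (p : ℕ) {c : ℕ} (hc : 3 ≤ c) :
    (3 : ℤ) ^ p - 1 - 2 * ((2 : ℤ) ^ p - 1) ≤ (c : ℤ) ^ p - 1 - ((2 : ℤ) ^ p - 1) * ((c : ℤ) - 1) := by
  induction c, hc using Nat.le_induction with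
  | base => push_cast; linarith
  | succ c hc ih =>
    have hstep : ∀ j : ℕ, (2 : ℤ) ^ j - 1 ≤ ((c : ℤ) + 1) ^ j - (c : ℤ) ^ j := by
      intro j
      induction j with
      | zero => simp
      | succ j ihj =>
        have h1 : (1 : ℤ) ≤ (c : ℤ) ^ j := one_le_pow₀ (by omega)
        have h2 : (0 : ℤ) ≤ ((c : ℤ) + 1) ^ j - (c : ℤ) ^ j := by
          have := one_le_pow₀ (show (1 : ℤ) ≤ 2 by norm_num) (n := j)
          linarith
        rw [pow_succ, pow_succ, pow_succ]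
        nlinarith
    have := hstep p
    push_cast
    linarith

lemma growth {p : ℕ} (hp : 7 ≤ p) :
    (2 : ℤ) ^ p * (p : ℤ) ^ 2 ≤ 4 * ((3 : ℤ) ^ p - 1 - 2 * ((2 : ℤ) ^ p - 1)) := by
  induction p, hp using Nat.le_induction with
  | base => norm_num
  | succ p hp ih =>
    have h2 : (2 : ℤ) ≤ 2 ^ p := le_self_pow₀ (by norm_num) (by omega)
    have hp' : (7 : ℤ) ≤ p := by exact_mod_cast hp
    have e3 : (3 : ℤ) ^ (p + 1) = 3 * 3 ^ p := pow_succ' _ _
    have e2 : (2 : ℤ) ^ (p + 1) = 2 * 2 ^ p := pow_succ' _ _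
    rw [e3, e2]
    push_cast
    have hkey : 0 ≤ (2 : ℤ) ^ p * (3 * (p : ℤ) ^ 2 - 2 * ((p : ℤ) + 1) ^ 2) :=
      mul_nonneg (by linarith) (by nlinarith)
    nlinarith [hkey, ih, h2]

/-- The count of free characters contradicts the degree bound. -/
lemma free_numeric {p : ℕ} (hp : p.Prime) (hp2 : p ≠ 2) {c F : ℕ} (hc : 3 ≤ c)
    (hF : c ^ p ≤ F + 1 + (2 ^ p - 1) * (c - 1))
    (h : 4 * (2 : ℤ) ^ p * F < ((2 : ℤ) ^ p - 2) ^ 2 * (p : ℤ) ^ 2) : False := by
  have hF' : (c : ℤ) ^ p ≤ F + 1 + ((2 : ℤ) ^ p - 1) * ((c : ℤ) - 1) := by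
    have h1 : 1 ≤ 2 ^ p := Nat.one_le_two_pow
    have := Int.ofNat_le.2 hF
    push_cast [Nat.cast_sub h1, Nat.cast_sub (show 1 ≤ c by omega)] at this
    linarith
  have hlow := free_lower p hc
  rcases Nat.lt_or_ge p 7 with h7 | h7
  · have := hp.two_le
    interval_cases p
    · exact hp2 rfl
    · norm_num at h hF' hlow; omega
    · exact absurd hp (by decide)
    · norm_num at h hF' hlow; omega
    · exact absurd hp (by decide)
  · have hg := growth h7
    have h2 : (2 : ℤ) ≤ 2 ^ p := le_self_pow₀ (by norm_num) (by omega)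
    have h3 : (0 : ℤ) ≤ (p : ℤ) ^ 2 := sq_nonneg _
    nlinarith

/-- The two bounds on one orbit are incompatible. -/
lemma orbit_numeric {q m k n S c X d SX : ℤ} (hq : 4 ≤ q) (hm : 1 ≤ m) (hk : 1 ≤ k) (hn : 1 ≤ n)
    (hS : q ≤ S) (hd : 1 ≤ d) (hSX : k * X ^ 2 ≤ SX)
    (h1 : (n + 1) * (q - 1) * (S * SX) < (q - 2) ^ 2 * n * m * k) (hc : c ^ 2 < m)
    (hX : X = 2 * c + (q - 2) * m * d) (hX0 : X ≠ 0) (hXe : Even X) : False := by
  have hX2 : 0 ≤ X ^ 2 := sq_nonneg _
  have hXm : X ^ 2 < m := by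
    by_contra hge
    have e0 : (q - 2) ^ 2 * m ≤ (q - 1) * q * X ^ 2 :=
      mul_le_mul (by nlinarith) (not_lt.1 hge) (by omega) (mul_nonneg (by omega) (by omega))
    have e1 : (q - 2) ^ 2 * n * m * k ≤ n * (q - 1) * (q * (k * X ^ 2)) :=
      calc _ = n * k * ((q - 2) ^ 2 * m) := by ring
        _ ≤ n * k * ((q - 1) * q * X ^ 2) :=
          mul_le_mul_of_nonneg_left e0 (mul_nonneg (by omega) (by omega))
        _ = _ := by ring
    have e2 : n * (q - 1) * (q * (k * X ^ 2)) ≤ (n + 1) * (q - 1) * (S * SX) := by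
      refine mul_le_mul (mul_le_mul_of_nonneg_right (by omega) (by omega))
        (mul_le_mul hS hSX (mul_nonneg (by omega) hX2) (by omega))
        (mul_nonneg (by omega) (mul_nonneg (by omega) hX2)) (mul_nonneg (by omega) (by omega))
    exact absurd h1 (not_lt.2 (e1.trans e2))
  have hX4 : 4 ≤ X ^ 2 := by
    obtain ⟨r, rfl⟩ := hXe
    have h : 0 < r * r := mul_self_pos.2 fun e => hX0 (by rw [e, add_zero])
    nlinarith
  have hbig : 2 * m ≤ X - 2 * c := by
    have : 2 * m * 1 ≤ (q - 2) * m * d :=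
      mul_le_mul (mul_le_mul_of_nonneg_right (by omega) (by omega)) hd zero_le_one
        (mul_nonneg (by omega) (by omega))
    linarith
  nlinarith [sq_nonneg (2 * X + c), mul_le_mul hbig hbig (by omega) (by omega)]

/-- The degree bound with all invariants at least two. -/
lemma deg_numeric {q n p S T SX : ℤ} (hq : 4 ≤ q) (hS : q ≤ S) (hn : 0 ≤ n) (hT : 0 ≤ T)
    (hSX : 4 * T ≤ SX)
    (h1 : (n + 1) * (q - 1) * (S * SX) < (q - 2) ^ 2 * n * p * ((q - 1) * p)) :
    4 * q * T < (q - 2) ^ 2 * p ^ 2 := by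
  by_contra hge
  have e2 : (n + 1) * (q - 1) * (q * (4 * T)) ≤ (n + 1) * (q - 1) * (S * SX) :=
    mul_le_mul_of_nonneg_left (mul_le_mul hS hSX (by omega) (by omega))
      (mul_nonneg (by omega) (by omega))
  have e1 : (n + 1) * (q - 1) * ((q - 2) ^ 2 * p ^ 2) ≤ (n + 1) * (q - 1) * (q * (4 * T)) :=
    mul_le_mul_of_nonneg_left (by linarith [not_lt.1 hge]) (mul_nonneg (by omega) (by omega))
  nlinarith [mul_nonneg (by omega : (0 : ℤ) ≤ q - 1) (mul_nonneg (sq_nonneg (q - 2)) (sq_nonneg p))]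

variable {G : Type u} {Ω : Type v} [Group G] [MulAction G Ω] [Finite G] {a : Ω} {t : G}
  {Q : Subgroup G}

/-- An element of a `2`-subgroup killed by an odd exponent is trivial. -/
lemma eq_one_of_odd_two {H : Type*} [Group H] {X : Subgroup H} (hX : IsPGroup 2 X) {x : H}
    (hx : x ∈ X) {o : ℕ} (ho : Odd o) (hxo : x ^ o = 1) : x = 1 := by
  obtain ⟨j, hj⟩ := hX ⟨x, hx⟩
  exact eq_one_of_coprime_pow (Nat.Coprime.pow_left j ho.coprime_two_left)
    (congrArg Subtype.val hj) hxo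

/-- All elements of prime order of `V` lie in `W`: the part of odd order is trivial. -/
lemma odd_part_trivial_of_wker (hR : R1 G Ω a t Q) (hT : SubTypes a t Q) (sp : Split hR.setup)
    (hW : ∀ w ∈ vGrp a t, (orderOf w).Prime → w ∈ RankOneK.wker G a t) :
    Nat.card sp.O = 1 := by
  classical
  by_contra hO
  haveI := Fintype.ofFinite sp.O
  have hfpf : ∀ d : twoStab G a t, d ≠ 1 → ∀ y, conjSub sp.invO d y = y → y = 1 := by
    intro d hd y hy
    obtain ⟨r, hr, hrd⟩ := Nat.exists_prime_and_dvd (fun h => hd (orderOf_eq_one_iff.1 h))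
    set u := d ^ (orderOf d / r) with hu
    have huord : orderOf u = r := by
      rw [hu, orderOf_pow, Nat.gcd_eq_right (Nat.div_dvd_of_dvd hrd),
        Nat.div_div_self hrd (orderOf_pos d).ne']
    have hfix : ∀ n : ℕ, conjSub sp.invO (d ^ n) y = y := by
      intro n
      induction n with
      | zero => rw [pow_zero, conjSub_one]
      | succ n ih => rw [pow_succ', ← conjSub_conjSub, hy, ih]
    have hyu : (u : G)⁻¹ * ((y : Q) : G) * u = ((y : Q) : G) :=
      congrArg (fun z : sp.O => ((z : Q) : G)) (hfix _)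
    by_contra hy1
    obtain ⟨k, hk, hkV⟩ := hR.conj_into_V (d := (u : G)) (x := ((y : Q) : G)) u.2 (y : Q).2
      (fun e => hy1 (Subtype.ext (Subtype.ext e))) (by
        calc (u : G) * ((y : Q) : G) = (u : G) * ((u : G)⁻¹ * ((y : Q) : G) * u) := by rw [hyu]
          _ = _ := by group)
    set w := k * (u : G) * k⁻¹ with hw
    have hword : orderOf w = r := by
      rw [← huord, ← Subgroup.orderOf_coe u]
      exact (MulEquiv.orderOf_eq (MulAut.conj k) (u : G))
    have hwW := hW w hkV (hword ▸ hr)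
    have hw1 : w ≠ 1 := fun e => hr.one_lt.ne' (by rw [← hword, e, orderOf_one])
    obtain ⟨h2, -, -⟩ := NearFld.hasType_wker hR hT hwW hw1
    have hmem : k * ((y : Q) : G) * k⁻¹ ∈ Q ⊓ Subgroup.centralizer {w} := by
      refine Subgroup.mem_inf.2 ⟨hR.setup.conj_mem k hk.1 _ (y : Q).2,
        Subgroup.mem_centralizer_singleton_iff.2 ?_⟩
      calc k * ((y : Q) : G) * k⁻¹ * w
          = k * ((u : G) * ((u : G)⁻¹ * ((y : Q) : G) * u)) * k⁻¹ := by rw [hw]; group
        _ = w * (k * ((y : Q) : G) * k⁻¹) := by rw [hyu, hw]; group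
    refine hy1 (Subtype.ext (Subtype.ext (conj_eq_one_iff.1
      (eq_one_of_odd_two h2 hmem sp.odd ?_))))
    rw [conj_pow, ← Subgroup.coe_pow, ← Subgroup.coe_pow, pow_card_eq_one', Subgroup.coe_one,
      Subgroup.coe_one, mul_one, mul_inv_cancel]
  set one : Cfsg.IrrCharacter sp.O := ⟨1, CharCore.isIrrCharacter_one⟩ with hone
  set T := (Finset.univ : Finset (Cfsg.IrrCharacter sp.O)).erase one with hT'
  have hfree : ∀ θ ∈ T, Free sp.invO θ := fun θ hθ d hd => by
    by_contra hd1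
    exact Finset.ne_of_mem_erase hθ (Subtype.ext (eq_trivial_of_fpf sp.invO d (hfpf d hd1) hd))
  have hst : ∀ θ ∈ T, ∀ d, tw sp.invO d θ ∈ T := fun θ hθ d => by
    refine Finset.mem_erase.2 ⟨fun e => Finset.ne_of_mem_erase hθ ?_, Finset.mem_univ _⟩
    have := congrArg (tw sp.invO d⁻¹) e
    rw [tw_tw, inv_mul_cancel, tw_one] at this
    rw [this]
    exact Subtype.ext (funext fun x => rfl)
  have hd1 : Cfsg.charDegree (one : sp.O → ℂ) = 1 :=
    CharDeep.Deg.degree_of_eq Nat.cast_one.symm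
  have hsum : ∑ θ ∈ T, (Cfsg.charDegree (θ : sp.O → ℂ) : ℤ) ^ 2 = (Nat.card sp.O : ℤ) - 1 := by
    rw [Finset.sum_erase_eq_sub (Finset.mem_univ one), hd1, Nat.cast_one, one_pow]
    congr 1
    exact_mod_cast sum_charDegree_sq (P := sp.O)
  have hne : T.Nonempty := by
    rw [Finset.nonempty_iff_ne_empty]
    intro he
    rw [he, Finset.sum_empty] at hsum
    have := Nat.card_pos (α := sp.O)
    omega
  obtain ⟨θ₀, hθ₀⟩ := hne
  obtain ⟨c, X, hX, hcc, h1, h2⟩ := odd_bounds hR sp T hfree hst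
  set q := qOf Q with hq
  set m := Nat.card (vGrp a t) with hm
  set k := Nat.card (twoStab G a t) with hk
  set d₀ := Cfsg.charDegree (θ₀ : sp.O → ℂ) with hd₀
  obtain ⟨hX₀, hX0, hXe⟩ := hX θ₀ hθ₀
  -- the orbit of `θ₀`
  have horb : ∀ d : twoStab G a t, tw sp.invO d θ₀ ∈ T := fun d => hst θ₀ hθ₀ d
  have hq4 : (4 : ℤ) ≤ q := by exact_mod_cast hR.four_le_q
  have hm1 : (1 : ℤ) ≤ m := by exact_mod_cast Nat.one_le_iff_ne_zero.2 Nat.card_pos.ne'
  have hk1 : (1 : ℤ) ≤ k := by exact_mod_cast Nat.one_le_iff_ne_zero.2 Nat.card_pos.ne'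
  have hn : (Nat.card Q : ℤ) = Nat.card sp.S * Nat.card sp.O := by exact_mod_cast sp.card_eq
  have hs : (q : ℤ) ≤ Nat.card sp.S := by
    rw [hq, ← sp.card_sq_one]
    exact_mod_cast Nat.card_le_card_of_injective _ Subtype.val_injective
  have hkm : (k : ℤ) = ((q : ℤ) - 1) * m := by
    rw [hk, hR.card_twoStab, Nat.cast_mul, Nat.cast_sub (by have := hR.four_le_q; omega)]
    rfl
  have hcsum : ∑ θ ∈ T, c θ ^ 2 < (k : ℤ) * m := by
    rw [Finset.sum_add_distrib, ← Finset.sum_mul, ← Finset.sum_mul, hsum, hn] at h2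
    have hs0 : (0 : ℤ) < Nat.card sp.S := by exact_mod_cast Nat.card_pos
    have := lt_of_mul_lt_mul_left (a := (Nat.card sp.S : ℤ))
      (b := ∑ θ ∈ T, c θ ^ 2 + ((Nat.card sp.O : ℤ) - 1) * k * m)
      (c := (Nat.card sp.O : ℤ) * m * k) (lt_of_lt_of_eq h2 (by ring)) hs0.le
    nlinarith
  -- the invariants are constant on the orbit
  haveI := Fintype.ofFinite (twoStab G a t)
  set T₀ := (Finset.univ : Finset (twoStab G a t)).image fun d => tw sp.invO d θ₀ with hT₀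
  have hsub : T₀ ⊆ T := fun θ hθ => by
    obtain ⟨d, -, rfl⟩ := Finset.mem_image.1 hθ
    exact horb d
  have hcard : T₀.card = k := by
    rw [Finset.card_image_of_injective _ (hfree θ₀ hθ₀).inj, Finset.card_univ,
      ← Nat.card_eq_fintype_card]
  have hval : ∀ θ ∈ T₀, c θ = c θ₀ ∧ X θ = X θ₀ := fun θ hθ => by
    obtain ⟨d, -, rfl⟩ := Finset.mem_image.1 hθ
    have hce := hcc _ θ₀ (charDegree_tw sp.invO d θ₀)
    exact ⟨hce, by rw [(hX _ (horb d)).1, hX₀, hce, charDegree_tw]⟩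
  have horbit : ∀ f : Cfsg.IrrCharacter sp.O → ℤ, (∀ θ ∈ T₀, f θ = f θ₀) →
      (∀ θ, 0 ≤ f θ) → (k : ℤ) * f θ₀ ≤ ∑ θ ∈ T, f θ := fun f hf h0 => by
    refine le_trans (le_of_eq ?_) (Finset.sum_le_sum_of_subset_of_nonneg hsub fun θ _ _ => h0 θ)
    rw [Finset.sum_congr rfl hf, Finset.sum_const, hcard, nsmul_eq_mul]
  have hc0 := horbit (fun θ => c θ ^ 2) (fun θ hθ => by rw [(hval θ hθ).1]) fun θ => sq_nonneg _
  have hX1 := horbit (fun θ => X θ ^ 2) (fun θ hθ => by rw [(hval θ hθ).2]) fun θ => sq_nonneg _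
  have hcm : c θ₀ ^ 2 < (m : ℤ) :=
    lt_of_mul_lt_mul_left (lt_of_le_of_lt hc0 hcsum) (by omega)
  exact orbit_numeric hq4 hm1 hk1 (by exact_mod_cast Nat.one_le_iff_ne_zero.2 Nat.card_pos.ne') hs
    (by exact_mod_cast CharDeep.Deg.degree_pos θ₀) hX1 h1 hcm hX₀ hX0 hXe

open Classical in
/-- A prime order element of `V` with one involution in its centraliser in `Q` and `W = 1`. -/
lemma odd_part_trivial_of_cent_two (hR : R1 G Ω a t Q) (sp : Split hR.setup) {v : G}
    (hv : v ∈ vGrp a t) {p : ℕ} (hp : p.Prime) (hord : orderOf v = p) (hqQ : qOf Q = 2 ^ p)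
    (hgen : ∀ x ∈ vGrp a t, x ∈ Subgroup.zpowers v)
    (hX : ∀ X : Subgroup G, X ≤ Q →
      (∀ k ∈ Cfsg.invertedBy (twoStab G a t) t, ∀ x ∈ X, k * x * k⁻¹ ∈ X) →
      (∀ x ∈ X, v * x * v⁻¹ ∈ X) →
      Nat.card X = Nat.card ↥(X ⊓ Subgroup.centralizer {v}) ^ p) :
    Nat.card sp.O = 1 := by
  by_contra hO
  haveI := hR.faithful
  haveI : Group.IsNilpotent Q := isNilpotent_Q hR.setup hR.rank2
  haveI : Nontrivial sp.O := Finite.one_lt_card_iff_nontrivial.1 (by
    have := Nat.card_pos (α := sp.O)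
    omega)
  set vD : twoStab G a t := ⟨v, (Subgroup.mem_inf.1 hv).1⟩ with hvD
  have hp2 : p ≠ 2 := fun e => by
    have h : 2 ∣ Nat.card (twoStab G a t) := by
      rw [← e, ← hord, ← Subgroup.orderOf_mk v (Subgroup.mem_inf.1 hv).1]
      exact orderOf_dvd_natCard _
    exact Nat.not_even_iff_odd.2 hR.setup.odd_card (even_iff_two_dvd.2 h)
  have hm : Nat.card (vGrp a t) = p := by
    rw [show vGrp a t = Subgroup.zpowers v from
      le_antisymm hgen (Subgroup.zpowers_le.2 hv), Nat.card_zpowers, hord]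
  -- the centre of the part of odd order
  set Y : Subgroup Q := (Subgroup.center sp.O).map sp.O.subtype with hYdef
  have hY : DInv hR.setup Y := by
    rintro d x ⟨z, hz, rfl⟩
    refine ⟨conjSub sp.invO d z, Subgroup.mem_center_iff.2 fun g => ?_, rfl⟩
    obtain ⟨g', rfl⟩ := conjSub_surjective sp.invO d g
    rw [← map_mul, ← map_mul, Subgroup.mem_center_iff.1 hz g']
  have hYO : Y ≤ sp.O := Subgroup.map_subtype_le _
  have hYc : ∀ (g : sp.O) (y : Y), g * ⟨y, hYO y.2⟩ = ⟨y, hYO y.2⟩ * g := by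
    rintro g ⟨y, z, hz, rfl⟩
    exact Subgroup.mem_center_iff.1 hz g
  have hab : ∀ x y : Y, x * y = y * x := fun x y =>
    Subtype.ext (congrArg (fun z : sp.O => (z : Q)) (hYc ⟨x, hYO x.2⟩ y))
  have hYcard : Nat.card Y = Nat.card (Subgroup.center sp.O) :=
    (Nat.card_congr (Subgroup.equivMapOfInjective _ _ sp.O.subtype_injective).toEquiv).symm
  have hY1 : 1 < Nat.card Y := by
    rw [hYcard, Finite.one_lt_card_iff_nontrivial, Subgroup.nontrivial_iff_ne_bot]
    exact Group.IsNilpotent.center_ne_bot _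
  -- its fixed points of `v`
  set X := Y.map Q.subtype with hXdef
  have hXY : Nat.card X = Nat.card Y :=
    (Nat.card_congr (Subgroup.equivMapOfInjective _ _ Q.subtype_injective).toEquiv).symm
  have hXinv : ∀ d : twoStab G a t, ∀ x ∈ X, (d : G) * x * (d : G)⁻¹ ∈ X := by
    rintro d _ ⟨y, hy, rfl⟩
    exact ⟨conjHom hR.setup d⁻¹ y, hY d⁻¹ y hy, by simp⟩
  set c := Nat.card {y : Y // conjSub hY vD y = y} with hc
  have hcX : Nat.card ↥(X ⊓ Subgroup.centralizer {v}) = c := by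
    refine (Nat.card_congr (Equiv.ofBijective
      (fun y : {y : Y // conjSub hY vD y = y} =>
        (⟨((y.1 : Q) : G), Subgroup.mem_inf.2 ⟨⟨y.1, y.1.2, rfl⟩,
          Subgroup.mem_centralizer_singleton_iff.2 (by
            have h : v⁻¹ * ((y.1 : Q) : G) * v = ((y.1 : Q) : G) :=
              congrArg (fun z : Y => ((z : Q) : G)) y.2
            calc ((y.1 : Q) : G) * v = v * (v⁻¹ * ((y.1 : Q) : G) * v) := by group
              _ = v * ((y.1 : Q) : G) := by rw [h])⟩⟩ :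
          ↥(X ⊓ Subgroup.centralizer {v}))) ⟨?_, ?_⟩)).symm
    · intro x y h
      have h' := congrArg (fun z : ↥(X ⊓ Subgroup.centralizer {v}) => (z : G)) h
      exact Subtype.ext (Subtype.ext (Subtype.ext h'))
    · rintro ⟨_, ⟨y, hy, rfl⟩, hyv⟩
      refine ⟨⟨⟨y, hy⟩, Subtype.ext (Subtype.ext ?_)⟩, rfl⟩
      have h : (y : G) * v = v * y := Subgroup.mem_centralizer_singleton_iff.1 hyv
      show v⁻¹ * (y : G) * v = y
      rw [mul_assoc, h, ← mul_assoc, inv_mul_cancel, one_mul]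
  have hcard : Nat.card Y = c ^ p := by
    rw [← hXY, ← hcX]
    exact hX X (Subgroup.map_subtype_le _) (fun k hk => hXinv ⟨k, hk.1⟩) (hXinv vD)
  have hcodd : Odd c := by
    refine Odd.of_dvd_nat sp.odd ?_
    rw [← hcX]
    refine (Subgroup.card_dvd_of_le inf_le_left).trans ?_
    rw [hXY, hYcard]
    exact Subgroup.card_subgroup_dvd_card _
  have hc3 : 3 ≤ c := by
    obtain ⟨i, hi⟩ := hcodd
    rcases Nat.eq_zero_or_pos i with h | h
    · rw [hi, h, mul_zero, zero_add, one_pow] at hcard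
      omega
    · omega
  -- a free character of `O` over each free character of the centre
  set F := Finset.univ.filter fun l : Cfsg.IrrCharacter Y => Free hY l with hF
  have hcount := card_le_free hR hY hab (v := vD) hv hp
    ((Subgroup.orderOf_mk v _).trans hord) hgen
  rw [hcard, ← hF, hqQ, ← hc] at hcount
  set T := Finset.univ.filter fun θ : Cfsg.IrrCharacter sp.O => Free sp.invO θ with hT
  have hFT : F.card ≤ T.card := by
    have hZ : Y.subgroupOf sp.O ≤ Subgroup.center sp.O := fun z hz =>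
      Subgroup.mem_center_iff.2 fun g => hYc g ⟨z, hz⟩
    let e := Subgroup.subgroupOfEquivOfLe hYO
    have hover : ∀ l : Cfsg.IrrCharacter Y, ∃ θ : Cfsg.IrrCharacter sp.O, ∀ y : Y,
        (θ : sp.O → ℂ) ⟨y, hYO y.2⟩ = (θ : sp.O → ℂ) 1 * (l : Y → ℂ) y := by
      intro l
      obtain ⟨θ, hθ⟩ := exists_over (Y.subgroupOf sp.O) hZ
        ⟨_, CharCore.isIrrCharacter_comp_surjective l.2 e.toMonoidHom e.surjective⟩
      exact ⟨θ, fun y => hθ ⟨⟨y, hYO y.2⟩, y.2⟩⟩
    choose θ hθ using hover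
    refine Finset.card_le_card_of_injOn θ (fun l hl => ?_) fun l _ l' _ h => ?_
    · refine Finset.mem_filter.2 ⟨Finset.mem_univ _, fun d hd => ?_⟩
      refine (Finset.mem_filter.1 hl).2 d (Subtype.ext (funext fun y => ?_))
      refine mul_left_cancel₀ (CharCore.irr_apply_one_ne_zero (θ l)) ?_
      rw [tw_apply, ← hθ, ← hθ]
      exact congrFun (congrArg Subtype.val hd) ⟨y, hYO y.2⟩
    · refine Subtype.ext (funext fun y => mul_left_cancel₀
        (CharCore.irr_apply_one_ne_zero (θ l)) ?_)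
      rw [← hθ, h, ← hθ]
  obtain ⟨cc, XX, hXX, -, h1, -⟩ := odd_bounds hR sp T (fun θ hθ => (Finset.mem_filter.1 hθ).2)
    (fun θ hθ d => Finset.mem_filter.2
      ⟨Finset.mem_univ _, (Finset.mem_filter.1 hθ).2.tw d⟩)
  have hsum : (4 : ℤ) * T.card ≤ ∑ θ ∈ T, XX θ ^ 2 := by
    have hge : ∀ θ ∈ T, (4 : ℤ) ≤ XX θ ^ 2 := fun θ hθ => by
      obtain ⟨-, h0, r, hr⟩ := hXX θ hθ
      have h : 0 < r * r := mul_self_pos.2 fun e => h0 (by rw [hr, e, add_zero])
      rw [hr]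
      nlinarith
    calc (4 : ℤ) * T.card = ∑ θ ∈ T, (4 : ℤ) := by rw [Finset.sum_const, nsmul_eq_mul, mul_comm]
      _ ≤ _ := Finset.sum_le_sum hge
  have hs : (qOf Q : ℤ) ≤ Nat.card sp.S := by
    rw [← sp.card_sq_one]
    exact_mod_cast Nat.card_le_card_of_injective _ Subtype.val_injective
  have hq4 : (4 : ℤ) ≤ qOf Q := by exact_mod_cast hR.four_le_q
  rw [hR.card_twoStab, hm, Nat.cast_mul, Nat.cast_sub (by have := hR.four_le_q; omega)] at h1
  refine free_numeric hp hp2 hc3 (hcount.trans (by omega) : c ^ p ≤ T.card + 1 +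
    (2 ^ p - 1) * (c - 1)) ?_
  rw [show (2 : ℤ) ^ p = (qOf Q : ℤ) by rw [hqQ]; push_cast; rfl]
  exact deg_numeric hq4 hs (by positivity) (by positivity) hsum h1

/-- `Q` is a `2`-group, given the Frobenius lemma. -/
theorem isPGroup_two_of (hR : R1 G Ω a t Q) (hG : Gen t Q) (hT : SubTypes a t Q)
    (hfrob : ∀ v ∈ vGrp a t, ∀ p : ℕ, p.Prime → orderOf v = p → v ∉ RankOneK.wker G a t →
      qOf Q = qOf (Q ⊓ Subgroup.centralizer {v}) ^ p ∧
      ∀ X : Subgroup G, X ≤ Q →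
        (∀ k ∈ Cfsg.invertedBy (twoStab G a t) t, ∀ x ∈ X, k * x * k⁻¹ ∈ X) →
        (∀ x ∈ X, v * x * v⁻¹ ∈ X) →
        Nat.card X = Nat.card ↥(X ⊓ Subgroup.centralizer {v}) ^ p) :
    IsPGroup 2 Q := by
  haveI : Fact (Nat.Prime 2) := ⟨Nat.prime_two⟩
  obtain ⟨sp⟩ := exists_split hR
  have hfin : Nat.card sp.O = 1 → IsPGroup 2 Q := fun h => by
    obtain ⟨j, hj⟩ := IsPGroup.iff_card.1 sp.two
    exact IsPGroup.of_card (n := j) (by rw [sp.card_eq, h, hj, mul_one])
  by_cases hW : ∀ w ∈ vGrp a t, (orderOf w).Prime → w ∈ RankOneK.wker G a t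
  · exact hfin (odd_part_trivial_of_wker hR hT sp hW)
  obtain ⟨v, hv, hp, hvW⟩ : ∃ v ∈ vGrp a t, (orderOf v).Prime ∧ v ∉ RankOneK.wker G a t := by
    by_contra hcon
    exact hW fun w hw hwp => of_not_not fun hh => hcon ⟨w, hw, hwp, hh⟩
  set p := orderOf v with hord
  obtain ⟨hq, hX⟩ := hfrob v hv p hp hord.symm hvW
  have hnQ := hX Q le_rfl (fun k hk x hx => hR.setup.conj_mem k hk.1.1 x hx)
    (fun x hx => hR.setup.conj_mem v (Subgroup.mem_inf.1 (Subgroup.mem_inf.1 hv).1).1 x hx)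
  rcases Nat.lt_trichotomy (qOf (Q ⊓ Subgroup.centralizer {v})) 2 with h | h | h
  · have h4 := hR.four_le_q
    have := Nat.pow_le_pow_left (show qOf (Q ⊓ Subgroup.centralizer {v}) ≤ 1 by omega) p
    rw [one_pow] at this
    omega
  · rw [h] at hq
    by_cases hW1 : RankOneK.wker G a t = ⊥
    · refine hfin (odd_part_trivial_of_cent_two hR sp hv hp hord.symm hq (fun x hx => ?_) hX)
      obtain ⟨j, hj⟩ := NearFld.exists_zpow_mul_mem_wker hR hp hq hv hvW hx
      rw [hW1, Subgroup.mem_bot] at hj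
      exact ⟨-j, by
        show v ^ (-j) = x
        rw [zpow_neg]
        exact inv_eq_of_mul_eq_one_right hj⟩
    · exact isPGroup_two_of_cent_two' hR hG hT hv hp hord.symm h hW1 hq hnQ
  · obtain ⟨j, hj⟩ := IsPGroup.iff_card.1 (hT v hv (fun e => hvW (e ▸ one_mem _)) h).1
    exact IsPGroup.of_card (n := j * p) (by rw [hnQ, hj, pow_mul])

/-- If `G` is generated by `Q` and `t` and the centralisers in `Q` of elements of `C_D(t)` have
the known shapes, then `Q` is a `2`-group. -/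
theorem isPGroup_two (hR : R1 G Ω a t Q) (hG : Gen t Q) (hT : SubTypes a t Q) : IsPGroup 2 Q :=
  isPGroup_two_of hR hG hT fun _ hv _ hp hord hvW => frobenius_card hR hv hp hord hvW

end Cfsg.Agent.Suz27
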