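import Cfsg.Agent.Suz27.NearFieldBase

/-!
The inductive step of part D: for `v ∈ C_D(t)` with at least three elements of square one in
`C_Q(v)`, the centraliser of `v` modulo the kernel of its action on the fixed points of `v` is a
smaller group of the same kind, so the induction hypothesis gives `SubTypes`.
-/

set_option autoImplicit false

namespace Cfsg.Agent.Suz27

open MulAction RankOne

universe u v

/-- The group induced by `C(w)` on the fixed points of `w`, as a quotient of `C(w)`. -/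
abbrev centQuot {G : Type u} (Ω : Type v) [Group G] [MulAction G Ω] (w : G) : Type u :=
  ↥(Subgroup.centralizer ({w} : Set G)) ⧸ (NearFld.act (Ω := Ω) w).ker

noncomputable instance centQuotAction {G : Type u} (Ω : Type v) [Group G] [MulAction G Ω] (w : G) :
    MulAction (centQuot Ω w) {q : Ω // w • q = q} :=
  MulAction.compHom _ (QuotientGroup.kerLift (NearFld.act (Ω := Ω) w))

/-- `qOf` only depends on the isomorphism type of the subgroup. -/
lemma qOf_congr {G H : Type*} [Group G] [Group H] {X : Subgroup G} {Y : Subgroup H} (e : X ≃* Y) :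
    qOf Y = qOf X := by
  let eX : {x : X // x * x = 1} ≃ {x : G // x ∈ X ∧ x * x = 1} :=
    { toFun := fun x => ⟨x.1, x.1.2, congrArg Subtype.val x.2⟩
      invFun := fun x => ⟨⟨x.1, x.2.1⟩, Subtype.ext x.2.2⟩
      left_inv := fun _ => rfl
      right_inv := fun _ => rfl }
  let eY : {x : Y // x * x = 1} ≃ {x : H // x ∈ Y ∧ x * x = 1} :=
    { toFun := fun x => ⟨x.1, x.1.2, congrArg Subtype.val x.2⟩
      invFun := fun x => ⟨⟨x.1, x.2.1⟩, Subtype.ext x.2.2⟩
      left_inv := fun _ => rfl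
      right_inv := fun _ => rfl }
  refine (Nat.card_congr ((eX.symm.trans (Equiv.subtypeEquiv e.toEquiv fun x => ?_)).trans eY)).symm
  show x * x = 1 ↔ e x * e x = 1
  rw [← map_mul, map_eq_one_iff e e.injective]

section
variable {G : Type u} {Ω : Type v} [Group G] [Finite G] [MulAction G Ω] {a : Ω} {t : G}
  {Q : Subgroup G}

/-- The induction step for `SubTypes`. -/
theorem subTypes_of_smaller (hR : R1 G Ω a t Q)
    (IH : ∀ (G' : Type u) [Group G'] [Finite G'] (Ω' : Type v) [MulAction G' Ω'] (a' : Ω') (t' : G')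
      (Q' : Subgroup G'), R1 G' Ω' a' t' Q' → Nat.card G' < Nat.card G →
        HasType Q' (RInv a' t' Q')) :
    SubTypes a t Q := by
  classical
  intro w hw hw1 hq
  have hS := hR.setup
  haveI := finite_omega hS
  set C := Subgroup.centralizer ({w} : Set G) with hC
  set cQ := Q ⊓ C with hcQ
  set π := NearFld.act (Ω := Ω) w with hπ
  obtain ⟨s, r, hs, hr, heq⟩ := structure_exists hS
  have hwa : w • a = a := (Subgroup.mem_inf.1 hw.1).1
  have hwb : w • t • a = t • a := (Subgroup.mem_inf.1 hw.1).2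
  have hwt : w * t = t * w := Subgroup.mem_centralizer_singleton_iff.1 hw.2
  obtain ⟨hwr, hws⟩ := comm_of_comm_t hS hs hr heq hw.1 hwt
  have hsI : IsInv s := ⟨hs.2.1, hs.2.2⟩
  have hsQ : s ∈ Q := invol_mem_Q hS hsI hs.1
  have htC : t ∈ C := Subgroup.mem_centralizer_singleton_iff.2 hwt.symm
  have hsC : s ∈ C := Subgroup.mem_centralizer_singleton_iff.2 hws.symm
  have hrC : r ∈ C := Subgroup.mem_centralizer_singleton_iff.2 hwr.symm
  set a' : {q : Ω // w • q = q} := ⟨a, hwa⟩ with ha'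
  set mk := QuotientGroup.mk' π.ker with hmk
  have hsm : ∀ (c : C) (q : {q : Ω // w • q = q}),
      ((mk c • q : {q : Ω // w • q = q}) : Ω) = (c : G) • (q : Ω) := fun _ _ => rfl
  set Q' : Subgroup (centQuot Ω w) := (cQ.subgroupOf C).map mk with hQ'
  set t' : centQuot Ω w := mk ⟨t, htC⟩ with ht'
  have hta' : t' • a' = ⟨t • a, hwb⟩ := Subtype.ext rfl
  -- `cQ` maps injectively
  have hinjQ : ∀ c : C, (c : G) ∈ Q → mk c = 1 → c = 1 := by
    intro c hc h
    have hk : c ∈ π.ker := (QuotientGroup.eq_one_iff c).1 h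
    refine Subtype.ext (Q_fix_unique hS hc (ta_ne hS) ?_)
    exact congrArg (fun e : Equiv.Perm {q : Ω // w • q = q} =>
      ((e ⟨t • a, hwb⟩ : {q : Ω // w • q = q}) : Ω)) (MonoidHom.mem_ker.1 hk)
  -- two-transitivity
  have hs2 : s • t • a ≠ a := smul_Q_ne hS hsQ (ta_ne hS)
  have hs1 : s • t • a ≠ t • a := fun e => ta_ne hS (fixed_unique hS hsI e hs.1)
  have hsf : w • s • t • a = s • t • a := by rw [← mul_smul, hws, mul_smul, hwb]
  have f : ∀ {x : Ω}, w • x = x → Fixes ({w} : Set G) x := fun hx y hy => by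
    rw [Set.mem_singleton_iff.1 hy]; exact hx
  have h3 : ∃ b c d : Ω, b ≠ c ∧ b ≠ d ∧ c ≠ d ∧ Fixes ({w} : Set G) b ∧
      Fixes ({w} : Set G) c ∧ Fixes ({w} : Set G) d :=
    ⟨a, t • a, s • t • a, (ta_ne hS).symm, hs2.symm, hs1.symm, f hwa, f hwb, f hsf⟩
  have hlift : ∀ g : centQuot Ω w, ∃ c : C, mk c = g := QuotientGroup.mk'_surjective _
  -- decomposition of the stabiliser
  have hdec : ∀ c : C, (c : G) • a = a → ∃ q d : C, (q : G) ∈ Q ∧
      (d : G) ∈ twoStab G a t ∧ c = q * d := by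
    rintro ⟨g, hg⟩ hga
    obtain ⟨q, hq', d, hd, rfl⟩ := exists_decomp hS hga
    have hwc : w * (q * d) * w⁻¹ = q * d := by
      rw [← Subgroup.mem_centralizer_singleton_iff.1 hg]; group
    obtain ⟨h1, h2⟩ := decomp_unique hS (q := w * q * w⁻¹) (d := w * d * w⁻¹)
      (hS.conj_mem w hwa q hq') (mul_mem (mul_mem hw.1 hd) (inv_mem hw.1))
      hq' hd (by rw [← hwc]; group)
    exact ⟨⟨q, Subgroup.mem_centralizer_singleton_iff.2 (mul_inv_eq_iff_eq_mul.1 h1).symm⟩,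
      ⟨d, Subgroup.mem_centralizer_singleton_iff.2 (mul_inv_eq_iff_eq_mul.1 h2).symm⟩, hq', hd,
      Subtype.ext rfl⟩
  have hsetup : Cfsg.IsRankOneSetup (centQuot Ω w) {q : Ω // w • q = q} a' t' Q' := by
    refine
      { two_transitive := is_two_pretransitive_iff.2 fun {p q p' q'} hpq hpq' => ?_
        mul_self := ?_
        ne_one := fun h => ?_
        not_mem := fun h => ?_
        le := ?_
        conj_mem := ?_
        inf_eq_bot := ?_
        sup_eq := ?_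
        even_card := ?_
        odd_card := ?_ }
    · obtain ⟨g, hg, h1, h2⟩ := cent_two_transitive hS h3 (f p.2) (f q.2) (f p'.2) (f q'.2)
        (fun e => hpq (Subtype.ext e)) (fun e => hpq' (Subtype.ext e))
      exact ⟨mk ⟨g, hg⟩, Subtype.ext h1, Subtype.ext h2⟩
    · rw [ht', ← map_mul, show (⟨t, htC⟩ : C) * ⟨t, htC⟩ = 1 from Subtype.ext hS.mul_self, map_one]
    · refine ta_ne hS ?_
      have := congrArg (fun x : centQuot Ω w => ((x • a' : {q : Ω // w • q = q}) : Ω)) h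
      simpa [ht', hsm, ha'] using this
    · exact ta_ne hS (congrArg Subtype.val h)
    · rintro _ ⟨q, hq', rfl⟩
      exact Subtype.ext (Q_fix_a hS (Subgroup.mem_inf.1 (Subgroup.mem_subgroupOf.1 hq')).1)
    · rintro h hh _ ⟨q, hq', rfl⟩
      obtain ⟨c, rfl⟩ := hlift h
      refine ⟨c * q * c⁻¹, Subgroup.mem_subgroupOf.2 (Subgroup.mem_inf.2 ⟨?_, (c * q * c⁻¹).2⟩), by simp⟩
      exact hS.conj_mem (c : G) (congrArg Subtype.val hh) q
        (Subgroup.mem_inf.1 (Subgroup.mem_subgroupOf.1 hq')).1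
    · rw [eq_bot_iff]
      rintro x ⟨⟨q, hq', rfl⟩, hx⟩
      have hb : (q : G) • t • a = t • a := by
        have : mk q • (t' • a') = t' • a' := hx
        rw [hta'] at this
        exact congrArg Subtype.val this
      have : q = 1 := Subtype.ext
        (Q_fix_unique hS (Subgroup.mem_inf.1 (Subgroup.mem_subgroupOf.1 hq')).1 (ta_ne hS) hb)
      rw [this, map_one]
      exact Subgroup.one_mem _
    · refine le_antisymm (sup_le ?_ inf_le_left) fun g hg => ?_
      · rintro _ ⟨q, hq', rfl⟩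
        exact Subtype.ext (Q_fix_a hS (Subgroup.mem_inf.1 (Subgroup.mem_subgroupOf.1 hq')).1)
      obtain ⟨c, rfl⟩ := hlift g
      obtain ⟨q, d, hq', hd, rfl⟩ := hdec c (congrArg Subtype.val hg)
      rw [map_mul]
      refine mul_mem (Subgroup.mem_sup_left
        ⟨q, Subgroup.mem_subgroupOf.2 (Subgroup.mem_inf.2 ⟨hq', q.2⟩), rfl⟩)
        (Subgroup.mem_sup_right (Subgroup.mem_inf.2 ⟨?_, ?_⟩))
      · exact Subtype.ext (Subgroup.mem_inf.1 hd).1
      · rw [mem_stabilizer_iff, hta']; exact Subtype.ext (Subgroup.mem_inf.1 hd).2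
    · rw [even_iff_two_dvd]
      have hs1' : mk ⟨s, hsC⟩ ≠ 1 := fun h =>
        hs.2.1 (congrArg Subtype.val (hinjQ ⟨s, hsC⟩ hsQ h))
      have ho : orderOf (mk ⟨s, hsC⟩) = 2 := orderOf_eq_prime (by
        rw [pow_two, ← map_mul, show (⟨s, hsC⟩ : C) * ⟨s, hsC⟩ = 1 from Subtype.ext hs.2.2, map_one])
        hs1'
      rw [← ho]
      exact Subgroup.orderOf_dvd_natCard _
        ⟨⟨s, hsC⟩, Subgroup.mem_subgroupOf.2 (Subgroup.mem_inf.2 ⟨hsQ, hsC⟩), rfl⟩
    · set D' := ((twoStab G a t).subgroupOf C).map mk with hD'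
      have hle : stabilizer (centQuot Ω w) a' ⊓ stabilizer (centQuot Ω w) (t' • a') ≤ D' := by
        intro g hg
        obtain ⟨h1, h2⟩ := Subgroup.mem_inf.1 hg
        obtain ⟨c, rfl⟩ := hlift g
        refine ⟨c, Subgroup.mem_subgroupOf.2 (Subgroup.mem_inf.2 ⟨congrArg Subtype.val h1, ?_⟩), rfl⟩
        rw [mem_stabilizer_iff, hta'] at h2
        exact congrArg Subtype.val h2
      refine hS.odd_card.of_dvd_nat ((Subgroup.card_dvd_of_le hle).trans
        ((Subgroup.card_map_dvd _ _).trans ?_))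
      exact Subgroup.card_comap_dvd_of_injective _ _ C.subtype_injective
  -- the isomorphism `cQ ≅ Q'`
  have hmem : ∀ x : cQ, mk ⟨x, x.2.2⟩ ∈ Q' := fun x =>
    ⟨⟨x, x.2.2⟩, Subgroup.mem_subgroupOf.2 x.2, rfl⟩
  let e₀ : cQ →* Q' := MonoidHom.mk' (fun x => ⟨mk ⟨x, x.2.2⟩, hmem x⟩)
    fun x y => Subtype.ext (map_mul mk ⟨x, x.2.2⟩ ⟨y, y.2.2⟩)
  have he₀ : Function.Bijective e₀ := by
    refine ⟨(injective_iff_map_eq_one e₀).2 fun x hx => Subtype.ext
      (congrArg (fun z : C => (z : G)) (hinjQ ⟨x, x.2.2⟩ x.2.1 (congrArg Subtype.val hx)) :), ?_⟩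
    rintro ⟨_, c, hc, rfl⟩
    exact ⟨⟨c, Subgroup.mem_subgroupOf.1 hc⟩, rfl⟩
  let e := MulEquiv.ofBijective e₀ he₀
  have hqq : qOf Q' = qOf cQ := qOf_congr e
  -- faithful, two-rank, smaller
  haveI hfaith : FaithfulSMul (centQuot Ω w) {q : Ω // w • q = q} := by
    refine ⟨fun {g h} hgh => QuotientGroup.kerLift_injective π (Equiv.ext fun q => ?_)⟩
    exact hgh q
  have hrank : ∃ x y : centQuot Ω w, x ≠ 1 ∧ y ≠ 1 ∧ x ≠ y ∧ x * x = 1 ∧ y * y = 1 ∧
      x * y = y * x := by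
    have h1 : (1 : G) ∈ {x : G | x ∈ cQ ∧ x * x = 1} := ⟨one_mem _, one_mul 1⟩
    have hq' : 2 < ({x : G | x ∈ cQ ∧ x * x = 1}).ncard := by
      rw [← Nat.card_coe_set_eq]; exact hq
    have h2 : 1 < ({x : G | x ∈ cQ ∧ x * x = 1} \ {1}).ncard := by
      rw [Set.ncard_sdiff_singleton_of_mem h1]; omega
    obtain ⟨x, y, ⟨⟨hx, hx2⟩, hx1⟩, ⟨⟨hy, hy2⟩, hy1⟩, hxy⟩ :=
      (Set.one_lt_ncard_iff (Set.toFinite _)).1 h2
    refine ⟨e₀ ⟨x, hx⟩, e₀ ⟨y, hy⟩, fun h => hx1 ?_, fun h => hy1 ?_, fun h => hxy ?_, ?_, ?_, ?_⟩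
    · exact congrArg Subtype.val (hinjQ ⟨x, hx.2⟩ hx.1 h)
    · exact congrArg Subtype.val (hinjQ ⟨y, hy.2⟩ hy.1 h)
    · exact congrArg Subtype.val (he₀.1 (Subtype.ext h : e₀ ⟨x, hx⟩ = e₀ ⟨y, hy⟩))
    · rw [← Subgroup.coe_mul, ← map_mul,
        show (⟨x, hx⟩ : cQ) * ⟨x, hx⟩ = 1 from Subtype.ext hx2, map_one, Subgroup.coe_one]
    · rw [← Subgroup.coe_mul, ← map_mul,
        show (⟨y, hy⟩ : cQ) * ⟨y, hy⟩ = 1 from Subtype.ext hy2, map_one, Subgroup.coe_one]
    · have hc : x * y = y * x :=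
        invol_central hS hR.rank2 ⟨hx1, hx2⟩ (Q_fix_a hS hx.1) hy.1
      rw [← Subgroup.coe_mul, ← Subgroup.coe_mul, ← map_mul, ← map_mul,
        show (⟨x, hx⟩ : cQ) * ⟨y, hy⟩ = ⟨y, hy⟩ * ⟨x, hx⟩ from Subtype.ext hc]
  have hlt : Nat.card (centQuot Ω w) < Nat.card G := by
    have hwk : (⟨w, Subgroup.mem_centralizer_singleton_iff.2 rfl⟩ : C) ∈ π.ker :=
      MonoidHom.mem_ker.2 (Equiv.ext fun q => Subtype.ext q.2)
    have hk : 1 < Nat.card π.ker := by
      rw [Finite.one_lt_card_iff_nontrivial]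
      exact ⟨⟨_, hwk⟩, 1, fun h => hw1 (congrArg (fun z : π.ker => ((z : C) : G)) h)⟩
    have h := Subgroup.card_eq_card_quotient_mul_card_subgroup π.ker
    have hCle : Nat.card C ≤ Nat.card G := Subgroup.card_le_card_group C
    have hpos : 0 < Nat.card (centQuot Ω w) := Nat.card_pos
    calc Nat.card (centQuot Ω w) = Nat.card (centQuot Ω w) * 1 := (mul_one _).symm
      _ < Nat.card (centQuot Ω w) * Nat.card π.ker := Nat.mul_lt_mul_of_pos_left hk hpos
      _ = Nat.card C := h.symm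
      _ ≤ Nat.card G := hCle
  obtain ⟨h2, hshape, hiff⟩ := IH (centQuot Ω w) _ a' t' Q' ⟨hsetup, hfaith, hrank⟩ hlt
  -- transfer
  have hcard : Nat.card Q' = Nat.card cQ := (Nat.card_congr e.toEquiv).symm
  have heq' : t' * mk ⟨s, hsC⟩ * t' = (mk ⟨r, hrC⟩)⁻¹ * t' * mk ⟨r, hrC⟩ := by
    rw [ht', ← map_inv, ← map_mul, ← map_mul, ← map_mul, ← map_mul]
    exact congrArg mk (Subtype.ext heq)
  have hs' : mk ⟨s, hsC⟩ ∈
      Cfsg.involutionsIn (stabilizer (centQuot Ω w) a' : Set (centQuot Ω w)) :=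
    ⟨Subtype.ext hs.1, fun h => hs.2.1 (congrArg Subtype.val (hinjQ ⟨s, hsC⟩ hsQ h)), by
      rw [← map_mul, show (⟨s, hsC⟩ : C) * ⟨s, hsC⟩ = 1 from Subtype.ext hs.2.2, map_one]⟩
  have hr' : mk ⟨r, hrC⟩ ∈ Q' :=
    ⟨⟨r, hrC⟩, Subgroup.mem_subgroupOf.2 (Subgroup.mem_inf.2 ⟨hr, hrC⟩), rfl⟩
  have hRInv : RInv a' t' Q' ↔ RInv a t Q := by
    constructor
    · intro h s₁ r₁ hs₁ hr₁ heq₁
      obtain ⟨rfl, rfl⟩ := structure_unique hS hs₁ hr₁ heq₁ hs hr heq
      have h1 := h _ _ hs' hr' heq'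
      rw [← map_mul] at h1
      exact congrArg Subtype.val (hinjQ (⟨r₁, hrC⟩ * ⟨r₁, hrC⟩) (mul_mem hr hr) h1)
    · intro h s₁ r₁ hs₁ hr₁ heq₁
      obtain ⟨rfl, rfl⟩ := structure_unique hsetup hs₁ hr₁ heq₁ hs' hr' heq'
      rw [← map_mul, show (⟨r, hrC⟩ : C) * ⟨r, hrC⟩ = 1 from Subtype.ext (h s r hs hr heq), map_one]
  refine ⟨h2.of_equiv e.symm, ?_, ?_⟩
  · rw [← hqq, ← hcard]; exact hshape
  · rw [← hqq, ← hcard, ← hRInv]; exact hiff

end

end Cfsg.Agent.Suz27
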