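import Cfsg.Agent.Suz27.Shapes
import Cfsg.Agent.Suz27.Gen
import Cfsg.Agent.Suz27.OddPart
import Cfsg.Agent.Suz27.Abelian
import Cfsg.Agent.Suz27.SubTypesStep
import Cfsg.Agent.Suz27.Frobenius

/-!
The induction of `PLAN.md`, part D: the shape of `Q` in every rank one group.
-/

set_option autoImplicit false

namespace Cfsg.Agent.Suz27

open MulAction RankOne

universe u v

/-- The shape of `Q` and its non-commutativity outside the elementary case. -/
theorem hasType_and_not_comm {G : Type u} [Group G] [Finite G] {Ω : Type v} [MulAction G Ω] {a : Ω}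
    {t : G} {Q : Subgroup G} (hR : R1 G Ω a t Q) :
    HasType Q (RInv a t Q) ∧ (Nat.card Q ≠ qOf Q → ∃ x ∈ Q, ∃ y ∈ Q, x * y ≠ y * x) := by
  suffices key : ∀ n : ℕ, ∀ (G : Type u) [Group G] [Finite G] (Ω : Type v) [MulAction G Ω] (a : Ω)
      (t : G) (Q : Subgroup G), R1 G Ω a t Q → Nat.card G = n →
      HasType Q (RInv a t Q) ∧ (Nat.card Q ≠ qOf Q → ∃ x ∈ Q, ∃ y ∈ Q, x * y ≠ y * x) from
    key _ G Ω a t Q hR rfl
  intro n
  induction n using Nat.strong_induction_on with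
  | h n ih =>
  intro G _ _ Ω _ a t Q hR hn
  have hS := hR.setup
  obtain ⟨L, ht, -, -, hQL, hRL, hGL⟩ := exists_gen_subgroup hR
  have hLle : Nat.card L ≤ n := hn ▸ Nat.le_of_dvd Nat.card_pos (Subgroup.card_subgroup_dvd_card L)
  have hT : SubTypes a ⟨t, ht⟩ (Q.subgroupOf L) :=
    subTypes_of_smaller hRL fun G' _ _ Ω' _ a' t' Q' h' hlt =>
      (ih (Nat.card G') (lt_of_lt_of_le hlt hLle) G' Ω' a' t' Q' h' rfl).1
  have h2L := isPGroup_two hRL hGL hT
  have hexp := exp_two hRL hGL hT h2L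
  have hTL := hasType_of hRL hGL hT h2L hexp
    fun _ hv _ hp hord hvW => frobenius_card hRL hv hp hord hvW
  -- transfer to `G`
  have e : Q.subgroupOf L ≃* Q := Subgroup.subgroupOfEquivOfLe hQL
  have hcard : Nat.card (Q.subgroupOf L) = Nat.card Q := Nat.card_congr e.toEquiv
  have hq : qOf (Q.subgroupOf L) = qOf Q := Nat.card_congr
    { toFun := fun x => ⟨(x.1 : G), x.2.1, congrArg Subtype.val x.2.2⟩
      invFun := fun x => ⟨⟨x.1, hQL x.2.1⟩, x.2.1, Subtype.ext x.2.2⟩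
      left_inv := fun _ => rfl
      right_inv := fun _ => rfl }
  have hr : RInv a (⟨t, ht⟩ : L) (Q.subgroupOf L) ↔ RInv a t Q := by
    constructor
    · intro h s r hs hr heq
      exact congrArg Subtype.val (h ⟨s, hQL (invol_mem_Q hS ⟨hs.2.1, hs.2.2⟩ hs.1)⟩ ⟨r, hQL hr⟩
        ⟨hs.1, fun e => hs.2.1 (congrArg Subtype.val e), Subtype.ext hs.2.2⟩ hr (Subtype.ext heq))
    · intro h s r hs hr heq
      exact Subtype.ext (h s r ⟨hs.1, fun e => hs.2.1 (Subtype.ext e), congrArg Subtype.val hs.2.2⟩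
        hr (congrArg Subtype.val heq))
  refine ⟨?_, fun hne => ?_⟩
  · obtain ⟨h2, hsh, hrc⟩ := hTL
    rw [hcard, hq] at hsh hrc
    exact ⟨h2.of_equiv e, hsh, hr.symm.trans hrc⟩
  · by_contra hc
    push Not at hc
    refine hne (Nat.card_congr (Equiv.subtypeEquivRight fun x => ⟨fun h => ⟨h, ?_⟩, fun h => h.1⟩))
    exact congrArg Subtype.val (hexp (fun y hy z hz => Subtype.ext (hc y hy z hz)) ⟨x, hQL h⟩ h)

/-- The shape of `Q`. -/
theorem hasType {G : Type u} [Group G] [Finite G] {Ω : Type v} [MulAction G Ω] {a : Ω} {t : G}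
    {Q : Subgroup G} (hR : R1 G Ω a t Q) : HasType Q (RInv a t Q) :=
  (hasType_and_not_comm hR).1

/-- `Q` is non-abelian unless all its elements square to one. -/
theorem not_comm {G : Type u} [Group G] [Finite G] {Ω : Type v} [MulAction G Ω] {a : Ω} {t : G}
    {Q : Subgroup G} (hR : R1 G Ω a t Q) (hne : Nat.card Q ≠ qOf Q) :
    ∃ x ∈ Q, ∃ y ∈ Q, x * y ≠ y * x :=
  (hasType_and_not_comm hR).2 hne

end Cfsg.Agent.Suz27
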