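import Cfsg.Agent.Suz27.FinalParts
import Cfsg.Agent.Suz27.Induction

/-!
Suzuki's split rank one theorem, final form.
-/

set_option autoImplicit false

namespace Cfsg.Agent.Suz27

open MulAction RankOne

universe u v

theorem hasTypeStmt : HasTypeStmt.{u, v} := fun _ _ _ _ _ _ _ _ hR => hasType hR

theorem notCommStmt : NotCommStmt.{u, v} := fun _ _ _ _ _ _ _ _ hR h => not_comm hR h

theorem shapeStmt : ShapeStmt.{u, v} := shapeStmt_of hasTypeStmt notCommStmt

theorem uniqStmt : UniqStmt.{u, v} := uniqStmt_of notCommStmt notCommStmt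

/-- Suzuki's theorem. -/
theorem classify {G : Type u} [Group G] [Finite G] {Ω : Type v} [MulAction G Ω] {a : Ω} {t : G}
    {Q : Subgroup G} (hR : R1 G Ω a t Q) :
    ∃ L : Subgroup G, L.Normal ∧ Odd L.index ∧ IsR1Type L :=
  classify_of shapeStmt uniqStmt hR

/-- A rank one group with `|Q| = q³` is `PSU(3, q)`. -/
theorem psu_of_cubed {G : Type u} [Group G] [Finite G] {Ω : Type v} [MulAction G Ω] {a : Ω} {t : G}
    {Q : Subgroup G} (hR : R1 G Ω a t Q) (hG : Gen t Q) (h : Nat.card Q = qOf Q ^ 3) {n : ℕ}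
    (hn : 2 ≤ n) (hq : qOf Q = 2 ^ n) (F : Type) [Field F] [Fintype F]
    (hF : Fintype.card F = (2 ^ n) ^ 2) : Nonempty (G ≃* Cfsg.PSU 3 F (2 ^ n)) :=
  psu_of_cubed_of hasTypeStmt notCommStmt notCommStmt hR hG h hn hq F hF

end Cfsg.Agent.Suz27
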