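import Cfsg.Agent.Suz27.CorePerm
import Cfsg.Agent.S1132
import Cfsg.Agent.S1138

/-!
Uniqueness of the rank one groups with `|Q| = q³` and non-abelian `Q`.
-/

set_option autoImplicit false

namespace Cfsg.Agent.Suz27

open MulAction RankOne

universe u v u2 v2

variable {G : Type u} {Ω : Type v} [Group G] [MulAction G Ω] [Finite G] {a : Ω} {t : G}
  {Q : Subgroup G}

/-- Squares in a non-abelian `Q` of two-power order square to one. -/
theorem sq_sq_of_not_comm (hR : R1 G Ω a t Q) (h2 : IsPGroup 2 Q)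
    (hna : ∃ x ∈ Q, ∃ y ∈ Q, x * y ≠ y * x) : ∀ x ∈ Q, (x * x) * (x * x) = 1 := by
  intro x hx
  haveI := hR.faithful
  obtain ⟨S⟩ := (inferInstance : Nonempty (Sylow 2 ↥Q))
  have htop : (S : Subgroup ↥Q) = ⊤ :=
    (S.is_maximal' (h2.of_equiv Subgroup.topEquiv.symm) le_top).symm
  have hmem : ∀ z : Q, z ∈ (S : Subgroup ↥Q) := fun z => htop ▸ Subgroup.mem_top z
  obtain ⟨u, hu, w, hw, huw⟩ := hna
  rcases Cfsg.Agent.S1132.result hR.setup hR.rank2 S with h | h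
  · exact absurd (congrArg (fun z : (S : Subgroup ↥Q) => ((z : Q) : G))
      (h.is_comm.comm ⟨⟨u, hu⟩, hmem _⟩ ⟨⟨w, hw⟩, hmem _⟩)) huw
  · obtain ⟨-, -, -, hexp⟩ := Cfsg.Agent.S1138.result h
    have h4 : (⟨⟨x, hx⟩, hmem _⟩ : (S : Subgroup ↥Q)) ^ 4 = 1 := by
      rw [← hexp]; exact Monoid.pow_exponent_eq_one _
    have h' := congrArg (fun z : (S : Subgroup ↥Q) => ((z : Q) : G)) h4
    simp only [SubmonoidClass.coe_pow, OneMemClass.coe_one] at h'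
    rw [← h', pow_succ, pow_succ, pow_succ, pow_one, mul_assoc (x * x) x x]

/-- **Uniqueness** of the rank one group with `|Q| = q³`. -/
theorem psu_unique_of_not_comm {G2 : Type u2} {Ω2 : Type v2} [Group G2] [MulAction G2 Ω2] [Finite G2]
    {a2 : Ω2} {t2 : G2} {Q2 : Subgroup G2} (hR : R1 G Ω a t Q) (hG : Gen t Q) (h2 : IsPGroup 2 Q)
    (hn : Nat.card Q = qOf Q ^ 3) (hr : RInv a t Q) (hna : ∃ x ∈ Q, ∃ y ∈ Q, x * y ≠ y * x)
    (hR2 : R1 G2 Ω2 a2 t2 Q2) (hG2 : Gen t2 Q2) (h22 : IsPGroup 2 Q2)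
    (hn2 : Nat.card Q2 = qOf Q2 ^ 3) (hr2 : RInv a2 t2 Q2)
    (hna2 : ∃ x ∈ Q2, ∃ y ∈ Q2, x * y ≠ y * x) (hq : qOf Q2 = qOf Q) : Nonempty (G ≃* G2) :=
  Core.unique_of_sq hR hG hn hr (sq_sq_of_not_comm hR h2 hna) hR2 hG2 hn2 hr2
    (sq_sq_of_not_comm hR2 h22 hna2) hq

end Cfsg.Agent.Suz27
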