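import Cfsg.Agent.Suz27.Defs
import Cfsg.Agent.Lib.SuzukiTwo.Unitary

/-!
The unitary groups in three dimensions over a field of characteristic two, acting on the isotropic
points, as split rank one groups.
-/

set_option autoImplicit false

namespace Cfsg.Agent.Suz27

open MulAction Cfsg.Agent.Unitary Cfsg.Agent.AutPSU

universe u

namespace Model

variable {F : Type u} [Field F] [Fintype F] {q : ℕ} (hF : Fintype.card F = q ^ 2)

theorem center_le_ker : Subgroup.center (SU 3 F q) ≤
    (MulAction.toPermHom (SU 3 F q) (IsoPt hF 3)).ker := by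
  intro z hz
  obtain ⟨r, hr⟩ := (mem_center_iff hF (by norm_num : 2 ≤ 3)).1 hz
  rw [MonoidHom.mem_ker]
  ext p
  show z • p = p
  exact smul_eq_of_rep hF (hr p.1.rep)

/-- The action of the projective group on isotropic points. -/
@[implicit_reducible] def act : MulAction (PSU 3 F q) (IsoPt hF 3) :=
  MulAction.compHom (IsoPt hF 3)
    (QuotientGroup.lift (Subgroup.center (SU 3 F q))
      (MulAction.toPermHom (SU 3 F q) (IsoPt hF 3)) (center_le_ker hF))

theorem act_mk (g : SU 3 F q) (p : IsoPt hF 3) :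
    (letI := act hF; piU 3 F q g • p) = g • p := rfl

theorem exists_pt_eq {p : IsoPt hF 3} {v : Fin 3 → F} (hv : v ≠ 0) (h : p.1 = Projectivization.mk F v hv) :
    ∃ a : F, a ≠ 0 ∧ p.1.rep = a • v := by
  obtain ⟨a, ha⟩ := (Projectivization.mk_eq_mk_iff' F _ _ p.1.rep_nonzero hv).1 (p.1.mk_rep.trans h)
  exact ⟨a, fun e => p.1.rep_nonzero (by rw [← ha, e, zero_smul]), ha.symm⟩

/-- The point of an isotropic vector. -/
def pt (v : Fin 3 → F) (hv : v ≠ 0) (h : herm q v v = 0) : IsoPt hF 3 :=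
  ⟨Projectivization.mk F v hv, by
    obtain ⟨a, ha⟩ := (Projectivization.mk_eq_mk_iff' F _ _
      (Projectivization.mk F v hv).rep_nonzero hv).1 (Projectivization.mk_rep _)
    rw [← ha, herm_smul_left, herm_smul_right hF, h, mul_zero, mul_zero]⟩

theorem pt_eq_iff {v w : Fin 3 → F} {hv : v ≠ 0} {hw : w ≠ 0} {h : herm q v v = 0}
    {h' : herm q w w = 0} : pt hF v hv h = pt hF w hw h' ↔ ∃ a : F, a • w = v :=
  Iff.trans Subtype.ext_iff (Projectivization.mk_eq_mk_iff' F _ _ _ _)

theorem pt_rep (p : IsoPt hF 3) : pt hF p.1.rep p.1.rep_nonzero p.2 = p :=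
  Subtype.ext p.1.mk_rep

theorem smul_pt (g : SU 3 F q) {v : Fin 3 → F} (hv : v ≠ 0) (h : herm q v v = 0) :
    g • pt hF v hv h = pt hF (g • v) ((smul_ne_zero_iff_ne g).2 hv) ((herm_smul_SU g v v).trans h) :=
  Subtype.ext (smul_mk_SU g hv)

theorem pt_smul_eq_iff (g : SU 3 F q) {v w : Fin 3 → F} {hv : v ≠ 0} {hw : w ≠ 0}
    {h : herm q v v = 0} {h' : herm q w w = 0} :
    g • pt hF v hv h = pt hF w hw h' ↔ ∃ a : F, g • v = a • w := by
  rw [smul_pt, pt_eq_iff]
  exact ⟨fun ⟨a, ha⟩ => ⟨a, ha.symm⟩, fun ⟨a, ha⟩ => ⟨a, ha.symm⟩⟩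

variable {e f : Fin 3 → F} (h : HPair q e f)

include hF h in
theorem f_ne : f ≠ 0 := fun e0 => by
  have := h.ef
  rw [e0, herm_zero_right hF] at this
  exact zero_ne_one this

include hF h in
/-- There is no isotropic vector orthogonal to `e` other than the multiples of `e`. -/
theorem orth_e {S : Finset (Fin 3)} (hS : AutPSU.Frame q S e f) (hS2 : S.card = 2)
    {x : Fin 3 → F} (hx : herm q x x = 0) (hxe : herm q x e = 0) :
    x = herm q x f • e := by
  obtain ⟨k, hk⟩ : ∃ k, Sᶜ = {k} := Finset.card_eq_one.1 (by rw [Finset.card_compl, hS2]; simp)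
  set w := prj q e f x with hw
  have hwo : Orth2 q e f w := orth2_prj hF h x
  have hxw : x = w + herm q x f • e := by
    conv_lhs => rw [eq_prj (q := q) e f x, hxe, zero_smul, add_zero, ← hw]
    abel
  have hew : herm q e w = 0 := (herm_eq_zero_comm hF).1 hwo.1
  have hww : herm q w w = 0 := by
    rw [hxw, herm_add_left, herm_add_right hF, herm_add_right hF, herm_smul_left, herm_smul_left,
      herm_smul_right hF, herm_smul_right hF, hwo.1, hew, h.ee] at hx
    simpa using hx
  have hrep : w = w k • eI k := by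
    funext i
    by_cases hi : i = k
    · subst hi; simp [eI]
    · have hiS : i ∈ S := by
        by_contra hh
        have : i ∈ Sᶜ := Finset.mem_compl.2 hh
        rw [hk, Finset.mem_singleton] at this
        exact hi this
      rw [(hS w).1 hwo i hiS]
      simp [eI, hi]
  have hwk : w k = 0 := by
    rw [hrep, herm_smul_left, herm_smul_right hF, herm_eI_eI hF, if_pos rfl, mul_one] at hww
    rcases mul_eq_zero.1 hww with h0 | h0
    · exact h0
    · exact (pow_q_eq_zero_iff hF).1 h0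
  rw [hrep, hwk, zero_smul, zero_add] at hxw
  exact hxw

end Model

variable {F : Type u} [Field F] [Fintype F]

open Model in
/-- `PSU₃(2ⁿ)` is a split rank one group with Suzuki's structure equation. -/
theorem psu_model {n : ℕ} (hn : 2 ≤ n) (hF : Fintype.card F = (2 ^ n) ^ 2) :
    ∃ (Ω : Type u) (_ : MulAction (PSU 3 F (2 ^ n)) Ω) (a : Ω) (t : PSU 3 F (2 ^ n))
      (Q : Subgroup (PSU 3 F (2 ^ n))),
      R1 (PSU 3 F (2 ^ n)) Ω a t Q ∧ Gen t Q ∧ Nat.card Q = (2 ^ n) ^ 3 ∧ qOf Q = 2 ^ n ∧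
        RInv a t Q ∧ IsPGroup 2 Q := by
  classical
  have : CharP F 2 := charP_of_card_eq_prime_pow (f := n * 2) (by rw [hF, ← pow_mul])
  have : Fact (Nat.Prime 2) := ⟨Nat.prime_two⟩
  have hq4 : 4 ≤ 2 ^ n := le_trans (show 4 ≤ 2 ^ 2 by norm_num)
    (Nat.pow_le_pow_right (by norm_num) hn)
  have h32 : ¬ (3 = 3 ∧ 2 ^ n = 2) := fun h => by omega
  set q := 2 ^ n with hq
  clear_value q
  obtain ⟨S, e, f, h, hS, hS2⟩ := exists_frame hF (le_refl 3)
  have h2 : ∀ c : F, c + c = 0 := CharTwo.add_self_eq_zero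
  have hf0 := f_ne hF h
  have hfe := h.fe hF
  -- the points and the involution
  letI := act hF
  set a : IsoPt hF 3 := pt hF e h.e_ne h.ee with ha
  set b : IsoPt hF 3 := pt hF f hf0 h.ff with hb
  have huu : herm q (e + f) (e + f) = 0 := by
    rw [herm_add_left, herm_add_right hF, herm_add_right hF, h.ee, h.ff, h.ef, hfe]
    simpa using h2 (1 : F)
  have h1c : (1 : F) + 1 ^ q = 0 := by rw [one_pow]; exact h2 1
  set T : SU 3 F q := tv hF huu h1c with hT
  have hTe : T • e = f := by
    rw [hT, tv_smul, herm_add_right hF, h.ee, h.ef, zero_add, one_mul, one_smul, ← add_assoc,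
      ← two_smul F e, show (2 : F) = 0 from CharTwo.two_eq_zero, zero_smul, zero_add]
  have hTf : T • f = e := by
    rw [hT, tv_smul, herm_add_right hF, hfe, h.ff, add_zero, one_mul, one_smul, add_left_comm,
      ← two_smul F f, show (2 : F) = 0 from CharTwo.two_eq_zero, zero_smul, add_zero]
  set t : PSU 3 F q := piU 3 F q T with ht
  have hta : t • a = b := by
    rw [ht, ha, hb, act_mk, pt_smul_eq_iff]
    exact ⟨1, by rw [one_smul, hTe]⟩
  have hab : b ≠ a := by
    intro e'
    rw [ha, hb, pt_eq_iff] at e'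
    obtain ⟨c, hc⟩ := e'
    have := h.ef
    rw [← hc, herm_smul_right hF, h.ee, mul_zero] at this
    exact zero_ne_one this
  have htt : t * t = 1 := by
    rw [ht, ← map_mul, ← map_one (piU 3 F q)]
    refine congrArg _ (eq_of_smul_eq_SU fun x => ?_)
    rw [mul_smul, one_smul, hT, tv_smul, tv_smul, herm_add_left, herm_smul_left, huu, mul_zero,
      add_zero, add_assoc, ← add_smul, h2, zero_smul, add_zero]
  set Q : Subgroup (PSU 3 F q) := Ugrp hF h with hQ
  have hQle : Q ≤ stabilizer (PSU 3 F q) a := by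
    rintro _ ⟨w, hw, c, hc, rfl⟩
    rw [mem_stabilizer_iff, ha, act_mk, pt_smul_eq_iff]
    exact ⟨1, by rw [Qel_e hF h hw, one_smul]⟩
  have hmove : ∀ {w : Fin 3 → F} (hw : Orth2 q e f w) {c : F} (hc : c + c ^ q = -herm q w w),
      piU 3 F q (Qel hF h.ee hw.1 hc) • b = b → w = 0 ∧ c = 0 := by
    intro w hw c hc hfix
    rw [hb, act_mk, pt_smul_eq_iff] at hfix
    obtain ⟨r, hr⟩ := hfix
    rw [Qel_f hF h hw] at hr
    have h1 := congrArg (fun x => herm q x e) hr
    simp only [herm_add_left, herm_smul_left, hfe, hw.1, h.ee, mul_zero, add_zero, mul_one] at h1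
    have h3 := congrArg (fun x => herm q x f) hr
    simp only [herm_add_left, herm_smul_left, h.ff, hw.2, h.ef, mul_zero, zero_add, mul_one] at h3
    rw [← h1, one_smul, h3, zero_smul, add_zero, add_eq_left] at hr
    exact ⟨hr, h3⟩
  have hinf : Q ⊓ stabilizer (PSU 3 F q) b = ⊥ := by
    rw [eq_bot_iff]
    rintro x ⟨⟨w, hw, c, hc, rfl⟩, hx⟩
    obtain ⟨rfl, rfl⟩ := hmove hw hc hx
    rw [Subgroup.mem_bot, ← map_one (piU 3 F q)]
    refine congrArg _ (eq_of_smul_eq_SU fun x => ?_)
    rw [one_smul, Qel_smul, herm_zero_right hF]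
    simp
  -- every other point is an image of the second one
  have hreach : ∀ p : IsoPt hF 3, p ≠ a → ∃ x ∈ Q, x • b = p := by
    intro p hp
    have hd : herm q p.1.rep e ≠ 0 := by
      intro h0
      refine hp ?_
      rw [← pt_rep hF p, ha, pt_eq_iff]
      exact ⟨_, (orth_e hF h hS hS2 p.2 h0).symm⟩
    set d := herm q p.1.rep e with hdd
    set x := d⁻¹ • p.1.rep with hx
    have hxe : herm q x e = 1 := by rw [hx, herm_smul_left, ← hdd, inv_mul_cancel₀ hd]
    have hxx : herm q x x = 0 := by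
      rw [hx, herm_smul_left, herm_smul_right hF, p.2, mul_zero, mul_zero]
    have hvo := orth2_prj hF h x
    have hxd : x = herm q x f • e + f + prj q e f x := by
      conv_lhs => rw [eq_prj (q := q) e f x, hxe, one_smul]
    have hc : herm q x f + herm q x f ^ q = -herm q (prj q e f x) (prj q e f x) := by
      have h0 := hxx
      conv_lhs at h0 => rw [hxd]
      simp only [herm_add_left, herm_add_right hF, herm_smul_left, herm_smul_right hF, h.ee, h.ff,
        h.ef, hfe, hvo.1, hvo.2, (hvo.left hF).1, (hvo.left hF).2] at h0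
      linear_combination h0
    refine ⟨_, ⟨_, hvo, _, hc, rfl⟩, ?_⟩
    rw [hb, ← pt_rep hF p, act_mk, pt_smul_eq_iff]
    refine ⟨d⁻¹, ?_⟩
    rw [Qel_f hF h hvo]
    conv_rhs => rw [← hx, hxd]
    abel
  have hconj : ∀ g ∈ stabilizer (PSU 3 F q) a, ∀ x ∈ Q, g * x * g⁻¹ ∈ Q := by
    intro g hg x hx
    refine conj_mem_Ugrp hF (by norm_num) h ?_ hx
    obtain ⟨g, rfl⟩ := piU_surjective g
    rw [mem_stabilizer_iff, ha, act_mk, pt_smul_eq_iff] at hg
    obtain ⟨r, hr⟩ := hg
    refine (mem_stab hF (by norm_num)).2 ⟨r, fun h0 => ?_, hr⟩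
    rw [h0, zero_smul, smul_eq_zero_iff_eq] at hr
    exact h.e_ne hr
  -- transitivity
  have htrans : ∀ p : IsoPt hF 3, ∃ g : PSU 3 F q, g • a = p := by
    intro p
    by_cases hp : p = a
    · exact ⟨1, by rw [hp, one_smul]⟩
    · obtain ⟨x, -, hx⟩ := hreach p hp
      exact ⟨x * t, by rw [mul_smul, hta, hx]⟩
  have hpair : ∀ {p p' : IsoPt hF 3}, p ≠ p' → ∃ g : PSU 3 F q, g • a = p ∧ g • b = p' := by
    intro p p' hne
    obtain ⟨g, hg⟩ := htrans p
    have : g⁻¹ • p' ≠ a := fun e' => hne (by rw [← hg, ← e', smul_inv_smul])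
    obtain ⟨x, hx, hxb⟩ := hreach _ this
    refine ⟨g * x, ?_, ?_⟩
    · rw [mul_smul, mem_stabilizer_iff.1 (hQle hx), hg]
    · rw [mul_smul, hxb, smul_inv_smul]
  have htwo : IsMultiplyPretransitive (PSU 3 F q) (IsoPt hF 3) 2 := by
    rw [is_two_pretransitive_iff]
    intro p p' r r' hp hr
    obtain ⟨g, hg, hg'⟩ := hpair hp
    obtain ⟨k, hk, hk'⟩ := hpair hr
    exact ⟨k * g⁻¹, by rw [mul_smul, ← hg, inv_smul_smul, hk],
      by rw [mul_smul, ← hg', inv_smul_smul, hk']⟩
  have hsup : Q ⊔ (stabilizer (PSU 3 F q) a ⊓ stabilizer (PSU 3 F q) (t • a)) =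
      stabilizer (PSU 3 F q) a := by
    refine le_antisymm (sup_le hQle inf_le_left) fun g hg => ?_
    rw [hta]
    have hgb : g • b ≠ a := fun e' => hab (smul_left_cancel g (e'.trans hg.symm))
    obtain ⟨x, hx, hxb⟩ := hreach _ hgb
    rw [show g = x * (x⁻¹ * g) by group]
    refine Subgroup.mul_mem_sup hx ⟨Subgroup.mul_mem _ (Subgroup.inv_mem _ (hQle hx)) hg, ?_⟩
    show (x⁻¹ * g) • b = b
    rw [mul_smul, ← hxb, inv_smul_smul]
  -- orders
  have hcard : Nat.card Q = q ^ 3 := SuzukiTwo.card_Ugrp hF h hS hS2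
  have hpQ : IsPGroup 2 Q := isPGroup_Ugrp hF 2 h
  have hodd : Odd (Nat.card ↥(stabilizer (PSU 3 F q) a ⊓ stabilizer (PSU 3 F q) (t • a))) := by
    rw [hta, ← Nat.not_even_iff_odd, even_iff_two_dvd]
    intro h2d
    obtain ⟨⟨x, hx⟩, hx2⟩ := exists_prime_orderOf_dvd_card' 2 h2d
    have hxx : x * x = 1 := by
      have := pow_orderOf_eq_one (⟨x, hx⟩ : ↥(stabilizer (PSU 3 F q) a ⊓ stabilizer (PSU 3 F q) b))
      rw [hx2, pow_two] at this
      exact congrArg Subtype.val this
    have hne : x ≠ 1 := by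
      rintro rfl
      rw [show (⟨1, hx⟩ : ↥(stabilizer (PSU 3 F q) a ⊓ stabilizer (PSU 3 F q) b)) = 1 from rfl,
        orderOf_one] at hx2
      exact absurd hx2 (by norm_num)
    obtain ⟨g, rfl⟩ := piU_surjective x
    obtain ⟨hga, hgb⟩ := hx
    change piU 3 F q g • a = a at hga
    change piU 3 F q g • b = b at hgb
    rw [ha, act_mk, pt_smul_eq_iff] at hga
    rw [hb, act_mk, pt_smul_eq_iff] at hgb
    obtain ⟨α, hα⟩ := hga
    obtain ⟨β, hβ⟩ := hgb
    rw [← map_mul, ← map_one (piU 3 F q), piU_eq_iff hF (by norm_num)] at hxx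
    obtain ⟨r, hr⟩ := hxx
    have hr2 : ∀ v : Fin 3 → F, v = r • g • g • v := fun v => by
      have := hr v
      rwa [one_smul, mul_smul] at this
    have sq : ∀ {v : Fin 3 → F} {c : F}, v ≠ 0 → g • v = c • v → r * (c * c) = 1 := by
      intro v c hv hgv
      have := hr2 v
      rw [hgv, smul_comm g c v, hgv, smul_smul, smul_smul] at this
      have h' : ((r * c * c) - 1) • v = 0 := by rw [sub_smul, one_smul, ← this, sub_self]
      rw [smul_eq_zero] at h'
      rw [← mul_assoc]
      exact sub_eq_zero.1 (h'.resolve_right hv)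
    have hr0 : r ≠ 0 := fun h0 => by simpa [h0] using sq h.e_ne hα
    have heq : ∀ {c : F}, r * (c * c) = 1 → c = α := by
      intro c hc
      have hαα := sq h.e_ne hα
      have : c * c = α * α := mul_left_cancel₀ hr0 (hc.trans hαα.symm)
      have h0 : (c + α) * (c + α) = 0 := by linear_combination this + (c * α + α * α) * CharTwo.two_eq_zero (R := F)
      exact CharTwo.add_eq_zero.1 (mul_self_eq_zero.1 h0)
    have hα0 : α ≠ 0 := fun h0 => by simpa [h0] using sq h.e_ne hα
    have hβα : β = α := heq (sq hf0 hβ)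
    apply hne
    rw [← map_one (piU 3 F q), piU_eq_iff hF (by norm_num)]
    refine ⟨α⁻¹, fun v => ?_⟩
    rw [one_smul]
    obtain ⟨k, hk⟩ : ∃ k, Sᶜ = {k} := Finset.card_eq_one.1 (by rw [Finset.card_compl, hS2]; simp)
    have hko : Orth2 q e f (eI k) := (hS _).2 (eI_mem_supp (by
      have : k ∈ Sᶜ := by rw [hk]; simp
      simpa using this))
    have hgo : ∀ w, Orth2 q e f w → ∃ c : F, g • w = c • (eI k : Fin 3 → F) := by
      intro w hw
      have hgw : Orth2 q e f (g • w) := by
        have e1 := herm_smul_SU g w e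
        have e2 := herm_smul_SU g w f
        rw [hα, herm_smul_right hF, hw.1] at e1
        rw [hβ, herm_smul_right hF, hw.2] at e2
        exact ⟨(mul_eq_zero.1 e1).resolve_left (fun h0 => hα0 ((pow_q_eq_zero_iff hF).1 h0)),
          (mul_eq_zero.1 e2).resolve_left (fun h0 => hα0 (hβα ▸ (pow_q_eq_zero_iff hF).1 h0))⟩
      refine ⟨(g • w) k, funext fun i => ?_⟩
      by_cases hi : i = k
      · subst hi; simp [eI]
      · have hiS : i ∈ S := by
          by_contra hh
          have : i ∈ Sᶜ := Finset.mem_compl.2 hh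
          rw [hk, Finset.mem_singleton] at this
          exact hi this
        rw [(hS _).1 hgw i hiS]
        simp [eI, hi]
    obtain ⟨γ, hγ⟩ := hgo _ hko
    have heI : (eI k : Fin 3 → F) ≠ 0 := fun h0 => by simpa [eI] using congrFun h0 k
    have hγα : γ = α := heq (sq heI hγ)
    have hall : ∀ w, Orth2 q e f w → g • w = α • w := by
      intro w hw
      have hwk : w = w k • eI k := funext fun i => by
        by_cases hi : i = k
        · subst hi; simp [eI]
        · have hiS : i ∈ S := by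
            by_contra hh
            have : i ∈ Sᶜ := Finset.mem_compl.2 hh
            rw [hk, Finset.mem_singleton] at this
            exact hi this
          rw [(hS _).1 hw i hiS]
          simp [eI, hi]
      rw [hwk, smul_comm g, hγ, hγα, smul_comm]
    have : g • v = α • v := by
      conv_lhs => rw [eq_prj (q := q) e f v]
      conv_rhs => rw [eq_prj (q := q) e f v]
      simp only [smul_add, smul_comm g (herm q v f) e, smul_comm g (herm q v e) f, hα, hβ, hβα,
        hall _ (orth2_prj hF h v), smul_comm α]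
    rw [this, smul_smul, inv_mul_cancel₀ hα0, one_smul]
  have hsetup : Cfsg.IsRankOneSetup (PSU 3 F q) (IsoPt hF 3) a t Q :=
    { two_transitive := htwo
      mul_self := htt
      ne_one := fun e' => hab (by rw [← hta, e', one_smul])
      not_mem := fun e' => hab (by rw [← hta]; exact e')
      le := hQle
      conj_mem := hconj
      inf_eq_bot := by rw [hta]; exact hinf
      sup_eq := hsup
      even_card := by
        rw [hcard, hq, ← pow_mul]
        exact Nat.even_pow.2 ⟨even_two, by omega⟩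
      odd_card := hodd }
  -- the elements of square one in `Q`
  have htv1 : ∀ {c : F} (hc : c + c ^ q = 0), piU 3 F q (tv hF h.ee hc) ∈ Q := fun hc =>
    Tgrp_le_Ugrp hF h (tv_mem_Tgrp hF h.ee hc)
  have hsq : ∀ {c : F} (hc : c + c ^ q = 0),
      piU 3 F q (tv hF h.ee hc) * piU 3 F q (tv hF h.ee hc) = 1 := by
    intro c hc
    rw [← map_mul, ← map_one (piU 3 F q)]
    refine congrArg _ (eq_of_smul_eq_SU fun x => ?_)
    rw [mul_smul, one_smul, tv_smul, tv_smul, herm_add_left, herm_smul_left, h.ee, mul_zero,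
      add_zero, add_assoc, ← add_smul, h2, zero_smul, add_zero]
  have hinj : ∀ {c c' : F} (hc : c + c ^ q = 0) (hc' : c' + c' ^ q = 0),
      piU 3 F q (tv hF h.ee hc) = piU 3 F q (tv hF h.ee hc') → c = c' := by
    intro c c' hc hc' e'
    exact (Qel_inj hF h (orth2_zero e f) (orth2_zero e f)
      (piU_Qel_eq hF (by norm_num) h.e_ne e')).2
  have hqof : qOf Q = q := by
    refine Eq.trans ?_ (card_trace_ker hF)
    rw [qOf]
    refine (Nat.card_congr (Equiv.ofBijective
      (fun c : {c : F // c + c ^ q = 0} =>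
        (⟨piU 3 F q (tv hF h.ee c.2), htv1 c.2, hsq c.2⟩ :
          {x : PSU 3 F q // x ∈ Q ∧ x * x = 1})) ⟨?_, ?_⟩)).symm
    · intro c c' e'
      exact Subtype.ext (hinj c.2 c'.2 (congrArg Subtype.val e'))
    · rintro ⟨x, ⟨w, hw, c, hc, rfl⟩, hxx⟩
      have hzero : (0 : F) + 0 ^ q = 0 := by rw [zero_pow_q hF, add_zero]
      have hone : piU 3 F q (tv hF h.ee hzero) = 1 := by
        rw [← map_one (piU 3 F q)]
        refine congrArg _ (eq_of_smul_eq_SU fun x => ?_)
        rw [one_smul, tv_smul]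
        simp
      rw [← map_mul, Qel_mul_Qel hF h.ee hw.1 hc hw.1 hc (Qel_add_cond hF hc hc), ← hone] at hxx
      have hzz := (Qel_inj hF h (hw.add hw) (orth2_zero e f)
        (piU_Qel_eq hF (by norm_num) h.e_ne hxx)).2
      rw [h2, zero_sub, neg_eq_zero] at hzz
      have hw0 : w = 0 := by
        rw [orth_e hF h hS hS2 hzz hw.1, hw.2, zero_smul]
      subst hw0
      exact ⟨⟨c, by rw [hc, herm_zero_left, neg_zero]⟩, rfl⟩
  -- two rank
  have hrank : ∃ x y : PSU 3 F q, x ≠ 1 ∧ y ≠ 1 ∧ x ≠ y ∧ x * x = 1 ∧ y * y = 1 ∧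
      x * y = y * x := by
    obtain ⟨c, hc0, hc⟩ := exists_trace_zero_ne_zero hF
    obtain ⟨⟨d, hd⟩, hd0, hdc⟩ : ∃ d : {c : F // c + c ^ q = 0}, (d : F) ≠ 0 ∧ (d : F) ≠ c := by
      by_contra hcon
      push Not at hcon
      have hle : Nat.card {c : F // c + c ^ q = 0} ≤ Nat.card ({0, c} : Finset F) :=
        Nat.card_le_card_of_injective (fun d => ⟨d.1, by
          by_cases h0 : (d : F) = 0
          · simp [h0]
          · simp [hcon d h0]⟩) (fun x y e' => Subtype.ext (by simpa using congrArg Subtype.val e'))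
      rw [card_trace_ker hF, Nat.card_eq_finsetCard] at hle
      have : ({0, c} : Finset F).card ≤ 2 := Finset.card_le_two
      omega
    have hzero : (0 : F) + 0 ^ q = 0 := by rw [zero_pow_q hF, add_zero]
    have hne : ∀ {d : F} (hd : d + d ^ q = 0), d ≠ 0 → piU 3 F q (tv hF h.ee hd) ≠ 1 := by
      intro d hd hd0 e'
      refine hd0 (hinj hd hzero (e'.trans ?_))
      rw [← map_one (piU 3 F q)]
      refine congrArg _ (eq_of_smul_eq_SU fun x => ?_)
      rw [one_smul, tv_smul]
      simp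
    refine ⟨_, _, hne hc hc0, hne hd hd0, fun e' => hdc (hinj hc hd e').symm, hsq hc, hsq hd, ?_⟩
    rw [← map_mul, ← map_mul]
    refine congrArg _ (eq_of_smul_eq_SU fun x => ?_)
    simp only [mul_smul, tv_smul, herm_add_left, herm_smul_left, h.ee]
    module
  -- generation
  have hgen : Gen t Q := by
    set H := Subgroup.closure ((Q : Set (PSU 3 F q)) ∪ {t}) with hH
    have hQH : Q ≤ H := fun x hx => Subgroup.subset_closure (Or.inl hx)
    have htH : t ∈ H := Subgroup.subset_closure (Or.inr rfl)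
    have htop : (H.comap (piU 3 F q)) = ⊤ := by
      rw [eq_top_iff, ← (iwasawa hF h32).is_generator, iSup_le_iff]
      intro p
      obtain ⟨g, hg, hgp⟩ : ∃ g ∈ H, g • a = p := by
        by_cases hp : p = a
        · exact ⟨1, one_mem _, by rw [hp, one_smul]⟩
        · obtain ⟨x, hx, hxb⟩ := hreach p hp
          exact ⟨x * t, mul_mem (hQH hx) htH, by rw [mul_smul, hta, hxb]⟩
      obtain ⟨g, rfl⟩ := piU_surjective g
      rw [act_mk] at hgp
      have hpa : p.1 = Projectivization.mk F (g • e) ((smul_ne_zero_iff_ne g).2 h.e_ne) := by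
        rw [← hgp, ha, smul_pt]
        rfl
      obtain ⟨c, hc, hcp⟩ := exists_pt_eq hF _ hpa
      show rootGroup hF p.2 ≤ _
      rw [rootGroup_eq hF (hu := (herm_smul_SU g e e).trans h.ee) (hu' := p.2) hc hcp.symm]
      rintro _ ⟨d, hd, rfl⟩
      rw [← conj_tv hF g h.ee hd, Subgroup.mem_comap, map_mul, map_mul, map_inv]
      exact mul_mem (mul_mem hg (hQH (htv1 hd))) (inv_mem hg)
    show H = ⊤
    rw [eq_top_iff]
    intro x _
    obtain ⟨g, rfl⟩ := piU_surjective x
    exact Subgroup.mem_comap.1 (htop ▸ Subgroup.mem_top g)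
  -- faithfulness
  have hfaith : FaithfulSMul (PSU 3 F q) (IsoPt hF 3) := by
    haveI := isSimpleGroup_PSU (n := 3) hF le_rfl h32
    refine ⟨fun {g g'} hgg => ?_⟩
    have hinjective : Function.Injective (MulAction.toPermHom (PSU 3 F q) (IsoPt hF 3)) := by
      rw [← MonoidHom.ker_eq_bot_iff]
      refine (MonoidHom.normal_ker _).eq_bot_or_eq_top.resolve_right fun htop => hab ?_
      have : t ∈ (MulAction.toPermHom (PSU 3 F q) (IsoPt hF 3)).ker := htop ▸ Subgroup.mem_top t
      rw [← hta]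
      exact congrArg (fun σ : Equiv.Perm (IsoPt hF 3) => σ a) (MonoidHom.mem_ker.1 this)
    exact hinjective (Equiv.ext hgg)
  -- the structure equation
  have hrinv : RInv a t Q := by
    intro s r hs hr heq
    obtain ⟨hsa, hs1, hss⟩ := hs
    have hs_inv : RankOne.IsInv s := ⟨hs1, hss⟩
    have ht_inv : RankOne.IsInv t := RankOne.t_isInv hsetup
    have htinv : t⁻¹ = t := RankOne.t_inv hsetup
    have hu : RankOne.IsInv (r⁻¹ * t * r) := by
      have := ht_inv.conj r⁻¹
      rwa [inv_inv] at this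
    have hfix_b : (r⁻¹ * t * r) • b = b := by
      rw [← heq, ← hta, mul_smul, mul_smul, RankOne.t_smul_ta hsetup, mem_stabilizer_iff.1 hsa]
    have hu1 : herm q (e + f) e = 1 := by rw [herm_add_left, h.ee, hfe, zero_add]
    have hu0 : e + f ≠ 0 := fun e' => by simp [e'] at hu1
    set c₀ : IsoPt hF 3 := pt hF (e + f) hu0 huu with hc₀
    have htc : t • c₀ = c₀ := by
      rw [ht, hc₀, act_mk, pt_smul_eq_iff]
      refine ⟨1, ?_⟩
      rw [hT, tv_smul, huu, mul_zero, zero_smul, add_zero, one_smul]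
    have hfix_c : (r⁻¹ * t * r) • (r⁻¹ • c₀) = r⁻¹ • c₀ := by
      rw [mul_smul, smul_inv_smul, mul_smul, htc]
    have hrb : r • b = c₀ := by
      rw [RankOne.fixed_unique hsetup hu hfix_b hfix_c, smul_inv_smul]
    have h1' : (1 : F) + 1 ^ q = 0 := h1c
    have hr0b : piU 3 F q (tv hF h.ee h1') • b = c₀ := by
      rw [hb, hc₀, act_mk, pt_smul_eq_iff]
      refine ⟨1, ?_⟩
      rw [tv_smul, hfe, mul_one, one_smul, one_smul, add_comm]
    have hab' : b ≠ a := hab
    rw [RankOne.regular_unique hsetup hab' hr (htv1 h1') (hrb.trans hr0b.symm)]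
    exact hsq h1'
  exact ⟨IsoPt hF 3, act hF, a, t, Q, ⟨hsetup, hfaith, hrank⟩, hgen, hcard, hqof, hrinv, hpQ⟩

end Cfsg.Agent.Suz27
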