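import Cfsg.Agent.Suz27.RegularOddComm

/-!
Odd two-point stabilisers and a transitive nilpotent normal subgroup `U` of a point stabiliser force
`U` to be regular, given that in every rank one group the subgroup `Q` is a `2`-group.
-/

set_option autoImplicit false

namespace Cfsg.Agent.Suz27

open MulAction RankOne
open scoped Pointwise

universe u v

/-- In every rank one group the subgroup `Q` is a `2`-group, as a proposition. -/
def TwoStmt : Prop :=
  ∀ (G : Type u) [Group G] [Finite G] (Ω : Type v) [MulAction G Ω] (a : Ω) (t : G) (Q : Subgroup G),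
    R1 G Ω a t Q → IsPGroup 2 Q

variable {G : Type u} {Ω : Type v} [Group G] [Finite G] [MulAction G Ω] {a : Ω} {U : Subgroup G}

namespace OddTwoTrans

variable (h : OddTwoTrans G Ω a U)
include h

/-- Elements of `U` normalising `W = wGrp a U a b` have a `2`-power lying in `W`. -/
theorem exists_pow_mem (hTwo : TwoStmt.{u, v}) {b : Ω} (hb : b ≠ a) {x : G} (hxU : x ∈ U)
    (hxN : x ∈ Subgroup.normalizer (wGrp a U a b : Set G)) :
    ∃ j : ℕ, x ^ 2 ^ j ∈ wGrp a U a b := by
  classical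
  haveI := h.finite
  haveI := h.faithful
  set W := wGrp a U a b with hW
  set X := Subgroup.normalizer (W : Set G) with hX
  let Δ : Type v := {p : Ω // ∀ w ∈ W, w • p = p}
  have hact : ∀ g ∈ X, ∀ p : Ω, (∀ w ∈ W, w • p = p) → ∀ w ∈ W, w • g • p = g • p := by
    intro g hg p hp w hw
    have : g⁻¹ * w * g ∈ W := by
      have := (Subgroup.mem_normalizer_iff.1 (inv_mem hg) w).1 hw
      simpa using this
    calc w • g • p = g • (g⁻¹ * w * g) • p := by simp [mul_smul]
      _ = g • p := by rw [hp _ this]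
  let toPerm : X →* Equiv.Perm Δ :=
    { toFun := fun g =>
        { toFun := fun p => ⟨(g : G) • p.1, hact g g.2 p.1 p.2⟩
          invFun := fun p => ⟨(g : G)⁻¹ • p.1, hact _ (inv_mem g.2) p.1 p.2⟩
          left_inv := fun p => Subtype.ext (inv_smul_smul _ _)
          right_inv := fun p => Subtype.ext (smul_inv_smul _ _) }
      map_one' := by ext p; exact one_smul _ _
      map_mul' := fun g g' => by ext p; exact mul_smul _ _ _ }
  let H : Type u := X ⧸ toPerm.ker
  letI : MulAction H Δ := MulAction.compHom Δ (QuotientGroup.kerLift toPerm)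
  have hsmul : ∀ (g : X) (p : Δ), ((g : H) • p).1 = (g : G) • p.1 := fun g p => rfl
  have hfix : ∀ p : Ω, (∀ w ∈ W, w • p = p) → p ≠ a → wGrp a U a p = W := fun p hp hpa =>
    h.wGrp_eq hb.symm hpa.symm hp
  let A : Δ := ⟨a, fun w hw => (h.wGrp_le a b hw).1⟩
  let B : Δ := ⟨b, fun w hw => (h.wGrp_le a b hw).2⟩
  -- elements of `U` normalising `W` are transitive on the remaining points
  have hmove : ∀ p q : Δ, p.1 ≠ a → q.1 ≠ a → ∃ g : X, (g : G) ∈ U ∧ (g : G) • p.1 = q.1 := by
    intro p q hp hq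
    obtain ⟨g, hg, hgpq⟩ := h.transitive p.1 q.1 hp hq
    refine ⟨⟨g, ?_⟩, hg, hgpq⟩
    rw [hX, Subgroup.mem_normalizer_iff_map_conj_eq]
    conv_lhs => rw [← hfix p.1 p.2 hp]
    refine (h.map_wGrp a p.1 g).trans ?_
    rw [show g • a = a from h.le hg, hgpq, hfix q.1 q.2 hq]
  -- the exchange of `a` and `b`
  obtain ⟨t, ht, hta⟩ := h.exists_swap hb.symm
  have htb : t • b = a := by rw [← hta, ht.smul_smul]
  have htX : t ∈ X := by
    rw [hX, Subgroup.mem_normalizer_iff_map_conj_eq]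
    refine (h.map_wGrp a b t).trans ?_
    rw [hta, htb, h.wGrp_swap hb.symm]
  let T : H := ((⟨t, htX⟩ : X) : H)
  have hTA : T • A = B := Subtype.ext hta
  have hcoe : ∀ k : H, ∃ g : X, (g : H) = k := fun k => QuotientGroup.mk_surjective k
  let Q : Subgroup H := (U.subgroupOf X).map (QuotientGroup.mk' toPerm.ker)
  have htriv : ∀ g : X, (g : G) ∈ W → (g : H) = 1 := fun g hg => by
    rw [QuotientGroup.eq_one_iff, MonoidHom.mem_ker]
    exact Equiv.ext fun p => Subtype.ext (p.2 _ hg)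
  -- two involutions fixing `a`
  obtain ⟨x₁, x₂, hx1, hx2, hne, hq1, hq2, hcomm⟩ := h.rank2
  obtain ⟨c, hc1⟩ := h.exists_fixed ⟨hx1, hq1⟩
  have hc2 : x₂ • c = c := h.comm_fix ⟨hx1, hq1⟩ hc1 hcomm
  obtain ⟨g, rfl⟩ := h.exists_move c
  have hz : ∀ y : G, IsInv y → y • g • a = g • a →
      IsInv (g⁻¹ * y * g) ∧ (g⁻¹ * y * g) • a = a ∧ g⁻¹ * y * g ∈ X := by
    intro y hy hyc
    have h1 : IsInv (g⁻¹ * y * g) := by simpa using hy.conj g⁻¹
    have h2 : (g⁻¹ * y * g) • a = a := by rw [mul_smul, mul_smul, hyc, inv_smul_smul]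
    refine ⟨h1, h2, ?_⟩
    rw [hX, Subgroup.mem_normalizer_iff]
    intro w
    have hcc := (h.inv_mem_ptGrp h1 h2).2
    constructor
    · intro hw
      rw [hcc w hw.1, mul_inv_cancel_right]; exact hw
    · intro hw
      have := hcc _ hw.1
      rw [inv_mul_cancel_right] at this
      have e : g⁻¹ * y * g * w * (g⁻¹ * y * g)⁻¹ = w :=
        mul_left_cancel (a := g⁻¹ * y * g) (this.trans rfl)
      rwa [e] at hw
  obtain ⟨hi1, ha1, hX1⟩ := hz x₁ ⟨hx1, hq1⟩ hc1
  obtain ⟨hi2, ha2, hX2⟩ := hz x₂ ⟨hx2, hq2⟩ hc2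
  have hmovb : ∀ y : G, IsInv y → y • a = a → y • b ≠ b := fun y hy hya hyb =>
    hb (h.fixed_unique hy hyb hya)
  have hne1 : ∀ y : G, IsInv y → y • a = a → ∀ hyX : y ∈ X, ((⟨y, hyX⟩ : X) : H) ≠ 1 := by
    intro y hy hya hyX e
    refine hmovb y hy hya ?_
    have := hsmul ⟨y, hyX⟩ B
    rw [e, one_smul] at this
    exact this.symm
  have hR : R1 H Δ A T Q := by
    refine { setup := ?_, faithful := ?_, rank2 := ?_ }
    · refine { two_transitive := ?_, mul_self := ?_, ne_one := ?_, not_mem := ?_, le := ?_,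
               conj_mem := ?_, inf_eq_bot := ?_, sup_eq := ?_, even_card := ?_, odd_card := ?_ }
      · rw [is_two_pretransitive_iff]
        have key : ∀ p q : Δ, p ≠ q → ∃ k : X, (k : G) • a = p.1 ∧ (k : G) • b = q.1 := by
          intro p q hpq
          obtain ⟨k₁, hk₁⟩ : ∃ k : X, (k : G) • a = p.1 := by
            by_cases hp : p.1 = a
            · exact ⟨1, by rw [hp]; exact one_smul _ _⟩
            · obtain ⟨k, -, hk⟩ := hmove B p hb hp
              exact ⟨k * ⟨t, htX⟩, by show ((k : G) * t) • a = p.1; rw [mul_smul, hta, hk]⟩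
          have hq : ((k₁⁻¹ : X) : G) • q.1 ≠ a := fun e => hpq (Subtype.ext (by
            rw [← hk₁, ← e, ← mul_smul, ← Subgroup.coe_mul, mul_inv_cancel, Subgroup.coe_one,
              one_smul]))
          obtain ⟨k₂, hk₂U, hk₂⟩ := hmove B ⟨_, hact _ (k₁⁻¹).2 q.1 q.2⟩ hb hq
          refine ⟨k₁ * k₂, ?_, ?_⟩
          · show ((k₁ : G) * k₂) • a = p.1
            rw [mul_smul, show (k₂ : G) • a = a from h.le hk₂U, hk₁]
          · show ((k₁ : G) * k₂) • b = q.1
            rw [mul_smul, hk₂]; exact smul_inv_smul _ _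
        intro p q r s hpq hrs
        obtain ⟨k, hkp, hkq⟩ := key p q hpq
        obtain ⟨k', hkr, hks⟩ := key r s hrs
        refine ⟨((k' * k⁻¹ : X) : H), Subtype.ext ?_, Subtype.ext ?_⟩ <;> rw [hsmul] <;>
          show ((k' : G) * (k : G)⁻¹) • _ = _
        · rw [← hkp, mul_smul, inv_smul_smul, hkr]
        · rw [← hkq, mul_smul, inv_smul_smul, hks]
      · show ((⟨t, htX⟩ * ⟨t, htX⟩ : X) : H) = 1
        rw [show (⟨t, htX⟩ * ⟨t, htX⟩ : X) = 1 from Subtype.ext ht.2]; rfl
      · intro e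
        have := hTA
        rw [e, one_smul] at this
        exact hb (congrArg Subtype.val this).symm
      · intro e
        exact hb (congrArg Subtype.val (hTA.symm.trans e))
      · rintro _ ⟨k, hk, rfl⟩
        exact Subtype.ext (h.le hk)
      · rintro k hk _ ⟨y, hy, rfl⟩
        obtain ⟨k', rfl⟩ := hcoe k
        refine ⟨k' * y * k'⁻¹, ?_, rfl⟩
        exact h.conj_mem _ (congrArg Subtype.val hk : (k' : G) • a = a) _ hy
      · refine (Subgroup.eq_bot_iff_forall _).2 ?_
        rintro _ ⟨⟨k, hk, rfl⟩, hfixB⟩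
        refine htriv k ⟨h.ptGrp_self.symm ▸ hk, ?_⟩
        have hfix' : (k : H) • (T • A) = T • A := hfixB
        rw [hTA] at hfix'
        exact congrArg Subtype.val hfix'
      · refine le_antisymm (sup_le ?_ inf_le_left) ?_
        · rintro _ ⟨k, hk, rfl⟩
          exact Subtype.ext (h.le hk)
        · intro k hk
          obtain ⟨k', rfl⟩ := hcoe k
          have hka : (k' : G) • a = a := congrArg Subtype.val hk
          have hkb : (k' : G) • b ≠ a := fun e => hb (smul_left_cancel _ (e.trans hka.symm))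
          obtain ⟨u, huU, hu⟩ := hmove B ((k' : H) • B) hb hkb
          have e : (k' : H) = (u : H) * ((u⁻¹ * k' : X) : H) := by
            rw [← QuotientGroup.mk_mul, mul_inv_cancel_left]
          rw [e]
          refine mul_mem (Subgroup.mem_sup_left ⟨u, huU, rfl⟩)
            (Subgroup.mem_sup_right (Subgroup.mem_inf.2 ⟨Subtype.ext ?_, ?_⟩))
          · show ((u : G)⁻¹ * k') • a = a
            rw [mul_smul, hka, inv_smul_eq_iff]
            exact (h.le huU).symm
          · rw [mem_stabilizer_iff, hTA]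
            refine Subtype.ext ?_
            show ((u : G)⁻¹ * k') • b = b
            rw [mul_smul, inv_smul_eq_iff]
            exact hu.symm
      · refine even_iff_two_dvd.2 ?_
        have hmem : (((⟨_, hX1⟩ : X)) : H) ∈ Q := ⟨⟨_, hX1⟩, (h.inv_central hi1 ha1).1, rfl⟩
        have hord : orderOf ((⟨_, hX1⟩ : X) : H) = 2 := by
          refine orderOf_eq_prime ?_ (hne1 _ hi1 ha1 hX1)
          rw [pow_two, ← QuotientGroup.mk_mul,
            show (⟨_, hX1⟩ * ⟨_, hX1⟩ : X) = 1 from Subtype.ext hi1.2]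
          rfl
        exact hord ▸ Subgroup.orderOf_dvd_natCard Q hmem
      · have hle : stabilizer H A ⊓ stabilizer H (T • A) ≤
            ((stabilizer G a ⊓ stabilizer G b).subgroupOf X).map (QuotientGroup.mk' _) := by
          intro k hk
          obtain ⟨k', rfl⟩ := hcoe k
          obtain ⟨hk1, hk2⟩ := Subgroup.mem_inf.1 hk
          rw [mem_stabilizer_iff, hTA] at hk2
          exact ⟨k', Subgroup.mem_inf.2 ⟨congrArg Subtype.val hk1, congrArg Subtype.val hk2⟩, rfl⟩
        refine (h.odd_two_point a b hb.symm).of_dvd_nat ?_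
        refine (Subgroup.card_dvd_of_le hle).trans ((Subgroup.card_map_dvd _ _).trans ?_)
        rw [← Subgroup.card_map_of_injective X.subtype_injective]
        exact Subgroup.card_dvd_of_le (Subgroup.map_comap_le _ _)
    · refine ⟨fun {k k'} e => ?_⟩
      exact QuotientGroup.kerLift_injective toPerm (Equiv.ext e)
    · refine ⟨((⟨_, hX1⟩ : X) : H), ((⟨_, hX2⟩ : X) : H), hne1 _ hi1 ha1 hX1,
        hne1 _ hi2 ha2 hX2, ?_, ?_, ?_, ?_⟩
      · intro e
        have hcc : g⁻¹ * x₁ * g * (g⁻¹ * x₂ * g) = g⁻¹ * x₂ * g * (g⁻¹ * x₁ * g) := by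
          calc g⁻¹ * x₁ * g * (g⁻¹ * x₂ * g) = g⁻¹ * (x₁ * x₂) * g := by group
            _ = _ := by rw [hcomm]; group
        have hprod : IsInv (g⁻¹ * x₁ * g * (g⁻¹ * x₂ * g)) := by
          refine ⟨fun E => hne ?_, ?_⟩
          · have := eq_inv_of_mul_eq_one_left E
            rw [inv_eq_self hi2.2] at this
            exact mul_left_cancel (mul_right_cancel this)
          · calc g⁻¹ * x₁ * g * (g⁻¹ * x₂ * g) * (g⁻¹ * x₁ * g * (g⁻¹ * x₂ * g))
                = g⁻¹ * x₁ * g * (g⁻¹ * x₂ * g * (g⁻¹ * x₁ * g)) * (g⁻¹ * x₂ * g) := by group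
              _ = g⁻¹ * (x₁ * x₁) * (x₂ * x₂) * g := by rw [← hcc]; group
              _ = 1 := by rw [hq1, hq2]; group
        refine hne1 _ hprod (by rw [mul_smul, ha2, ha1]) (mul_mem hX1 hX2) ?_
        show ((⟨_, hX1⟩ * ⟨_, hX2⟩ : X) : H) = 1
        rw [QuotientGroup.mk_mul, e, ← QuotientGroup.mk_mul,
          show (⟨_, hX2⟩ * ⟨_, hX2⟩ : X) = 1 from Subtype.ext hi2.2]
        rfl
      · rw [← QuotientGroup.mk_mul, show (⟨_, hX1⟩ * ⟨_, hX1⟩ : X) = 1 from Subtype.ext hi1.2]
        rfl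
      · rw [← QuotientGroup.mk_mul, show (⟨_, hX2⟩ * ⟨_, hX2⟩ : X) = 1 from Subtype.ext hi2.2]
        rfl
      · rw [← QuotientGroup.mk_mul, ← QuotientGroup.mk_mul]
        refine congrArg _ (Subtype.ext ?_)
        show g⁻¹ * x₁ * g * (g⁻¹ * x₂ * g) = g⁻¹ * x₂ * g * (g⁻¹ * x₁ * g)
        calc g⁻¹ * x₁ * g * (g⁻¹ * x₂ * g) = g⁻¹ * (x₁ * x₂) * g := by group
          _ = _ := by rw [hcomm]; group
  obtain ⟨j, hj⟩ := hTwo H Δ A T Q hR ⟨((⟨x, hxN⟩ : X) : H), ⟨⟨x, hxN⟩, hxU, rfl⟩⟩
  refine ⟨j, h.ptGrp_self.symm ▸ pow_mem hxU _, ?_⟩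
  have hj' : (((⟨x, hxN⟩ : X) ^ 2 ^ j : X) : H) = 1 := by
    rw [QuotientGroup.mk_pow]; exact congrArg Subtype.val hj
  have := hsmul ((⟨x, hxN⟩ : X) ^ 2 ^ j) B
  rw [hj', one_smul] at this
  exact this.symm

/-- `U` is regular on the points other than `a`. -/
theorem eq_one_of_fix (hTwo : TwoStmt.{u, v}) {b : Ω} (hb : b ≠ a) {u : G} (hu : u ∈ U)
    (hub : u • b = b) : u = 1 := by
  classical
  haveI := h.faithful
  haveI := h.nilpotent
  set W := wGrp a U a b with hW
  have huW : u ∈ W := ⟨h.ptGrp_self.symm ▸ hu, hub⟩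
  have hodd : Odd (orderOf u) :=
    odd_orderOf_of_mem (h.odd_two_point a b hb.symm) (h.wGrp_le a b huW)
  by_contra hu1
  obtain ⟨q, hq, hqd⟩ := Nat.exists_prime_and_dvd (fun e => hu1 (orderOf_eq_one_iff.1 e))
  haveI := Fact.mk hq
  have hq2 : q ≠ 2 := by
    rintro rfl
    exact Nat.not_even_iff_odd.2 hodd (even_iff_two_dvd.2 hqd)
  obtain ⟨P⟩ : Nonempty (Sylow q U) := inferInstance
  have hPn : (P : Subgroup U).Normal :=
    P.normal_of_normalizerCondition Group.normalizerCondition_of_isNilpotent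
  have hWU : W ≤ U := fun x hx => h.ptGrp_self ▸ hx.1
  -- the Sylow subgroup fixes `b`
  have hPW : (P : Subgroup U) ≤ W.subgroupOf U := by
    by_contra hnot
    set M := W.subgroupOf U ⊔ (P : Subgroup U) with hM
    haveI : Group.IsNilpotent M := Fitting.isNilpotent_of_le
      (Group.isNilpotent_top.2 h.nilpotent) le_top
    have hlt : (W.subgroupOf U).subgroupOf M < ⊤ := lt_of_le_of_ne le_top fun e =>
      hnot (le_sup_right.trans (Subgroup.subgroupOf_eq_top.1 e))
    obtain ⟨-, ⟨⟨y, hyM⟩, hyN, hyW⟩⟩ := SetLike.lt_iff_le_and_exists.1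
      (Group.normalizerCondition_of_isNilpotent _ hlt)
    have hMset : y ∈ ((W.subgroupOf U : Subgroup U) : Set U) * ((P : Subgroup U) : Set U) := by
      rw [← Subgroup.mul_normal]; exact hyM
    obtain ⟨w, hw, p, hp, rfl⟩ := hMset
    have hnorm : (w : U) * p ∈ Subgroup.normalizer ((W.subgroupOf U : Subgroup U) : Set U) := by
      rw [Subgroup.mem_normalizer_iff]
      intro z
      constructor
      · intro hz
        exact ((Subgroup.mem_normalizer_iff.1 hyN) ⟨z, Subgroup.mem_sup_left hz⟩).1 hz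
      · intro hz
        have hzM : z ∈ M := by
          have h' := mul_mem (mul_mem (inv_mem hyM) (Subgroup.mem_sup_left hz : _ ∈ M)) hyM
          simpa [mul_assoc] using h'
        exact ((Subgroup.mem_normalizer_iff.1 hyN) ⟨z, hzM⟩).2 hz
    have hpn : p ∈ Subgroup.normalizer ((W.subgroupOf U : Subgroup U) : Set U) := by
      simpa using mul_mem (inv_mem (Subgroup.le_normalizer hw)) hnorm
    have hpN : (p : G) ∈ Subgroup.normalizer (W : Set G) := by
      rw [Subgroup.mem_normalizer_iff]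
      intro z
      constructor
      · intro hz
        exact ((Subgroup.mem_normalizer_iff.1 hpn) ⟨z, hWU hz⟩).1 hz
      · intro hz
        have hzU : z ∈ U := by
          simpa [mul_assoc] using mul_mem (mul_mem (inv_mem p.2) (hWU hz)) p.2
        exact ((Subgroup.mem_normalizer_iff.1 hpn) ⟨z, hzU⟩).2 hz
    obtain ⟨j, hj⟩ := h.exists_pow_mem hTwo hb p.2 hpN
    obtain ⟨k, hk⟩ := P.2 ⟨p, hp⟩
    have hk' : (p : G) ^ q ^ k = 1 := by
      have := congrArg (fun z : P => ((z : U) : G)) hk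
      simpa using this
    have hcop : (orderOf (p : G)).Coprime (2 ^ j) :=
      Nat.Coprime.coprime_dvd_left (orderOf_dvd_of_pow_eq_one hk')
        (Nat.Coprime.pow _ _ ((Nat.coprime_primes hq Nat.prime_two).2 hq2))
    obtain ⟨m, hm⟩ := exists_pow_eq_self_of_coprime hcop.symm
    have hpW : (p : G) ∈ W := by rw [← hm]; exact pow_mem hj m
    exact hyW (mul_mem hw hpW : w * p ∈ W.subgroupOf U)
  -- so it fixes every point
  have hP1 : ∀ p ∈ (P : Subgroup U), p = 1 := by
    intro p hp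
    refine Subtype.ext (eq_of_smul_eq_smul (α := Ω) fun c => ?_)
    rw [OneMemClass.coe_one, one_smul]
    by_cases hc : c = a
    · rw [hc]; exact h.le p.2
    · obtain ⟨g, hg, rfl⟩ := h.transitive b c hb hc
      have := (hPW (hPn.conj_mem p hp ⟨g, hg⟩⁻¹)).2
      simp only [inv_inv] at this
      have h2 : (g⁻¹ * (p : G) * g) • b = b := this
      rw [mul_smul, mul_smul, inv_smul_eq_iff] at h2
      exact h2
  have hdvd : q ∣ Nat.card U := hqd.trans (Subgroup.orderOf_dvd_natCard U hu)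
  have hPbot : (P : Subgroup U) = ⊥ := (Subgroup.eq_bot_iff_forall _).2 hP1
  exact P.ne_bot_of_dvd_card hdvd hPbot

end OddTwoTrans

end Cfsg.Agent.Suz27
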