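import Cfsg.Agent.Lib.BNPair.Simple
import Cfsg.Prelude.Def_Involutions

/-!
A strongly split (B,N)-pair of rank one whose `U` meets the opposite Borel subgroup trivially gives a
strongly embedded subgroup with a regular normal subgroup.
-/

set_option autoImplicit false

namespace Cfsg.Agent.Suz27

open Cfsg.Agent.BN MulAction

variable {G : Type*} [Group G] (P : Cfsg.BNPair G) {U : Subgroup G}

/-- In rank one, an element outside `B` lies in `B s B`. -/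
theorem exists_mul_of_not_mem (hrank : P.rank = 1) {s : G} (hs : s ∈ P.S) {g : G} (hg : g ∉ P.B) :
    ∃ b ∈ P.B, ∃ c ∈ P.B, g = b * s * c := by
  have h2 := two_pretransitive_of_rank_one P hrank
  have hsB := S_not_mem_B P hs
  have hne : ∀ {x : G}, x ∉ P.B → ((1 : G) : G ⧸ P.B) ≠ (x : G ⧸ P.B) := fun hx h =>
    hx (by simpa using (QuotientGroup.eq).1 h)
  obtain ⟨b, hb1, hbs⟩ := (is_two_pretransitive_iff.1 h2) (hne hsB) (hne hg)
  have hb : b ∈ P.B := by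
    rw [MulAction.Quotient.smul_mk, smul_eq_mul, mul_one, QuotientGroup.eq, mul_one] at hb1
    exact inv_mem_iff.1 hb1
  rw [MulAction.Quotient.smul_mk, smul_eq_mul, QuotientGroup.eq] at hbs
  exact ⟨b, hb, (b * s)⁻¹ * g, hbs, by group⟩

/-- `U` is transitive on the cosets other than `B`. -/
theorem exists_U_mul (hrank : P.rank = 1) (hUB : U ≤ P.B) (hUn : (U.subgroupOf P.B).Normal)
    (hsplit : U ⊔ (P.B ⊓ P.N) = P.B) {s : G} (hs : s ∈ P.S) {g : G} (hg : g ∉ P.B) :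
    ∃ u ∈ U, ∃ c ∈ P.B, g = u * s * c := by
  obtain ⟨b, hb, c, hc, rfl⟩ := exists_mul_of_not_mem P hrank hs hg
  have hn : P.B ⊓ P.N ≤ Subgroup.normalizer (U : Set G) := by
    intro d hd
    have hd1 := (Subgroup.mem_inf.1 hd).1
    rw [Subgroup.mem_normalizer_iff]
    intro y
    refine ⟨fun hy => hUn.conj_mem ⟨y, hUB hy⟩ hy ⟨d, hd1⟩, fun hy => ?_⟩
    have := hUn.conj_mem ⟨_, hUB hy⟩ hy ⟨d⁻¹, inv_mem hd1⟩
    simpa [Subgroup.mem_subgroupOf, mul_assoc] using this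
  have hb' : b ∈ ((U ⊔ (P.B ⊓ P.N) : Subgroup G) : Set G) := by rw [hsplit]; exact hb
  rw [Subgroup.coe_mul_of_right_le_normalizer_left U _ hn] at hb'
  obtain ⟨u, hu, d, hd, rfl⟩ := hb'
  have hd' : s⁻¹ * d * s ∈ P.B := by
    have := P.conj_mem s⁻¹ (inv_mem (S_mem_N P hs)) d hd
    simpa using this
  exact ⟨u, hu, s⁻¹ * d * s * c, mul_mem hd' hc, by group⟩

/-- The hypotheses of S1222 for a strongly split (B,N)-pair of rank one. -/
theorem bn_hypotheses [Finite G] (hrank : P.rank = 1) (hUB : U ≤ P.B)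
    (hUn : (U.subgroupOf P.B).Normal) (hsplit : U ⊔ (P.B ⊓ P.N) = P.B) (hind : Odd P.B.index)
    (hT : Odd (Nat.card ↥(P.B ⊓ P.N))) {s : G} (hs : s ∈ P.S)
    (hopp : ∀ u ∈ U, s⁻¹ * u * s ∈ P.B → u = 1) :
    Cfsg.IsStronglyEmbedded P.B ∧
      (∀ g₁ g₂ : G, g₁ ∉ P.B → g₂ ∉ P.B → ∃ u ∈ U, g₂⁻¹ * (u * g₁) ∈ P.B) ∧
      (∀ g : G, g ∉ P.B → ∀ u ∈ U, g⁻¹ * (u * g) ∈ P.B → u = 1) := by
  have hsB := S_not_mem_B P hs
  have hUconj : ∀ b ∈ P.B, ∀ u ∈ U, b * u * b⁻¹ ∈ U := fun b hb u hu =>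
    hUn.conj_mem ⟨u, hUB hu⟩ hu ⟨b, hb⟩
  have hn : P.B ⊓ P.N ≤ Subgroup.normalizer (U : Set G) := by
    intro d hd
    have hd1 := (Subgroup.mem_inf.1 hd).1
    rw [Subgroup.mem_normalizer_iff]
    intro y
    refine ⟨fun hy => hUconj d hd1 y hy, fun hy => ?_⟩
    simpa [mul_assoc] using hUconj d⁻¹ (inv_mem hd1) _ hy
  -- the two point stabiliser is `B ⊓ N`
  have hD : ∀ x ∈ P.B, s⁻¹ * x * s ∈ P.B → x ∈ P.B ⊓ P.N := by
    intro x hx hxs
    have hx' : x ∈ ((U ⊔ (P.B ⊓ P.N) : Subgroup G) : Set G) := by rw [hsplit]; exact hx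
    rw [Subgroup.coe_mul_of_right_le_normalizer_left U _ hn] at hx'
    obtain ⟨u, hu, d, hd, rfl⟩ := hx'
    have hd' : s⁻¹ * d * s ∈ P.B := by
      have := P.conj_mem s⁻¹ (inv_mem (S_mem_N P hs)) d hd
      simpa using this
    have hu1 : u = 1 := hopp u hu (by
      have := mul_mem hxs (inv_mem hd')
      simpa [mul_assoc] using this)
    rw [hu1]; simpa using hd
  refine ⟨⟨?_, ?_, ?_⟩, ?_, ?_⟩
  · exact fun h => hsB (h ▸ Subgroup.mem_top s)
  · -- `s` has even order and the index is odd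
    have hs2 : s * s ∈ P.B ⊓ P.N :=
      Subgroup.mem_inf.2 ⟨P.sq_mem s hs, mul_mem (S_mem_N P hs) (S_mem_N P hs)⟩
    have heven : 2 ∣ Nat.card G := by
      refine dvd_trans ?_ (orderOf_dvd_natCard s)
      by_contra h
      obtain ⟨k, hk⟩ : Odd (orderOf s) := Nat.odd_iff.2 (Nat.two_dvd_ne_zero.1 h)
      refine hsB (Subgroup.mem_inf.1 (?_ : s ∈ P.B ⊓ P.N)).1
      have e : s = (s * s) ^ (k + 1) := by
        rw [← pow_two, ← pow_mul, show 2 * (k + 1) = orderOf s + 1 by omega, pow_succ,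
          pow_orderOf_eq_one, one_mul]
      rw [e]
      exact pow_mem hs2 _
    rw [← P.B.card_mul_index] at heven
    rcases (Nat.Prime.dvd_mul Nat.prime_two).1 heven with h | h
    · exact even_iff_two_dvd.2 h
    · exact absurd (even_iff_two_dvd.2 h) (Nat.not_even_iff_odd.2 hind)
  · intro g hg
    obtain ⟨u, hu, c, hc, rfl⟩ := exists_U_mul P hrank hUB hUn hsplit hs hg
    refine hT.of_dvd_nat ?_
    rw [show Nat.card ↥(P.B ⊓ P.N) = Nat.card ↥((P.B ⊓ P.N).map (MulAut.conj u).toMonoidHom) from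
      (Subgroup.card_map_of_injective (MulAut.conj u).injective).symm]
    refine Subgroup.card_dvd_of_le fun x hx => ?_
    obtain ⟨hx1, y, hy, rfl⟩ := hx
    simp only [MulEquiv.coe_toMonoidHom, MulAut.conj_apply] at hx1 ⊢
    refine ⟨u⁻¹ * (u * s * c * y * (u * s * c)⁻¹) * u, ?_, by
      simp only [MulEquiv.coe_toMonoidHom, MulAut.conj_apply]; group⟩
    refine hD _ (mul_mem (mul_mem (inv_mem (hUB hu)) hx1) (hUB hu)) ?_
    have e : s⁻¹ * (u⁻¹ * (u * s * c * y * (u * s * c)⁻¹) * u) * s = c * y * c⁻¹ := by group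
    rw [e]
    exact mul_mem (mul_mem hc hy) (inv_mem hc)
  · intro g₁ g₂ h₁ h₂
    obtain ⟨u₁, hu₁, c₁, hc₁, rfl⟩ := exists_U_mul P hrank hUB hUn hsplit hs h₁
    obtain ⟨u₂, hu₂, c₂, hc₂, rfl⟩ := exists_U_mul P hrank hUB hUn hsplit hs h₂
    refine ⟨u₂ * u₁⁻¹, mul_mem hu₂ (inv_mem hu₁), ?_⟩
    have e : (u₂ * s * c₂)⁻¹ * (u₂ * u₁⁻¹ * (u₁ * s * c₁)) = c₂⁻¹ * c₁ := by group
    rw [e]
    exact mul_mem (inv_mem hc₂) hc₁
  · intro g hg u hu hfix
    obtain ⟨v, hv, c, hc, rfl⟩ := exists_U_mul P hrank hUB hUn hsplit hs hg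
    have h1 : v⁻¹ * u * v = 1 := hopp _ (mul_mem (mul_mem (inv_mem hv) hu) hv) (by
      have := mul_mem (mul_mem hc hfix) (inv_mem hc)
      convert this using 1
      group)
    calc u = v * (v⁻¹ * u * v) * v⁻¹ := by group
      _ = 1 := by rw [h1]; group

end Cfsg.Agent.Suz27
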