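import Cfsg.Agent.Suz27.Defs
import Cfsg.Agent.Bender43.Main
import Cfsg.Prelude.Def_Involutions

/-!
A strongly embedded subgroup of a simple group with a regular normal subgroup gives the split rank one
set-up on its cosets.
-/

set_option autoImplicit false

namespace Cfsg.Agent.Suz27

open MulAction RankOne

/-- The hypotheses of Suzuki's theorem for simple groups give the rank one set-up on `G ⧸ H`. -/
theorem exists_r1_of_stronglyEmbedded {G : Type*} [Group G] [Finite G] [IsSimpleGroup G]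
    {H : Subgroup G} (hH : Cfsg.IsStronglyEmbedded H) {Q : Subgroup G} (hQH : Q ≤ H)
    (hQn : (Q.subgroupOf H).Normal)
    (htrans : ∀ g₁ g₂ : G, g₁ ∉ H → g₂ ∉ H → ∃ u ∈ Q, g₂⁻¹ * (u * g₁) ∈ H)
    (hreg : ∀ g : G, g ∉ H → ∀ u ∈ Q, g⁻¹ * (u * g) ∈ H → u = 1) :
    ∃ t : G, R1 G (G ⧸ H) (QuotientGroup.mk 1) t Q := by
  set a : G ⧸ H := QuotientGroup.mk 1 with ha
  have hstab : ∀ g : G, g ∈ stabilizer G a ↔ g ∈ H := fun g => by
    rw [mem_stabilizer_iff, ha, TwoFusionB.smul_one_eq_iff]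
  -- two distinct commuting involutions
  have hrank : ∃ x y : G, x ≠ 1 ∧ y ≠ 1 ∧ x ≠ y ∧ x * x = 1 ∧ y * y = 1 ∧ x * y = y * x := by
    by_contra hno
    obtain ⟨-, hsup⟩ := Bender43.rank_one_case hH fun x y hx hy hxy => by
      by_contra hne
      exact hno ⟨x, y, TwoFusionB.ne_one_of_inv hx, TwoFusionB.ne_one_of_inv hy, hne,
        TwoFusionB.sq_eq_one_of_inv hx, TwoFusionB.sq_eq_one_of_inv hy, hxy.eq⟩
    rcases (inferInstance : (Cfsg.oddCore G).Normal).eq_bot_or_eq_top with h | h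
    · rw [h, bot_sup_eq] at hsup
      exact hH.1 hsup
    · obtain ⟨x, -, hx⟩ := TwoFusionB.exists_inv_mem hH
      have hodd : Odd (Nat.card ↥(Cfsg.oddCore G)) :=
        Nat.coprime_two_right.1 Thompson.card_pPrimeCore_coprime
      rw [h, Subgroup.card_top] at hodd
      exact Nat.not_even_iff_odd.2 hodd (even_iff_two_dvd.2 (hx ▸ orderOf_dvd_natCard x))
  -- an involution outside `H`
  obtain ⟨t, ht, htH⟩ : ∃ t : G, orderOf t = 2 ∧ t ∉ H := by
    obtain ⟨g, hg⟩ : ∃ g : G, g ∉ H := by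
      by_contra hall
      push Not at hall
      exact hH.1 ((Subgroup.eq_top_iff' H).2 hall)
    obtain ⟨x, hxH, hx⟩ := TwoFusionB.exists_inv_mem hH
    refine ⟨g * x * g⁻¹, by rw [TwoFusionB.orderOf_conj_eq, hx], fun hin => ?_⟩
    refine Nat.not_even_iff_odd.2 (hH.2.2 g hg) (TwoFusionB.even_card_of_mem_inv
      (a := g * x * g⁻¹) (by rw [TwoFusionB.orderOf_conj_eq, hx]) ⟨hin, ⟨x, hxH, rfl⟩⟩)
  have hta : t • a = QuotientGroup.mk t := by rw [ha, Quotient.smul_mk, smul_eq_mul, mul_one]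
  have hta' : ∀ g : G, g ∈ stabilizer G (t • a) ↔ t⁻¹ * g * t ∈ H := fun g => by
    rw [mem_stabilizer_iff, hta, TwoFusionB.smul_mk_eq_iff]
  have hQtrans : ∀ g₁ g₂ : G, g₁ ∉ H → g₂ ∉ H →
      ∃ u ∈ Q, u • (QuotientGroup.mk g₁ : G ⧸ H) = QuotientGroup.mk g₂ := by
    intro g₁ g₂ h₁ h₂
    obtain ⟨u, hu, h⟩ := htrans g₁ g₂ h₁ h₂
    exact ⟨u, hu, by rw [Quotient.smul_mk, smul_eq_mul, eq_comm, QuotientGroup.eq]; exact h⟩
  have hD : Odd (Nat.card ↥(stabilizer G a ⊓ stabilizer G (t • a))) := by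
    refine (hH.2.2 t htH).of_dvd_nat (Subgroup.card_dvd_of_le fun g hg => ?_)
    obtain ⟨h₁, h₂⟩ := Subgroup.mem_inf.1 hg
    exact Subgroup.mem_inf.2 ⟨(hstab g).1 h₁, ⟨t⁻¹ * g * t, (hta' g).1 h₂, by simp [mul_assoc]⟩⟩
  have hsup : Q ⊔ (stabilizer G a ⊓ stabilizer G (t • a)) = stabilizer G a := by
    refine le_antisymm (sup_le (fun x hx => (hstab x).2 (hQH hx)) inf_le_left) fun h hh => ?_
    have hh' := (hstab h).1 hh
    have hht : h * t ∉ H := fun hin => htH (by simpa using mul_mem (inv_mem hh') hin)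
    obtain ⟨u, hu, hut⟩ := hQtrans t (h * t) htH hht
    have hd : u⁻¹ * h ∈ stabilizer G a ⊓ stabilizer G (t • a) := by
      refine Subgroup.mem_inf.2 ⟨mul_mem (inv_mem ((hstab u).2 (hQH hu))) hh, ?_⟩
      rw [mem_stabilizer_iff, mul_smul, inv_smul_eq_iff, hta, hut, Quotient.smul_mk, smul_eq_mul]
    simpa using mul_mem (Subgroup.mem_sup_left (T := stabilizer G a ⊓ stabilizer G (t • a)) hu)
      (Subgroup.mem_sup_right (S := Q) hd)
  refine ⟨t, { setup := ?_, faithful := ?_, rank2 := hrank }⟩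
  · refine { two_transitive := ?_, mul_self := TwoFusionB.sq_eq_one_of_inv ht,
             ne_one := TwoFusionB.ne_one_of_inv ht, not_mem := fun h => htH ((hstab t).1 h),
             le := fun x hx => (hstab x).2 (hQH hx), conj_mem := ?_, inf_eq_bot := ?_,
             sup_eq := hsup, even_card := ?_, odd_card := hD }
    · rw [is_two_pretransitive_iff]
      intro p q r s hpq hrs
      obtain ⟨gp, rfl⟩ := QuotientGroup.mk_surjective p
      obtain ⟨gq, rfl⟩ := QuotientGroup.mk_surjective q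
      obtain ⟨gr, rfl⟩ := QuotientGroup.mk_surjective r
      obtain ⟨gs, rfl⟩ := QuotientGroup.mk_surjective s
      have h₁ : gp⁻¹ * gq ∉ H := fun h => hpq (QuotientGroup.eq.2 h)
      have h₂ : gr⁻¹ * gs ∉ H := fun h => hrs (QuotientGroup.eq.2 h)
      obtain ⟨u, hu, huq⟩ := hQtrans _ _ h₁ h₂
      refine ⟨gr * u * gp⁻¹, ?_, ?_⟩
      · rw [Quotient.smul_mk, smul_eq_mul, eq_comm, QuotientGroup.eq]
        simpa [mul_assoc] using hQH hu
      · have e : (gr * u * gp⁻¹) • (QuotientGroup.mk gq : G ⧸ H) =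
            gr • u • (QuotientGroup.mk (gp⁻¹ * gq) : G ⧸ H) := by
          simp [Quotient.smul_mk, mul_assoc]
        rw [e, huq]
        simp [Quotient.smul_mk]
    · intro h hh x hx
      exact hQn.conj_mem ⟨x, hQH hx⟩ hx ⟨h, (hstab h).1 hh⟩
    · refine (Subgroup.eq_bot_iff_forall _).2 fun u hu => ?_
      obtain ⟨hu₁, hu₂⟩ := Subgroup.mem_inf.1 hu
      refine hreg t htH u hu₁ ?_
      rw [← mul_assoc]; exact (hta' u).1 hu₂
    · -- `|Q|` is even as `H = Q D`
      obtain ⟨x, hxH, hx⟩ := TwoFusionB.exists_inv_mem hH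
      by_contra hodd
      rw [Nat.not_even_iff_odd] at hodd
      set S := stabilizer G a with hSdef
      have hQS : Q ≤ S := fun u hu => (hstab u).2 (hQH hu)
      haveI : (Q.subgroupOf S).Normal :=
        ⟨fun y hy g => hQn.conj_mem ⟨(y : G), hQH hy⟩ hy ⟨(g : G), (hstab g).1 g.2⟩⟩
      have hdvd : Nat.card ↥S ∣ Nat.card Q * Nat.card ↥(S ⊓ stabilizer G (t • a)) := by
        have h := Thompson.card_sup_dvd_mul (G := S) ((S ⊓ stabilizer G (t • a)).subgroupOf S)
          (Q.subgroupOf S)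
        rw [← Subgroup.subgroupOf_sup inf_le_left hQS, sup_comm, hsup, Subgroup.subgroupOf_self,
          Subgroup.card_top, Nat.card_congr (Subgroup.subgroupOfEquivOfLe hQS).toEquiv,
          Nat.card_congr (Subgroup.subgroupOfEquivOfLe (inf_le_left : S ⊓ _ ≤ S)).toEquiv,
          mul_comm] at h
        exact h
      have h2 : 2 ∣ Nat.card ↥S := by
        rw [← hx]
        exact S.orderOf_dvd_natCard ((hstab x).2 hxH)
      exact Nat.not_even_iff_odd.2 (hodd.mul hD) (even_iff_two_dvd.2 (h2.trans hdvd))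
  · refine ⟨fun {g₁ g₂} h => ?_⟩
    have hker : g₁⁻¹ * g₂ ∈ (toPermHom G (G ⧸ H)).ker := by
      rw [MonoidHom.mem_ker]
      exact Equiv.ext fun x => by simp [mul_smul, ← h x]
    rw [← Subgroup.normalCore_eq_ker] at hker
    rcases H.normalCore_normal.eq_bot_or_eq_top with h0 | h0
    · rw [h0, Subgroup.mem_bot, inv_mul_eq_one] at hker
      exact hker
    · exact absurd (top_le_iff.1 (h0 ▸ H.normalCore_le)) hH.1

end Cfsg.Agent.Suz27
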