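import Cfsg.Agent.Suz27.Assemble
import Cfsg.Agent.Suz27.SimpleCase
import Cfsg.Agent.Suz27.Embedded
import Cfsg.Agent.Suz27.BNSetup

/-!
The statements S1136, S1222 and S0349 from the parts of Suzuki's theorem.
-/

set_option autoImplicit false

namespace Cfsg.Agent.Suz27

universe u v

/-- S1136 from the parts. -/
theorem s1136_of (hs : ShapeStmt.{u, v}) (hu : UniqStmt.{u, v}) {G : Type u} {Ω : Type v} [Group G]
    [Finite G] [MulAction G Ω] [FaithfulSMul G Ω] {a : Ω} {t : G} {Q : Subgroup G}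
    (hS : Cfsg.IsRankOneSetup G Ω a t Q)
    (h2 : ∃ x y : G, x ≠ 1 ∧ y ≠ 1 ∧ x ≠ y ∧ x * x = 1 ∧ y * y = 1 ∧ x * y = y * x) :
    ∃ L : Subgroup G, L.Normal ∧ Odd L.index ∧
      ((∃ (F : Type) (_ : Field F) (_ : Fintype F), (∃ n : ℕ, 2 ≤ n ∧ Fintype.card F = 2 ^ n) ∧
          Nonempty (L ≃* Matrix.ProjectiveSpecialLinearGroup (Fin 2) F)) ∨
        Cfsg.Lie.IsoSuzuki L ∨
        (∃ (F : Type) (_ : Field F) (_ : Fintype F) (n : ℕ), 2 ≤ n ∧ Fintype.card F = (2 ^ n) ^ 2 ∧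
          Nonempty (L ≃* Cfsg.PSU 3 F (2 ^ n)))) := by
  obtain ⟨L, hn, ho, hL⟩ := classify_of hs hu ⟨hS, inferInstance, h2⟩
  exact exists_of_isR1Type hn ho hL

/-- The simple groups of S1222 from the parts. -/
theorem isR1Type_of_embedded (hs : ShapeStmt.{u, u}) (hu : UniqStmt.{u, u}) {G : Type u} [Group G]
    [Finite G] [IsSimpleGroup G] {H : Subgroup G} (hH : Cfsg.IsStronglyEmbedded H) {Q : Subgroup G}
    (hQH : Q ≤ H) (hQn : (Q.subgroupOf H).Normal)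
    (htrans : ∀ g₁ g₂ : G, g₁ ∉ H → g₂ ∉ H → ∃ u ∈ Q, g₂⁻¹ * (u * g₁) ∈ H)
    (hreg : ∀ g : G, g ∉ H → ∀ u ∈ Q, g⁻¹ * (u * g) ∈ H → u = 1) : IsR1Type G := by
  obtain ⟨t, hR⟩ := exists_r1_of_stronglyEmbedded hH hQH hQn htrans hreg
  exact isR1Type_of_simple hs hu hR

/-- S0349 from the parts and the triviality of `U ⊓ sBs⁻¹`. -/
theorem s0349_of (hs : ShapeStmt.{u, u}) (hu : UniqStmt.{u, u}) {G : Type u} [Group G] [Finite G]
    [IsSimpleGroup G] (P : Cfsg.BNPair G) (hrank : P.rank = 1) (U : Subgroup G) (hUB : U ≤ P.B)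
    (hUn : (U.subgroupOf P.B).Normal) (hsplit : U ⊔ (P.B ⊓ P.N) = P.B) (hind : Odd P.B.index)
    (hH : Odd (Nat.card ↥(P.B ⊓ P.N)))
    (hopp : ∀ s ∈ P.S, ∀ u ∈ U, s⁻¹ * u * s ∈ P.B → u = 1) :
    (∃ (F : Type) (_ : Field F) (_ : Fintype F), (∃ n : ℕ, Fintype.card F = 2 ^ n) ∧
        Nonempty (G ≃* Matrix.ProjectiveSpecialLinearGroup (Fin 2) F)) ∨
      Cfsg.IsSuzuki G ∨
      (∃ (F : Type) (_ : Field F) (_ : Fintype F) (n : ℕ), 2 ≤ n ∧ Fintype.card F = (2 ^ n) ^ 2 ∧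
        Nonempty (G ≃* Cfsg.PSU 3 F (2 ^ n))) := by
  obtain ⟨⟨s, hs'⟩⟩ : Nonempty P.S := (Nat.card_eq_one_iff_unique.1 hrank).2
  obtain ⟨hH', htrans, hreg⟩ := bn_hypotheses P hrank hUB hUn hsplit hind hH hs' (hopp s hs')
  exact bn_form (isR1Type_of_embedded hs hu hH' hUB hUn htrans hreg)

end Cfsg.Agent.Suz27
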