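import Cfsg.Agent.Suz27.Regular
import Cfsg.Agent.Suz27.RegularOdd
import Cfsg.Agent.Suz27.Wrappers

/-!
In a simple group with a strongly split (B,N)-pair of rank one, odd index and odd Cartan subgroup,
`U` meets the opposite Borel subgroup trivially; hence S0349 follows from the shape theorem.
-/

set_option autoImplicit false

namespace Cfsg.Agent.Suz27

open MulAction RankOne

universe u v

/-- A simple group with a strongly embedded subgroup has two commuting involutions. -/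
theorem exists_commuting_pair {G : Type u} [Group G] [Finite G] [IsSimpleGroup G] {H : Subgroup G}
    (hH : Cfsg.IsStronglyEmbedded H) :
    ∃ x y : G, x ≠ 1 ∧ y ≠ 1 ∧ x ≠ y ∧ x * x = 1 ∧ y * y = 1 ∧ x * y = y * x := by
  by_contra hno
  obtain ⟨-, hsup⟩ := Bender43.rank_one_case hH fun x y hx hy hxy => by
    by_contra hne
    exact hno ⟨x, y, TwoFusionB.ne_one_of_inv hx, TwoFusionB.ne_one_of_inv hy, hne,
      TwoFusionB.sq_eq_one_of_inv hx, TwoFusionB.sq_eq_one_of_inv hy, hxy.eq⟩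
  rcases (inferInstance : (Cfsg.oddCore G).Normal).eq_bot_or_eq_top with h | h
  · rw [h, bot_sup_eq] at hsup
    exact hH.1 hsup
  · obtain ⟨x, -, hx⟩ := TwoFusionB.exists_inv_mem hH
    have hodd : Odd (Nat.card ↥(Cfsg.oddCore G)) :=
      Nat.coprime_two_right.1 Thompson.card_pPrimeCore_coprime
    rw [h, Subgroup.card_top] at hodd
    exact Nat.not_even_iff_odd.2 hodd (even_iff_two_dvd.2 (hx ▸ orderOf_dvd_natCard x))

/-- The shape theorem gives that `Q` is a `2`-group in every rank one group. -/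
theorem twoStmt_of (hs : ShapeStmt.{u, v}) : TwoStmt.{u, v} := by
  intro G _ _ Ω _ a t Q hR
  obtain ⟨L, ht, -, -, hQL, hRL, hGL⟩ := exists_gen_subgroup hR
  exact ((hs L Ω a ⟨t, ht⟩ _ hRL hGL).1.1).of_equiv (Subgroup.subgroupOfEquivOfLe hQL)

/-- `U` meets the opposite Borel subgroup trivially. -/
theorem opp_trivial (hTwo : TwoStmt.{u, u}) {G : Type u} [Group G] [Finite G] [IsSimpleGroup G]
    (P : Cfsg.BNPair G) (hrank : P.rank = 1) {U : Subgroup G} (hUB : U ≤ P.B)
    (hUn : (U.subgroupOf P.B).Normal) (hUnil : Group.IsNilpotent U)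
    (hsplit : U ⊔ (P.B ⊓ P.N) = P.B) (hind : Odd P.B.index) (hT : Odd (Nat.card ↥(P.B ⊓ P.N)))
    {s : G} (hs : s ∈ P.S) : ∀ u ∈ U, s⁻¹ * u * s ∈ P.B → u = 1 := by
  have hsB := BN.S_not_mem_B P hs
  set a : G ⧸ P.B := QuotientGroup.mk 1 with ha
  have hstab : stabilizer G a = P.B := by
    ext g
    rw [mem_stabilizer_iff, ha, TwoFusionB.smul_one_eq_iff]
  have hUa : U ≤ stabilizer G a := hUB.trans hstab.ge
  have hconj : ∀ g ∈ stabilizer G a, ∀ u ∈ U, g * u * g⁻¹ ∈ U := by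
    intro g hg u hu
    rw [hstab] at hg
    exact hUn.conj_mem ⟨u, hUB hu⟩ hu ⟨g, hg⟩
  have hidx : Odd (U.relIndex (stabilizer G a)) := by
    rw [hstab]
    refine hT.of_dvd_nat ?_
    have hn : P.B ⊓ P.N ≤ Subgroup.normalizer (U : Set G) := by
      intro d hd
      rw [Subgroup.mem_normalizer_iff]
      intro y
      refine ⟨fun hy => hconj d (hstab.ge hd.1) y hy, fun hy => ?_⟩
      simpa [mul_assoc] using hconj d⁻¹ (inv_mem (hstab.ge hd.1)) _ hy
    have hnn : (U.subgroupOf P.B).Normal := hUn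
    have h1 := Subgroup.relIndex_sup_right ((P.B ⊓ P.N).subgroupOf P.B) (U.subgroupOf P.B)
    rw [← Subgroup.subgroupOf_sup inf_le_left hUB, sup_comm, hsplit, Subgroup.subgroupOf_self,
      Subgroup.relIndex_top_right, Subgroup.relIndex_subgroupOf inf_le_left] at h1
    rw [Subgroup.relIndex, h1]
    exact (U.subgroupOf (P.B ⊓ P.N)).index_dvd_card
  have htr : ∀ x y : G ⧸ P.B, x ≠ a → y ≠ a → ∃ u ∈ U, u • x = y := by
    intro x y hx hy
    obtain ⟨g₁, rfl⟩ := QuotientGroup.mk_surjective x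
    obtain ⟨g₂, rfl⟩ := QuotientGroup.mk_surjective y
    have hne : ∀ g : G, (QuotientGroup.mk g : G ⧸ P.B) ≠ a → g ∉ P.B := fun g hg hgB =>
      hg (QuotientGroup.eq.2 (by simpa using inv_mem hgB))
    obtain ⟨u₁, hu₁, c₁, hc₁, rfl⟩ := exists_U_mul P hrank hUB hUn hsplit hs (hne _ hx)
    obtain ⟨u₂, hu₂, c₂, hc₂, rfl⟩ := exists_U_mul P hrank hUB hUn hsplit hs (hne _ hy)
    refine ⟨u₂ * u₁⁻¹, mul_mem hu₂ (inv_mem hu₁), ?_⟩
    rw [Quotient.smul_mk, smul_eq_mul, QuotientGroup.eq]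
    have e : (u₂ * u₁⁻¹ * (u₁ * s * c₁))⁻¹ * (u₂ * s * c₂) = c₁⁻¹ * c₂ := by group
    rw [e]
    exact mul_mem (inv_mem hc₁) hc₂
  have h2 := BN.two_pretransitive_of_rank_one P hrank
  have hodd : Odd (Nat.card (G ⧸ P.B)) := by rw [← Subgroup.index_eq_card]; exact hind
  have hsa : (QuotientGroup.mk s : G ⧸ P.B) ≠ a := fun e => hsB (by
    simpa using inv_mem (QuotientGroup.eq.1 e))
  have h3 : 2 < Nat.card (G ⧸ P.B) := by
    haveI := Fintype.ofFinite (G ⧸ P.B)
    have h1 : 1 < Nat.card (G ⧸ P.B) := by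
      rw [Nat.card_eq_fintype_card]
      exact Fintype.one_lt_card_iff.2 ⟨_, _, hsa⟩
    obtain ⟨m, hm⟩ := hodd
    omega
  have hbase := Reg.two_point_odd a U hodd h2 hUa hconj hUnil hidx htr h3
  have hall : ∀ p q : G ⧸ P.B, p ≠ q → Odd (Nat.card ↥(stabilizer G p ⊓ stabilizer G q)) := by
    intro p q hpq
    obtain ⟨g, hgp, hgq⟩ := is_two_pretransitive_iff.1 h2 hsa.symm hpq
    refine (hbase _ hsa).of_dvd_nat ?_
    rw [← Subgroup.card_map_of_injective (f := (MulAut.conj g⁻¹).toMonoidHom)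
      (K := stabilizer G p ⊓ stabilizer G q) (MulAut.conj g⁻¹).injective]
    refine Subgroup.card_dvd_of_le ?_
    rintro _ ⟨x, ⟨hx1, hx2⟩, rfl⟩
    simp only [MulEquiv.coe_toMonoidHom, MulAut.conj_apply, inv_inv]
    refine Subgroup.mem_inf.2 ⟨?_, ?_⟩ <;> rw [mem_stabilizer_iff, mul_smul, mul_smul]
    · rw [hgp, show x • p = p from hx1, inv_smul_eq_iff, hgp]
    · rw [hgq, show x • q = q from hx2, inv_smul_eq_iff, hgq]
  -- `B` is strongly embedded
  have hH : Cfsg.IsStronglyEmbedded P.B := by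
    refine ⟨fun e => hsB (e ▸ Subgroup.mem_top s), ?_, fun g hg => ?_⟩
    · by_contra hB
      rw [Nat.not_even_iff_odd] at hB
      have hG : Odd (Nat.card G) := by rw [← P.B.card_mul_index]; exact hB.mul hind
      have hs2 : s * s ∈ P.B := P.sq_mem s hs
      obtain ⟨k, hk⟩ : Odd (orderOf s) := hG.of_dvd_nat (orderOf_dvd_natCard s)
      refine hsB ?_
      have e : s = (s * s) ^ (k + 1) := by
        rw [← pow_two, ← pow_mul, show 2 * (k + 1) = orderOf s + 1 by omega, pow_succ,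
          pow_orderOf_eq_one, one_mul]
      rw [e]
      exact pow_mem hs2 _
    · refine (hall a (QuotientGroup.mk g) fun e => hg (by
        simpa using QuotientGroup.eq.1 e)).of_dvd_nat (Subgroup.card_dvd_of_le ?_)
      rintro x ⟨hx1, y, hy, hxy⟩
      refine Subgroup.mem_inf.2 ⟨hstab.symm ▸ hx1, ?_⟩
      rw [mem_stabilizer_iff, Quotient.smul_mk, smul_eq_mul, QuotientGroup.eq, ← hxy]
      simp only [MulEquiv.coe_toMonoidHom, MulAut.conj_apply]
      have e : (g * y * g⁻¹ * g)⁻¹ * g = y⁻¹ := by group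
      rw [e]
      exact inv_mem hy
  have hfaith : FaithfulSMul G (G ⧸ P.B) := by
    refine ⟨fun {g₁ g₂} h => ?_⟩
    have hker : g₁⁻¹ * g₂ ∈ (toPermHom G (G ⧸ P.B)).ker := by
      rw [MonoidHom.mem_ker]
      exact Equiv.ext fun x => by simp [mul_smul, ← h x]
    rw [← Subgroup.normalCore_eq_ker] at hker
    rcases P.B.normalCore_normal.eq_bot_or_eq_top with h0 | h0
    · rw [h0, Subgroup.mem_bot, inv_mul_eq_one] at hker
      exact hker
    · exact absurd (top_le_iff.1 (h0 ▸ P.B.normalCore_le)) hH.1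
  have h : OddTwoTrans G (G ⧸ P.B) a U :=
    { finite := inferInstance, faithful := hfaith, two_transitive := h2, odd_degree := hodd
      le := hUa, conj_mem := hconj, nilpotent := hUnil, transitive := htr, odd_two_point := hall
      rank2 := exists_commuting_pair hH }
  intro u hu hus
  refine h.eq_one_of_fix hTwo hsa hu ?_
  rw [Quotient.smul_mk, smul_eq_mul, QuotientGroup.eq]
  have e : (u * s)⁻¹ * s = (s⁻¹ * u * s)⁻¹ := by group
  rw [e]
  exact inv_mem hus

end Cfsg.Agent.Suz27
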