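import Cfsg.Agent.Suz27.AbelianStructure
import Cfsg.Agent.Lib.CharCore.Linear

/-!
The linear characters of a `D`-invariant subgroup of an abelian `Q` fixed by a non-identity element
of `D` are few (`PLAN.md`, part C2).
-/

set_option autoImplicit false

namespace Cfsg.Agent.Suz27

open MulAction RankOne

universe u v

variable {G : Type u} {Ω : Type v} [Group G] [MulAction G Ω] {a : Ω} {t : G} {Q : Subgroup G}

/-- Conjugation of a `D`-invariant subgroup. -/
def subConj {X : Subgroup G} (hX : ∀ d ∈ twoStab G a t, ∀ x ∈ X, d⁻¹ * x * d ∈ X)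
    (d : twoStab G a t) : X →* X where
  toFun x := ⟨(d : G)⁻¹ * x * d, hX d d.2 x x.2⟩
  map_one' := Subtype.ext (by simp)
  map_mul' x y := Subtype.ext (by simp [mul_assoc])

lemma subConj_subConj {X : Subgroup G} (hX : ∀ d ∈ twoStab G a t, ∀ x ∈ X, d⁻¹ * x * d ∈ X)
    (c d : twoStab G a t) (x : X) : subConj hX c (subConj hX d x) = subConj hX (d * c) x :=
  Subtype.ext (by simp [subConj, mul_assoc])

lemma subConj_one {X : Subgroup G} (hX : ∀ d ∈ twoStab G a t, ∀ x ∈ X, d⁻¹ * x * d ∈ X) (x : X) :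
    subConj hX 1 x = x := Subtype.ext (by simp [subConj])

/-- `μ` is fixed by the identity of `D` only. -/
def HomFree {X : Subgroup G} (hX : ∀ d ∈ twoStab G a t, ∀ x ∈ X, d⁻¹ * x * d ∈ X)
    (μ : X →* ℂˣ) : Prop := ∀ d, μ.comp (subConj hX d) = μ → d = 1

lemma card_hom_abelian [Finite G] {X : Subgroup G} (hX : ∀ x ∈ X, ∀ y ∈ X, x * y = y * x) :
    Finite (X →* ℂˣ) ∧ Nat.card (X →* ℂˣ) = Nat.card X := by
  letI : CommGroup X :=
    { (inferInstance : Group X) with
      mul_comm := fun x y => Subtype.ext (hX x x.2 y y.2) }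
  haveI : NeZero (Monoid.exponent X) := ⟨Monoid.exponent_ne_zero_of_finite⟩
  have h := CommGroup.card_monoidHom_of_hasEnoughRootsOfUnity X ℂ
  exact ⟨Nat.finite_of_card_ne_zero (by rw [h]; exact Nat.card_pos.ne'), h⟩

section
variable [Finite G] {X : Subgroup G}
variable (hX : ∀ d ∈ twoStab G a t, ∀ x ∈ X, d⁻¹ * x * d ∈ X)
variable (hXab : ∀ x ∈ X, ∀ y ∈ X, x * y = y * x)
include hX hXab

/-- At most `|C_X(d)|` linear characters of `X` are fixed by `d`. -/
lemma card_fixed_hom_le (d : twoStab G a t) :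
    Nat.card {μ : X →* ℂˣ // μ.comp (subConj hX d) = μ} ≤
      Nat.card (X ⊓ Subgroup.centralizer {(d : G)} : Subgroup G) := by
  letI : CommGroup X :=
    { (inferInstance : Group X) with
      mul_comm := fun x y => Subtype.ext (hXab x x.2 y y.2) }
  let δ : X →* X :=
    { toFun := fun x => x⁻¹ * subConj hX d x
      map_one' := by simp
      map_mul' := fun x y => by rw [map_mul, mul_inv, mul_mul_mul_comm] }
  haveI : NeZero (Monoid.exponent (X ⧸ δ.range)) := ⟨Monoid.exponent_ne_zero_of_finite⟩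
  have hcard := CommGroup.card_monoidHom_of_hasEnoughRootsOfUnity (X ⧸ δ.range) ℂ
  haveI : Finite ((X ⧸ δ.range) →* ℂˣ) :=
    Nat.finite_of_card_ne_zero (by rw [hcard]; exact Nat.card_pos.ne')
  have hle : ∀ μ : {μ : X →* ℂˣ // μ.comp (subConj hX d) = μ}, δ.range ≤ μ.1.ker := by
    rintro μ _ ⟨x, rfl⟩
    rw [MonoidHom.mem_ker]
    show μ.1 (x⁻¹ * subConj hX d x) = 1
    rw [map_mul, map_inv, show μ.1 (subConj hX d x) = μ.1 x from DFunLike.congr_fun μ.2 x,
      inv_mul_cancel]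
  refine (Nat.card_le_card_of_injective (fun μ => QuotientGroup.lift δ.range μ.1 (hle μ))
    fun μ μ' h => Subtype.ext (MonoidHom.ext fun x => ?_)).trans ?_
  · exact DFunLike.congr_fun h (QuotientGroup.mk x)
  have h1 := Subgroup.card_mul_index δ.range
  have h2 := Subgroup.card_mul_index δ.ker
  rw [Subgroup.index_ker] at h2
  have hidx : δ.range.index = Nat.card δ.ker :=
    Nat.eq_of_mul_eq_mul_left (Nat.card_pos (α := δ.range)) (by rw [h1, mul_comm, h2])
  rw [hcard, ← Subgroup.index_eq_card, hidx]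
  have hk : ∀ x : δ.ker, ((x : X) : G) ∈ Subgroup.centralizer {(d : G)} := fun x => by
    have h : (x : X) = subConj hX d x := inv_mul_eq_one.1 x.2
    have h' : ((x : X) : G) = (d : G)⁻¹ * (x : X) * d := congrArg Subtype.val h
    rw [Subgroup.mem_centralizer_singleton_iff]
    rw [mul_assoc, eq_inv_mul_iff_mul_eq] at h'
    exact h'.symm
  refine Nat.card_le_card_of_injective
    (fun x => (⟨((x : X) : G), (x : X).2, hk x⟩ : (X ⊓ Subgroup.centralizer {(d : G)} : Subgroup G)))
    fun x y h => Subtype.ext (Subtype.ext (congrArg Subtype.val h :))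

omit hXab in
lemma fixed_pow {μ : X →* ℂˣ} {d : twoStab G a t} (h : μ.comp (subConj hX d) = μ) (j : ℕ) :
    μ.comp (subConj hX (d ^ j)) = μ := by
  induction j with
  | zero => exact MonoidHom.ext fun x => by rw [pow_zero]; exact congrArg μ (subConj_one hX x)
  | succ j ih =>
    refine MonoidHom.ext fun x => ?_
    rw [MonoidHom.comp_apply, pow_succ, ← subConj_subConj, ← MonoidHom.comp_apply, h,
      ← MonoidHom.comp_apply, ih]

end

open Classical in
/-- Characters of a `D`-invariant subgroup `X` of an abelian `Q` fixed by some `d ≠ 1`: their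
number `N` satisfies `N³ ≤ ((q-1) r)³ |X|` with `1 ≤ r` and `8 ^ r ≤ q`. -/
theorem card_notFree_le [Finite G] (hR : R1 G Ω a t Q) (hab : ∀ x ∈ Q, ∀ y ∈ Q, x * y = y * x)
    (h2 : IsPGroup 2 Q)
    (hFrob : ∀ v ∈ vGrp a t, ∀ p : ℕ, p.Prime → orderOf v = p → v ∉ RankOneK.wker G a t →
      qOf Q = qOf (Q ⊓ Subgroup.centralizer {v}) ^ p ∧
      ∀ X : Subgroup G, X ≤ Q →
        (∀ k ∈ Cfsg.invertedBy (twoStab G a t) t, ∀ x ∈ X, k * x * k⁻¹ ∈ X) →
        (∀ x ∈ X, v * x * v⁻¹ ∈ X) →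
        Nat.card X = Nat.card (X ⊓ Subgroup.centralizer {v} : Subgroup G) ^ p)
    (hm : Nat.card (vGrp a t) ≠ 1) {X : Subgroup G} (hXQ : X ≤ Q)
    (hX : ∀ d ∈ twoStab G a t, ∀ x ∈ X, d⁻¹ * x * d ∈ X) :
    ∃ r : ℕ, 1 ≤ r ∧ 8 ^ r ≤ qOf Q ∧
      Nat.card {μ : X →* ℂˣ // ¬ HomFree hX μ} ^ 3 ≤ ((qOf Q - 1) * r) ^ 3 * Nat.card X := by
  have hS := hR.setup
  haveI := hR.faithful
  have hXab : ∀ x ∈ X, ∀ y ∈ X, x * y = y * x := fun x hx y hy => hab x (hXQ hx) y (hXQ hy)
  haveI := (card_hom_abelian hXab).1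
  obtain ⟨⟨g, hg⟩, -⟩ := exists_gen_vGrp hR hab h2
  set m := Nat.card (vGrp a t) with hmdef
  set q := qOf Q with hq
  have hgm : orderOf g = m := by rw [← Nat.card_zpowers, hg]
  have hgV : g ∈ vGrp a t := hg ▸ Subgroup.mem_zpowers g
  set P := m.primeFactors with hP
  have hm0 : 0 < m := Nat.card_pos
  have hPne : P.Nonempty := Nat.nonempty_primeFactors.2 (by omega)
  have hmodd : Odd m := hS.odd_card.of_dvd_nat (Subgroup.card_dvd_of_le inf_le_left)
  let gp : ℕ → G := fun p => g ^ (m / p)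
  have hgp : ∀ p ∈ P, gp p ∈ vGrp a t ∧ orderOf (gp p) = p := fun p hp => by
    refine ⟨pow_mem hgV _, ?_⟩
    have hd := Nat.dvd_of_mem_primeFactors hp
    show orderOf (g ^ (m / p)) = p
    rw [← hgm] at hd ⊢
    exact orderOf_pow_orderOf_div (orderOf_pos g).ne' hd
  have hnW : ∀ p ∈ P, gp p ∉ RankOneK.wker G a t := fun p hp h => by
    rw [wker_eq_bot hR hab h2, Subgroup.mem_bot] at h
    have h1 := (hgp p hp).2
    rw [h, orderOf_one] at h1
    exact (Nat.prime_of_mem_primeFactors hp).one_lt.ne h1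
  have hF := fun p (hp : p ∈ P) =>
    hFrob (gp p) (hgp p hp).1 p (Nat.prime_of_mem_primeFactors hp) (hgp p hp).2 (hnW p hp)
  have hXconj : ∀ d ∈ twoStab G a t, ∀ x ∈ X, d * x * d⁻¹ ∈ X := fun d hd x hx => by
    simpa using hX d⁻¹ (inv_mem hd) x hx
  refine ⟨P.card, Finset.card_pos.2 hPne, ?_, ?_⟩
  · -- `q = 2 ^ f` and every prime of `m` divides `f`
    haveI : Fact (Nat.Prime 2) := ⟨Nat.prime_two⟩
    obtain ⟨f, hf⟩ := IsPGroup.iff_card.1
      (h2.to_le (show hR.zGrp ≤ Q from fun x hx => hx.1))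
    rw [hR.card_zGrp, ← hq] at hf
    have hdvd : ∀ p ∈ P, p ∣ f := fun p hp => by
      have h := (hF p hp).1
      rw [hf] at h
      have hd : qOf (Q ⊓ Subgroup.centralizer {gp p}) ∣ 2 ^ f :=
        h ▸ dvd_pow_self _ (Nat.prime_of_mem_primeFactors hp).pos.ne'
      obtain ⟨i, -, hi⟩ := (Nat.dvd_prime_pow Nat.prime_two).1 hd
      rw [hi, ← pow_mul] at h
      exact ⟨i, by rw [mul_comm]; exact Nat.pow_right_injective le_rfl h⟩
    have hprod : ∏ p ∈ P, p ∣ f := Finset.prod_primes_dvd f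
      (fun p hp => Nat.prime_iff.1 (Nat.prime_of_mem_primeFactors hp)) hdvd
    have h3 : 3 ^ P.card ≤ ∏ p ∈ P, p := Finset.pow_card_le_prod _ _ _ fun p hp => by
      have h1 := (Nat.prime_of_mem_primeFactors hp).two_le
      rcases h1.lt_or_eq with h | h
      · exact h
      · exact absurd (h ▸ Nat.dvd_of_mem_primeFactors hp) hmodd.not_two_dvd_nat
    have hf0 : f ≠ 0 := fun h => by
      have := hR.four_le_q
      rw [← hq, hf, h, pow_zero] at this
      omega
    have h4 : 3 * P.card ≤ 3 ^ P.card := by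
      obtain ⟨j, hj⟩ := Nat.exists_eq_succ_of_ne_zero (Finset.card_pos.2 hPne).ne'
      rw [hj, pow_succ, mul_comm]
      exact Nat.mul_le_mul_right 3 (Nat.lt_pow_self (by norm_num))
    rw [hf, show (8 : ℕ) ^ P.card = 2 ^ (3 * P.card) by rw [pow_mul]; norm_num]
    exact Nat.pow_le_pow_right (by norm_num)
      (h4.trans (h3.trans (Nat.le_of_dvd (Nat.pos_of_ne_zero hf0) hprod)))
  · -- the cover by the fixed sets of conjugates of the elements of prime order of `V`
    set B := P.sup fun p => Nat.card (X ⊓ Subgroup.centralizer {gp p} : Subgroup G) with hB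
    have hB3 : B ^ 3 ≤ Nat.card X := by
      obtain ⟨p, hp, hpB⟩ := Finset.exists_mem_eq_sup P hPne
        fun p => Nat.card (X ⊓ Subgroup.centralizer {gp p} : Subgroup G)
      rw [hB, hpB, (hF p hp).2 X hXQ (fun k hk => hXconj k hk.1)
        (hXconj (gp p) (hgp p hp).1.1)]
      refine Nat.pow_le_pow_right Nat.card_pos ?_
      rcases (Nat.prime_of_mem_primeFactors hp).two_le.lt_or_eq with h | h
      · exact h
      · exact absurd (h ▸ Nat.dvd_of_mem_primeFactors hp) hmodd.not_two_dvd_nat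
    haveI := Fintype.ofFinite (X →* ℂˣ)
    haveI := Fintype.ofFinite (Cfsg.invertedBy (twoStab G a t) t)
    let el : ℕ → Cfsg.invertedBy (twoStab G a t) t → G := fun p i => (i : G)⁻¹ * gp p * i
    let Fx : ℕ → Cfsg.invertedBy (twoStab G a t) t → Finset (X →* ℂˣ) := fun p i =>
      Finset.univ.filter fun μ => ∃ h : el p i ∈ twoStab G a t,
        μ.comp (subConj hX ⟨el p i, h⟩) = μ
    have hFx : ∀ p ∈ P, ∀ i, (Fx p i).card ≤ B := by
      intro p hp i
      refine le_trans ?_ ((card_fixed_hom_le hX hXab ⟨gp p, (hgp p hp).1.1⟩).trans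
        (Finset.le_sup (f := fun p => Nat.card (X ⊓ Subgroup.centralizer {gp p} : Subgroup G)) hp))
      rw [← Nat.card_eq_finsetCard]
      let e : twoStab G a t := ⟨i, i.2.1⟩
      refine Nat.card_le_card_of_injective (fun μ => ⟨(μ : X →* ℂˣ).comp (subConj hX e), ?_⟩)
        fun μ μ' h => Subtype.ext (MonoidHom.ext fun x => ?_)
      · obtain ⟨hel, h⟩ := (Finset.mem_filter.1 μ.2).2
        refine MonoidHom.ext fun x => ?_
        simp only [MonoidHom.comp_apply, subConj_subConj]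
        rw [show (⟨gp p, (hgp p hp).1.1⟩ : twoStab G a t) * e = e * ⟨el p i, hel⟩ from
          Subtype.ext (by simp [el, e, mul_assoc]), ← subConj_subConj hX ⟨el p i, hel⟩ e,
          ← MonoidHom.comp_apply, h]
      · have h' := DFunLike.congr_fun (congrArg Subtype.val h : _) (subConj hX e⁻¹ x)
        simpa only [MonoidHom.comp_apply, subConj_subConj, inv_mul_cancel, subConj_one] using h'
    have hcover : Finset.univ.filter (fun μ : X →* ℂˣ => ¬ HomFree hX μ) ⊆
        P.biUnion fun p => Finset.univ.biUnion fun i => Fx p i := by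
      intro μ hμ
      simp only [HomFree, Finset.mem_filter, Finset.mem_univ, true_and, not_forall] at hμ
      obtain ⟨d₀, hd₀, hd₀1⟩ := hμ
      suffices h : ∃ p ∈ P, ∃ i, μ ∈ Fx p i by
        obtain ⟨p, hp, i, hi⟩ := h
        exact Finset.mem_biUnion.2 ⟨p, hp, Finset.mem_biUnion.2 ⟨i, Finset.mem_univ _, hi⟩⟩
      by_cases hμ1 : μ = 1
      · obtain ⟨p, hp⟩ := hPne
        refine ⟨p, hp, ⟨1, one_mem _, by simp⟩, Finset.mem_filter.2 ⟨Finset.mem_univ _, ?_, ?_⟩⟩
        · simpa [el] using (hgp p hp).1.1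
        · rw [hμ1]; rfl
      set o := orderOf d₀ with ho
      have ho1 : o ≠ 1 := fun h => hd₀1 (orderOf_eq_one_iff.1 h)
      set p := o.minFac with hp
      have hpp : p.Prime := Nat.minFac_prime ho1
      set d := d₀ ^ (o / p) with hddef
      have hdp : orderOf d = p := orderOf_pow_orderOf_div (orderOf_pos d₀).ne' o.minFac_dvd
      have hdfix : μ.comp (subConj hX d) = μ := fixed_pow hX hd₀ _
      obtain ⟨x, hx, hx1, hxd⟩ : ∃ x ∈ X, x ≠ 1 ∧ x * (d : G) = d * x := by
        have h : 1 < Nat.card {ν : X →* ℂˣ // ν.comp (subConj hX d) = ν} :=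
          Finite.one_lt_card_iff_nontrivial.2 ⟨⟨μ, hdfix⟩, ⟨1, rfl⟩,
            fun e => hμ1 (congrArg Subtype.val e)⟩
        obtain ⟨x, hxm, hx1⟩ := (Subgroup.bot_or_exists_ne_one
          (X ⊓ Subgroup.centralizer {(d : G)})).resolve_left fun e => by
            have := lt_of_lt_of_le h (card_fixed_hom_le hX hXab d)
            rw [e, Subgroup.card_bot] at this
            omega
        exact ⟨x, hxm.1, hx1, Subgroup.mem_centralizer_singleton_iff.1 hxm.2⟩
      have hdD := Subgroup.mem_inf.1 d.2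
      have hxQ := hXQ hx
      obtain ⟨k, hk, hkt⟩ := conj_into_centralizer hS (X := {(d : G)})
        (Set.singleton_subset_iff.2 d.2) ⟨a, t • a, x • t • a, (ta_ne hS).symm,
          (smul_Q_ne hS hxQ (ta_ne hS)).symm,
          fun e => hx1 (Q_fix_unique hS hxQ (ta_ne hS) e.symm),
          fun y hy => by rw [Set.mem_singleton_iff.1 hy]; exact hdD.1,
          fun y hy => by rw [Set.mem_singleton_iff.1 hy]; exact hdD.2,
          fun y hy => by rw [Set.mem_singleton_iff.1 hy, ← mul_smul, ← hxd, mul_smul, hdD.2]⟩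
      have hkV : k * d * k⁻¹ ∈ vGrp a t := Subgroup.mem_inf.2
        ⟨mul_mem (mul_mem hk d.2) (inv_mem hk),
          Subgroup.mem_centralizer_singleton_iff.2 (hkt d rfl)⟩
      obtain ⟨c, i, hc, hct, hi, hit, hci, -⟩ :=
        odd_decomp hS.mul_self hS.odd_card (fun y hy => conj_t_twoStab hS hy) hk
      have hcV : c ∈ vGrp a t :=
        Subgroup.mem_inf.2 ⟨hc, Subgroup.mem_centralizer_singleton_iff.2 hct.symm⟩
      have hv₁ : i * d * i⁻¹ ∈ vGrp a t := by
        have e : i * d * i⁻¹ = c⁻¹ * (k * d * k⁻¹) * c := by rw [hci]; group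
        rw [e]
        exact mul_mem (mul_mem (inv_mem hcV) hkV) hcV
      have hord₁ : orderOf (i * d * i⁻¹ : G) = p := by
        rw [show i * d * i⁻¹ = MulAut.conj i (d : G) from rfl, MulEquiv.orderOf_eq,
          Subgroup.orderOf_coe, hdp]
      have hpP : p ∈ P := Nat.mem_primeFactors.2
        ⟨hpp, hord₁ ▸ Subgroup.orderOf_dvd_natCard _ hv₁, hm0.ne'⟩
      have hmem : i * d * i⁻¹ ∈ Subgroup.zpowers (gp p) := by
        obtain ⟨j, hj⟩ := mem_powers_iff_mem_zpowers.2 (hg ▸ hv₁ : i * d * i⁻¹ ∈ Subgroup.zpowers g)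
        simp only at hj
        have hdvd : m ∣ j * p := by
          rw [← hgm, orderOf_dvd_iff_pow_eq_one, pow_mul, hj, ← hord₁, pow_orderOf_eq_one]
        obtain ⟨l, hl⟩ : m / p ∣ j := by
          have hpm := Nat.dvd_of_mem_primeFactors hpP
          rw [← Nat.div_mul_cancel hpm] at hdvd
          exact Nat.dvd_of_mul_dvd_mul_right hpp.pos hdvd
        rw [← hj, hl, pow_mul]
        exact Subgroup.npow_mem_zpowers _ _
      have heq : Subgroup.zpowers (i * d * i⁻¹) = Subgroup.zpowers (gp p) :=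
        Subgroup.eq_of_le_of_card_ge (Subgroup.zpowers_le.2 hmem)
          (by rw [Nat.card_zpowers, Nat.card_zpowers, hord₁, (hgp p hpP).2])
      obtain ⟨l, hl⟩ := mem_powers_iff_mem_zpowers.2
        (heq ▸ Subgroup.mem_zpowers (gp p) : gp p ∈ Subgroup.zpowers (i * d * i⁻¹))
      simp only at hl
      have hel : el p ⟨i, hi, hit⟩ = ((d ^ l : twoStab G a t) : G) := by
        show i⁻¹ * gp p * i = _
        rw [← hl, conj_pow, Subgroup.coe_pow]
        simp [mul_assoc, hddef]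
      refine ⟨p, hpP, ⟨i, hi, hit⟩, Finset.mem_filter.2 ⟨Finset.mem_univ _, hel ▸ (d ^ l).2, ?_⟩⟩
      rw [show (⟨el p ⟨i, hi, hit⟩, _⟩ : twoStab G a t) = d ^ l from Subtype.ext hel]
      exact fixed_pow hX hdfix l
    have hcount : Nat.card {μ : X →* ℂˣ // ¬ HomFree hX μ} ≤ (q - 1) * P.card * B := by
      rw [Nat.card_eq_fintype_card, Fintype.card_subtype]
      refine (Finset.card_le_card hcover).trans ((Finset.card_biUnion_le_card_mul _ _ ((q - 1) * B)
        fun p hp => (Finset.card_biUnion_le_card_mul _ _ B fun i _ => hFx p hp i).trans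
          (le_of_eq ?_)).trans (le_of_eq ?_))
      · rw [Finset.card_univ, ← Nat.card_eq_fintype_card, card_inverted hS, hq, hR.qOf_eq,
          Nat.add_sub_cancel]
      · ring
    calc Nat.card {μ : X →* ℂˣ // ¬ HomFree hX μ} ^ 3 ≤ ((q - 1) * P.card * B) ^ 3 :=
          Nat.pow_le_pow_left hcount 3
      _ = ((q - 1) * P.card) ^ 3 * B ^ 3 := mul_pow _ _ _
      _ ≤ _ := Nat.mul_le_mul_left _ hB3

end Cfsg.Agent.Suz27
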