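import Cfsg.Agent.Suz27.CharFamilyBase
import Cfsg.Agent.RankOneK.Results
import Cfsg.Agent.PF14.Compose

/-!
An abelian 2-group `Q` in a split rank one group: the squares, and the structure of `V = C_D(t)`
(`PLAN.md`, part C2).
-/

set_option autoImplicit false

namespace Cfsg.Agent.Suz27

open MulAction RankOne

universe u v

variable {G : Type u} {Ω : Type v} [Group G] [MulAction G Ω] {a : Ω} {t : G} {Q : Subgroup G}
  [Finite G]

/-- An automorphism of odd order fixing `x * x` and every element of square one fixes `x`. -/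
lemma fix_of_fix_sq {A : Type*} [CommGroup A] (φ : A →* A) {o : ℕ} (ho : Odd o) {x : A}
    (hper : φ^[o] x = x) (hz : ∀ z : A, z * z = 1 → φ z = z) (hsq : φ (x * x) = x * x) :
    φ x = x := by
  set δ := x⁻¹ * φ x with hδ
  have hδ2 : δ * δ = 1 := by
    rw [hδ, mul_mul_mul_comm, ← map_mul, hsq, ← mul_inv_rev, inv_mul_cancel]
  have hi : ∀ i, φ^[i] x = x * δ ^ i := by
    intro i
    induction i with
    | zero => simp
    | succ i ih =>
      rw [Function.iterate_succ_apply', ih, map_mul, map_pow, hz δ hδ2,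
        show φ x = x * δ by rw [hδ, mul_inv_cancel_left], mul_assoc, ← pow_succ']
  have h := (hi o).symm.trans hper
  obtain ⟨j, rfl⟩ := ho
  rw [pow_succ, pow_mul, pow_two, hδ2, one_pow, one_mul, mul_eq_left] at h
  rw [← mul_inv_cancel_left x (φ x), ← hδ, h, mul_one]

section
variable (hR : R1 G Ω a t Q) (hab : ∀ x ∈ Q, ∀ y ∈ Q, x * y = y * x)
include hR hab

/-- The image of the squaring map of an abelian `Q`, below a subgroup `L` of `Q`. -/
def sqImage (L : Subgroup G) (hL : L ≤ Q) : Subgroup G where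
  carrier := {x | ∃ y ∈ L, y * y = x}
  one_mem' := ⟨1, one_mem _, one_mul 1⟩
  mul_mem' := by
    rintro _ _ ⟨y, hy, rfl⟩ ⟨y', hy', rfl⟩
    refine ⟨y * y', mul_mem hy hy', ?_⟩
    calc y * y' * (y * y') = y * (y' * y) * y' := by group
      _ = _ := by rw [hab y' (hL hy') y (hL hy)]; group
  inv_mem' := by
    rintro _ ⟨y, hy, rfl⟩
    exact ⟨y⁻¹, inv_mem hy, (mul_inv_rev y y).symm⟩

lemma sqImage_le (L : Subgroup G) (hL : L ≤ Q) : sqImage hab L hL ≤ L := by
  rintro _ ⟨y, hy, rfl⟩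
  exact mul_mem hy hy

lemma sqImage_conj {L : Subgroup G} (hL : L ≤ Q)
    (hD : ∀ d ∈ twoStab G a t, ∀ x ∈ L, d⁻¹ * x * d ∈ L) :
    ∀ d ∈ twoStab G a t, ∀ x ∈ sqImage hab L hL, d⁻¹ * x * d ∈ sqImage hab L hL := by
  rintro d hd _ ⟨y, hy, rfl⟩
  exact ⟨d⁻¹ * y * d, hD d hd y hy, by group⟩

/-- A non-trivial `D`-invariant subgroup of a 2-group `Q` contains all elements of square one. -/
lemma zGrp_le (h2 : IsPGroup 2 Q) {L : Subgroup G} (hL : L ≤ Q) (hne : L ≠ ⊥)
    (hD : ∀ d ∈ twoStab G a t, ∀ x ∈ L, d⁻¹ * x * d ∈ L) : hR.zGrp ≤ L := by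
  haveI : Fact (Nat.Prime 2) := ⟨Nat.prime_two⟩
  have hL2 : IsPGroup 2 L := h2.to_le hL
  obtain ⟨j, hj⟩ := IsPGroup.iff_card.1 hL2
  have hj0 : j ≠ 0 := fun h => hne (Subgroup.card_eq_one.1 (by rw [hj, h, pow_zero]))
  obtain ⟨y, hy⟩ := exists_prime_orderOf_dvd_card' (G := L) 2 (hj ▸ dvd_pow_self 2 hj0)
  have hyi : IsInv (y : G) := by
    rw [← Subgroup.orderOf_coe] at hy
    refine ⟨fun h => ?_, ?_⟩
    · rw [h, orderOf_one] at hy; omega
    · rw [← pow_two, ← hy, pow_orderOf_eq_one]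
  rintro x ⟨hxQ, hxx⟩
  by_cases hx : x = 1
  · exact hx ▸ one_mem _
  obtain ⟨d, hd, hdx⟩ := twoStab_transitive hR.setup hyi (Q_fix_a hR.setup (hL y.2))
    ⟨hx, hxx⟩ (Q_fix_a hR.setup hxQ)
  rw [← hdx]
  simpa using hD d⁻¹ (inv_mem hd) y y.2

lemma card_sqImage (h2 : IsPGroup 2 Q) {L : Subgroup G} (hL : L ≤ Q) (hne : L ≠ ⊥)
    (hD : ∀ d ∈ twoStab G a t, ∀ x ∈ L, d⁻¹ * x * d ∈ L) :
    Nat.card L = qOf Q * Nat.card (sqImage hab L hL) := by
  let f : L →* G :=
    { toFun := fun y => (y : G) * y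
      map_one' := one_mul 1
      map_mul' := fun y y' => by
        show (y : G) * y' * (y * y') = _
        calc (y : G) * y' * (y * y') = y * ((y' : G) * y) * y' := by group
          _ = _ := by rw [hab y' (hL y'.2) y (hL y.2)]; group }
  have hr : f.range = sqImage hab L hL := by
    ext x
    exact ⟨fun ⟨y, h⟩ => ⟨y, y.2, h⟩, fun ⟨y, hy, h⟩ => ⟨⟨y, hy⟩, h⟩⟩
  have hk : f.ker = hR.zGrp.subgroupOf L := by
    ext y
    exact ⟨fun h => ⟨hL y.2, h⟩, fun h => h.2⟩
  have hz := zGrp_le hR hab h2 hL hne hD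
  rw [← hr, ← Subgroup.index_ker, hk,
    show qOf Q = Nat.card (hR.zGrp.subgroupOf L) from
      (Nat.card_congr (Subgroup.subgroupOfEquivOfLe hz).toEquiv).symm,
    Subgroup.card_mul_index]

/-- If `Q` is not elementary then `|Q| = q²`, or `|Q| ≥ q³` and the squares number at least `q²`. -/
lemma abelian_card (h2 : IsPGroup 2 Q) (hx : ∃ x ∈ Q, x * x ≠ 1) :
    Nat.card Q = qOf Q ^ 2 ∨
      qOf Q ^ 2 ≤ Nat.card (sqImage hab Q le_rfl) := by
  obtain ⟨x, hxQ, hxx⟩ := hx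
  have hQD : ∀ d ∈ twoStab G a t, ∀ y ∈ Q, d⁻¹ * y * d ∈ Q := fun d hd y hy => by
    simpa using hR.setup.conj_mem d⁻¹ (inv_mem hd.1) y hy
  have hQne : Q ≠ ⊥ := fun h => hxx (by
    rw [h, Subgroup.mem_bot] at hxQ; rw [hxQ, one_mul])
  set L := sqImage hab Q le_rfl with hL
  have hLQ : L ≤ Q := sqImage_le hR hab Q le_rfl
  have hLne : L ≠ ⊥ := fun h => hxx (Subgroup.mem_bot.1 (h ▸ (⟨x, hxQ, rfl⟩ : x * x ∈ L)))
  have hLD := sqImage_conj hR hab le_rfl hQD
  have h1 := card_sqImage hR hab h2 le_rfl hQne hQD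
  have h3 := card_sqImage hR hab h2 hLQ hLne hLD
  set M := sqImage hab L hLQ
  by_cases hM : M = ⊥
  · left
    rw [h1, ← hL, h3, hM, Subgroup.card_bot, mul_one, pow_two]
  · right
    rw [h3, pow_two]
    refine Nat.mul_le_mul_left _ ?_
    exact Subgroup.card_le_of_le
      (zGrp_le hR hab h2 ((sqImage_le hR hab L hLQ).trans hLQ) hM (sqImage_conj hR hab hLQ hLD))

/-- No non-trivial element of `D` centralises the involutions fixing `a`. -/
lemma wker_eq_bot (h2 : IsPGroup 2 Q) : RankOneK.wker G a t = ⊥ := by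
  refine (Subgroup.eq_bot_iff_forall _).2 fun w hw => ?_
  obtain ⟨hwD, hwZ⟩ := Subgroup.mem_inf.1 hw
  have hS := hR.setup
  letI : CommGroup Q :=
    { (inferInstance : Group Q) with
      mul_comm := fun x y => Subtype.ext (hab x x.2 y y.2) }
  let φ : Q →* Q := conjHom hS ⟨w, hwD⟩
  have hit : ∀ (i : ℕ) (x : Q), ((φ^[i] x : Q) : G) = (w ^ i)⁻¹ * x * w ^ i := by
    intro i
    induction i with
    | zero => intro x; simp
    | succ i ih =>
      intro x
      rw [Function.iterate_succ_apply, ih, conjHom_coe, pow_succ']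
      group
  have hz : ∀ z : Q, z * z = 1 → φ z = z := by
    intro z hzz
    by_cases h1 : z = 1
    · rw [h1, map_one]
    have hI : (z : G) ∈ Cfsg.involutionsIn (stabilizer G a : Set G) :=
      ⟨hS.le z.2, fun h => h1 (Subtype.ext h), congrArg Subtype.val hzz⟩
    refine Subtype.ext ?_
    show w⁻¹ * z * w = z
    rw [mul_assoc, Subgroup.mem_centralizer_iff.1 hwZ _ hI, inv_mul_cancel_left]
  have hfix : ∀ (j : ℕ) (x : Q), x ^ 2 ^ j = 1 → φ x = x := by
    intro j
    induction j with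
    | zero => intro x hx; rw [pow_zero, pow_one] at hx; rw [hx, map_one]
    | succ j ih =>
      intro x hx
      refine fix_of_fix_sq φ (odd_orderOf_of_mem hS.odd_card hwD) (Subtype.ext ?_) hz
        (ih (x * x) ?_)
      · rw [hit, pow_orderOf_eq_one]; simp
      · rw [← pow_two, ← pow_mul, ← pow_succ']; exact hx
  haveI := hR.faithful
  refine FaithfulSMul.eq_of_smul_eq_smul (α := Ω) fun p => ?_
  rw [one_smul]
  by_cases hp : p = a
  · rw [hp]; exact hwD.1
  obtain ⟨x, hxQ, rfl⟩ := regular' hS hp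
  obtain ⟨j, hj⟩ := h2 ⟨x, hxQ⟩
  have hc : w⁻¹ * x * w = x := congrArg Subtype.val (hfix j ⟨x, hxQ⟩ hj)
  rw [mul_assoc, inv_mul_eq_iff_eq_mul] at hc
  rw [← mul_smul, ← hc, mul_smul, hwD.2]

/-- `V` is cyclic of order at most `q - 1`. -/
lemma exists_gen_vGrp (h2 : IsPGroup 2 Q) :
    (∃ g, Subgroup.zpowers g = vGrp a t) ∧ Nat.card (vGrp a t) ≤ qOf Q - 1 := by
  have hS := hR.setup
  haveI := hR.faithful
  have hW : twoStab G a t ⊓ Subgroup.centralizer {t} ⊓
      Subgroup.centralizer (Cfsg.invertedBy (twoStab G a t) t) = ⊥ :=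
    ((S1127.result hS).2.trans (wker_eq_bot hR hab h2) :)
  constructor
  · obtain ⟨v, hv, h⟩ := RankOneK.exists_generator_mod PF14.feitThompson hS hR.rank2
    rw [hW, bot_sup_eq, ← Subgroup.zpowers_eq_closure] at h
    exact ⟨v, h⟩
  · obtain ⟨k₀, hk₀, hK, hn, -⟩ := RankOneK.structure_twoStab PF14.feitThompson hS hR.rank2
    have hmem : ∀ v : vGrp a t, (v : G) * k₀ * (v : G)⁻¹ ∈
        Cfsg.invertedBy (twoStab G a t) t := fun v => (hK _).2 (hn v v.2.1)
    have hinj : Function.Injective fun v : vGrp a t =>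
        (⟨(v : G) * k₀ * (v : G)⁻¹, hmem v⟩ : Cfsg.invertedBy (twoStab G a t) t) := by
      intro v v' h
      have h' : (v : G) * k₀ * (v : G)⁻¹ = (v' : G) * k₀ * (v' : G)⁻¹ := congrArg Subtype.val h
      set u := (v' : G)⁻¹ * v with hu
      have huk : Commute u k₀ := by
        show u * k₀ = k₀ * u
        calc u * k₀ = (v' : G)⁻¹ * ((v : G) * k₀ * (v : G)⁻¹) * v := by rw [hu]; group
          _ = _ := by rw [h', hu]; group
      have huW : u ∈ twoStab G a t ⊓ Subgroup.centralizer {t} ⊓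
          Subgroup.centralizer (Cfsg.invertedBy (twoStab G a t) t) := by
        refine Subgroup.mem_inf.2 ⟨mul_mem (inv_mem v'.2) v.2,
          Subgroup.mem_centralizer_iff.2 fun k hk => ?_⟩
        obtain ⟨j, rfl⟩ := Subgroup.mem_zpowers_iff.1 ((hK k).1 hk)
        exact (huk.zpow_right j).symm
      rw [hW, Subgroup.mem_bot, hu, inv_mul_eq_one] at huW
      exact Subtype.ext huW.symm
    refine (Nat.card_le_card_of_injective _ hinj).trans (le_of_eq ?_)
    rw [card_inverted hS, hR.qOf_eq, Nat.add_sub_cancel]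

end

end Cfsg.Agent.Suz27
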