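import Cfsg.Agent.Suz27.Order
import Cfsg.Prelude.Def_LieRecognition
import Cfsg.Prelude.Def_Exceptional
import Cfsg.Prelude.Def_Sz

/-!
The conclusion of Suzuki's split rank one theorem from the classification of the three shapes of `Q`.
-/

set_option autoImplicit false

namespace Cfsg.Agent.Suz27

open MulAction RankOne

/-- The three families of rank one groups in characteristic two, in the shape of S1136. -/
def IsR1Type (G : Type*) [Group G] : Prop :=
  (∃ (F : Type) (_ : Field F) (_ : Fintype F), (∃ n : ℕ, 2 ≤ n ∧ Fintype.card F = 2 ^ n) ∧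
      Nonempty (G ≃* Matrix.ProjectiveSpecialLinearGroup (Fin 2) F)) ∨
    Cfsg.Lie.IsoSuzuki G ∨
    (∃ (F : Type) (_ : Field F) (_ : Fintype F) (n : ℕ), 2 ≤ n ∧ Fintype.card F = (2 ^ n) ^ 2 ∧
      Nonempty (G ≃* Cfsg.PSU 3 F (2 ^ n)))

theorem IsR1Type.congr {G G' : Type*} [Group G] [Group G'] (e : G ≃* G') (h : IsR1Type G) :
    IsR1Type G' := by
  rcases h with ⟨F, _, _, hn, ⟨f⟩⟩ | ⟨F, _, _, m, hm, hc, ⟨f⟩⟩ | ⟨F, _, _, n, hn, hc, ⟨f⟩⟩
  · exact Or.inl ⟨F, _, _, hn, ⟨e.symm.trans f⟩⟩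
  · exact Or.inr (Or.inl ⟨F, _, _, m, hm, hc, ⟨e.symm.trans f⟩⟩)
  · exact Or.inr (Or.inr ⟨F, _, _, n, hn, hc, ⟨e.symm.trans f⟩⟩)

variable {G Ω : Type*} [Group G] [MulAction G Ω] [Finite G] {a : Ω} {t : G} {Q : Subgroup G}

/-- The case division on the shape of `Q`. -/
theorem isR1Type_of_shapes (hR : R1 G Ω a t Q) (hT : HasType Q (RInv a t Q))
    (hpsl : Nat.card Q = qOf Q → ∃ (F : Type) (_ : Field F) (_ : Fintype F),
      (∃ n : ℕ, 2 ≤ n ∧ Fintype.card F = 2 ^ n) ∧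
        Nonempty (G ≃* Matrix.ProjectiveSpecialLinearGroup (Fin 2) F))
    (hsz : Nat.card Q = qOf Q ^ 2 → Cfsg.Lie.IsoSuzuki G)
    (hpsu : Nat.card Q = qOf Q ^ 3 → RInv a t Q → ∀ (n : ℕ), 2 ≤ n → qOf Q = 2 ^ n →
      ∀ (F : Type) [Field F] [Fintype F], Fintype.card F = (2 ^ n) ^ 2 →
        Nonempty (G ≃* Cfsg.PSU 3 F (2 ^ n))) :
    IsR1Type G := by
  obtain ⟨h2, hcard, hrc⟩ := hT
  obtain ⟨m, hm, hq⟩ := exists_qOf_eq hR h2
  rcases hcard with h | h | h
  · exact Or.inl (hpsl h)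
  · exact Or.inr (Or.inl (hsz h))
  · obtain ⟨F, iF, iT, hF⟩ := exists_field_two_pow (k := m * 2) (by omega)
    rw [pow_mul] at hF
    have hr : RInv a t Q := hrc.2 (by
      rw [h]
      exact fun e => absurd (Nat.pow_right_injective (hq ▸ le_trans (by norm_num)
        (Nat.pow_le_pow_right (by norm_num) hm)) e) (by norm_num))
    exact Or.inr (Or.inr ⟨F, iF, iT, m, hm, hF, hpsu h hr m hm hq F hF⟩)

omit [Finite G] in
/-- The conclusion for a normal subgroup of odd index. -/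
theorem exists_of_isR1Type {L : Subgroup G} (hn : L.Normal) (ho : Odd L.index) (h : IsR1Type L) :
    ∃ L : Subgroup G, L.Normal ∧ Odd L.index ∧
      ((∃ (F : Type) (_ : Field F) (_ : Fintype F), (∃ n : ℕ, 2 ≤ n ∧ Fintype.card F = 2 ^ n) ∧
          Nonempty (L ≃* Matrix.ProjectiveSpecialLinearGroup (Fin 2) F)) ∨
        Cfsg.Lie.IsoSuzuki L ∨
        (∃ (F : Type) (_ : Field F) (_ : Fintype F) (n : ℕ), 2 ≤ n ∧ Fintype.card F = (2 ^ n) ^ 2 ∧
          Nonempty (L ≃* Cfsg.PSU 3 F (2 ^ n)))) :=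
  ⟨L, hn, ho, h⟩

/-- A simple group of even order equals each of its normal subgroups of odd index. -/
theorem eq_top_of_odd_index {H : Type*} [Group H] [Finite H] [IsSimpleGroup H]
    (he : 2 ∣ Nat.card H) {L : Subgroup H} (hn : L.Normal) (ho : Odd L.index) : L = ⊤ := by
  rcases hn.eq_bot_or_eq_top with h | h
  · rw [h, Subgroup.index_bot] at ho
    exact absurd (even_iff_two_dvd.2 he) (Nat.not_even_iff_odd.2 ho)
  · exact h

end Cfsg.Agent.Suz27
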