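import Cfsg.Agent.Suz27.Semireg
import Cfsg.Agent.CharDeep.OrderP.Recog

/-!
The case `|Q| = q`: the group is `PSL(2, q)`.
-/

set_option autoImplicit false

namespace Cfsg.Agent.Suz27

open MulAction RankOne ZassNormal
open scoped MatrixGroups

universe u v

variable {G : Type u} {Ω : Type v} [Group G] [MulAction G Ω] [Finite G]

/-- If `Q` is elementary abelian the group is `PSL(2, q)`. -/
theorem psl_case {a : Ω} {t : G} {Q : Subgroup G} (h : R1 G Ω a t Q) (hgen : Gen t Q)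
    (htype : HasType Q (RInv a t Q)) (hn : Nat.card Q = qOf Q) :
    ∃ (F : Type) (_ : Field F) (_ : Fintype F) (_ : DecidableEq F),
      (∃ n : ℕ, 2 ≤ n ∧ Fintype.card F = 2 ^ n) ∧
        Nonempty (G ≃* Matrix.ProjectiveSpecialLinearGroup (Fin 2) F) := by
  classical
  have hQ : ∀ x ∈ Q, x * x = 1 := by
    intro x hx
    let f : {x : G // x ∈ Q ∧ x * x = 1} → Q := fun y => ⟨y, y.2.1⟩
    have hf : Function.Injective f := fun y z e => Subtype.ext (congrArg Subtype.val e :)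
    obtain ⟨y, hy⟩ := (hf.bijective_of_nat_card_le hn.le).2 ⟨x, hx⟩
    have e : (y : G) = x := congrArg Subtype.val hy
    exact e ▸ y.2.2
  obtain ⟨F, i1, i2, i3, hq4, -, ⟨L⟩⟩ := exists_lineData h (fun _ r _ hr _ => hQ r hr)
  obtain ⟨n, -, hn2⟩ := FiniteField.card F 2
  refine ⟨F, i1, i2, inferInstance, ⟨n, ?_, hn2⟩, ?_⟩
  · by_contra hlt
    have hp : 0 < (n : ℕ) := n.pos
    have : (n : ℕ) = 1 := by omega
    rw [hn2, this] at hq4
    omega
  · have hsurj : Function.Surjective L.hom := by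
      rw [← MonoidHom.range_eq_top, eq_top_iff, ← hgen, Subgroup.closure_le]
      rintro g (hg | rfl)
      · obtain ⟨ζ, hζ⟩ := (L.sq_one g).1 ⟨hg, hQ g hg⟩
        exact ⟨_, hζ⟩
      · exact ⟨_, L.weyl⟩
    obtain ⟨e⟩ := CharDeep.OrderP.nonempty_psl_equiv_sl hn2
    exact ⟨((e.trans (MulEquiv.ofBijective L.hom ⟨L.inj, hsurj⟩))).symm⟩

end Cfsg.Agent.Suz27
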