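import Cfsg.Agent.Lib.RankOne.Nilpotent
import Cfsg.Agent.Lib.RankOne.Fixed

/-!
Suzuki's split rank one theorem: shared vocabulary (see `PLAN.md` in this folder).
-/

set_option autoImplicit false

namespace Cfsg.Agent.Suz27

open MulAction RankOne

universe u v

variable (G : Type u) (Ω : Type v) [Group G] [MulAction G Ω]

/-- The set-up together with faithfulness and two-rank at least two. -/
structure R1 (a : Ω) (t : G) (Q : Subgroup G) : Prop where
  setup : Cfsg.IsRankOneSetup G Ω a t Q
  faithful : FaithfulSMul G Ω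
  rank2 : ∃ x y : G, x ≠ 1 ∧ y ≠ 1 ∧ x ≠ y ∧ x * x = 1 ∧ y * y = 1 ∧ x * y = y * x

/-- `G` is generated by `Q` and `t`. -/
def Gen {G : Type*} [Group G] (t : G) (Q : Subgroup G) : Prop :=
  Subgroup.closure ((Q : Set G) ∪ {t}) = ⊤

/-- `V = C_D(t)`. -/
abbrev vGrp {Ω : Type*} {G : Type*} [Group G] [MulAction G Ω] (a : Ω) (t : G) : Subgroup G :=
  twoStab G a t ⊓ Subgroup.centralizer {t}

variable {G Ω}

/-- The number of elements of square one in a subgroup (`q` for `Q`). -/
noncomputable def qOf (X : Subgroup G) : ℕ := Nat.card {x : G // x ∈ X ∧ x * x = 1}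

/-- In the structure equation `t s t = r⁻¹ t r` the element `r` has square one. -/
def RInv (a : Ω) (t : G) (Q : Subgroup G) : Prop :=
  ∀ s r : G, s ∈ Cfsg.involutionsIn (stabilizer G a : Set G) → r ∈ Q →
    t * s * t = r⁻¹ * t * r → r * r = 1

/-- The three possible shapes of `Q`, with the position of `r`. -/
def HasType (X : Subgroup G) (rc : Prop) : Prop :=
  IsPGroup 2 X ∧
    (Nat.card X = qOf X ∨ Nat.card X = qOf X ^ 2 ∨ Nat.card X = qOf X ^ 3) ∧
    (rc ↔ Nat.card X ≠ qOf X ^ 2)

/-- The induction hypothesis: the centraliser of each non-identity element of `V` with at least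
three elements of square one in `C_Q(v)` has one of the three shapes. -/
def SubTypes (a : Ω) (t : G) (Q : Subgroup G) : Prop :=
  ∀ v ∈ vGrp a t, v ≠ 1 → 2 < qOf (Q ⊓ Subgroup.centralizer {v}) →
    HasType (Q ⊓ Subgroup.centralizer {v}) (RInv a t Q)

end Cfsg.Agent.Suz27
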