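import Cfsg.Agent.Suz27.Model
import Cfsg.Agent.Suz27.Defs

/-!
The identification with `PSU(3, q)` from a uniqueness statement and the model.
-/

set_option autoImplicit false

namespace Cfsg.Agent.Suz27

universe u v

/-- `G ≅ PSU(3, q)` from uniqueness and the existence of the model. -/
theorem psu_case_of {G : Type u} [Group G] {Ω : Type v} [MulAction G Ω] {Q : Subgroup G}
    (huniq : ∀ (G₂ : Type) [Group G₂] [Finite G₂] (Ω₂ : Type) [MulAction G₂ Ω₂] (a₂ : Ω₂) (t₂ : G₂)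
      (Q₂ : Subgroup G₂), R1 G₂ Ω₂ a₂ t₂ Q₂ → Gen t₂ Q₂ → IsPGroup 2 Q₂ →
        Nat.card Q₂ = qOf Q₂ ^ 3 → RInv a₂ t₂ Q₂ → qOf Q₂ = qOf Q → Nonempty (G ≃* G₂))
    {n : ℕ} (hn : 2 ≤ n) (hq : qOf Q = 2 ^ n) (F : Type) [Field F] [Fintype F]
    (hF : Fintype.card F = (2 ^ n) ^ 2) : Nonempty (G ≃* Cfsg.PSU 3 F (2 ^ n)) := by
  obtain ⟨Ω₂, inst, a₂, t₂, Q₂, hR₂, hG₂, hc, hq₂, hr₂, h2⟩ := psu_model hn hF
  exact @huniq _ _ _ Ω₂ inst a₂ t₂ Q₂ hR₂ hG₂ h2 (by rw [hc, hq₂]) hr₂ (hq₂.trans hq.symm)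

end Cfsg.Agent.Suz27
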