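import Cfsg.Agent.Suz27.Line
import Cfsg.Agent.CharDeep.SzUniq.Main

/-!
The case `|Q| = q²`: the group is a Suzuki group.
-/

set_option autoImplicit false

namespace Cfsg.Agent.Suz27

open MulAction RankOne
open Cfsg.Agent.CharDeep.SzUniq

universe u v

section
variable {G : Type u} {Ω : Type v} [Group G] [MulAction G Ω] [Finite G]

/-- The group in coordinates. -/
theorem exists_sz_model {a : Ω} {t : G} {Q : Subgroup G} (h : R1 G Ω a t Q) (hgen : Gen t Q)
    (htype : HasType Q (RInv a t Q)) (hn : Nat.card Q = qOf Q ^ 2)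
    (hna : ∃ x ∈ Q, ∃ y ∈ Q, x * y ≠ y * x) :
    ∃ (F : Type) (_ : Field F) (_ : Fintype F) (_ : CharP F 2) (φ : F ≃+* F) (η ε : F)
      (tf : Option (F × F) → Option (F × F)),
      4 ≤ Fintype.card F ∧ Model φ η ε tf ∧
      ∃ ρ : G →* Equiv.Perm (Option (F × F)), Function.Injective ρ ∧
        ρ.range = Subgroup.closure (gens φ η tf) := by
  classical
  have hS := h.setup
  haveI := h.faithful
  have ht2 := hS.mul_self
  have hP : IsPGroup 2 Q := htype.1
  -- `r` has order above two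
  obtain ⟨s, r, hs, hrQ, heq, hr2⟩ : ∃ s r : G,
      s ∈ Cfsg.involutionsIn (stabilizer G a : Set G) ∧ r ∈ Q ∧
        t * s * t = r⁻¹ * t * r ∧ r * r ≠ 1 := by
    by_contra hc
    push Not at hc
    exact htype.2.2.1 (fun s r h1 h2 h3 => hc s r h1 h2 h3) hn
  have hsQ : s ∈ Q := invol_mem_Q hS ⟨hs.2.1, hs.2.2⟩ hs.1
  obtain ⟨C, hCK, hCc, -⟩ := Cfsg.Agent.S1131.result hS h.rank2
  have hCmem : ∀ g, g ∈ C ↔ g ∈ Cfsg.invertedBy (twoStab G a t) t := fun g => by
    rw [← SetLike.mem_coe, hCK]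
  have hCn : ∀ c ∈ C, ∀ x ∈ Q, c * x * c⁻¹ ∈ Q := fun c hc x hx =>
    hS.conj_mem c (Subgroup.mem_inf.1 ((hCmem c).1 hc).1).1 x hx
  let conjQ' : C →* MulAut Q :=
    { toFun := fun c =>
        { toFun := fun x => ⟨(c : G) * x * (c : G)⁻¹, hCn c c.2 x x.2⟩
          invFun := fun x => ⟨(c : G)⁻¹ * x * (c : G), by
            simpa using hCn _ (inv_mem c.2) x x.2⟩
          left_inv := fun x => Subtype.ext (by group)
          right_inv := fun x => Subtype.ext (by group)
          map_mul' := fun x y => Subtype.ext (by simp [mul_assoc]) }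
      map_one' := MulEquiv.ext fun x => Subtype.ext (by simp)
      map_mul' := fun c d => MulEquiv.ext fun x => Subtype.ext (by simp [mul_assoc]) }
  have hconj : ∀ (c : C) (x : Q), ((conjQ' c x : Q) : G) = (c : G) * x * (c : G)⁻¹ :=
    fun c x => rfl
  have hinv : ∀ x : Q, x ≠ 1 → x * x = 1 →
      (x : G) ∈ Cfsg.involutionsIn (stabilizer G a : Set G) := fun x hx hx' =>
    (inv_mem_iff h).2 ⟨⟨x.2, congrArg Subtype.val hx'⟩, fun e => hx (Subtype.ext e)⟩
  have hcinj : Function.Injective conjQ' := by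
    intro c d hcd
    have e := congrArg Subtype.val (DFunLike.congr_fun hcd ⟨s, hsQ⟩)
    rw [hconj, hconj] at e
    have := inverted_conj_inj hS hs ((hCmem _).1 (inv_mem c.2)) ((hCmem _).1 (inv_mem d.2))
      (by simpa using e)
    exact Subtype.ext (inv_injective this)
  obtain ⟨y₁, hy₁, y₂, hy₂, hne, -⟩ := exists_two_invol hS h.rank2
  obtain ⟨F, i1, i2, i3, fr, hq4, hall⟩ := SuzukiTwo.exists_frame_of hP
    ⟨⟨y₁, ((inv_mem_iff h).1 hy₁).1.1⟩, ⟨y₂, ((inv_mem_iff h).1 hy₂).1.1⟩,
      fun e => hne (congrArg Subtype.val e), fun e => hy₁.2.1 (congrArg Subtype.val e),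
      Subtype.ext hy₁.2.2, fun e => hy₂.2.1 (congrArg Subtype.val e), Subtype.ext hy₂.2.2⟩
    conjQ'.range (isCyclic_of_surjective conjQ'.rangeRestrict conjQ'.rangeRestrict_surjective)
    (by
      intro x y hx1 hx2 hy1 hy2
      obtain ⟨k, hk, hky⟩ := inverted_transitive hS (hinv x hx1 hx2) (hinv y hy1 hy2)
      have hky' : (k⁻¹ : G) * x * (k⁻¹)⁻¹ = y := by rw [inv_inv]; exact hky
      refine ⟨⟨conjQ' ⟨k⁻¹, inv_mem ((hCmem k).2 hk)⟩, ⟨_, rfl⟩⟩, Subtype.ext hky', ?_⟩
      rintro ⟨_, c, rfl⟩ hc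
      refine Subtype.ext (congrArg conjQ' (Subtype.ext ?_))
      have e : (c : G) * x * (c : G)⁻¹ = y := congrArg Subtype.val hc
      have := inverted_conj_inj hS (hinv x hx1 hx2) ((hCmem _).1 (inv_mem c.2)) hk
        (by rw [inv_inv, e, hky])
      show (c : G) = k⁻¹
      rw [← this, inv_inv])
  choose vv hvv using fun c : C => hall (conjQ' c) ⟨c, rfl⟩
  have hvinj : Function.Injective vv := fun c d e => hcinj (by
    rw [← hvv, ← hvv]; exact congrArg fr.act e)
  have hqF : qOf Q = Fintype.card F := by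
    rw [← Nat.card_eq_fintype_card]
    refine (Nat.card_congr (Equiv.ofBijective
      (fun x : F => (⟨(fr.emb x : G), (fr.emb x).2,
        congrArg Subtype.val (fr.emb_mul_self x)⟩ : {g : G // g ∈ Q ∧ g * g = 1}))
      ⟨fun x y e => fr.emb_inj (Subtype.ext (congrArg Subtype.val e :)), fun g => ?_⟩)).symm
    obtain ⟨x, hx⟩ := (fr.emb_range ⟨g.1, g.2.1⟩).1 (Subtype.ext g.2.2)
    exact ⟨x, Subtype.ext (congrArg Subtype.val hx :)⟩
  have hUc : Nat.card Q = Fintype.card F ^ 2 := by rw [hn, hqF]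
  have hvsurj : Function.Surjective vv := by
    refine (hvinj.bijective_of_nat_card_le (le_of_eq ?_)).2
    have h1 : Nat.card C = Nat.card (Cfsg.invertedBy (twoStab G a t) t) :=
      Nat.card_congr (Equiv.subtypeEquivRight hCmem)
    rw [h1, card_inverted hS, Nat.card_units, Nat.card_eq_fintype_card (α := F), ← hqF]
    let e : Cfsg.involutionsIn (stabilizer G a : Set G) ≃
        {x : {g : G // g ∈ Q ∧ g * g = 1} // x ≠ ⟨1, Q.one_mem, one_mul 1⟩} :=
      { toFun := fun g => ⟨⟨g, ((inv_mem_iff h).1 g.2).1⟩,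
          fun e => g.2.2.1 (congrArg Subtype.val e)⟩
        invFun := fun x => ⟨x.1.1, (inv_mem_iff h).2 ⟨x.1.2, fun e => x.2 (Subtype.ext e)⟩⟩
        left_inv := fun g => rfl
        right_inv := fun x => rfl }
    rw [Nat.card_congr e, qOf]
    haveI := Fintype.ofFinite {g : G // g ∈ Q ∧ g * g = 1}
    rw [Nat.card_eq_fintype_card, Nat.card_eq_fintype_card, Fintype.card_subtype_compl,
      Fintype.card_subtype_eq]
  obtain ⟨u0, hu0⟩ : ∃ u : Fˣ, u ≠ 1 :=
    Fintype.exists_ne_of_one_lt_card (by rw [Fintype.card_units]; omega) 1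
  have hna' : ∃ x y : Q, x * y ≠ y * x := by
    obtain ⟨x, hx, y, hy, hxy⟩ := hna
    exact ⟨⟨x, hx⟩, ⟨y, hy⟩, fun e => hxy (congrArg Subtype.val e)⟩
  have hrZ : (⟨r, hrQ⟩ : Q) ∉ Subgroup.center Q := fun hc =>
    hr2 (congrArg Subtype.val ((fr.mem_center_iff_sq hP hna' hu0).1 hc))
  obtain ⟨φ, η, el, hel, helmul, helr, hψ, helact⟩ :=
    CharDeep.SzUniq.exists_coords fr hP hna' hu0 hq4 hUc hrZ
  have helr' : (el (1, 0) : G) = r := congrArg Subtype.val helr
  have hel0 : el (0, 0) = 1 := by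
    have := helmul (0, 0) (0, 0)
    simp only [pm, CharDeep.SzUniq.beta, map_zero, mul_zero, add_zero, zero_mul] at this
    exact left_eq_mul.1 this
  have hta : t • a ≠ a := ta_ne hS
  let e : Option (F × F) ≃ Ω := Equiv.ofBijective
    (fun o => match o with
      | none => a
      | some v => (el v : G) • t • a)
    (by
      refine ⟨fun x y h => ?_, fun p => ?_⟩
      · match x, y, h with
        | none, none, _ => rfl
        | none, some v, h => exact absurd h.symm (smul_Q_ne hS (el v).2 hta)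
        | some v, none, h => exact absurd h (smul_Q_ne hS (el v).2 hta)
        | some v, some w, h =>
          rw [hel.1 (Subtype.ext (regular_unique hS hta (el v).2 (el w).2 h))]
      · by_cases hp : p = a
        · exact ⟨none, hp.symm⟩
        · obtain ⟨x, hx, hxp⟩ := regular' hS hp
          obtain ⟨v, hv⟩ := hel.2 ⟨x, hx⟩
          exact ⟨some v, by show (el v : G) • t • a = p; rw [hv]; exact hxp⟩)
  have he_none : e none = a := rfl
  have he_some : ∀ v, e (some v) = (el v : G) • t • a := fun v => rfl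
  let ρ : G →* Equiv.Perm (Option (F × F)) := repOf e
  have hρU : ∀ u, ⇑(ρ (el u : G)) = lmap φ η u := fun u => repOf_eq e _ _ fun x => by
    rcases x with _ | v
    · exact Q_fix_a hS (el u).2
    · simp only [lmap, Option.map_some, he_some, helmul, Subgroup.coe_mul, mul_smul]
  have hD : ∀ k : F, k ≠ 0 → ∃ x ∈ C, ⇑(ρ x) = kmap φ k := fun k hk => by
    obtain ⟨u, hu⟩ := helact k hk
    obtain ⟨c, hc⟩ := hvsurj u
    obtain ⟨hca, hcb⟩ := Subgroup.mem_inf.1 ((hCmem _).1 c.2).1
    refine ⟨c, c.2, repOf_eq e _ _ fun o => ?_⟩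
    rcases o with _ | v
    · exact mem_stabilizer_iff.1 hca
    · simp only [kmap, Option.map_some, he_some]
      rw [← hu v, ← hc, hvv, hconj, mul_smul, mul_smul,
        inv_smul_eq_iff.2 (mem_stabilizer_iff.1 hcb).symm]
  let tf : Option (F × F) → Option (F × F) := ⇑(ρ t)
  have htf : ∀ o, t • e o = e (tf o) := fun o => repOf_spec e t o
  -- the structure equation in coordinates
  obtain ⟨⟨X, ε⟩, hXε⟩ := hel.2 ⟨s, hsQ⟩
  have hX : X = 0 := by
    have hs2 : el (X, ε) * el (X, ε) = 1 := by rw [hXε]; exact Subtype.ext hs.2.2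
    rw [← helmul, ← hel0] at hs2
    have := congrArg Prod.snd (hel.1 hs2)
    simp only [pm, CharDeep.SzUniq.beta] at this
    by_contra hne
    refine psi_ne φ hne ?_
    simp only [psi]
    linear_combination this - (ε + η * (X * φ X)) * two_zero (F := F)
  subst hX
  have hsel : (el (0, ε) : G) = s := congrArg Subtype.val hXε
  have hrinv : (el (1, 1) : G) = r⁻¹ := by
    rw [← helr', ← Subgroup.coe_inv, inv_eq_of_mul_eq_one_right (b := el (1, 1))]
    rw [← helmul, ← hel0]
    congr 1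
    simp only [pm, CharDeep.SzUniq.beta, map_one, CharTwo.add_self_eq_zero, Prod.mk.injEq, true_and]
    linear_combination (1 + η) * two_zero (F := F)
  have htk : ∀ c ∈ C, t * c = c⁻¹ * t := fun c hc => by
    have := ((hCmem c).1 hc).2
    calc t * c = t * c * t⁻¹ * t := by group
      _ = _ := by rw [this]
  have hmodel : Model φ η ε tf := by
    refine ⟨?_, fun o => ?_, ?_, fun k hk o => ?_, fun o => ?_, fun o => ?_, hψ.1, hψ.2⟩
    · rintro rfl
      exact hs.2.1 (by rw [← hsel, hel0, Subgroup.coe_one])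
    · apply e.injective
      rw [← htf, ← htf, ← mul_smul, ht2, one_smul]
    · apply e.injective
      rw [← htf, he_none, he_some, hel0, Subgroup.coe_one, one_smul]
    · obtain ⟨x, hxD, hx⟩ := hD k hk
      have hxi : ⇑(ρ x⁻¹) = kmap φ k⁻¹ := by
        funext o
        have : ρ x (kmap φ k⁻¹ o) = o := by
          rw [hx, kmap_kmap, mul_inv_cancel₀ hk, kmap_one]
        conv_lhs => rw [← this]
        rw [← Equiv.Perm.mul_apply, ← map_mul, inv_mul_cancel, map_one, Equiv.Perm.one_apply]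
      rw [← hx, ← hxi]
      show (ρ t) (ρ x o) = ρ x⁻¹ (ρ t o)
      rw [← Equiv.Perm.mul_apply, ← Equiv.Perm.mul_apply, ← map_mul, ← map_mul, htk x hxD]
    · rw [← hρU, ← hρU, ← hρU, helr', hrinv, hsel]
      show (ρ t * ρ s * ρ t) o = (ρ r⁻¹ * ρ t * ρ r) o
      rw [← map_mul, ← map_mul, ← map_mul, ← map_mul, heq]
    · constructor
      · intro h1
        apply e.injective
        rw [he_some, helr']
        exact fixed_unique hS (t_isInv hS) (by rw [htf, h1]) (structure_r hS hs heq)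
      · rintro rfl
        apply e.injective
        rw [← htf, he_some, helr', structure_r hS hs heq]
  refine ⟨F, i1, i2, i3, φ, η, ε, tf, hq4, hmodel, ρ, fun g g' hg => ?_,
    range_eq ρ (fun g => ?_) (fun u => ⟨_, hρU u⟩)
      (fun k hk => (hD k hk).imp fun x hx => hx.2) ⟨t, rfl⟩⟩
  · refine FaithfulSMul.eq_of_smul_eq_smul (α := Ω) fun p => ?_
    obtain ⟨o, rfl⟩ := e.surjective p
    rw [repOf_spec e g, repOf_spec e g']
    exact congrArg e (DFunLike.congr_fun hg o)
  · suffices Subgroup.closure ((Q : Set G) ∪ {t}) ≤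
        (Subgroup.closure (gens φ η tf)).comap ρ by
      rw [hgen] at this
      exact this (Subgroup.mem_top g)
    rw [Subgroup.closure_le]
    rintro x (hx | rfl)
    · obtain ⟨v, hv⟩ := hel.2 ⟨x, hx⟩
      exact Subgroup.subset_closure (Or.inl ⟨v, by rw [← hρU]; rw [hv]⟩)
    · exact Subgroup.subset_closure (Or.inr (Or.inr rfl))

/-- If `|Q| = q²` the group is a Suzuki group. -/
theorem sz_case {a : Ω} {t : G} {Q : Subgroup G} (h : R1 G Ω a t Q) (hgen : Gen t Q)
    (htype : HasType Q (RInv a t Q)) (hn : Nat.card Q = qOf Q ^ 2)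
    (hna : ∃ x ∈ Q, ∃ y ∈ Q, x * y ≠ y * x) : Cfsg.Lie.IsoSuzuki G := by
  classical
  obtain ⟨F, i1, i2, i3, φ0, η, ε, t, hq4, hM, ρ, hρinj, hρ⟩ :=
    exists_sz_model h hgen htype hn hna
  have hex : ∃ x : F, x ≠ 0 ∧ x ≠ 1 := by
    obtain ⟨x, hx⟩ : ∃ x : F, x ∉ ({0, 1} : Finset F) := by
      by_contra hc
      push Not at hc
      have := Finset.card_le_card (fun x (_ : x ∈ Finset.univ) => hc x : Finset.univ ⊆ ({0, 1} : Finset F))
      have h2 : ({0, 1} : Finset F).card ≤ 2 := Finset.card_le_two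
      rw [Finset.card_univ] at this
      omega
    simp only [Finset.mem_insert, Finset.mem_singleton, not_or] at hx
    exact ⟨x, hx⟩
  obtain ⟨hη, hε⟩ := eta_eps hM hex
  subst hε
  -- normalise to `η = 0`
  obtain ⟨φ, t, ρ, hM, hρinj, hρ⟩ : ∃ (φ : F ≃+* F) (t : Option (F × F) → Option (F × F))
      (ρ : G →* Equiv.Perm (Option (F × F))), Model φ 0 1 t ∧ Function.Injective ρ ∧
        ρ.range = Subgroup.closure (gens φ 0 t) := by
    rcases hη with rfl | rfl
    · exact ⟨φ0, t, ρ, hM, hρinj, hρ⟩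
    -- change coordinates by the automorphism
    let c : Option (F × F) ≃ Option (F × F) := (φ0.toEquiv.prodCongr (Equiv.refl F)).optionCongr
    have hc : ∀ o, c o = o.map (fun v => (φ0 v.1, v.2)) := fun o => by cases o <;> rfl
    have hpsi : ∀ x, psi φ0.symm (φ0 x) = psi φ0 x := fun x => by
      simp [psi, mul_comm]
    have hL : ∀ u o, c (lmap φ0 1 u o) = lmap φ0.symm 0 (φ0 u.1, u.2) (c o) := fun u o => by
      rcases o with _ | v
      · rfl
      · simp only [hc, lmap, Option.map_some, pm, CharDeep.SzUniq.beta, map_add, φ0.symm_apply_apply,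
          Option.some.injEq, Prod.mk.injEq, true_and]
        linear_combination (φ0 u.1 * v.1) * two_zero (F := F)
    have hK : ∀ k o, c (kmap φ0 k o) = kmap φ0.symm (φ0 k) (c o) := fun k o => by
      rcases o with _ | v
      · rfl
      · simp only [hc, kmap, Option.map_some, map_mul, hpsi]
    let t' : Option (F × F) → Option (F × F) := fun o => c (t (c.symm o))
    have ht' : ∀ o, t' (c o) = c (t o) := fun o => by simp [t']
    let ρ' : G →* Equiv.Perm (Option (F × F)) := (c.permCongrHom.toMonoidHom).comp ρ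
    have hρ' : ∀ g o, ρ' g (c o) = c (ρ g o) := fun g o => by
      simp [ρ', Equiv.permCongrHom, Equiv.permCongr_apply]
    refine ⟨φ0.symm, t', ρ', ⟨one_ne_zero, fun o => ?_, ?_, fun k hk o => ?_, fun o => ?_,
      fun o => ?_, ?_, ?_⟩, c.permCongrHom.injective.comp hρinj, ?_⟩
    · obtain ⟨o, rfl⟩ := c.surjective o
      rw [ht' o, ht' (t o), hM.invol]
    · show t' (c none) = _
      rw [ht', hM.t_none, hc]; simp
    · obtain ⟨o, rfl⟩ := c.surjective o
      obtain ⟨k, rfl⟩ := φ0.surjective k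
      rw [← hK, ht', ht', ← map_inv₀, ← hK, hM.t_kmap k (by simpa using hk)]
    · obtain ⟨o, rfl⟩ := c.surjective o
      have e1 := hL (0, 1)
      have e2 := hL (1, 1)
      have e3 := hL (1, 0)
      simp only [map_zero, map_one] at e1 e2 e3
      rw [ht', ← e1, ht', ← e3, ht', ← e2, hM.t_eq]
    · obtain ⟨o, rfl⟩ := c.surjective o
      rw [ht', c.injective.eq_iff, hM.t_fix]
      conv_rhs => rw [show some ((1 : F), (0 : F)) = c (some (1, 0)) by simp [hc],
        c.injective.eq_iff]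
    · intro x y h
      obtain ⟨x, rfl⟩ := φ0.surjective x
      obtain ⟨y, rfl⟩ := φ0.surjective y
      rw [hpsi, hpsi] at h
      rw [hM.inj h]
    · intro y
      obtain ⟨x, hx⟩ := hM.surj y
      exact ⟨φ0 x, by rw [hpsi, hx]⟩
    · rw [MonoidHom.range_comp, hρ, MonoidHom.map_closure]
      congr 1
      ext p
      constructor
      · rintro ⟨p, hp, rfl⟩
        have he : ∀ o, c.permCongrHom.toMonoidHom p (c o) = c (p o) := fun o => by
          simp [Equiv.permCongrHom, Equiv.permCongr_apply]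
        rcases hp with ⟨u, hu⟩ | ⟨k, hk, hu⟩ | hu
        · refine Or.inl ⟨(φ0 u.1, u.2), funext fun o => ?_⟩
          obtain ⟨o, rfl⟩ := c.surjective o
          rw [he, hu, hL]
        · refine Or.inr (Or.inl ⟨φ0 k, by simpa using hk, funext fun o => ?_⟩)
          obtain ⟨o, rfl⟩ := c.surjective o
          rw [he, hu, hK]
        · refine Or.inr (Or.inr (funext fun o => ?_))
          obtain ⟨o, rfl⟩ := c.surjective o
          rw [he, hu, ht']
      · intro hp
        refine ⟨c.symm.permCongrHom p, ?_, Equiv.ext fun o => by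
          simp [Equiv.permCongrHom, Equiv.permCongr_apply]⟩
        have he : ∀ o, c ((c.symm.permCongrHom p) o) = p (c o) := fun o => by
          simp [Equiv.permCongrHom, Equiv.permCongr_apply]
        rcases hp with ⟨u, hu⟩ | ⟨k, hk, hu⟩ | hu
        · refine Or.inl ⟨(φ0.symm u.1, u.2), funext fun o => c.injective ?_⟩
          rw [he, hu, hL, φ0.apply_symm_apply]
        · refine Or.inr (Or.inl ⟨φ0.symm k, by simpa using hk, funext fun o => c.injective ?_⟩)
          rw [he, hu, hK, φ0.apply_symm_apply]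
        · refine Or.inr (Or.inr (funext fun o => c.injective ?_))
          rw [he, hu, ht']
  have hφ : ∀ x, φ (φ (x * x)) = x := phi_sq hM rfl rfl
  obtain ⟨m, hm, hFc⟩ : ∃ m, 1 ≤ m ∧ Fintype.card F = 2 ^ (2 * m + 1) := by
    obtain ⟨N, -, hN⟩ := FiniteField.card F 2
    rcases Nat.even_or_odd (N : ℕ) with ⟨j, hj⟩ | ⟨j, hj⟩
    · exfalso
      have h3 : 3 ∣ Fintype.card Fˣ := by
        rw [Fintype.card_units, hN, hj, ← two_mul, pow_mul, show (2 : ℕ) ^ 2 = 4 from rfl]
        have := Nat.sub_dvd_pow_sub_pow 4 1 j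
        simpa using this
      haveI := Fact.mk Nat.prime_three
      obtain ⟨ω, hω⟩ := exists_prime_orderOf_dvd_card 3 h3
      have hω3 : (ω : F) ^ 3 = 1 := by
        rw [← Units.val_pow_eq_pow_val, ← hω, pow_orderOf_eq_one, Units.val_one]
      have hω1 : (ω : F) ≠ 1 := fun e => by
        rw [show ω = 1 from Units.ext e, orderOf_one] at hω
        omega
      have hcub : (ω : F) ^ 2 + ω + 1 = 0 :=
        (mul_eq_zero.1 (show ((ω : F) - 1) * (ω ^ 2 + ω + 1) = 0 by
          linear_combination hω3)).resolve_left (sub_ne_zero.2 hω1)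
      have hroot : ∀ y : F, y ^ 2 + y + 1 = 0 → y = ω ∨ y = ω * ω := by
        intro y hy
        have : (y - ω) * (y - ω * ω) = 0 := by
          linear_combination hy - y * hcub + (1 : F) * hω3
        rcases mul_eq_zero.1 this with e | e
        · exact Or.inl (sub_eq_zero.1 e)
        · exact Or.inr (sub_eq_zero.1 e)
      have himg : ∀ y : F, y ^ 2 + y + 1 = 0 → φ y ^ 2 + φ y + 1 = 0 := fun y hy => by
        rw [← map_pow, ← map_one φ, ← map_add, ← map_add, hy, map_zero]
      have h1 := hφ (ω : F)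
      have h2 : φ (φ ((ω : F) * ω)) = (ω : F) * ω := by
        rcases hroot _ (himg _ hcub) with e | e
        · rw [map_mul, e, map_mul, e]
        · rw [map_mul, e, map_mul, map_mul, e]
          linear_combination ((ω : F) * ω * ω * ω * ω + ω * ω) * hω3
      rw [h2] at h1
      exact hω1 (mul_right_cancel₀ ω.ne_zero (h1.trans (one_mul _).symm))
    · refine ⟨j, ?_, by rw [hN, hj]⟩
      by_contra h0
      have : (N : ℕ) = 1 := by omega
      rw [hN, this] at hq4
      omega
  have hS := szModel hm hFc φ hφ ⟨hM.inj, hM.surj⟩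
  have hts := t_unique hM hS
  -- the representation of the Suzuki group
  let : MulAction (Cfsg.Sz F m) (Cfsg.suzukiOvoid F m) :=
    { smul := fun g p => ⟨g • (p : Projectivization F (Fin 4 → F)), Suzuki.smul_mem_ovoid g p.2⟩
      one_smul := fun p => Subtype.ext (one_smul _ _)
      mul_smul := fun g h p => Subtype.ext (mul_smul _ _ _) }
  let σ : Cfsg.Sz F m →* Equiv.Perm (Option (F × F)) := repOf (szPt m φ)
  have hσU : ∀ u, ⇑(σ (Suzuki.U hFc (φ u.1) (u.2 + u.1 * φ u.1))) = lmap φ 0 u := fun u =>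
    repOf_eq _ _ _ fun o => Subtype.ext (u_act hm hFc φ hφ u o)
  have hσT : ∀ k (hk : k ≠ 0),
      ⇑(σ (Suzuki.T hFc (Units.mk0 (φ k) ((map_ne_zero φ).2 hk)))) = kmap φ k :=
    fun k hk => repOf_eq _ _ _ fun o => Subtype.ext (t_act hm hFc φ hφ k hk o)
  have hσW : ⇑(σ (Suzuki.W hFc)) = t := by
    rw [hts]
    exact repOf_eq _ _ _ fun o => Subtype.ext (w_act hFc φ o)
  have hσrange : σ.range = Subgroup.closure (gens φ 0 t) := by
    refine range_eq σ (fun g => ?_) (fun u => ⟨_, hσU u⟩) (fun k hk => ⟨_, hσT k hk⟩) ⟨_, hσW⟩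
    have hU' : ∀ x y, σ (Suzuki.U hFc x y) ∈ Subgroup.closure (gens φ 0 t) := fun x y => by
      refine Subgroup.subset_closure (Or.inl ⟨(φ.symm x, y - φ.symm x * x), ?_⟩)
      rw [← hσU]
      simp
    have hT' : ∀ k, σ (Suzuki.T hFc k) ∈ Subgroup.closure (gens φ 0 t) := fun k => by
      have hk : φ.symm (k : F) ≠ 0 := (map_ne_zero φ.symm).2 k.ne_zero
      refine Subgroup.subset_closure (Or.inr (Or.inl ⟨φ.symm k, hk, ?_⟩))
      rw [← hσT _ hk]
      simp
    have hW' : σ (Suzuki.W hFc) ∈ Subgroup.closure (gens φ 0 t) :=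
      Subgroup.subset_closure (Or.inr (Or.inr hσW))
    rcases Suzuki.decompose hFc hm g with ⟨x, y, k, rfl⟩ | ⟨x, y, x', y', k, rfl⟩
    · rw [map_mul]; exact mul_mem (hU' x y) (hT' k)
    · rw [map_mul, map_mul, map_mul]
      exact mul_mem (mul_mem (hU' x y) hW') (mul_mem (hU' x' y') (hT' k))
  haveI := Suzuki.isSimpleGroup hFc hm
  have hσinj : Function.Injective σ := injective_of_simple σ ⟨Suzuki.W hFc, fun h => by
    have h1 := congrArg (fun p : Equiv.Perm (Option (F × F)) => p none) h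
    rw [show σ (Suzuki.W hFc) none = t none from congrFun hσW none, hM.t_none] at h1
    exact Option.some_ne_none _ h1⟩
  exact ⟨F, i1, i2, m, hm, hFc, ⟨(MonoidHom.ofInjective hρinj).trans
    ((MulEquiv.subgroupCongr (hρ.trans hσrange.symm)).trans
      ((MonoidHom.ofInjective hσinj).symm.trans (RankOne.SzBridge.szEquiv hFc hm)))⟩⟩


end

end Cfsg.Agent.Suz27
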