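import Cfsg.Agent.Suz27.Gen
import Cfsg.Agent.Suz27.Cases
import Cfsg.Agent.Suz27.PsuCase
import Cfsg.Agent.Suz27.PslCase
import Cfsg.Agent.Suz27.SzCase

/-!
Assembly of Suzuki's split rank one theorem from its parts.
-/

set_option autoImplicit false

namespace Cfsg.Agent.Suz27

open MulAction RankOne

universe u v

/-- The shape theorem, as a proposition. -/
def ShapeStmt : Prop :=
  ∀ (G : Type u) [Group G] [Finite G] (Ω : Type v) [MulAction G Ω] (a : Ω) (t : G) (Q : Subgroup G),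
    R1 G Ω a t Q → Gen t Q → HasType Q (RInv a t Q) ∧
      (Nat.card Q = qOf Q ^ 2 → ∃ x ∈ Q, ∃ y ∈ Q, x * y ≠ y * x)

/-- The uniqueness theorem against a group in the lowest universe, as a proposition. -/
def UniqStmt : Prop :=
  ∀ (G : Type u) [Group G] [Finite G] (Ω : Type v) [MulAction G Ω] (a : Ω) (t : G) (Q : Subgroup G),
    R1 G Ω a t Q → Gen t Q → IsPGroup 2 Q → Nat.card Q = qOf Q ^ 3 → RInv a t Q →
    ∀ (G₂ : Type) [Group G₂] [Finite G₂] (Ω₂ : Type) [MulAction G₂ Ω₂] (a₂ : Ω₂) (t₂ : G₂)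
      (Q₂ : Subgroup G₂), R1 G₂ Ω₂ a₂ t₂ Q₂ → Gen t₂ Q₂ → IsPGroup 2 Q₂ →
        Nat.card Q₂ = qOf Q₂ ^ 3 → RInv a₂ t₂ Q₂ → qOf Q₂ = qOf Q → Nonempty (G ≃* G₂)

/-- A rank one group generated by `Q` and `t`. -/
theorem isR1Type_of_gen (hs : ShapeStmt.{u, v}) (hu : UniqStmt.{u, v}) {G : Type u} [Group G]
    [Finite G] {Ω : Type v} [MulAction G Ω] {a : Ω} {t : G} {Q : Subgroup G}
    (hR : R1 G Ω a t Q) (hG : Gen t Q) : IsR1Type G := by
  obtain ⟨hT, hna⟩ := hs G Ω a t Q hR hG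
  refine isR1Type_of_shapes hR hT (fun h => ?_) (fun h => sz_case hR hG hT h (hna h))
    (fun h hr n hn hq F _ _ hF => psu_case_of (Ω := Ω) (hu G Ω a t Q hR hG hT.1 h hr) hn hq F hF)
  obtain ⟨F, iF, iT, -, hn, he⟩ := psl_case hR hG hT h
  exact ⟨F, iF, iT, hn, he⟩

/-- Suzuki's theorem. -/
theorem classify_of (hs : ShapeStmt.{u, v}) (hu : UniqStmt.{u, v}) {G : Type u} [Group G]
    [Finite G] {Ω : Type v} [MulAction G Ω] {a : Ω} {t : G} {Q : Subgroup G}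
    (hR : R1 G Ω a t Q) : ∃ L : Subgroup G, L.Normal ∧ Odd L.index ∧ IsR1Type L := by
  obtain ⟨L, ht, hn, ho, -, hRL, hGL⟩ := exists_gen_subgroup hR
  exact ⟨L, hn, ho, isR1Type_of_gen hs hu hRL hGL⟩

/-- The simple case. -/
theorem isR1Type_of_simple (hs : ShapeStmt.{u, v}) (hu : UniqStmt.{u, v}) {G : Type u} [Group G]
    [Finite G] [IsSimpleGroup G] {Ω : Type v} [MulAction G Ω] {a : Ω} {t : G} {Q : Subgroup G}
    (hR : R1 G Ω a t Q) : IsR1Type G := by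
  obtain ⟨L, hn, ho, hL⟩ := classify_of hs hu hR
  have h2 : 2 ∣ Nat.card G :=
    (even_iff_two_dvd.1 hR.setup.even_card).trans (Subgroup.card_subgroup_dvd_card Q)
  obtain rfl := eq_top_of_odd_index h2 hn ho
  exact hL.congr Subgroup.topEquiv

end Cfsg.Agent.Suz27
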