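import Cfsg.Agent.Suz27.CharFamilyCoherence

/-!
The family lemma of part C (`PLAN.md`): bounds from the degrees and from the column of an
involution, for disjoint families of exceptional characters.
-/

set_option autoImplicit false

namespace Cfsg.Agent.Suz27

open MulAction RankOne
open scoped ComplexConjugate

universe u v w' x'

variable {G : Type u} {Ω : Type v} [Group G] [MulAction G Ω] {a : Ω} {t : G} {Q : Subgroup G}

lemma exists_int_at_invol {H : Type*} [Group H] [Finite H] (χ : Cfsg.IrrCharacter H) {u : H}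
    (hu : u * u = 1) : ∃ z : ℤ, (χ : H → ℂ) u = (z : ℂ) := by
  have := Fintype.ofFinite H
  obtain ⟨n, ρ, -, hρ⟩ := χ.2
  have hu2 : ρ u ^ 2 = 1 := by rw [← map_pow, pow_two, hu, map_one]
  obtain ⟨b, ω, hb⟩ := CharCore.exists_eigenbasis (ρ u) two_pos hu2
  have hω : ∀ i, ∃ z : ℤ, ω i = z := fun i => by
    rcases sq_eq_one_iff.1 (hb i).1 with h | h
    · exact ⟨1, by simp [h]⟩
    · exact ⟨-1, by simp [h]⟩
  choose z hz using hω
  refine ⟨∑ i, z i, ?_⟩
  rw [← hρ, Int.cast_sum, ← Finset.sum_congr rfl fun i _ => hz i]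
  exact CharCore.trace_eq_sum_of_eigenbasis b ω (ρ u) fun i => (hb i).2

/-- The number `X` of a family with constant `c`. -/
noncomputable def bigX (a : Ω) (t : G) (Q : Subgroup G) (e : ℕ) (c : ℤ) : ℤ :=
  2 * c + ((qOf Q : ℤ) - 2) * Nat.card (vGrp a t) * e

variable {ι : Type*} {e : ℕ} {ψ : ι → Cfsg.IrrCharacter Q} {w : ι → ℕ}

section
variable [Fintype G] (hR : R1 G Ω a t Q)
include hR

lemma R1.one_lt_card_twoStab : 1 < Nat.card (twoStab G a t) := by
  rw [hR.card_twoStab]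
  have := hR.four_le_q
  have hm : 0 < Nat.card (vGrp a t) := Nat.card_pos
  nlinarith [Nat.sub_add_cancel (show 1 ≤ qOf Q by omega)]

open Classical in
/-- The values at an involution of `Q` and the degree equation of one family. -/
theorem IsFamily.exists_data [Fintype ι] (H : IsFamily hR.setup e ψ w) {s : Q}
    (hs : s ∈ invQ Q) :
    ∃ (ε : ℤ) (χ : ι → Cfsg.IrrCharacter G) (d : ℕ) (c : ℤ), (ε = 1 ∨ ε = -1) ∧
      Function.Injective χ ∧
      (∀ i, (χ i : G → ℂ) ≠ 1) ∧
      (∀ i, (χ i : G → ℂ) 1 = ((w i * d : ℕ) : ℂ)) ∧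
      (∀ i j, indDiff ψ w i j = ((ε * w j : ℤ) : ℂ) • (χ i : G → ℂ) -
        ((ε * w i : ℤ) : ℂ) • (χ j : G → ℂ)) ∧
      (∀ i, (χ i : G → ℂ) (s : G) = ((ε * (w i : ℤ) *
        (if TrivZ (ψ i : Q → ℂ) then (e : ℤ) * Nat.card (twoStab G a t) + c
          else c - (e : ℤ) * Nat.card (vGrp a t)) : ℤ) : ℂ)) ∧
      ((Nat.card Q : ℤ) + 1) * ((qOf Q : ℤ) - 1) * (ε * bigX a t Q e c) =
        ((qOf Q : ℤ) - 2) * d ∧ 0 < d := by
  haveI := Fintype.ofFinite Q
  have hS := hR.setup
  obtain ⟨i₀, h₀, htriv⟩ := H.triv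
  obtain ⟨ε, χ, d, hε, hd, hinj, hdeg, hdiff⟩ := H.exists_coherent (G := G) h₀
  have hεε : (ε : ℂ) * ε = 1 := by rcases hε with rfl | rfl <;> norm_num
  have hε0 : (ε : ℂ) ≠ 0 := by rcases hε with rfl | rfl <;> norm_num
  have hsI := invQ_mem_involutionsIn hS hs
  obtain ⟨z₀, hz₀⟩ := exists_int_at_invol (χ i₀) hsI.2.2
  set k : ℕ := Nat.card (twoStab G a t) with hk
  set m : ℕ := Nat.card (vGrp a t) with hm
  set n : ℕ := Nat.card Q with hn
  have hkm : (k : ℂ) = ((qOf Q : ℂ) - 1) * m := by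
    rw [hk, hR.card_twoStab, Nat.cast_mul, Nat.cast_sub (by have := hR.four_le_q; omega),
      Nat.cast_one, hm]
  set c : ℤ := ε * z₀ - (e : ℤ) * k with hc
  have hval : ∀ p, (χ p : G → ℂ) (s : G) = ((ε * (w p : ℤ) *
      (if TrivZ (ψ p : Q → ℂ) then (e : ℤ) * k + c else c - (e : ℤ) * m) : ℤ) : ℂ) := by
    intro p
    have h1 := congrFun (hdiff i₀ p) (s : G)
    have h2 : indDiff ψ w i₀ p (s : G) =
        thetaFun hS ((w p : ℂ) • (ψ i₀ : Q → ℂ) - (w i₀ : ℂ) • (ψ p : Q → ℂ)) s := by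
      refine indFun_eq_theta hS (fun g h => ?_) (mem_invQ.1 hs).1
      simp only [Pi.sub_apply, Pi.smul_apply, CharCore.irr_isClassFunction (ψ i₀) g h,
        CharCore.irr_isClassFunction (ψ p) g h]
    rw [h2, thetaFun_sub, thetaFun_smul, thetaFun_smul] at h1
    simp only [Pi.sub_apply, Pi.smul_apply, smul_eq_mul, hR.thetaFun_invol_irr hs, if_pos htriv,
      H.deg, h₀, hz₀, ← hk, ← hm] at h1
    apply mul_left_cancel₀ hε0
    rw [hc]
    split_ifs at h1 ⊢ <;> push_cast at h1 ⊢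
    · linear_combination h1 - (w p : ℂ) * (ε * z₀) * hεε
    · linear_combination h1 - (w p : ℂ) * (ε * z₀) * hεε + (w p : ℂ) * (e * k + e * m) * hεε
  refine ⟨ε, χ, d, c, hε, hinj, fun p hp => ?_, hdeg, hdiff, hval, ?_, hd⟩
  · -- the trivial character is outside the family
    obtain ⟨l, hl, hlp⟩ := H.exists_base_ne p
    have hne : ∀ i, (ψ i : Q → ℂ) ≠ ((⟨1, CharCore.isIrrCharacter_one⟩ :
        Cfsg.IrrCharacter Q) : Q → ℂ) := by
      intro i hi
      haveI : Nontrivial (twoStab G a t) :=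
        Finite.one_lt_card_iff_nontrivial.1 hR.one_lt_card_twoStab
      obtain ⟨x, hx⟩ := exists_ne (1 : twoStab G a t)
      exact hx (H.free i x (by rw [hi]; rfl))
    have hzero : Cfsg.classInner (indDiff ψ w p l) (χ p : G → ℂ) = 0 := by
      rw [indDiff, CharInd.classInner_indFun_left Q _ (CharCore.irr_isClassFunction _),
        show (fun h : Q => (χ p : G → ℂ) (h : G)) = ((⟨1, CharCore.isIrrCharacter_one⟩ :
          Cfsg.IrrCharacter Q) : Q → ℂ) from by rw [hp]; rfl,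
        CharCore.classInner_sub_left, CharCore.classInner_smul_left, CharCore.classInner_smul_left,
        CharCore.classInner_irr_of_ne fun e => hne p (congrArg Subtype.val e),
        CharCore.classInner_irr_of_ne fun e => hne l (congrArg Subtype.val e)]
      ring
    rw [hdiff, CharCore.classInner_sub_left, CharCore.classInner_smul_left,
      CharCore.classInner_smul_left, CharCore.classInner_irr_self,
      CharCore.classInner_irr_of_ne (fun e => hlp (hinj e)), hl] at hzero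
    push_cast at hzero
    exact hε0 (by linear_combination hzero)
  · -- the degree equation
    obtain ⟨μ, hμ⟩ := H.nontriv
    have hP := hR.pair_indFun (f := (w μ : ℂ) • (ψ i₀ : Q → ℂ) - (w i₀ : ℂ) • (ψ μ : Q → ℂ))
      (by simp [H.deg, h₀]; ring) (fun z hz => by
        obtain ⟨z₁, h1⟩ := exists_int_at_invol (ψ i₀) (mem_invQ.1 hz).2
        obtain ⟨z₂, h2⟩ := exists_int_at_invol (ψ μ) (mem_invQ.1 hz).2
        simp [h1, h2])
    rw [show Cfsg.indFun Q ((w μ : ℂ) • (ψ i₀ : Q → ℂ) - (w i₀ : ℂ) • (ψ μ : Q → ℂ)) =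
      indDiff ψ w i₀ μ from rfl, hdiff, CharCore.classInner_sub_right,
      CharCore.classInner_smul_right, CharCore.classInner_smul_right, map_intCast, map_intCast]
      at hP
    simp only [Pi.sub_apply, Pi.smul_apply, smul_eq_mul, Finset.sum_sub_distrib, ← Finset.mul_sum,
      hR.sum_invQ_irr, if_pos htriv, if_neg hμ, H.deg, h₀] at hP
    have e0 := hR.classInner_pair hsI (χ i₀)
    have eμ := hR.classInner_pair hsI (χ μ)
    rw [hdeg, hval, if_pos htriv, h₀] at e0
    rw [hdeg, hval, if_neg hμ] at eμ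
    rw [Nat.cast_sub (show 1 ≤ qOf Q by have := hR.four_le_q; omega)] at hP e0 eμ
    rw [← hn, ← hm] at e0 eμ
    rw [← hn] at hP
    push_cast at hP e0 eμ
    have hwμ : (w μ : ℂ) ≠ 0 := Nat.cast_ne_zero.2 (by have := H.one_le μ; omega)
    have he : (e : ℂ) ≠ 0 := Nat.cast_ne_zero.2 (H.e_pos μ).ne'
    have hq0 : (qOf Q : ℂ) ≠ 0 := Nat.cast_ne_zero.2 (by have := hR.four_le_q; omega)
    have hm0 : (m : ℂ) ≠ 0 := Nat.cast_ne_zero.2 Nat.card_pos.ne'
    have key : ((((n : ℤ) + 1) * ((qOf Q : ℤ) - 1) * (ε * bigX a t Q e c) : ℤ) : ℂ) =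
        ((((qOf Q : ℤ) - 2) * d : ℤ) : ℂ) := by
      rw [bigX, ← hm]
      apply mul_left_cancel₀
        (mul_ne_zero (mul_ne_zero (pow_ne_zero 2 hwμ) he) (mul_ne_zero hq0 hm0))
      push_cast
      linear_combination ((w μ : ℂ) * d * m) * hP - ε * (w μ : ℂ) ^ 2 * e0 + ε * eμ -
        ((n : ℂ) + 1) * ((qOf Q : ℂ) - 1) * ε * (w μ : ℂ) ^ 2 *
          ((e * k + c) ^ 2 - (c - e * m) ^ 2) * hεε -
        ((n : ℂ) + 1) * ((qOf Q : ℂ) - 1) * ε * (w μ : ℂ) ^ 2 * e *
          (2 * c + e * k + ((qOf Q : ℂ) - 1) * e * m) * hkm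
    exact_mod_cast key

end

open Classical in
/-- The bounds for a set of pairwise disjoint families. -/
theorem families_bounds [Finite G] (hR : R1 G Ω a t Q) {J : Type w'} [Fintype J] {ι : J → Type x'}
    [∀ j, Fintype (ι j)] (e : J → ℕ) (ψ : ∀ j, ι j → Cfsg.IrrCharacter Q) (w : ∀ j, ι j → ℕ)
    (hfam : ∀ j, IsFamily hR.setup (e j) (ψ j) (w j))
    (hsep : ∀ j j', j ≠ j' → ∀ i i', ¬ Rel hR.setup (ψ j i : Q → ℂ) (ψ j' i' : Q → ℂ)) :
    ∃ c : J → ℤ,
      (∀ j, 2 * c j + ((qOf Q : ℤ) - 2) * Nat.card (vGrp a t) * e j ≠ 0 ∧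
        Even (2 * c j + ((qOf Q : ℤ) - 2) * Nat.card (vGrp a t) * e j)) ∧
      ((Nat.card Q : ℤ) + 1) * ((qOf Q : ℤ) - 1) *
          ∑ j, (∑ i, (w j i : ℤ) ^ 2) *
            (2 * c j + ((qOf Q : ℤ) - 2) * Nat.card (vGrp a t) * e j) ^ 2 <
        ((qOf Q : ℤ) - 2) ^ 2 * Nat.card Q * Nat.card (vGrp a t) ∧
      ∑ j, ∑ i, (w j i : ℤ) ^ 2 *
          (if TrivZ (ψ j i : Q → ℂ) then ((e j : ℤ) * Nat.card (twoStab G a t) + c j) ^ 2
            else (c j - (e j : ℤ) * Nat.card (vGrp a t)) ^ 2) <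
        (Nat.card Q : ℤ) * Nat.card (vGrp a t) := by
  haveI := Fintype.ofFinite G
  obtain ⟨s, hs⟩ := hR.exists_invQ
  have hsI := invQ_mem_involutionsIn hR.setup hs
  choose ε χ d c hε hinj hne1 hdeg hdiff hval hkey hd using
    fun j => (hfam j).exists_data hR hs
  refine ⟨c, fun j => ⟨fun h => ?_, ?_⟩, ?_, ?_⟩
  · have h' := hkey j
    rw [bigX, h, mul_zero, mul_zero] at h'
    have h4 : (4 : ℤ) ≤ qOf Q := by exact_mod_cast hR.four_le_q
    have hd' : (0 : ℤ) < d j := by exact_mod_cast hd j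
    nlinarith
  · obtain ⟨r, hr⟩ := hR.two_dvd_q
    refine ⟨c j + ((r : ℤ) - 1) * Nat.card (vGrp a t) * e j, ?_⟩
    rw [hr]; push_cast; ring
  all_goals
    -- distinct members of the families give distinct characters, none of them trivial
    have hinjS : Function.Injective fun p : Σ j, ι j => χ p.1 p.2 := by
      rintro ⟨j, i⟩ ⟨j', i'⟩ h
      simp only at h
      by_cases hj : j = j'
      · subst hj; rw [hinj j h]
      exfalso
      obtain ⟨k, hk, hki⟩ := (hfam j).exists_base_ne i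
      obtain ⟨l, hl, hli⟩ := (hfam j').exists_base_ne i'
      haveI := Fintype.ofFinite Q
      have h0 : Cfsg.classInner (indDiff (G := G) (ψ j) (w j) i k)
          (indDiff (G := G) (ψ j') (w j') i' l) = 0 := by
        rw [indDiff, indDiff, classInner_indFun_diff hR.setup _ _ _ _ ((hfam j').free i')
          ((hfam j').free l) _ _ _ _ (by rw [(hfam j').deg, (hfam j').deg]; push_cast; ring),
          if_neg (hsep j' j (Ne.symm hj) i' i), if_neg (hsep j' j (Ne.symm hj) l i),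
          if_neg (hsep j' j (Ne.symm hj) i' k), if_neg (hsep j' j (Ne.symm hj) l k)]
        ring
      rw [hdiff, hdiff, classInner_two, if_pos h,
        if_neg (fun e : χ j i = χ j' l => hli (hinj j' (e.symm.trans h))),
        if_neg (fun e : χ j k = χ j' i' => hki (hinj j (e.trans h.symm))), hk, hl,
        Int.cast_eq_zero] at h0
      have h1 : (1 : ℤ) ≤ w j i := by exact_mod_cast (hfam j).one_le i
      have h2 : (1 : ℤ) ≤ w j' i' := by exact_mod_cast (hfam j').one_le i'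
      rcases hε j with e1 | e1 <;> rcases hε j' with e2 | e2 <;> rw [e1, e2] at h0 <;>
        split_ifs at h0 <;> push_cast at h0 <;> nlinarith
    let one : Cfsg.IrrCharacter G := ⟨1, CharCore.isIrrCharacter_one⟩
    have hone : one ∉ Finset.univ.image fun p : Σ j, ι j => χ p.1 p.2 := by
      intro h
      obtain ⟨p, -, hp⟩ := Finset.mem_image.1 h
      exact hne1 p.1 p.2 (congrArg Subtype.val hp)
  · choose dg hdg0 hdg using fun ξ : Cfsg.IrrCharacter G => CharCore.IsIrrCharacter.exists_degree ξ.2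
    have hall : ∑ ξ : Cfsg.IrrCharacter G, (dg ξ : ℤ) ^ 2 = (Nat.card G : ℤ) := by
      have h := CharCore.sum_degree_sq (G := G)
      simp only [hdg] at h
      exact_mod_cast h
    have hle := Finset.sum_le_univ_sum_of_nonneg
      (s := insert one (Finset.univ.image fun p : Σ j, ι j => χ p.1 p.2))
      (f := fun ξ => (dg ξ : ℤ) ^ 2) fun ξ => sq_nonneg _
    rw [Finset.sum_insert hone, Finset.sum_image fun p _ p' _ h => hinjS h, hall,
      Fintype.sum_sigma] at hle
    have hdχ : ∀ j i, (dg (χ j i) : ℤ) = (w j i : ℤ) * d j := by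
      intro j i
      have h := hdeg j i
      rw [hdg] at h
      exact_mod_cast h
    simp only [hdχ, mul_pow, ← Finset.sum_mul] at hle
    have hd1 : (dg one : ℤ) = 1 := by
      have h : ((dg one : ℕ) : ℂ) = ((1 : ℕ) : ℂ) := by rw [← hdg]; simp [one]
      exact_mod_cast h
    rw [hd1, hR.card_G] at hle
    push_cast [Nat.cast_sub (show 1 ≤ qOf Q by have := hR.four_le_q; omega)] at hle
    set A : ℤ := ((Nat.card Q : ℤ) + 1) * ((qOf Q : ℤ) - 1) with hA
    have hA0 : 0 < A := by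
      have h4 : (4 : ℤ) ≤ qOf Q := by exact_mod_cast hR.four_le_q
      rw [hA]; nlinarith
    have hsq : ∀ j, A ^ 2 * (2 * c j + ((qOf Q : ℤ) - 2) * Nat.card (vGrp a t) * e j) ^ 2 =
        ((qOf Q : ℤ) - 2) ^ 2 * (d j : ℤ) ^ 2 := by
      intro j
      rw [← mul_pow ((qOf Q : ℤ) - 2), ← hkey j, bigX]
      rcases hε j with e1 | e1 <;> rw [e1] <;> ring
    refine lt_of_mul_lt_mul_left ?_ hA0.le
    have h4 : (4 : ℤ) ≤ qOf Q := by exact_mod_cast hR.four_le_q
    calc A * (A * ∑ j, (∑ i, (w j i : ℤ) ^ 2) *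
          (2 * c j + ((qOf Q : ℤ) - 2) * Nat.card (vGrp a t) * e j) ^ 2)
        = ((qOf Q : ℤ) - 2) ^ 2 * ∑ j, (∑ i, (w j i : ℤ) ^ 2) * (d j : ℤ) ^ 2 := by
          rw [← mul_assoc, Finset.mul_sum, Finset.mul_sum]
          exact Finset.sum_congr rfl fun j _ => by linear_combination (∑ i, (w j i : ℤ) ^ 2) * hsq j
      _ < ((qOf Q : ℤ) - 2) ^ 2 * (Nat.card Q * (((qOf Q : ℤ) - 1) * Nat.card (vGrp a t)) *
            ((Nat.card Q : ℤ) + 1)) := by
          refine mul_lt_mul_of_pos_left (by linarith) (pow_pos (by linarith) 2)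
      _ = _ := by rw [hA]; ring
  · choose val hv using fun ξ : Cfsg.IrrCharacter G => exists_int_at_invol ξ hsI.2.2
    have hall : ∑ ξ : Cfsg.IrrCharacter G, val ξ ^ 2 =
        (Nat.card Q : ℤ) * Nat.card (vGrp a t) := by
      have h := CharCore.sum_apply_mul_conj (G := G) (s : G) (s : G)
      rw [if_pos (IsConj.refl _), hR.card_centralizer_invol hsI] at h
      simp only [hv, map_intCast, ← pow_two] at h
      exact_mod_cast h
    have hle := Finset.sum_le_univ_sum_of_nonneg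
      (s := insert one (Finset.univ.image fun p : Σ j, ι j => χ p.1 p.2))
      (f := fun ξ => val ξ ^ 2) fun ξ => sq_nonneg _
    rw [Finset.sum_insert hone, Finset.sum_image fun p _ p' _ h => hinjS h, hall,
      Fintype.sum_sigma] at hle
    have hone' : val one = 1 := by
      have h : ((val one : ℤ) : ℂ) = ((1 : ℤ) : ℂ) := by rw [← hv]; simp [one]
      exact_mod_cast h
    refine lt_of_lt_of_le (lt_add_of_pos_left _ (show (0 : ℤ) < val one ^ 2 by rw [hone']; norm_num))
      (le_trans (add_le_add_right (le_of_eq ?_) _) hle)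
    refine Finset.sum_congr rfl fun j _ => Finset.sum_congr rfl fun i _ => ?_
    have h := hv (χ j i)
    rw [hval j i, Int.cast_inj] at h
    rw [← h]
    rcases hε j with e1 | e1 <;> rw [e1] <;> split_ifs <;> ring

end Cfsg.Agent.Suz27
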