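import Cfsg.Agent.Suz27.Defs
import Cfsg.Agent.Lib.RankOne.ClassPairs
import Cfsg.Agent.Lib.CharInd.Basic

/-!
Characters of `Q` under the action of `D`: families of exceptional characters (`PLAN.md`, part C),
vocabulary and elementary counting.
-/

set_option autoImplicit false

namespace Cfsg.Agent.Suz27

open MulAction RankOne
open scoped ComplexConjugate

universe u v

variable {G : Type u} {Ω : Type v} [Group G] [MulAction G Ω] {a : Ω} {t : G} {Q : Subgroup G}

/-- Conjugation `x ↦ d⁻¹ x d` of `Q` by an element of `D`. -/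
def conjHom (hS : Cfsg.IsRankOneSetup G Ω a t Q) (d : twoStab G a t) : Q →* Q where
  toFun x := ⟨(d : G)⁻¹ * x * d, by
    simpa using hS.conj_mem (d : G)⁻¹ (inv_mem (Subgroup.mem_inf.1 d.2).1) x x.2⟩
  map_one' := Subtype.ext (by simp)
  map_mul' x y := Subtype.ext (by simp [mul_assoc])

/-- The conjugate of a function on `Q` by an element of `D`. -/
def twist (hS : Cfsg.IsRankOneSetup G Ω a t Q) (d : twoStab G a t) (f : Q → ℂ) : Q → ℂ :=
  fun x => f (conjHom hS d x)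

/-- Only the identity of `D` fixes `f`. -/
def DFree (hS : Cfsg.IsRankOneSetup G Ω a t Q) (f : Q → ℂ) : Prop :=
  ∀ d, twist hS d f = f → d = 1

/-- `f` and `f'` lie in one `D`-orbit. -/
def Rel (hS : Cfsg.IsRankOneSetup G Ω a t Q) (f f' : Q → ℂ) : Prop := ∃ d, twist hS d f = f'

/-- `f` is constant `f 1` on the elements of square one. -/
def TrivZ (f : Q → ℂ) : Prop := ∀ z : Q, z * z = 1 → f z = f 1

/-- The input of the family lemma: `D`-free irreducible characters of `Q` of degrees `e * w i`, in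
distinct `D`-orbits, with at least three of degree `e`, the other weights below half their number,
one of degree `e` trivial on `Z` and one member not trivial on `Z`. -/
structure IsFamily (hS : Cfsg.IsRankOneSetup G Ω a t Q) {ι : Type*} (e : ℕ)
    (ψ : ι → Cfsg.IrrCharacter Q) (w : ι → ℕ) : Prop where
  deg : ∀ i, (ψ i : Q → ℂ) 1 = ((e * w i : ℕ) : ℂ)
  one_le : ∀ i, 1 ≤ w i
  free : ∀ i, DFree hS (ψ i : Q → ℂ)
  orbit : ∀ i j, i ≠ j → ¬ Rel hS (ψ i : Q → ℂ) (ψ j : Q → ℂ)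
  bound : ∀ i, w i ≠ 1 → 2 * w i + 1 < Nat.card {j // w j = 1}
  three : 3 ≤ Nat.card {j // w j = 1}
  triv : ∃ i, w i = 1 ∧ TrivZ (ψ i : Q → ℂ)
  nontriv : ∃ i, ¬ TrivZ (ψ i : Q → ℂ)

section
variable (hS : Cfsg.IsRankOneSetup G Ω a t Q)

@[simp] lemma conjHom_coe (d : twoStab G a t) (x : Q) :
    ((conjHom hS d x : Q) : G) = (d : G)⁻¹ * x * d := rfl

lemma conjHom_conjHom (c d : twoStab G a t) (x : Q) :
    conjHom hS c (conjHom hS d x) = conjHom hS (d * c) x := Subtype.ext (by simp [mul_assoc])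

lemma conjHom_one (x : Q) : conjHom hS 1 x = x := Subtype.ext (by simp)

lemma conjHom_surjective (d : twoStab G a t) : Function.Surjective (conjHom hS d) := fun x =>
  ⟨conjHom hS d⁻¹ x, by rw [conjHom_conjHom, inv_mul_cancel, conjHom_one]⟩

lemma twist_twist (c d : twoStab G a t) (f : Q → ℂ) :
    twist hS d (twist hS c f) = twist hS (d * c) f :=
  funext fun x => congrArg f (conjHom_conjHom hS c d x)

lemma twist_one (f : Q → ℂ) : twist hS 1 f = f := funext fun x => congrArg f (conjHom_one hS x)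

lemma Rel.refl (f : Q → ℂ) : Rel hS f f := ⟨1, twist_one hS f⟩

variable {hS}

lemma Rel.symm {f f' : Q → ℂ} (h : Rel hS f f') : Rel hS f' f := by
  obtain ⟨d, rfl⟩ := h
  exact ⟨d⁻¹, by rw [twist_twist, inv_mul_cancel, twist_one]⟩

lemma Rel.trans {f f' f'' : Q → ℂ} (h : Rel hS f f') (h' : Rel hS f' f'') : Rel hS f f'' := by
  obtain ⟨c, rfl⟩ := h
  obtain ⟨d, rfl⟩ := h'
  exact ⟨d * c, (twist_twist hS c d f).symm⟩

lemma DFree.inj {f : Q → ℂ} (hf : DFree hS f) {c d : twoStab G a t}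
    (h : twist hS c f = twist hS d f) : c = d := by
  refine (inv_mul_eq_one.1 (hf (d⁻¹ * c) ?_)).symm
  rw [← twist_twist, h, twist_twist, inv_mul_cancel, twist_one]

lemma isIrr_twist [Finite G] (hS : Cfsg.IsRankOneSetup G Ω a t Q) (d : twoStab G a t)
    (ψ : Cfsg.IrrCharacter Q) : Cfsg.IsIrrCharacter Q (twist hS d (ψ : Q → ℂ)) :=
  CharCore.isIrrCharacter_comp_surjective ψ.2 (conjHom hS d) (conjHom_surjective hS d)

end

/-! ### Counting -/

section
variable [Finite G] (hR : R1 G Ω a t Q)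
include hR

lemma R1.sq_one_central {z x : G} (hz : z ∈ Q) (hzz : z * z = 1) (hx : x ∈ Q) :
    z * x = x * z := by
  by_cases h1 : z = 1
  · rw [h1, one_mul, mul_one]
  haveI := hR.faithful
  exact invol_central hR.setup hR.rank2 ⟨h1, hzz⟩ (Q_fix_a hR.setup hz) hx

/-- The elements of square one of `Q`. -/
def R1.zGrp : Subgroup G where
  carrier := {x | x ∈ Q ∧ x * x = 1}
  one_mem' := ⟨one_mem _, one_mul 1⟩
  mul_mem' {x y} hx hy := ⟨mul_mem hx.1 hy.1, by
    calc x * y * (x * y) = x * (y * x) * y := by group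
      _ = 1 := by rw [hR.sq_one_central hy.1 hy.2 hx.1, ← mul_assoc, hx.2, one_mul, hy.2]⟩
  inv_mem' {x} hx := ⟨inv_mem hx.1, by rw [← mul_inv_rev, hx.2, inv_one]⟩

lemma R1.card_zGrp : Nat.card hR.zGrp = qOf Q := rfl

lemma R1.qOf_eq : qOf Q = Nat.card (Cfsg.involutionsIn (stabilizer G a : Set G)) + 1 := by
  classical
  have h : {x : G | x ∈ Q ∧ x * x = 1} =
      insert 1 (Cfsg.involutionsIn (stabilizer G a : Set G)) := by
    ext x
    by_cases hx : x = 1
    · simp [hx]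
    · simp only [Set.mem_setOf_eq, Set.mem_insert_iff, hx, false_or]
      exact ⟨fun h => ⟨hR.setup.le h.1, hx, h.2⟩,
        fun h => ⟨invol_mem_Q hR.setup ⟨hx, h.2.2⟩ h.1, h.2.2⟩⟩
  rw [qOf, show Nat.card {x : G // x ∈ Q ∧ x * x = 1} = {x : G | x ∈ Q ∧ x * x = 1}.ncard from
    Nat.card_coe_set_eq {x : G | x ∈ Q ∧ x * x = 1}, h,
    Set.ncard_insert_of_notMem (fun e => e.2.1 rfl) (Set.toFinite _), Nat.card_coe_set_eq]

lemma R1.two_dvd_q : 2 ∣ qOf Q := by
  obtain ⟨s, hs, -⟩ := exists_two_invol hR.setup hR.rank2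
  have hsz : s ∈ hR.zGrp := ⟨invol_mem_Q hR.setup ⟨hs.2.1, hs.2.2⟩ hs.1, hs.2.2⟩
  have h2 : orderOf (⟨s, hsz⟩ : hR.zGrp) = 2 := by
    rw [← Subgroup.orderOf_coe]
    exact orderOf_eq_prime (by rw [pow_two]; exact hs.2.2) hs.2.1
  rw [← hR.card_zGrp, ← h2]
  exact orderOf_dvd_natCard _

lemma R1.four_le_q : 4 ≤ qOf Q := by
  obtain ⟨s, hs, s', hs', hne, -⟩ := exists_two_invol hR.setup hR.rank2
  have h2 : 2 ≤ Nat.card (Cfsg.involutionsIn (stabilizer G a : Set G)) := by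
    rw [Nat.card_coe_set_eq]
    calc 2 = ({s, s'} : Set G).ncard := (Set.ncard_pair hne).symm
      _ ≤ _ := Set.ncard_le_ncard (by simp [Set.insert_subset_iff, hs, hs']) (Set.toFinite _)
  obtain ⟨r, hr⟩ := hR.two_dvd_q
  have := hR.qOf_eq
  omega

lemma R1.card_twoStab : Nat.card (twoStab G a t) = (qOf Q - 1) * Nat.card (vGrp a t) := by
  rw [RankOne.card_twoStab hR.setup, card_inverted hR.setup, hR.qOf_eq, Nat.add_sub_cancel,
    mul_comm]

lemma R1.card_stab_centralizer {s : G} (hs : s ∈ Cfsg.involutionsIn (stabilizer G a : Set G)) :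
    Nat.card (twoStab G a t ⊓ Subgroup.centralizer {s} : Subgroup G) =
      Nat.card (vGrp a t) := by
  have h := card_twoStab_orbit hR.setup hs
  rw [hR.card_twoStab, hR.qOf_eq, Nat.add_sub_cancel] at h
  exact (Nat.eq_of_mul_eq_mul_left (Nat.card_pos_iff.2 ⟨⟨⟨s, hs⟩⟩, inferInstance⟩) h).symm

lemma R1.card_centralizer_invol {s : G}
    (hs : s ∈ Cfsg.involutionsIn (stabilizer G a : Set G)) :
    Nat.card (Subgroup.centralizer ({s} : Set G)) = Nat.card Q * Nat.card (vGrp a t) := by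
  have hS := hR.setup
  have hsi : IsInv s := ⟨hs.2.1, hs.2.2⟩
  have hsQ := invol_mem_Q hS hsi hs.1
  rw [← hR.card_stab_centralizer hs, ← Nat.card_prod]
  refine (Nat.card_congr (Equiv.ofBijective
    (fun p : Q × (twoStab G a t ⊓ Subgroup.centralizer {s} : Subgroup G) =>
      (⟨p.1 * p.2, mul_mem (Subgroup.mem_centralizer_singleton_iff.2
        (hR.sq_one_central hsQ hs.2.2 p.1.2).symm) p.2.2.2⟩ : Subgroup.centralizer ({s} : Set G)))
    ⟨?_, ?_⟩)).symm
  · rintro ⟨x, d⟩ ⟨x', d'⟩ h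
    obtain ⟨h1, h2⟩ := decomp_unique hS x.2 d.2.1 x'.2 d'.2.1 (congrArg Subtype.val h)
    exact Prod.ext (Subtype.ext h1) (Subtype.ext h2)
  · rintro ⟨g, hg⟩
    have hgs := Subgroup.mem_centralizer_singleton_iff.1 hg
    obtain ⟨x, hx, d, hd, rfl⟩ := exists_decomp hS (comm_fix hS hsi hs.1 hgs.symm)
    refine ⟨(⟨x, hx⟩, ⟨d, hd, ?_⟩), rfl⟩
    refine Subgroup.mem_centralizer_singleton_iff.2 (mul_left_cancel (a := x) ?_)
    rw [← mul_assoc, hgs, ← mul_assoc, hR.sq_one_central hsQ hs.2.2 hx]; group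

lemma R1.card_G :
    Nat.card G = Nat.card Q * ((qOf Q - 1) * Nat.card (vGrp a t)) * (Nat.card Q + 1) := by
  rw [card_group hR.setup, hR.card_twoStab]

/-- A central element of square one acts as a sign in each irreducible character. -/
lemma R1.irr_mul_sq_one (ψ : Cfsg.IrrCharacter Q) {z : Q} (hz : z * z = 1) :
    ∃ ω : ℂ, (ω = 1 ∨ ω = -1) ∧ ∀ x : Q, (ψ : Q → ℂ) (x * z) = ω * (ψ : Q → ℂ) x := by
  obtain ⟨r, ρ, hρ, hψ⟩ := ψ.2
  have hzc : z ∈ Subgroup.center Q := Subgroup.mem_center_iff.2 fun x => Subtype.ext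
    (hR.sq_one_central z.2 (congrArg Subtype.val hz) x.2).symm
  obtain ⟨c, hc⟩ := CharClifford.exists_scalar_of_mem_center ρ hzc
  have hx : ∀ x : Q, (ψ : Q → ℂ) (x * z) = c * (ψ : Q → ℂ) x := by
    intro x
    rw [← hψ]
    show LinearMap.trace ℂ (Fin r → ℂ) (ρ (x * z)) = c * LinearMap.trace ℂ (Fin r → ℂ) (ρ x)
    rw [map_mul, hc, mul_smul_comm, mul_one, map_smul, smul_eq_mul]
  refine ⟨c, ?_, hx⟩
  have h1 := hx z
  rw [hz] at h1
  have h2 := hx 1
  rw [one_mul] at h2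
  rw [h2, ← mul_assoc] at h1
  have h3 : (c * c - 1) * (ψ : Q → ℂ) 1 = 0 := by linear_combination -h1
  exact mul_self_eq_one_iff.1
    (sub_eq_zero.1 ((mul_eq_zero.1 h3).resolve_right (CharCore.irr_apply_one_ne_zero ψ)))

end

end Cfsg.Agent.Suz27
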