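import Cfsg.Agent.Suz27.CharFamilyInduced
import Cfsg.Agent.Lib.CharInd.Char

/-!
Coherence of a family of exceptional characters (`PLAN.md`, part C).
-/

set_option autoImplicit false

namespace Cfsg.Agent.Suz27

open MulAction RankOne
open scoped ComplexConjugate

universe u v

variable {G : Type u} {Ω : Type v} [Group G] [MulAction G Ω] {a : Ω} {t : G} {Q : Subgroup G}
variable {ι : Type*} {e : ℕ} {ψ : ι → Cfsg.IrrCharacter Q} {w : ι → ℕ}

/-- The induced difference `w_j ψ_i - w_i ψ_j`. -/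
noncomputable def indDiff [Fintype G] (ψ : ι → Cfsg.IrrCharacter Q) (w : ι → ℕ) (i j : ι) :
    G → ℂ :=
  Cfsg.indFun Q ((w j : ℂ) • (ψ i : Q → ℂ) - (w i : ℂ) • (ψ j : Q → ℂ))

open Classical in
lemma classInner_two [Fintype G] (A B C E : ℤ) (x y z u : Cfsg.IrrCharacter G) :
    Cfsg.classInner ((A : ℂ) • (x : G → ℂ) - (B : ℂ) • (y : G → ℂ))
        ((C : ℂ) • (z : G → ℂ) - (E : ℂ) • (u : G → ℂ)) =
      ((A * C * (if x = z then 1 else 0) - A * E * (if x = u then 1 else 0) -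
        B * C * (if y = z then 1 else 0) + B * E * (if y = u then 1 else 0) : ℤ) : ℂ) := by
  simp only [CharCore.classInner_sub_left, CharCore.classInner_sub_right,
    CharCore.classInner_smul_left, CharCore.classInner_smul_right, CharCore.classInner_irr,
    map_intCast]
  push_cast
  ring

lemma coef_eq_zero {N x v R ε : ℤ} (hε : ε = 1 ∨ ε = -1) (hv : 0 ≤ v) (hb : 2 * v + 2 ≤ N)
    (hR : 0 ≤ R) (h : N * (x * x) + 2 * (ε * v) * x + v * v + R = v * v + 1) : x = 0 := by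
  by_contra hx
  have h1 : 1 ≤ |x| := abs_pos.2 hx
  have h2 : |x| * |x| = x * x := abs_mul_abs_self x
  have h3 : -(2 * v * |x|) ≤ 2 * (ε * v) * x := by
    rcases hε with rfl | rfl
    · nlinarith [neg_abs_le x]
    · nlinarith [le_abs_self x]
  have h4 : (2 * v + 2) * (|x| * |x|) ≤ N * (|x| * |x|) :=
    mul_le_mul_of_nonneg_right hb (mul_self_nonneg _)
  rw [h2] at h4
  have h5 : v * |x| ≤ v * (x * x) := by
    rw [← h2]; exact mul_le_mul_of_nonneg_left (by nlinarith) hv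
  nlinarith

section
variable {hS : Cfsg.IsRankOneSetup G Ω a t Q} (H : IsFamily hS e ψ w)
include H

lemma IsFamily.e_pos (i : ι) [Finite G] : 0 < e := by
  refine Nat.pos_of_ne_zero fun h => CharCore.irr_apply_one_ne_zero (ψ i) ?_
  rw [H.deg, h, zero_mul, Nat.cast_zero]

lemma IsFamily.rel_iff (i j : ι) : Rel hS (ψ i : Q → ℂ) (ψ j : Q → ℂ) ↔ i = j :=
  ⟨fun h => by_contra fun hne => H.orbit i j hne h, fun h => h ▸ Rel.refl hS _⟩

open Classical in
lemma IsFamily.inner_indDiff [Fintype G] (i j k l : ι) :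
    Cfsg.classInner (indDiff ψ w i j) (indDiff ψ w k l) =
      (((w j : ℤ) * w l * (if k = i then 1 else 0) - (w j : ℤ) * w k * (if l = i then 1 else 0) -
        (w i : ℤ) * w l * (if k = j then 1 else 0) +
        (w i : ℤ) * w k * (if l = j then 1 else 0) : ℤ) : ℂ) := by
  haveI := Fintype.ofFinite Q
  rw [indDiff, indDiff, classInner_indFun_diff hS _ _ _ _ (H.free k) (H.free l) _ _ _ _
    (by rw [H.deg, H.deg]; push_cast; ring)]
  simp only [H.rel_iff]
  push_cast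
  ring

lemma IsFamily.indDiff_one [Fintype G] (i j : ι) : indDiff ψ w i j (1 : G) = 0 := by
  rw [indDiff, CharInd.indFun_apply_one, Pi.sub_apply, Pi.smul_apply, Pi.smul_apply, H.deg, H.deg]
  simp only [smul_eq_mul]
  push_cast
  ring

lemma IsFamily.exists_base_ne [Finite ι] (i : ι) : ∃ j, w j = 1 ∧ j ≠ i := by
  classical
  haveI := Fintype.ofFinite ι
  by_contra hcon
  push Not at hcon
  have h : Nat.card {j // w j = 1} ≤ 1 := by
    rw [Finite.card_le_one_iff_subsingleton]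
    exact ⟨fun x y => Subtype.ext ((hcon x x.2).trans (hcon y y.2).symm)⟩
  have := H.three
  omega

omit H in
lemma indDiff_generalized [Fintype G] (i j : ι) :
    Cfsg.IsGeneralizedCharacter G (indDiff ψ w i j) :=
  ⟨(w j : ℂ) • Cfsg.indFun Q (ψ i : Q → ℂ), (w i : ℂ) • Cfsg.indFun Q (ψ j : Q → ℂ),
    CharCore.isCharacter_natCast_smul
      (CharInd.isCharacter_indFun Q (CharCore.irr_isCharacter (ψ i))) _,
    CharCore.isCharacter_natCast_smul
      (CharInd.isCharacter_indFun Q (CharCore.irr_isCharacter (ψ j))) _,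
    by rw [indDiff, CharInd.indFun_sub, CharInd.indFun_smul, CharInd.indFun_smul]⟩

/-- Coherence of the members of degree `e`. -/
lemma IsFamily.exists_base_coherent [Fintype G] [Fintype ι] {i₀ : ι} (h₀ : w i₀ = 1) :
    ∃ (ε : ℤ) (χ : ι → Cfsg.IrrCharacter G), (ε = 1 ∨ ε = -1) ∧
      (∀ i, w i = 1 → indDiff ψ w i₀ i =
        (ε : ℂ) • (χ i₀ : G → ℂ) - (ε : ℂ) • (χ i : G → ℂ)) ∧
      ∀ i j, w i = 1 → w j = 1 → χ i = χ j → i = j := by
  classical
  have inner1 : ∀ {i j}, w i = 1 → w j = 1 → i ≠ i₀ → j ≠ i₀ → i ≠ j →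
      Cfsg.classInner (indDiff ψ w i₀ i) (indDiff ψ w i₀ j) = ((1 : ℤ) : ℂ) := by
    intro i j hi hj hi0 hj0 hij
    rw [H.inner_indDiff, h₀, hi, hj, if_pos rfl, if_neg hj0, if_neg (Ne.symm hi0),
      if_neg (Ne.symm hij)]
    norm_num
  have diff : ∀ i, w i = 1 → i ≠ i₀ → ∃ A B : Cfsg.IrrCharacter G, A ≠ B ∧
      indDiff ψ w i₀ i = (A : G → ℂ) - (B : G → ℂ) := by
    intro i hi hi0
    refine exists_irr_diff (indDiff_generalized _ _) (H.indDiff_one _ _) ?_
    rw [H.inner_indDiff, h₀, hi, if_pos rfl, if_neg hi0, if_neg (Ne.symm hi0), if_pos rfl]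
    norm_num
  obtain ⟨i₁, hi₁, hi₁0⟩ := H.exists_base_ne i₀
  obtain ⟨i₂, hi₂, hi₂0, hi₁₂⟩ : ∃ j, w j = 1 ∧ j ≠ i₀ ∧ i₁ ≠ j := by
    by_contra hcon
    push Not at hcon
    have h : Nat.card {j // w j = 1} ≤ 2 := by
      rw [Nat.card_eq_fintype_card, Fintype.card_subtype]
      refine (Finset.card_le_card (t := {i₀, i₁}) fun x hx => ?_).trans
        ((Finset.card_insert_le _ _).trans (by simp))
      rw [Finset.mem_insert, Finset.mem_singleton]
      exact or_iff_not_imp_left.2 fun h => (hcon x (Finset.mem_filter.1 hx).2 h).symm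
    have := H.three
    omega
  obtain ⟨a₁, b₁, hab₁, hφ₁⟩ := diff i₁ hi₁ hi₁0
  obtain ⟨a₂, b₂, hab₂, hφ₂⟩ := diff i₂ hi₂ hi₂0
  have share : ∀ {i j : ι} {A B A' B' : Cfsg.IrrCharacter G}, w i = 1 → w j = 1 → i ≠ i₀ →
      j ≠ i₀ → i ≠ j → A ≠ B → A' ≠ B' →
      indDiff ψ w i₀ i = (A : G → ℂ) - (B : G → ℂ) →
      indDiff ψ w i₀ j = (A' : G → ℂ) - (B' : G → ℂ) →
      (A = A' ∧ B ≠ B') ∨ (A ≠ A' ∧ B = B') := by
    intro i j A B A' B' hi hj hi0 hj0 hij hAB hA'B' e e'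
    have h := inner1 hi hj hi0 hj0 hij
    rw [e, e', classInner_diff] at h
    have h' : ((if A = A' then 1 else 0) - (if A = B' then 1 else 0) -
        ((if B = A' then 1 else 0) - (if B = B' then 1 else 0)) : ℤ) = 1 := by exact_mod_cast h
    by_cases hA : A = A' <;> by_cases hB : B = B'
    · subst hA hB; simp [hAB, Ne.symm hAB] at h'
    · exact Or.inl ⟨hA, hB⟩
    · exact Or.inr ⟨hA, hB⟩
    · rw [if_neg hA, if_neg hB] at h'; split_ifs at h' <;> simp_all
  obtain ⟨ε, A, hε, B₁, B₂, hne, hB₁, hB₂, hAB₁, hAB₂⟩ :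
      ∃ (ε : ℤ) (A : Cfsg.IrrCharacter G), (ε = 1 ∨ ε = -1) ∧ ∃ B₁ B₂ : Cfsg.IrrCharacter G,
        B₁ ≠ B₂ ∧ indDiff ψ w i₀ i₁ = (ε : ℂ) • (A : G → ℂ) - (ε : ℂ) • (B₁ : G → ℂ) ∧
        indDiff ψ w i₀ i₂ = (ε : ℂ) • (A : G → ℂ) - (ε : ℂ) • (B₂ : G → ℂ) ∧
        A ≠ B₁ ∧ A ≠ B₂ := by
    rcases share hi₁ hi₂ hi₁0 hi₂0 hi₁₂ hab₁ hab₂ hφ₁ hφ₂ with ⟨h, h'⟩ | ⟨h, h'⟩
    · subst h
      exact ⟨1, a₁, Or.inl rfl, b₁, b₂, h', by simp [hφ₁], by simp [hφ₂], hab₁, hab₂⟩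
    · subst h'
      exact ⟨-1, b₁, Or.inr rfl, a₁, a₂, h, by simp [hφ₁]; abel, by simp [hφ₂]; abel,
        hab₁.symm, hab₂.symm⟩
  have hεε : ε * ε = 1 := by rcases hε with rfl | rfl <;> norm_num
  have key : ∀ i, w i = 1 → i ≠ i₀ → ∃ B : Cfsg.IrrCharacter G, A ≠ B ∧
      indDiff ψ w i₀ i = (ε : ℂ) • (A : G → ℂ) - (ε : ℂ) • (B : G → ℂ) := by
    intro i hi hi0
    by_cases h₁ : i = i₁
    · subst h₁; exact ⟨B₁, hAB₁, hB₁⟩
    by_cases h₂ : i = i₂
    · subst h₂; exact ⟨B₂, hAB₂, hB₂⟩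
    obtain ⟨A', B', hA'B', hφ⟩ : ∃ A' B' : Cfsg.IrrCharacter G, A' ≠ B' ∧
        indDiff ψ w i₀ i = (ε : ℂ) • (A' : G → ℂ) - (ε : ℂ) • (B' : G → ℂ) := by
      obtain ⟨A', B', hA'B', hφ⟩ := diff i hi hi0
      rcases hε with rfl | rfl
      · exact ⟨A', B', hA'B', by simp [hφ]⟩
      · exact ⟨B', A', hA'B'.symm, by simp [hφ]; abel⟩
    by_cases hA : A' = A
    · subst hA; exact ⟨B', hA'B', hφ⟩
    exfalso
    have side : ∀ {l : ι} {B : Cfsg.IrrCharacter G}, w l = 1 → l ≠ i₀ → i ≠ l →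
        indDiff ψ w i₀ l = (ε : ℂ) • (A : G → ℂ) - (ε : ℂ) • (B : G → ℂ) → B' = B := by
      intro l B hl hl0 hil hφl
      have hin := inner1 hi hl hi0 hl0 hil
      rw [hφ, hφl, classInner_two, Int.cast_inj] at hin
      by_contra hBB
      rw [if_neg hA, if_neg hBB, hεε] at hin
      split_ifs at hin <;> omega
    exact hne ((side hi₁ hi₁0 h₁ hB₁).symm.trans (side hi₂ hi₂0 h₂ hB₂))
  choose B hAB hB using key
  refine ⟨ε, fun i => if h : w i = 1 ∧ i ≠ i₀ then B i h.1 h.2 else A, hε, fun i hi => ?_,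
    fun i j hi hj hij => ?_⟩
  · have hA : (if h : w i₀ = 1 ∧ i₀ ≠ i₀ then B i₀ h.1 h.2 else A) = A :=
      dif_neg fun h => h.2 rfl
    simp only [hA]
    by_cases hi0 : i = i₀
    · subst hi0
      rw [dif_neg fun h : w i = 1 ∧ i ≠ i => h.2 rfl, sub_self, indDiff, sub_self,
        CharInd.indFun_zero]
    · rw [dif_pos ⟨hi, hi0⟩]; exact hB i hi hi0
  · simp only at hij
    by_cases hi0 : i = i₀ <;> by_cases hj0 : j = i₀
    · exact hi0.trans hj0.symm
    · rw [dif_neg fun h => h.2 hi0, dif_pos ⟨hj, hj0⟩] at hij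
      exact absurd hij (hAB j hj hj0)
    · rw [dif_pos ⟨hi, hi0⟩, dif_neg fun h => h.2 hj0] at hij
      exact absurd hij.symm (hAB i hi hi0)
    · rw [dif_pos ⟨hi, hi0⟩, dif_pos ⟨hj, hj0⟩] at hij
      by_contra hne
      have hin := inner1 hi hj hi0 hj0 hne
      rw [hB i hi hi0, hB j hj hj0, hij, classInner_two, Int.cast_inj, if_pos rfl, if_pos rfl,
        if_neg (hAB j hj hj0), if_neg (hAB j hj hj0).symm, hεε] at hin
      omega

/-- The coherent extension of a family. -/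
theorem IsFamily.exists_coherent [Fintype G] [Fintype ι] {i₀ : ι} (h₀ : w i₀ = 1) :
    ∃ (ε : ℤ) (χ : ι → Cfsg.IrrCharacter G) (d : ℕ), (ε = 1 ∨ ε = -1) ∧ 0 < d ∧
      Function.Injective χ ∧ (∀ i, (χ i : G → ℂ) 1 = ((w i * d : ℕ) : ℂ)) ∧
      ∀ i j, indDiff ψ w i j = ((ε * w j : ℤ) : ℂ) • (χ i : G → ℂ) -
        ((ε * w i : ℤ) : ℂ) • (χ j : G → ℂ) := by
  classical
  obtain ⟨ε, χb, hε, hχb, hinjb⟩ := H.exists_base_coherent h₀
  have hεε : ε * ε = 1 := by rcases hε with rfl | rfl <;> norm_num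
  have hε0 : (ε : ℂ) ≠ 0 := by rcases hε with rfl | rfl <;> norm_num
  obtain ⟨d, hd, hd'⟩ := CharCore.IsIrrCharacter.exists_degree (χb i₀).2
  have hdeg : ∀ i, w i = 1 → (χb i : G → ℂ) 1 = (d : ℂ) := by
    intro i hi
    have h := congrFun (hχb i hi) 1
    rw [H.indDiff_one] at h
    simp only [Pi.sub_apply, Pi.smul_apply, smul_eq_mul] at h
    rw [← hd']
    exact (mul_left_cancel₀ hε0 (sub_eq_zero.1 h.symm)).symm
  set Bs : Finset ι := Finset.univ.filter fun i => w i = 1 with hBs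
  have hi₀B : i₀ ∈ Bs := Finset.mem_filter.2 ⟨Finset.mem_univ _, h₀⟩
  set N : ℕ := Nat.card {j // w j = 1} with hN
  have hNcard : Bs.card = N := by rw [hN, Nat.card_eq_fintype_card, Fintype.card_subtype]
  have key : ∀ p, w p ≠ 1 → ∃ ξ : Cfsg.IrrCharacter G,
      indDiff ψ w i₀ p = ((ε * w p : ℤ) : ℂ) • (χb i₀ : G → ℂ) - (ε : ℂ) • (ξ : G → ℂ) := by
    intro p hp
    have hp0 : p ≠ i₀ := fun h => hp (h ▸ h₀)
    obtain ⟨m, hm⟩ :=
      CharCore.IsGeneralizedCharacter.exists_sum (indDiff_generalized (ψ := ψ) (w := w) i₀ p)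
    have hnorm : ∑ ξ, m ξ * m ξ = (w p : ℤ) * w p + 1 := by
      have h : ((∑ ξ, m ξ * m ξ : ℤ) : ℂ) = (((w p : ℤ) * w p + 1 : ℤ) : ℂ) := by
        have h1 := H.inner_indDiff (G := G) i₀ p i₀ p
        rw [h₀, if_pos rfl, if_neg hp0, if_neg (Ne.symm hp0), if_pos rfl] at h1
        rw [hm, CharCore.classInner_sum_sum] at h1
        simp only [map_intCast] at h1
        push_cast at h1 ⊢
        linear_combination h1
      exact_mod_cast h
    have hcoef : ∀ i ∈ Bs, i ≠ i₀ → m (χb i₀) - m (χb i) = ε * w p := by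
      intro i hi hi0
      have hi1 := (Finset.mem_filter.1 hi).2
      have hne : χb i₀ ≠ χb i := fun h => hi0 (hinjb i₀ i h₀ hi1 h).symm
      have h1 := H.inner_indDiff (G := G) i₀ p i₀ i
      rw [h₀, hi1, if_pos rfl, if_neg hi0, if_neg (Ne.symm hp0),
        if_neg (fun h : i = p => hp (h ▸ hi1)), hm, hχb i hi1, CharCore.classInner_sub_right,
        CharCore.classInner_smul_right, CharCore.classInner_smul_right,
        CharCore.classInner_sum_all, CharCore.classInner_sum_all, map_intCast] at h1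
      have h2 : ε * m (χb i₀) - ε * m (χb i) = (w p : ℤ) := by
        have : ((ε * m (χb i₀) - ε * m (χb i) : ℤ) : ℂ) = ((w p : ℤ) : ℂ) := by
          push_cast at h1 ⊢
          linear_combination h1
        exact_mod_cast this
      linear_combination ε * h2 - (m (χb i₀) - m (χb i)) * hεε
    set a' : ℤ := m (χb i₀) - ε * w p with ha'
    set T : Finset (Cfsg.IrrCharacter G) := Bs.image χb with hT
    have hsumT : ∑ ξ ∈ T, m ξ * m ξ =
        (N : ℤ) * (a' * a') + 2 * (ε * w p) * a' + (w p : ℤ) * w p := by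
      rw [hT, Finset.sum_image fun i hi j hj h => hinjb i j (Finset.mem_filter.1 hi).2
        (Finset.mem_filter.1 hj).2 h, ← Finset.add_sum_erase _ _ hi₀B,
        Finset.sum_congr rfl (g := fun _ => a' * a') fun i hi => by
          rw [Finset.mem_erase] at hi
          rw [show m (χb i) = a' by rw [ha', ← hcoef i hi.2 hi.1]; ring],
        Finset.sum_const, Finset.card_erase_of_mem hi₀B, hNcard, nsmul_eq_mul,
        Nat.cast_sub (by have := H.three; omega), Nat.cast_one,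
        show m (χb i₀) = a' + ε * w p by rw [ha']; ring]
      linear_combination ((w p : ℤ) * w p) * hεε
    have hsplit := Finset.sum_add_sum_compl T fun ξ => m ξ * m ξ
    rw [hnorm, hsumT] at hsplit
    have hR0 : 0 ≤ ∑ ξ ∈ Tᶜ, m ξ * m ξ := Finset.sum_nonneg fun _ _ => mul_self_nonneg _
    have ha0 : a' = 0 := by
      refine coef_eq_zero hε (Int.natCast_nonneg (w p)) ?_ hR0 hsplit
      have := H.bound p hp
      omega
    rw [ha0] at hsplit
    have hR1 : ∑ ξ ∈ Tᶜ, m ξ * m ξ = 1 := by linear_combination hsplit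
    obtain ⟨ξ, hξ, hξm⟩ := Finset.exists_ne_zero_of_sum_ne_zero
      (show ∑ ξ ∈ Tᶜ, m ξ * m ξ ≠ 0 by omega)
    have hξ1 : m ξ * m ξ = 1 := by
      have h1 := Finset.single_le_sum (f := fun ξ => m ξ * m ξ) (fun _ _ => mul_self_nonneg _) hξ
      have h2 := mul_self_nonneg (m ξ)
      rw [hR1] at h1
      have h3 : m ξ * m ξ ≠ 0 := hξm
      omega
    have hzero : ∀ η, η ≠ χb i₀ → η ≠ ξ → m η = 0 := by
      intro η h1 h2
      by_cases hη : η ∈ T
      · obtain ⟨i, hi, rfl⟩ := Finset.mem_image.1 hη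
        have hi0 : i ≠ i₀ := fun h => h1 (by rw [h])
        have := hcoef i hi hi0
        rw [ha'] at ha0
        omega
      · have hsub := Finset.add_sum_erase Tᶜ (fun ξ => m ξ * m ξ) hξ
        rw [hR1, hξ1] at hsub
        have h3 := (Finset.sum_eq_zero_iff_of_nonneg fun i _ => mul_self_nonneg (m i)).1
          (show ∑ x ∈ Tᶜ.erase ξ, m x * m x = 0 by omega) η
          (Finset.mem_erase.2 ⟨h2, Finset.mem_compl.2 hη⟩)
        exact mul_self_eq_zero.1 h3
    have hξne : χb i₀ ≠ ξ := fun h =>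
      Finset.mem_compl.1 hξ (h ▸ Finset.mem_image.2 ⟨i₀, hi₀B, rfl⟩)
    have hφ : indDiff ψ w i₀ p =
        ((ε * w p : ℤ) : ℂ) • (χb i₀ : G → ℂ) + (m ξ : ℂ) • (ξ : G → ℂ) := by
      rw [hm, ← Finset.sum_subset (Finset.subset_univ {χb i₀, ξ}) fun η _ hη => by
        simp only [Finset.mem_insert, Finset.mem_singleton, not_or] at hη
        rw [hzero η hη.1 hη.2]; simp, Finset.sum_pair hξne]
      rw [show m (χb i₀) = ε * w p by rw [ha'] at ha0; omega]
    refine ⟨ξ, ?_⟩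
    obtain ⟨dξ, hdξ, hdξ'⟩ := CharCore.IsIrrCharacter.exists_degree ξ.2
    have h1 := congrFun hφ 1
    rw [H.indDiff_one, Pi.add_apply, Pi.smul_apply, Pi.smul_apply, smul_eq_mul, smul_eq_mul,
      hd', hdξ'] at h1
    have h2 : ε * w p * (d : ℤ) + m ξ * (dξ : ℤ) = 0 := by exact_mod_cast h1.symm
    have h3 : m ξ = -ε := by
      have hwd : (0 : ℤ) < (w p : ℤ) * d :=
        mul_pos (by exact_mod_cast H.one_le p) (by exact_mod_cast hd)
      have hdξ0 : (0 : ℤ) < dξ := by exact_mod_cast hdξ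
      rcases mul_self_eq_one_iff.1 hξ1 with h | h <;> rw [h] at h2 ⊢ <;>
        rcases hε with rfl | rfl <;> linarith
    rw [hφ, h3, Int.cast_neg, neg_smul, sub_eq_add_neg]
  choose ξ hξ using key
  let χ : ι → Cfsg.IrrCharacter G := fun i => if h : w i = 1 then χb i else ξ i h
  have hχ0 : χ i₀ = χb i₀ := dif_pos h₀
  have hdiff₀ : ∀ p, indDiff ψ w i₀ p =
      ((ε * w p : ℤ) : ℂ) • (χ i₀ : G → ℂ) - (ε : ℂ) • (χ p : G → ℂ) := by
    intro p
    rw [hχ0]
    by_cases hp : w p = 1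
    · rw [show χ p = χb p from dif_pos hp, hp, Nat.cast_one, mul_one]
      exact hχb p hp
    · rw [show χ p = ξ p hp from dif_neg hp]
      exact hξ p hp
  have hne₀ : ∀ p, p ≠ i₀ → χ i₀ ≠ χ p := by
    intro p hp h
    have h1 := H.inner_indDiff (G := G) i₀ p i₀ p
    rw [hdiff₀, h₀, if_pos rfl, if_neg hp, if_neg (Ne.symm hp), if_pos rfl, ← h, classInner_two,
      if_pos rfl, Int.cast_inj] at h1
    have hw : (1 : ℤ) ≤ w p := by exact_mod_cast H.one_le p
    nlinarith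
  refine ⟨ε, χ, d, hε, hd, fun i j hij => ?_, fun i => ?_, fun i j => ?_⟩
  · by_contra hne
    have hi : i ≠ i₀ := fun h => hne_of h hne hij hne₀
    have hj : j ≠ i₀ := fun h => hne_of h (Ne.symm hne) hij.symm hne₀
    have h1 := H.inner_indDiff (G := G) i₀ i i₀ j
    rw [hdiff₀, hdiff₀, h₀, if_pos rfl, if_neg hj, if_neg (Ne.symm hi), if_neg (Ne.symm hne),
      hij, classInner_two, if_pos rfl, if_pos rfl, if_neg (hne₀ j hj),
      if_neg (hne₀ j hj).symm, Int.cast_inj] at h1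
    push_cast at h1
    have h2 : (1 : ℤ) = 0 := by linear_combination h1 - ((w i : ℤ) * w j + 1) * hεε
    exact one_ne_zero h2
  · have h1 := congrFun (hdiff₀ i) 1
    rw [H.indDiff_one, Pi.sub_apply, Pi.smul_apply, Pi.smul_apply, smul_eq_mul, smul_eq_mul,
      hχ0, hd'] at h1
    apply mul_left_cancel₀ hε0
    push_cast at h1 ⊢
    linear_combination h1
  · have hlin : indDiff ψ w i j =
        (w i : ℂ) • indDiff ψ w i₀ j - (w j : ℂ) • indDiff ψ w i₀ i := by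
      simp only [indDiff, ← CharInd.indFun_smul, ← CharInd.indFun_sub, h₀, Nat.cast_one, one_smul]
      congr 1
      module
    rw [hlin, hdiff₀, hdiff₀]
    push_cast
    module
where
  hne_of {χ : ι → Cfsg.IrrCharacter G} {i j i₀ : ι} (h : i = i₀) (hne : ¬ i = j)
      (hij : χ i = χ j) (hne₀ : ∀ p, p ≠ i₀ → χ i₀ ≠ χ p) : False :=
    hne₀ j (fun e => hne (h.trans e.symm)) (h ▸ hij)

end

end Cfsg.Agent.Suz27
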