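import Cfsg.Agent.Suz27.CharFamilyBase

/-!
Induction from `Q` to `G` of class functions vanishing at one, and the class multiplication
formula for the involutions (`PLAN.md`, part C).
-/

set_option autoImplicit false

namespace Cfsg.Agent.Suz27

open MulAction RankOne
open scoped ComplexConjugate

universe u v

variable {G : Type u} {Ω : Type v} [Group G] [MulAction G Ω] {a : Ω} {t : G} {Q : Subgroup G}

/-- The sum of the `D`-conjugates of a function on `Q`. -/
noncomputable def thetaFun [Finite G] (hS : Cfsg.IsRankOneSetup G Ω a t Q) (f : Q → ℂ) : Q → ℂ :=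
  letI := Fintype.ofFinite (twoStab G a t)
  ∑ d : twoStab G a t, twist hS d f

section
variable [Fintype G] (hS : Cfsg.IsRankOneSetup G Ω a t Q)

lemma thetaFun_eq [Fintype (twoStab G a t)] (f : Q → ℂ) :
    thetaFun hS f = ∑ d : twoStab G a t, twist hS d f := by
  rw [thetaFun]; exact Finset.sum_congr (Finset.ext fun _ => by simp) fun _ _ => rfl

lemma thetaFun_apply [Fintype (twoStab G a t)] (f : Q → ℂ) (x : Q) :
    thetaFun hS f x = ∑ d : twoStab G a t, f (conjHom hS d x) := by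
  rw [thetaFun_eq, Finset.sum_apply]; rfl

lemma thetaFun_one (f : Q → ℂ) :
    thetaFun hS f 1 = (Nat.card (twoStab G a t) : ℂ) * f 1 := by
  haveI := Fintype.ofFinite (twoStab G a t)
  rw [thetaFun_apply]
  simp only [map_one, Finset.sum_const, Finset.card_univ, nsmul_eq_mul, Nat.card_eq_fintype_card]

lemma thetaFun_sub (f g : Q → ℂ) : thetaFun hS (f - g) = thetaFun hS f - thetaFun hS g := by
  haveI := Fintype.ofFinite (twoStab G a t)
  funext x
  simp [thetaFun_apply, Finset.sum_sub_distrib]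

lemma thetaFun_smul (c : ℂ) (f : Q → ℂ) : thetaFun hS (c • f) = c • thetaFun hS f := by
  haveI := Fintype.ofFinite (twoStab G a t)
  funext x
  simp [thetaFun_apply, Finset.mul_sum]

lemma indFun_eq_theta {f : Q → ℂ} (hf : Cfsg.IsClassFunction Q f) {x : Q} (hx : x ≠ 1) :
    Cfsg.indFun Q f (x : G) = thetaFun hS f x := by
  classical
  haveI := Fintype.ofFinite Q
  haveI := Fintype.ofFinite (twoStab G a t)
  have hn : (Nat.card Q : ℂ) ≠ 0 := Nat.cast_ne_zero.2 Nat.card_pos.ne'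
  rw [CharInd.indFun_apply]
  let e : Q × twoStab G a t → G := fun p => p.1 * p.2
  have he : Function.Injective e := fun p p' h => by
    obtain ⟨h1, h2⟩ := decomp_unique hS p.1.2 p.2.2 p'.1.2 p'.2.2 h
    exact Prod.ext (Subtype.ext h1) (Subtype.ext h2)
  have h1 : ∑ g : G, Cfsg.extendByZero Q f (g⁻¹ * x * g) =
      ∑ p : Q × twoStab G a t, Cfsg.extendByZero Q f ((e p)⁻¹ * x * e p) := by
    rw [← Finset.sum_image (f := fun g => Cfsg.extendByZero Q f (g⁻¹ * x * g))
      (fun p _ p' _ h => he h)]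
    refine (Finset.sum_subset (Finset.subset_univ _) fun g _ hg => ?_).symm
    refine CharInd.extendByZero_notMem _ fun hmem => hg ?_
    have hga : g • a = a := by
      have h := Q_fix_a hS hmem
      rw [mul_smul, mul_smul, inv_smul_eq_iff] at h
      exact Q_fixed_eq hS x.2 (fun e => hx (Subtype.ext e)) h
    obtain ⟨q, hq, d, hd, rfl⟩ := exists_decomp hS hga
    exact Finset.mem_image.2 ⟨(⟨q, hq⟩, ⟨d, hd⟩), Finset.mem_univ _, rfl⟩
  have h2 : ∀ p : Q × twoStab G a t,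
      Cfsg.extendByZero Q f ((e p)⁻¹ * x * e p) = f (conjHom hS p.2 x) := by
    rintro ⟨q, d⟩
    have heq : (e (q, d))⁻¹ * x * e (q, d) =
        (((conjHom hS d q)⁻¹ * conjHom hS d x * ((conjHom hS d q)⁻¹)⁻¹ : Q) : G) := by
      simp only [Subgroup.coe_mul, Subgroup.coe_inv, inv_inv, conjHom_coe, e]
      group
    rw [heq, CharInd.extendByZero_coe, hf]
  rw [h1, Finset.sum_congr rfl fun p _ => h2 p, Fintype.sum_prod_type]
  rw [show (∑ q : Q, ∑ d : twoStab G a t, f (conjHom hS (q, d).2 x)) =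
    ∑ _q : Q, thetaFun hS f x from Finset.sum_congr rfl fun _ _ => (thetaFun_apply hS f x).symm,
    Finset.sum_const, Finset.card_univ, nsmul_eq_mul, ← Nat.card_eq_fintype_card, ← mul_assoc,
    inv_mul_cancel₀ hn, one_mul]

lemma indFun_eq_theta_of_zero {f : Q → ℂ} (hf : Cfsg.IsClassFunction Q f) (h1 : f 1 = 0) :
    (fun x : Q => Cfsg.indFun Q f (x : G)) = thetaFun hS f := by
  funext x
  by_cases hx : x = 1
  · subst hx
    rw [OneMemClass.coe_one, CharInd.indFun_apply_one, thetaFun_one, h1, mul_zero, mul_zero]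
  · exact indFun_eq_theta hS hf hx

lemma classInner_indFun_of_zero [Fintype Q] (f : Q → ℂ) {f' : Q → ℂ}
    (hf' : Cfsg.IsClassFunction Q f') (h1 : f' 1 = 0) :
    Cfsg.classInner (Cfsg.indFun Q f) (Cfsg.indFun Q f') =
      Cfsg.classInner f (thetaFun hS f') := by
  rw [CharInd.classInner_indFun_left Q f (CharInd.isClassFunction_indFun Q f'),
    indFun_eq_theta_of_zero hS hf' h1]

open Classical in
lemma classInner_theta_irr [Fintype Q] (φ ψ : Cfsg.IrrCharacter Q)
    (hψ : DFree hS (ψ : Q → ℂ)) :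
    Cfsg.classInner (φ : Q → ℂ) (thetaFun hS (ψ : Q → ℂ)) =
      if Rel hS (ψ : Q → ℂ) (φ : Q → ℂ) then 1 else 0 := by
  haveI := Fintype.ofFinite (twoStab G a t)
  rw [thetaFun_eq, CharCore.classInner_sum_right]
  have h : ∀ d, Cfsg.classInner (φ : Q → ℂ) (twist hS d (ψ : Q → ℂ)) =
      if twist hS d (ψ : Q → ℂ) = (φ : Q → ℂ) then 1 else 0 := by
    intro d
    rw [show twist hS d (ψ : Q → ℂ) =
      ((⟨_, isIrr_twist hS d ψ⟩ : Cfsg.IrrCharacter Q) : Q → ℂ) from rfl, CharCore.classInner_irr]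
    exact if_congr (eq_comm.trans Subtype.ext_iff) rfl rfl
  rw [Finset.sum_congr rfl fun d _ => h d, Finset.sum_boole]
  split_ifs with hr
  · obtain ⟨d₀, hd₀⟩ := hr
    rw [show (Finset.univ.filter fun d => twist hS d (ψ : Q → ℂ) = (φ : Q → ℂ)) = {d₀} by
      ext d
      simp only [Finset.mem_filter, Finset.mem_univ, true_and, Finset.mem_singleton]
      exact ⟨fun h => hψ.inj (h.trans hd₀.symm), fun h => h ▸ hd₀⟩,
      Finset.card_singleton, Nat.cast_one]
  · rw [Nat.cast_eq_zero, Finset.card_eq_zero, Finset.filter_eq_empty_iff]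
    exact fun d _ h => hr ⟨d, h⟩

open Classical in
/-- Inner products of induced differences of characters of `Q`. -/
lemma classInner_indFun_diff [Fintype Q] (f₁ f₂ f₃ f₄ : Cfsg.IrrCharacter Q)
    (h₃ : DFree hS (f₃ : Q → ℂ)) (h₄ : DFree hS (f₄ : Q → ℂ)) (A B C E : ℕ)
    (h0 : (C : ℂ) * (f₃ : Q → ℂ) 1 = (E : ℂ) * (f₄ : Q → ℂ) 1) :
    Cfsg.classInner (Cfsg.indFun Q ((A : ℂ) • (f₁ : Q → ℂ) - (B : ℂ) • (f₂ : Q → ℂ)))
        (Cfsg.indFun Q ((C : ℂ) • (f₃ : Q → ℂ) - (E : ℂ) • (f₄ : Q → ℂ))) =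
      (A : ℂ) * C * (if Rel hS (f₃ : Q → ℂ) (f₁ : Q → ℂ) then 1 else 0) -
        A * E * (if Rel hS (f₄ : Q → ℂ) (f₁ : Q → ℂ) then 1 else 0) -
        B * C * (if Rel hS (f₃ : Q → ℂ) (f₂ : Q → ℂ) then 1 else 0) +
        B * E * (if Rel hS (f₄ : Q → ℂ) (f₂ : Q → ℂ) then 1 else 0) := by
  have hcl : Cfsg.IsClassFunction Q ((C : ℂ) • (f₃ : Q → ℂ) - (E : ℂ) • (f₄ : Q → ℂ)) :=
    fun g h => by
      simp only [Pi.sub_apply, Pi.smul_apply, CharCore.irr_isClassFunction f₃ g h,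
        CharCore.irr_isClassFunction f₄ g h]
  rw [classInner_indFun_of_zero hS _ hcl (by simp [h0]), thetaFun_sub, thetaFun_smul,
    thetaFun_smul]
  simp only [CharCore.classInner_sub_left, CharCore.classInner_sub_right,
    CharCore.classInner_smul_left, CharCore.classInner_smul_right, map_natCast,
    classInner_theta_irr hS _ _ h₃, classInner_theta_irr hS _ _ h₄]
  ring

end

/-! ### Involutions -/

open Classical in
/-- The involutions of `G`. -/
noncomputable def invFin (G : Type u) [Group G] [Fintype G] : Finset G :=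
  Finset.univ.filter fun x : G => IsInv x

open Classical in
/-- The involutions of `Q`. -/
noncomputable def invQ [Finite G] (Q : Subgroup G) : Finset Q :=
  letI := Fintype.ofFinite Q
  Finset.univ.filter fun z : Q => z ≠ 1 ∧ z * z = 1

lemma mem_invFin [Fintype G] {x : G} : x ∈ invFin G ↔ IsInv x := by simp [invFin]

lemma mem_invQ [Finite G] {z : Q} : z ∈ invQ Q ↔ z ≠ 1 ∧ z * z = 1 := by simp [invQ]

lemma invQ_mem_involutionsIn [Finite G] (hS : Cfsg.IsRankOneSetup G Ω a t Q) {z : Q}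
    (hz : z ∈ invQ Q) : (z : G) ∈ Cfsg.involutionsIn (stabilizer G a : Set G) :=
  ⟨hS.le z.2, fun h => (mem_invQ.1 hz).1 (Subtype.ext h), congrArg Subtype.val (mem_invQ.1 hz).2⟩

section
variable [Fintype G] (hR : R1 G Ω a t Q)
include hR

lemma R1.card_invQ : (invQ Q).card = qOf Q - 1 := by
  rw [hR.qOf_eq, Nat.add_sub_cancel, ← Nat.card_eq_finsetCard]
  refine Nat.card_congr (Equiv.ofBijective
    (fun z => ⟨((z : Q) : G), invQ_mem_involutionsIn hR.setup z.2⟩) ⟨?_, ?_⟩)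
  · exact fun z z' h => Subtype.ext (Subtype.ext (congrArg Subtype.val h : _))
  · rintro ⟨x, hx⟩
    exact ⟨⟨⟨x, invol_mem_Q hR.setup ⟨hx.2.1, hx.2.2⟩ hx.1⟩,
      mem_invQ.2 ⟨fun h => hx.2.1 (congrArg Subtype.val h), Subtype.ext hx.2.2⟩⟩, rfl⟩

lemma R1.exists_invQ : ∃ s, s ∈ invQ Q := by
  have := hR.four_le_q
  exact Finset.card_pos.1 (by rw [hR.card_invQ]; omega)

lemma R1.thetaFun_invol {s : Q} (hs : s ∈ invQ Q) (f : Q → ℂ) :
    thetaFun hR.setup f s = (Nat.card (vGrp a t) : ℂ) * ∑ z ∈ invQ Q, f z := by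
  classical
  haveI := Fintype.ofFinite (twoStab G a t)
  have hS := hR.setup
  have hsI := invQ_mem_involutionsIn hS hs
  have hmaps : ∀ d : twoStab G a t, conjHom hS d s ∈ invQ Q := fun d =>
    mem_invQ.2 ⟨fun h => (mem_invQ.1 hs).1 (by
      have := congrArg (conjHom hS d⁻¹) h
      rwa [conjHom_conjHom, mul_inv_cancel, conjHom_one, map_one] at this),
      by rw [← map_mul, (mem_invQ.1 hs).2, map_one]⟩
  rw [thetaFun_apply, ← Finset.sum_fiberwise_of_maps_to (g := fun d => conjHom hS d s)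
    (fun d _ => hmaps d) (fun d => f (conjHom hS d s)), Finset.mul_sum]
  refine Finset.sum_congr rfl fun z hz => ?_
  rw [Finset.sum_congr rfl fun d hd => by rw [(Finset.mem_filter.1 hd).2], Finset.sum_const,
    nsmul_eq_mul]
  congr 1
  norm_cast
  obtain ⟨d₀, hd₀, hdz⟩ := twoStab_transitive hS ⟨hsI.2.1, hsI.2.2⟩ hsI.1
    ⟨(invQ_mem_involutionsIn hS hz).2.1, (invQ_mem_involutionsIn hS hz).2.2⟩
    (invQ_mem_involutionsIn hS hz).1
  rw [← hR.card_stab_centralizer hsI, Nat.card_eq_fintype_card]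
  refine (Finset.card_nbij
    (s := (Finset.univ : Finset (twoStab G a t ⊓ Subgroup.centralizer {(s : G)} : Subgroup G)))
    (fun c => (⟨(c : G) * d₀⁻¹, mul_mem c.2.1 (inv_mem hd₀)⟩ : twoStab G a t)) ?_ ?_ ?_).symm
  · intro c _
    refine Finset.mem_filter.2 ⟨Finset.mem_univ _, Subtype.ext ?_⟩
    rw [conjHom_coe, ← hdz]
    show ((c : G) * d₀⁻¹)⁻¹ * s * ((c : G) * d₀⁻¹) = _
    calc ((c : G) * d₀⁻¹)⁻¹ * s * ((c : G) * d₀⁻¹)
        = d₀ * ((c : G)⁻¹ * ((s : G) * c)) * d₀⁻¹ := by group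
      _ = _ := by rw [← Subgroup.mem_centralizer_singleton_iff.1 c.2.2, inv_mul_cancel_left]
  · intro c _ c' _ h
    exact Subtype.ext (mul_right_cancel (congrArg Subtype.val h))
  · intro d hd
    have h : ((d : G))⁻¹ * s * d = z := congrArg Subtype.val (Finset.mem_filter.1 hd).2
    refine ⟨⟨(d : G) * d₀, mul_mem d.2 hd₀, Subgroup.mem_centralizer_singleton_iff.2 ?_⟩,
      Finset.mem_univ _, Subtype.ext (mul_inv_cancel_right (d : G) d₀)⟩
    calc (d : G) * d₀ * s = d * (d₀ * s * d₀⁻¹) * d₀ := by group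
      _ = _ := by rw [hdz, ← h]; group

open Classical in
lemma R1.sum_invQ_irr (ψ : Cfsg.IrrCharacter Q) :
    ∑ z ∈ invQ Q, (ψ : Q → ℂ) z =
      if TrivZ (ψ : Q → ℂ) then ((qOf Q - 1 : ℕ) : ℂ) * (ψ : Q → ℂ) 1 else -(ψ : Q → ℂ) 1 := by
  haveI := Fintype.ofFinite Q
  split_ifs with h
  · rw [Finset.sum_congr rfl fun z hz => h z (mem_invQ.1 hz).2, Finset.sum_const, hR.card_invQ,
      nsmul_eq_mul]
  · simp only [TrivZ, not_forall] at h
    obtain ⟨z₀, hz₀, hne⟩ := h
    obtain ⟨ω, hω, hmul⟩ := hR.irr_mul_sq_one ψ hz₀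
    have hω1 : ω = -1 := hω.resolve_left fun e => hne (by
      have := hmul 1; rwa [one_mul, e, one_mul] at this)
    set T := Finset.univ.filter fun z : Q => z * z = 1 with hT
    have hTmul : ∀ z ∈ T, z * z₀ ∈ T := fun z hz => by
      have hz' := (Finset.mem_filter.1 hz).2
      refine Finset.mem_filter.2 ⟨Finset.mem_univ _, ?_⟩
      have hc : z₀ * z = z * z₀ := Subtype.ext
        (hR.sq_one_central z₀.2 (congrArg Subtype.val hz₀) z.2)
      calc z * z₀ * (z * z₀) = z * (z₀ * z) * z₀ := by group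
        _ = 1 := by rw [hc, ← mul_assoc, hz', one_mul, hz₀]
    have hsum : ∑ z ∈ T, (ψ : Q → ℂ) z = 0 := by
      have h1 : ∑ z ∈ T, (ψ : Q → ℂ) (z * z₀) = ∑ z ∈ T, (ψ : Q → ℂ) z :=
        Finset.sum_bij' (fun z _ => z * z₀) (fun z _ => z * z₀) hTmul hTmul
          (fun z _ => by rw [mul_assoc, hz₀, mul_one]) (fun z _ => by rw [mul_assoc, hz₀, mul_one])
          (fun z _ => rfl)
      rw [Finset.sum_congr rfl fun z _ => hmul z, ← Finset.mul_sum, hω1] at h1
      linear_combination (-1/2 : ℂ) * h1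
    have hins : T = insert 1 (invQ Q) := by
      ext z; by_cases hz : z = 1 <;> simp [hT, mem_invQ, hz]
    rw [hins, Finset.sum_insert (by simp [mem_invQ])] at hsum
    linear_combination hsum

open Classical in
lemma R1.thetaFun_invol_irr {s : Q} (hs : s ∈ invQ Q) (ψ : Cfsg.IrrCharacter Q) :
    thetaFun hR.setup (ψ : Q → ℂ) s =
      if TrivZ (ψ : Q → ℂ) then (Nat.card (twoStab G a t) : ℂ) * (ψ : Q → ℂ) 1
      else -((Nat.card (vGrp a t) : ℂ) * (ψ : Q → ℂ) 1) := by
  rw [hR.thetaFun_invol hs, hR.sum_invQ_irr, hR.card_twoStab]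
  split_ifs <;> push_cast <;> ring

lemma R1.sum_conj_invol {s : G} (hs : s ∈ Cfsg.involutionsIn (stabilizer G a : Set G))
    (f : G → ℂ) :
    ((Nat.card Q : ℂ) * Nat.card (vGrp a t)) * ∑ y ∈ invFin G, f y =
      ∑ g : G, f (g * s * g⁻¹) := by
  classical
  have hsi : IsInv s := ⟨hs.2.1, hs.2.2⟩
  rw [← Finset.sum_fiberwise_of_maps_to (g := fun g => g * s * g⁻¹)
    (fun g _ => mem_invFin.2 (hsi.conj g)) (fun g => f (g * s * g⁻¹)), Finset.mul_sum]
  refine Finset.sum_congr rfl fun y hy => ?_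
  obtain ⟨g₀, hg₀⟩ := invol_conj hR.setup hsi (mem_invFin.1 hy)
  rw [Finset.sum_congr rfl fun g hg => by rw [(Finset.mem_filter.1 hg).2], Finset.sum_const,
    nsmul_eq_mul]
  congr 1
  rw [← Nat.cast_mul, ← hR.card_centralizer_invol hs, Nat.card_eq_fintype_card]
  norm_cast
  refine Finset.card_nbij (s := (Finset.univ : Finset (Subgroup.centralizer ({s} : Set G))))
    (fun c => g₀ * (c : G)) ?_ ?_ ?_
  · intro c _
    refine Finset.mem_filter.2 ⟨Finset.mem_univ _, ?_⟩
    calc g₀ * (c : G) * s * (g₀ * c)⁻¹ = g₀ * ((c : G) * s * (c : G)⁻¹) * g₀⁻¹ := by group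
      _ = _ := by rw [Subgroup.mem_centralizer_singleton_iff.1 c.2, mul_inv_cancel_right, hg₀]
  · intro c _ c' _ h
    exact Subtype.ext (mul_left_cancel h)
  · intro g hg
    have h := (Finset.mem_filter.1 hg).2
    refine ⟨⟨g₀⁻¹ * g, Subgroup.mem_centralizer_singleton_iff.2 ?_⟩, Finset.mem_univ _,
      mul_inv_cancel_left g₀ g⟩
    calc g₀⁻¹ * g * s = g₀⁻¹ * (g * s * g⁻¹) * g := by group
      _ = _ := by rw [h, ← hg₀]; group

/-- The class multiplication formula for the involutions. -/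
lemma R1.classInner_pair {s : G} (hs : s ∈ Cfsg.involutionsIn (stabilizer G a : Set G))
    (ψ : Cfsg.IrrCharacter G) :
    Cfsg.classInner (pairFun (invFin G)) (ψ : G → ℂ) *
        ((ψ : G → ℂ) 1 * ((Nat.card Q : ℂ) * Nat.card (vGrp a t))) =
      ((Nat.card Q : ℂ) + 1) * ((qOf Q - 1 : ℕ) : ℂ) * ((ψ : G → ℂ) s) ^ 2 := by
  set I := invFin G
  set M : ℂ := (Nat.card Q : ℂ) * Nat.card (vGrp a t) with hM
  have hMc : conj M = M := by simp [hM]
  have hM0 : M ≠ 0 :=
    mul_ne_zero (Nat.cast_ne_zero.2 Nat.card_pos.ne') (Nat.cast_ne_zero.2 Nat.card_pos.ne')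
  have hψ : conj ((ψ : G → ℂ) s) = (ψ : G → ℂ) s := by
    rw [← CharCore.IsCharacter.apply_inv (CharCore.irr_isCharacter ψ), inv_eq_self hs.2.2]
  obtain ⟨e, he0, he⟩ := CharCore.IsIrrCharacter.exists_degree ψ.2
  have hA : ∀ u : G, M * ((ψ : G → ℂ) 1) * (∑ v ∈ I, (ψ : G → ℂ) (u * v)) =
      Nat.card G * (ψ : G → ℂ) u * (ψ : G → ℂ) s := by
    intro u
    rw [mul_comm M, mul_assoc, hR.sum_conj_invol hs (fun v => (ψ : G → ℂ) (u * v)),
      sum_mul_conj ψ.2]
  have hB : M * (∑ u ∈ I, (ψ : G → ℂ) u) * (ψ : G → ℂ) 1 =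
      Nat.card G * (ψ : G → ℂ) 1 * (ψ : G → ℂ) s := by
    rw [hR.sum_conj_invol hs,
      Finset.sum_congr rfl fun g _ => CharCore.irr_isClassFunction ψ s g,
      Finset.sum_const, Finset.card_univ, nsmul_eq_mul, Nat.card_eq_fintype_card]
    ring
  have hsum : M * ((ψ : G → ℂ) 1) * (∑ u ∈ I, ∑ v ∈ I, (ψ : G → ℂ) (u * v)) * M =
      (Nat.card G : ℂ) ^ 2 * ((ψ : G → ℂ) s) ^ 2 := by
    rw [Finset.mul_sum, Finset.sum_congr rfl fun u _ => hA u, ← Finset.sum_mul,
      ← Finset.mul_sum]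
    apply mul_right_cancel₀ (CharCore.irr_apply_one_ne_zero ψ)
    linear_combination (Nat.card G : ℂ) * (ψ : G → ℂ) s * hB
  have hCI : Cfsg.classInner (pairFun I) (ψ : G → ℂ) =
      (Nat.card G : ℂ)⁻¹ * conj (∑ u ∈ I, ∑ v ∈ I, (ψ : G → ℂ) (u * v)) := by
    rw [Cfsg.classInner, sum_pairFun_mul, map_sum]
    congr 1
    exact Finset.sum_congr rfl fun u _ => (map_sum _ _ _).symm
  have hsum' := congrArg conj hsum
  simp only [map_mul, map_natCast, map_pow, hψ, hMc, he] at hsum'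
  rw [hCI, he]
  have hcardG : (Nat.card G : ℂ) =
      M * (((qOf Q - 1 : ℕ) : ℂ) * ((Nat.card Q : ℂ) + 1)) := by
    rw [hR.card_G, hM]; push_cast; ring
  have hG0 : (Nat.card G : ℂ) ≠ 0 := Nat.cast_ne_zero.2 Nat.card_pos.ne'
  apply mul_left_cancel₀ hM0
  calc M * ((Nat.card G : ℂ)⁻¹ * conj (∑ u ∈ I, ∑ v ∈ I, (ψ : G → ℂ) (u * v)) * (e * M))
      = (Nat.card G : ℂ)⁻¹ *
          (M * e * conj (∑ u ∈ I, ∑ v ∈ I, (ψ : G → ℂ) (u * v)) * M) := by ring
    _ = (Nat.card G : ℂ) * (ψ : G → ℂ) s ^ 2 := by rw [hsum']; field_simp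
    _ = _ := by rw [hcardG]; ring

open Classical in
lemma R1.pairFun_Q {x : Q} (hx : x ≠ 1) :
    pairFun (invFin G) (x : G) = if x * x = 1 then (qOf Q : ℂ) - 2 else 0 := by
  haveI := hR.faithful
  have hS := hR.setup
  have hmem : ∀ p : G × G, IsInv p.1 → IsInv p.2 → p.1 * p.2 = x →
      p.1 ∈ Q ∧ p.2 ∈ Q := by
    intro p h1 h2 h
    obtain ⟨c, hc⟩ := exists_fixed hS h1
    have h2c : p.2 • c = c := by
      by_contra hne
      have hodd := odd_mul hS h1 h2 hc hne
      have hxx : (p.1 * p.2) * (p.1 * p.2) ≠ 1 := fun e => by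
        have := eq_one_of_mul_self hodd e
        exact hx (Subtype.ext (h ▸ this))
      obtain ⟨-, hcent⟩ := strongly_real hS hR.rank2 h1 h2 hxx
      obtain ⟨s, hs⟩ := hR.exists_invQ
      have hsI := invQ_mem_involutionsIn hS hs
      have hsc : (s : G) ∈ Subgroup.centralizer {p.1 * p.2} := by
        rw [h, Subgroup.mem_centralizer_singleton_iff]
        exact hR.sq_one_central s.2 hsI.2.2 x.2
      have h2dvd := orderOf_dvd_natCard (⟨_, hsc⟩ : Subgroup.centralizer {p.1 * p.2})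
      rw [← Subgroup.orderOf_coe, orderOf_eq_prime (p := 2) (by rw [pow_two]; exact hsI.2.2)
        hsI.2.1] at h2dvd
      exact hcent.not_two_dvd_nat h2dvd
    have hca : c = a := by
      refine Q_fixed_eq hS x.2 (fun e => hx (Subtype.ext e)) ?_
      rw [← h, mul_smul, h2c, hc]
    subst hca
    exact ⟨invol_mem_Q hS h1 hc, invol_mem_Q hS h2 h2c⟩
  split_ifs with hxx
  · have hxQ : x ∈ invQ Q := mem_invQ.2 ⟨hx, hxx⟩
    have hxe : (x : G) * x = 1 := congrArg Subtype.val hxx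
    have hcard : ((invFin G ×ˢ invFin G).filter fun p => p.1 * p.2 = (x : G)).card =
        ((invQ Q).erase x).card := by
      refine Finset.card_bij' (fun p hp => ⟨p.1, (hmem p
        (mem_invFin.1 (Finset.mem_product.1 (Finset.mem_filter.1 hp).1).1)
        (mem_invFin.1 (Finset.mem_product.1 (Finset.mem_filter.1 hp).1).2)
        (Finset.mem_filter.1 hp).2).1⟩) (fun e _ => ((e : G), (e : G) * x)) ?_ ?_ ?_ ?_
      · intro p hp
        simp only [Finset.mem_filter, Finset.mem_product, mem_invFin] at hp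
        refine Finset.mem_erase.2 ⟨fun e => hp.1.2.1 ?_, mem_invQ.2
          ⟨fun e => hp.1.1.1 (congrArg Subtype.val e), Subtype.ext hp.1.1.2⟩⟩
        have e' : p.1 = x := congrArg Subtype.val e
        calc p.2 = p.1⁻¹ * (p.1 * p.2) := by group
          _ = 1 := by rw [hp.2, e', inv_mul_cancel]
      · intro e he
        obtain ⟨hne, he'⟩ := Finset.mem_erase.1 he
        have heI := invQ_mem_involutionsIn hS he'
        have hc := hR.sq_one_central x.2 hxe e.2
        simp only [Finset.mem_filter, Finset.mem_product, mem_invFin]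
        refine ⟨⟨⟨heI.2.1, heI.2.2⟩, ⟨fun h => hne (Subtype.ext ?_), ?_⟩⟩, ?_⟩
        · calc (e : G) = (e : G) * x * x := by rw [mul_assoc, hxe, mul_one]
            _ = x := by rw [h, one_mul]
        · calc (e : G) * x * (e * x) = (e : G) * (x * e) * x := by group
            _ = _ := by rw [hc, ← mul_assoc, heI.2.2, one_mul, hxe]
        · rw [← mul_assoc, heI.2.2, one_mul]
      · intro p hp
        simp only [Finset.mem_filter, Finset.mem_product, mem_invFin] at hp
        refine Prod.ext rfl ?_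
        show p.1 * (x : G) = p.2
        rw [← hp.2, ← mul_assoc, hp.1.1.2, one_mul]
      · intro e _; rfl
    have hq := hR.four_le_q
    rw [pairFun, show (((invFin G ×ˢ invFin G).filter fun p => p.1 * p.2 = (x : G)).card) = _
      from hcard, Finset.card_erase_of_mem hxQ, hR.card_invQ,
      Nat.cast_sub (by omega), Nat.cast_sub (by omega)]
    push_cast; ring
  · rw [pairFun, Nat.cast_eq_zero, Finset.card_eq_zero, Finset.filter_eq_empty_iff]
    intro p hp h
    simp only [Finset.mem_product, mem_invFin] at hp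
    obtain ⟨hq1, hq2⟩ := hmem p hp.1 hp.2 h
    refine hxx (Subtype.ext ?_)
    show (x : G) * x = 1
    rw [← h]
    calc p.1 * p.2 * (p.1 * p.2) = p.1 * (p.2 * p.1) * p.2 := by group
      _ = 1 := by rw [hR.sq_one_central hq2 hp.2.2 hq1, ← mul_assoc, hp.1.2, one_mul, hp.2.2]

/-- Pairing the pair function with an induced function vanishing at one. -/
lemma R1.pair_indFun {f : Q → ℂ} (hf : f 1 = 0) (hreal : ∀ z ∈ invQ Q, conj (f z) = f z) :
    Cfsg.classInner (pairFun (invFin G)) (Cfsg.indFun Q f) * (Nat.card Q : ℂ) =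
      ((qOf Q : ℂ) - 2) * ∑ z ∈ invQ Q, f z := by
  classical
  haveI := Fintype.ofFinite Q
  have hcl : Cfsg.IsClassFunction G (pairFun (invFin G)) :=
    isClassFunction_pairFun fun h x hx => mem_invFin.2 ((mem_invFin.1 hx).conj h)
  have hterm : ∀ x : Q, pairFun (invFin G) (x : G) * conj (f x) =
      if x ∈ invQ Q then ((qOf Q : ℂ) - 2) * f x else 0 := by
    intro x
    by_cases hx : x = 1
    · subst hx; simp [hf, mem_invQ]
    · rw [hR.pairFun_Q hx]
      by_cases hxx : x * x = 1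
      · rw [if_pos hxx, if_pos (mem_invQ.2 ⟨hx, hxx⟩), hreal x (mem_invQ.2 ⟨hx, hxx⟩)]
      · rw [if_neg hxx, if_neg fun h => hxx (mem_invQ.1 h).2, zero_mul]
  have hn : (Nat.card Q : ℂ) ≠ 0 := Nat.cast_ne_zero.2 Nat.card_pos.ne'
  rw [CharInd.classInner_indFun_right Q f hcl, Cfsg.classInner,
    Finset.sum_congr rfl fun x _ => hterm x, Finset.sum_ite_mem, Finset.univ_inter,
    ← Finset.mul_sum]
  field_simp

end

end Cfsg.Agent.Suz27
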