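import Mathlib

/-!
# Uniqueness of the unitary rank one groups: the algebra

Elements of `Q` are `inl ζ` (the central involutions and `1`) and `inr (T, B)` with `det (T, B) = 1`.
The only non-trivial relation is the product along the structure equation; it forces the inverse of
the squaring map to be an anisotropic quadratic form with polar form `det`.
-/

set_option autoImplicit false

namespace Cfsg.Agent.Suz27.Core

variable {F : Type} [Field F]

/-- Rows. -/
abbrev Vec (F : Type) := F × F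

/-- The determinant in characteristic two. -/
def dt (X Y : Vec F) : F := X.1 * Y.2 + X.2 * Y.1

theorem dt_add_left (X Y Z : Vec F) : dt (X + Y) Z = dt X Z + dt Y Z := by
  simp [dt]; ring

theorem dt_add_right (X Y Z : Vec F) : dt X (Y + Z) = dt X Y + dt X Z := by
  simp [dt]; ring

theorem dt_smul_left (k : F) (X Y : Vec F) : dt (k • X) Y = k * dt X Y := by
  simp [dt]; ring

theorem dt_smul_right (k : F) (X Y : Vec F) : dt X (k • Y) = k * dt X Y := by
  simp [dt]; ring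

theorem dt_comm (X Y : Vec F) : dt X Y = dt Y X := by simp [dt]; ring

theorem dt_zero_right (X : Vec F) : dt X 0 = 0 := by simp [dt]

variable [CharP F 2]

theorem dt_self (X : Vec F) : dt X X = 0 := by
  rw [dt, mul_comm X.2]; exact CharTwo.add_self_eq_zero _

theorem vec_add_self (X : Vec F) : X + X = 0 :=
  Prod.ext (CharTwo.add_self_eq_zero _) (CharTwo.add_self_eq_zero _)

/-- Pairs of rows of determinant one. -/
abbrev Pr (F : Type) [Field F] := {p : Vec F × Vec F // dt p.1 p.2 = 1}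

/-- The labels. -/
abbrev Lab (F : Type) [Field F] := F ⊕ Pr F

theorem Pr.top_ne (p : Pr F) : p.1.1 ≠ 0 := fun h => by
  have := p.2; rw [h, dt_comm, dt_zero_right] at this; exact zero_ne_one this

theorem Pr.bot_ne (p : Pr F) : p.1.2 ≠ 0 := fun h => by
  have := p.2; rw [h, dt_zero_right] at this; exact zero_ne_one this

/-- Add a multiple of the bottom row to the top row. -/
def sh (ζ : F) (p : Pr F) : Pr F :=
  ⟨(p.1.1 + ζ • p.1.2, p.1.2), by rw [dt_add_left, dt_smul_left, dt_self, mul_zero, add_zero, p.2]⟩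

/-- Exchange the rows. -/
def sw (p : Pr F) : Pr F := ⟨(p.1.2, p.1.1), by rw [dt_comm, p.2]⟩

@[simp] theorem sh_top (ζ : F) (p : Pr F) : (sh ζ p).1.1 = p.1.1 + ζ • p.1.2 := rfl
@[simp] theorem sh_bot (ζ : F) (p : Pr F) : (sh ζ p).1.2 = p.1.2 := rfl
@[simp] theorem sw_top (p : Pr F) : (sw p).1.1 = p.1.2 := rfl
@[simp] theorem sw_bot (p : Pr F) : (sw p).1.2 = p.1.1 := rfl
@[simp] theorem sw_sw (p : Pr F) : sw (sw p) = p := rfl

theorem sh_sh (ζ η : F) (p : Pr F) : sh ζ (sh η p) = sh (ζ + η) p := by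
  refine Subtype.ext (Prod.ext ?_ rfl)
  simp only [sh_top, sh_bot, add_smul]
  abel

theorem sh_zero (p : Pr F) : sh 0 p = p :=
  Subtype.ext (Prod.ext (by simp) rfl)

theorem sh_self (ζ : F) (p : Pr F) : sh ζ (sh ζ p) = p := by
  rw [sh_sh, CharTwo.add_self_eq_zero, sh_zero]

/-- Every vector in the basis of a pair. -/
theorem expand (p : Pr F) (X : Vec F) : X = dt X p.1.2 • p.1.1 + dt p.1.1 X • p.1.2 := by
  obtain ⟨⟨T, B⟩, h⟩ := p
  simp only [dt] at h
  refine Prod.ext ?_ ?_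
  · simp only [dt, Prod.fst_add, Prod.smul_fst, smul_eq_mul]
    linear_combination (-X.1) * h - (T.1 * B.1 * X.2) * (CharTwo.two_eq_zero (R := F))
  · simp only [dt, Prod.snd_add, Prod.smul_snd, smul_eq_mul]
    linear_combination (-X.2) * h - (T.2 * B.2 * X.1) * (CharTwo.two_eq_zero (R := F))

/-- Two pairs with the same bottom row differ by a shift. -/
theorem exists_sh {p p' : Pr F} (h : p'.1.2 = p.1.2) : ∃ ζ : F, p' = sh ζ p := by
  refine ⟨dt p.1.1 p'.1.1, Subtype.ext (Prod.ext ?_ h)⟩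
  conv_lhs => rw [expand p p'.1.1]
  rw [show dt p'.1.1 p.1.2 = 1 by rw [← h]; exact p'.2, one_smul, sh_top]

/-- Coordinates on an abstract group. -/
structure Coord (F : Type) [Field F] [CharP F 2] (Q : Type*) [Group Q] where
  /-- The labelling. -/
  lab : Lab F → Q
  bij : Function.Bijective lab
  /-- The squaring map in coordinates. -/
  φ : Vec F → F
  zz : ∀ ζ η, lab (.inl ζ) * lab (.inl η) = lab (.inl (ζ + η))
  zp : ∀ ζ p, lab (.inl ζ) * lab (.inr p) = lab (.inr (sh ζ p))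
  pz : ∀ ζ p, lab (.inr p) * lab (.inl ζ) = lab (.inr (sh ζ p))
  sq : ∀ p : Pr F, lab (.inr p) * lab (.inr p) = lab (.inl (φ p.1.2))
  φ_ne : ∀ B, B ≠ 0 → φ B ≠ 0
  φ_smul : ∀ (μ : F) B, μ ≠ 0 → B ≠ 0 → φ (μ • B) = φ B * (μ ^ 2)⁻¹
  ident : ∀ p : Pr F, ∃ (Λ : F) (σ : F ≃+* F), Λ ≠ 0 ∧ ∀ η : F, η ≠ 0 →
    lab (.inr (sh (φ p.1.1) (sw p))) * lab (.inr (sw (sh η p))) =
      lab (.inr (sw (sh (Λ * (σ η)⁻¹) (sw (sh (φ p.1.1) (sw p))))))

namespace Coord

variable {Q : Type*} [Group Q] (C : Coord F Q)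

/-- The labelling as an equivalence. -/
noncomputable def equiv : Lab F ≃ Q := Equiv.ofBijective C.lab C.bij

@[simp] theorem equiv_apply (x : Lab F) : C.equiv x = C.lab x := rfl

theorem lab_zero : C.lab (.inl 0) = 1 := by
  have h := C.zz 0 0
  rw [add_zero] at h
  exact mul_eq_right.1 h

theorem inl_comm (ζ : F) (x : Q) : C.lab (.inl ζ) * x = x * C.lab (.inl ζ) := by
  obtain ⟨x, rfl⟩ := C.bij.2 x
  rcases x with η | p
  · rw [C.zz, C.zz, add_comm]
  · rw [C.zp, C.pz]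

theorem inr_inv (p : Pr F) : (C.lab (.inr p))⁻¹ = C.lab (.inr (sh (C.φ p.1.2) p)) := by
  refine inv_eq_of_mul_eq_one_right ?_
  rw [← C.zp, ← mul_assoc, ← C.inl_comm, mul_assoc, C.sq, C.zz, CharTwo.add_self_eq_zero, C.lab_zero]

/-- The bottom row. -/
noncomputable def bot (x : Q) : Vec F := Sum.elim (fun _ => 0) (fun p => p.1.2) (C.equiv.symm x)

@[simp] theorem bot_inl (ζ : F) : C.bot (C.lab (.inl ζ)) = 0 := by
  rw [bot, ← C.equiv_apply, Equiv.symm_apply_apply]; rfl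

@[simp] theorem bot_inr (p : Pr F) : C.bot (C.lab (.inr p)) = p.1.2 := by
  rw [bot, ← C.equiv_apply, Equiv.symm_apply_apply]; rfl

theorem bot_inl_mul (ζ : F) (x : Q) : C.bot (C.lab (.inl ζ) * x) = C.bot x := by
  obtain ⟨x, rfl⟩ := C.bij.2 x
  rcases x with η | p
  · rw [C.zz, bot_inl, bot_inl]
  · rw [C.zp, bot_inr, bot_inr, sh_bot]

theorem sq_central (x : Q) : ∃ ζ, x * x = C.lab (.inl ζ) := by
  obtain ⟨x, rfl⟩ := C.bij.2 x
  rcases x with η | p
  · exact ⟨η + η, C.zz η η⟩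
  · exact ⟨_, C.sq p⟩

theorem bot_mul_comm (x y : Q) : C.bot (x * y) = C.bot (y * x) := by
  obtain ⟨a, ha⟩ := C.sq_central x
  obtain ⟨b, hb⟩ := C.sq_central y
  obtain ⟨c, hc⟩ := C.sq_central (x * y)
  have hinv : ∀ d, (C.lab (.inl d))⁻¹ = C.lab (.inl d) := fun d => inv_eq_of_mul_eq_one_right (by
    rw [C.zz, CharTwo.add_self_eq_zero, C.lab_zero])
  have hx : x⁻¹ = C.lab (.inl a) * x := by
    rw [← hinv a, ← ha]; group
  have hy : y⁻¹ = y * C.lab (.inl b) := by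
    rw [← hinv b, ← hb]; group
  have key : y * x = C.lab (.inl (a + c + b)) * (x * y) := by
    calc y * x = x⁻¹ * (x * y * (x * y)) * y⁻¹ := by group
      _ = C.lab (.inl a) * (x * C.lab (.inl c)) * (y * C.lab (.inl b)) := by rw [hc, hx, hy]; group
      _ = C.lab (.inl a) * (C.lab (.inl c) * x) * (C.lab (.inl b) * y) := by
        rw [← C.inl_comm c, ← C.inl_comm b]
      _ = C.lab (.inl a) * C.lab (.inl c) * (x * C.lab (.inl b)) * y := by group
      _ = C.lab (.inl a) * C.lab (.inl c) * (C.lab (.inl b) * x) * y := by rw [← C.inl_comm b]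
      _ = _ := by rw [← mul_assoc _ (C.lab (.inl b)), C.zz, C.zz]; group
  rw [key, C.bot_inl_mul]

/-- The inverse of the squaring map. -/
noncomputable def qa (X : Vec F) : F := (C.φ X)⁻¹

theorem qa_ne {X : Vec F} (h : X ≠ 0) : C.qa X ≠ 0 := inv_ne_zero (C.φ_ne X h)

theorem qa_smul (μ : F) {X : Vec F} (hμ : μ ≠ 0) (h : X ≠ 0) :
    C.qa (μ • X) = μ ^ 2 * C.qa X := by
  rw [qa, qa, C.φ_smul μ X hμ h, mul_inv, inv_inv, mul_comm]

/-- The identity at one point gives the values on a line. -/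
theorem line (p : Pr F) : ∃ (Cc : F) (σ : F ≃+* F), Cc ≠ 0 ∧
    (∀ Λ : F, ∀ τ : F ≃+* F, Λ ≠ 0 → (∀ η : F, η ≠ 0 →
      C.lab (.inr (sh (C.φ p.1.1) (sw p))) * C.lab (.inr (sw (sh η p))) =
        C.lab (.inr (sw (sh (Λ * (τ η)⁻¹) (sw (sh (C.φ p.1.1) (sw p))))))) →
      ∀ η, η ≠ 0 → Cc * σ η = C.qa p.1.1 * Λ⁻¹ * τ η) ∧
    ∀ η : F, C.qa (p.1.1 + η • p.1.2) = C.qa p.1.1 + η + Cc * (η * σ η) := by
  obtain ⟨Λ, σ, hΛ, hid⟩ := C.ident p
  have hT := p.top_ne
  have hφT := C.φ_ne _ hT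
  refine ⟨C.qa p.1.1 * Λ⁻¹, σ, mul_ne_zero (C.qa_ne hT) (inv_ne_zero hΛ), ?_, fun η => ?_⟩
  · intro Λ' τ hΛ' hid' η hη
    have h := (hid η hη).symm.trans (hid' η hη)
    have h1 := congrArg (fun r : Pr F => dt r.1.2 p.1.1) (Sum.inr.inj (C.bij.1 h))
    simp only [sw_bot, sh_top, sw_top, sh_bot, dt_add_left, dt_smul_left, dt_self, mul_zero,
      add_zero, zero_add, dt_comm p.1.2 p.1.1, p.2, mul_one] at h1
    have hση : σ η ≠ 0 := (map_ne_zero σ).2 hη
    have hτη : τ η ≠ 0 := (map_ne_zero τ).2 hη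
    field_simp at h1 ⊢
    linear_combination (-C.qa p.1.1) * h1
  rcases eq_or_ne η 0 with rfl | hη
  · simp
  set p' := sh η p with hp'
  obtain ⟨Λ', σ', hΛ', hid'⟩ := C.ident p'
  have h1 := hid η hη
  have h2 := hid' η hη
  rw [hp', sh_self] at h2
  -- both products have the bottom row of the product of the two involved elements
  have e : ∀ (r r' : Pr F) (ζ : F), C.bot (C.lab (.inr (sh ζ r)) * C.lab (.inr r')) =
      C.bot (C.lab (.inr r) * C.lab (.inr r')) := fun r r' ζ => by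
    rw [← C.zp, mul_assoc, C.bot_inl_mul]
  have h3 : C.bot (C.lab (.inr (sw p)) * C.lab (.inr (sw p'))) =
      C.bot (C.lab (.inr (sw p')) * C.lab (.inr (sw p))) := C.bot_mul_comm _ _
  rw [← e _ _ (C.φ p.1.1), ← e (sw p') _ (C.φ p'.1.1), hp', h1, h2] at h3
  simp only [bot_inr, sw_bot, sh_top, sw_top, sh_bot] at h3
  set T := p.1.1 with hTdef
  set B := p.1.2 with hBdef
  have hTB : dt T B = 1 := p.2
  set P := T + η • B with hP
  have hP' : P ≠ 0 := p'.top_ne
  have hφP := C.φ_ne _ hP'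
  set k := Λ * (σ η)⁻¹
  set k' := Λ' * (σ' η)⁻¹
  have hk : k ≠ 0 := mul_ne_zero hΛ (inv_ne_zero ((map_ne_zero σ).2 hη))
  have hk' : k' ≠ 0 := mul_ne_zero hΛ' (inv_ne_zero ((map_ne_zero σ').2 hη))
  have hB : dt B T = 1 := by rw [dt_comm, hTB]
  have c1 := congrArg (fun X => dt X B) h3
  have c2 := congrArg (fun X => dt T X) h3
  simp only [hP, dt_add_left, dt_add_right, dt_smul_left, dt_smul_right, dt_self, hTB, hB,
    mul_zero, mul_one, add_zero, zero_add] at c1 c2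
  have c1' : k * C.φ T = k' * C.φ P := by simpa [hP] using c1
  have c2' : k = η + k' * (1 + C.φ P * η) := by simpa [hP, mul_add, mul_comm, mul_left_comm] using c2
  have hσ : σ η ≠ 0 := (map_ne_zero σ).2 hη
  show (C.φ P)⁻¹ = (C.φ T)⁻¹ + η + (C.φ T)⁻¹ * Λ⁻¹ * (η * σ η)
  have hs : (C.φ T)⁻¹ * Λ⁻¹ * (η * σ η) = η * (C.φ T)⁻¹ * k⁻¹ := by
    simp only [k]; field_simp
  rw [hs]
  field_simp
  linear_combination (1 - η * C.φ P) * c1' - (C.φ P) * c2' - (η * C.φ P + k' * C.φ P ^ 2 * η) * (CharTwo.two_eq_zero (R := F))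

/-- The field automorphism is trivial and the values on a line are quadratic. -/
theorem line_quad (hF : ∃ g : F, g ≠ 0 ∧ g ≠ 1) (p : Pr F) (x : F) :
    C.qa (p.1.1 + x • p.1.2) = C.qa p.1.1 + x + C.qa p.1.2 * x ^ 2 := by
  have h2 : (2 : F) = 0 := CharTwo.two_eq_zero
  have triv : ∀ p : Pr F, ∃ Cc : F, ∀ x,
      C.qa (p.1.1 + x • p.1.2) = C.qa p.1.1 + x + Cc * x ^ 2 := by
    intro p
    obtain ⟨c0, σ, hc0, -, h0⟩ := C.line p
    obtain ⟨c1, σ1, -, -, h1⟩ := C.line (sh 1 p)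
    refine ⟨c0, fun x => ?_⟩
    have e : ∀ x, C.qa p.1.1 + x + c0 * (x * σ x) =
        C.qa (p.1.1 + (1 : F) • p.1.2) + (x + 1) + c1 * ((x + 1) * σ1 (x + 1)) := fun x => by
      rw [← h0 x]
      have h := h1 (x + 1)
      rw [sh_top, sh_bot] at h
      rw [← h, add_assoc, ← add_smul]
      congr 3
      linear_combination -(1 : F) * h2
    have e0 := e 0
    have e1 := e 1
    simp only [map_zero, map_one, CharTwo.add_self_eq_zero, zero_add, mul_zero, add_zero,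
      mul_one] at e0 e1
    have hc : c1 = c0 := by linear_combination e1 - e0 - (c0 + 1) * h2
    have hA : ∀ x, x * σ x = x * σ1 x + x + σ1 x := by
      intro x
      have ex := e x
      rw [map_add, map_one, hc] at ex
      have : c0 * (x * σ x - (x * σ1 x + x + σ1 x)) = 0 := by
        rw [hc] at e0
        linear_combination ex - e0
      exact sub_eq_zero.1 ((mul_eq_zero.1 this).resolve_left hc0)
    have hσ : σ x = x := by
      have a := hA x
      have b := hA (x + 1)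
      rw [map_add, map_one, map_add, map_one] at b
      have s1 : σ x = σ1 x := by linear_combination b - a + h2
      rw [s1] at a ⊢
      linear_combination -a - x * h2
    rw [h0 x, hσ]; ring
  obtain ⟨c, hc⟩ := triv p
  obtain ⟨c', hc'⟩ := triv (sw p)
  obtain ⟨g, hg0, hg1⟩ := hF
  have key : ∀ y : F, y ≠ 0 → (c - C.qa p.1.2) * y ^ 2 + (C.qa p.1.1 - c') = 0 := by
    intro y hy
    have h1 := hc y
    have h2' := hc' y⁻¹
    simp only [sw_top, sw_bot] at h2'
    have hX : p.1.1 + y • p.1.2 = y • (p.1.2 + y⁻¹ • p.1.1) := by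
      rw [smul_add, smul_smul, mul_inv_cancel₀ hy, one_smul, add_comm]
    rw [hX, C.qa_smul y hy (show p.1.2 + y⁻¹ • p.1.1 ≠ 0 from (sh y⁻¹ (sw p)).top_ne), h2'] at h1
    field_simp at h1
    linear_combination -h1
  have k1 := key 1 one_ne_zero
  have k2 := key g hg0
  have hg : (g + 1) ^ 2 ≠ 0 := pow_ne_zero _ fun h => hg1 (CharTwo.add_eq_zero.1 h)
  have hcB : (c - C.qa p.1.2) * (g + 1) ^ 2 = 0 := by
    linear_combination k2 - k1 + (c - C.qa p.1.2) * (g + 1) * h2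
  rw [hc x, sub_eq_zero.1 ((mul_eq_zero.1 hcB).resolve_right hg)]

/-- The quadratic form. -/
theorem qa_form (hF : ∃ g : F, g ≠ 0 ∧ g ≠ 1) {X : Vec F} (hX : X ≠ 0) :
    C.qa X = C.qa (1, 0) * X.1 ^ 2 + X.1 * X.2 + C.qa (0, 1) * X.2 ^ 2 := by
  obtain ⟨x, y⟩ := X
  rcases eq_or_ne x 0 with rfl | hx
  · have hy : y ≠ 0 := fun h => hX (by rw [h]; rfl)
    rw [show ((0 : F), y) = y • ((0 : F), (1 : F)) by simp, C.qa_smul y hy (by simp)]
    simp; ring
  · have h := C.line_quad hF ⟨((1, 0), (0, 1)), by simp [dt]⟩ (x⁻¹ * y)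
    have hne : ((1 : F), (0 : F)) + (x⁻¹ * y) • ((0 : F), (1 : F)) ≠ 0 := by simp
    rw [show (x, y) = x • (((1 : F), (0 : F)) + (x⁻¹ * y) • ((0 : F), (1 : F))) by simp [hx],
      C.qa_smul x hx hne, h]
    simp
    field_simp

/-- The product in coordinates. -/
theorem mul_formula (hF : ∃ g : F, g ≠ 0 ∧ g ≠ 1) (p : Pr F) {η : F} (hη : η ≠ 0) :
    C.lab (.inr (sh (C.qa p.1.1)⁻¹ (sw p))) * C.lab (.inr (sw (sh η p))) =
      C.lab (.inr (sw (sh (C.qa p.1.1 * (C.qa p.1.2)⁻¹ * η⁻¹) (sw (sh (C.qa p.1.1)⁻¹ (sw p)))))) := by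
  obtain ⟨Λ, τ, hΛ, hid⟩ := C.ident p
  obtain ⟨c, σ, hc, hu, hl⟩ := C.line p
  have hQ : ∀ x, c * (x * σ x) = C.qa p.1.2 * x ^ 2 := fun x => by
    have := (C.line_quad hF p x).symm.trans (hl x)
    linear_combination -this
  have h1 := hu Λ τ hΛ hid
  have hcB : c = C.qa p.1.2 := by simpa using hQ 1
  have hσ : ∀ x, x ≠ 0 → σ x = x := fun x hx => by
    have := hQ x
    rw [hcB] at this
    have h' : C.qa p.1.2 * (x * (σ x - x)) = 0 := by linear_combination this
    rcases mul_eq_zero.1 h' with h | h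
    · exact absurd h (C.qa_ne p.bot_ne)
    · exact sub_eq_zero.1 ((mul_eq_zero.1 h).resolve_left hx)
  have e1 := h1 1 one_ne_zero
  rw [map_one, map_one, mul_one, mul_one, hcB] at e1
  have eη := h1 η hη
  rw [hσ η hη, hcB, e1] at eη
  have hτ : τ η = η := (mul_left_cancel₀
    (mul_ne_zero (C.qa_ne p.top_ne) (inv_ne_zero hΛ)) eη).symm
  have hΛ' : Λ = C.qa p.1.1 * (C.qa p.1.2)⁻¹ := by
    rw [e1]
    have := C.qa_ne p.top_ne
    field_simp
  rw [qa, inv_inv]
  rw [hid η hη, hτ, hΛ', qa, qa]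

end Coord

end Cfsg.Agent.Suz27.Core
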