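import Cfsg.Agent.Suz27.CoreAlg

/-!
# Uniqueness of the unitary rank one groups: the group `Q` is determined
-/

set_option autoImplicit false

namespace Cfsg.Agent.Suz27.Core

variable {F : Type} [Field F] [CharP F 2]

namespace Coord

variable {Q : Type*} [Group Q] (C : Coord F Q)

/-- Change the rows by a determinant preserving linear map. -/
noncomputable def change (M : Vec F ≃ₗ[F] Vec F) (hM : ∀ X Y, dt (M X) (M Y) = dt X Y) :
    Coord F Q :=
  let m : Pr F → Pr F := fun p => ⟨(M p.1.1, M p.1.2), by rw [hM, p.2]⟩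
  { lab := fun l => C.lab (l.map id m)
    bij := by
      refine C.bij.comp ⟨?_, ?_⟩
      · rintro (a | a) (b | b) h <;> simp only [Sum.map_inl, Sum.map_inr, id, reduceCtorEq] at h
        · exact h
        · refine congrArg Sum.inr (Subtype.ext ?_)
          have h' := congrArg Subtype.val (Sum.inr.inj h)
          simp only [m, Prod.mk.injEq, EmbeddingLike.apply_eq_iff_eq] at h'
          exact Prod.ext h'.1 h'.2
      · rintro (a | a)
        · exact ⟨.inl a, rfl⟩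
        · refine ⟨.inr ⟨(M.symm a.1.1, M.symm a.1.2), ?_⟩, ?_⟩
          · rw [← hM, M.apply_symm_apply, M.apply_symm_apply, a.2]
          · simp [m]
    φ := fun X => C.φ (M X)
    zz := C.zz
    zp := fun ζ p => by
      show C.lab (.inl ζ) * C.lab (.inr (m p)) = C.lab (.inr (m (sh ζ p)))
      rw [C.zp]; congr 2; exact Subtype.ext (Prod.ext (by simp [m]) rfl)
    pz := fun ζ p => by
      show C.lab (.inr (m p)) * C.lab (.inl ζ) = C.lab (.inr (m (sh ζ p)))
      rw [C.pz]; congr 2; exact Subtype.ext (Prod.ext (by simp [m]) rfl)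
    sq := fun p => C.sq (m p)
    φ_ne := fun B hB => C.φ_ne _ (by simpa using hB)
    φ_smul := fun μ B hμ hB => by rw [map_smul]; exact C.φ_smul μ _ hμ (by simpa using hB)
    ident := fun p => by
      obtain ⟨Λ, σ, hΛ, h⟩ := C.ident (m p)
      refine ⟨Λ, σ, hΛ, fun η hη => ?_⟩
      have e1 : ∀ ζ (r : Pr F), m (sh ζ r) = sh ζ (m r) := fun ζ r =>
        Subtype.ext (Prod.ext (by simp [m]) rfl)
      have e2 : ∀ r : Pr F, m (sw r) = sw (m r) := fun r => rfl
      simp only [Sum.map_inr, e1, e2]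
      exact h η hη }

theorem change_qa (M : Vec F ≃ₗ[F] Vec F) (hM : ∀ X Y, dt (M X) (M Y) = dt X Y) (X : Vec F) :
    (C.change M hM).qa X = C.qa (M X) := rfl

/-- The additive coordinate on the quotient by the centre. -/
noncomputable def psi (x : Q) : Vec F := (C.qa (C.bot x))⁻¹ • C.bot x

theorem psi_inr (p : Pr F) : C.psi (C.lab (.inr p)) = (C.qa p.1.2)⁻¹ • p.1.2 := by
  rw [psi, bot_inr]

theorem psi_inl (ζ : F) : C.psi (C.lab (.inl ζ)) = 0 := by
  rw [psi, bot_inl, smul_zero]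

theorem psi_inl_mul (ζ : F) (x : Q) : C.psi (C.lab (.inl ζ) * x) = C.psi x := by
  rw [psi, bot_inl_mul, psi]

theorem psi_eq_zero {x : Q} (h : C.psi x = 0) : ∃ ζ, x = C.lab (.inl ζ) := by
  obtain ⟨x, rfl⟩ := C.bij.2 x
  rcases x with ζ | p
  · exact ⟨ζ, rfl⟩
  · rw [psi_inr, smul_eq_zero, inv_eq_zero] at h
    rcases h with h | h
    · exact absurd h (C.qa_ne p.bot_ne)
    · exact absurd h p.bot_ne

theorem psi_scale {p q : Pr F} : dt (C.psi (C.lab (.inr p))) (C.psi (C.lab (.inr q))) =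
    (C.qa p.1.2)⁻¹ * (C.qa q.1.2)⁻¹ * dt p.1.2 q.1.2 := by
  rw [psi_inr, psi_inr, dt_smul_left, dt_smul_right]; ring

/-- Independent elements, brought to the shape of the product formula. -/
theorem indep_form {x y : Q} (h : dt (C.psi x) (C.psi y) ≠ 0) :
    ∃ (p : Pr F) (η ζ ζ' : F), η ≠ 0 ∧
      x = C.lab (.inl ζ) * C.lab (.inr (sh (C.qa p.1.1)⁻¹ (sw p))) ∧
      y = C.lab (.inl ζ') * C.lab (.inr (sw (sh η p))) := by
  obtain ⟨x, rfl⟩ := C.bij.2 x
  obtain ⟨y, rfl⟩ := C.bij.2 y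
  rcases x with a | px
  · rw [psi_inl, dt_comm, dt_zero_right] at h; exact absurd rfl h
  rcases y with b | py
  · rw [psi_inl, dt_zero_right] at h; exact absurd rfl h
  rw [psi_scale] at h
  set d := dt px.1.2 py.1.2 with hd
  have hd0 : d ≠ 0 := right_ne_zero_of_mul h
  let p : Pr F := ⟨(px.1.2, d⁻¹ • (py.1.2 + px.1.2)), by
    rw [dt_smul_right, dt_add_right, dt_self, add_zero, ← hd, inv_mul_cancel₀ hd0]⟩
  obtain ⟨ζ, hζ⟩ := exists_sh (p := sh (C.qa p.1.1)⁻¹ (sw p)) (p' := px) rfl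
  obtain ⟨ζ', hζ'⟩ := exists_sh (p := sw (sh d p)) (p' := py) (by
    show py.1.2 = px.1.2 + d • d⁻¹ • (py.1.2 + px.1.2)
    rw [smul_smul, mul_inv_cancel₀ hd0, one_smul, add_left_comm, vec_add_self, add_zero])
  exact ⟨p, d, ζ, ζ', hd0, by rw [C.zp, ← hζ], by rw [C.zp, ← hζ']⟩

variable (hF : ∃ g : F, g ≠ 0 ∧ g ≠ 1)
include hF

/-- The value of the form on an affine line, in general position. -/
theorem qa_line (T B : Vec F) (h : dt T B = 1) (x : F) :
    C.qa (T + x • B) = C.qa T + x + C.qa B * x ^ 2 := C.line_quad hF ⟨(T, B), h⟩ x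

theorem psi_mul_indep {x y : Q} (h : dt (C.psi x) (C.psi y) ≠ 0) :
    C.psi (x * y) = C.psi x + C.psi y := by
  obtain ⟨p, η, ζ, ζ', hη, rfl, rfl⟩ := C.indep_form h
  have e : ∀ a b : Q, C.psi (C.lab (.inl ζ) * a * (C.lab (.inl ζ') * b)) = C.psi (a * b) := by
    intro a b
    rw [mul_assoc, psi_inl_mul, ← mul_assoc, ← C.inl_comm, mul_assoc, psi_inl_mul]
  rw [e, C.mul_formula hF p hη, psi_inl_mul, psi_inl_mul, psi_inr, psi_inr, psi_inr]
  simp only [sw_bot, sh_top, sw_top, sh_bot]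
  obtain ⟨⟨T, B⟩, hTB⟩ := p
  simp only
  set aT := C.qa T with haT
  set aB := C.qa B with haB
  have hTB' : dt T B = 1 := hTB
  have hT : aT ≠ 0 := C.qa_ne (Pr.top_ne ⟨(T, B), hTB⟩)
  have hB : aB ≠ 0 := C.qa_ne (Pr.bot_ne ⟨(T, B), hTB⟩)
  have hP : C.qa (T + η • B) = aT + η + aB * η ^ 2 := C.qa_line hF T B hTB' η
  have hPne : C.qa (T + η • B) ≠ 0 := C.qa_ne (Pr.top_ne (sh η ⟨(T, B), hTB⟩))
  have hS : C.qa (B + aT⁻¹ • T) = aB + aT⁻¹ + aT * aT⁻¹ ^ 2 :=
    C.qa_line hF B T (by rw [dt_comm]; exact hTB') _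
  have hR : C.qa (T + (aT * aB⁻¹ * η⁻¹) • (B + aT⁻¹ • T)) =
      aT + aT * aB⁻¹ * η⁻¹ + (aB + aT⁻¹ + aT * aT⁻¹ ^ 2) * (aT * aB⁻¹ * η⁻¹) ^ 2 := by
    rw [C.qa_line hF T _ (by rw [dt_add_right, dt_smul_right, dt_self, mul_zero, add_zero, hTB']) _,
      hS]
  have h2 : (2 : F) = 0 := CharTwo.two_eq_zero
  have hS' : aB + aT⁻¹ + aT * aT⁻¹ ^ 2 = aB := by
    field_simp
    linear_combination h2
  rw [hS'] at hR
  have hRne : C.qa (T + (aT * aB⁻¹ * η⁻¹) • (B + aT⁻¹ • T)) ≠ 0 :=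
    C.qa_ne (Pr.top_ne (sh _ ⟨(T, B + aT⁻¹ • T), by
      rw [dt_add_right, dt_smul_right, dt_self, mul_zero, add_zero, hTB']⟩))
  rw [hR] at hRne ⊢
  rw [hP] at hPne ⊢
  set k := aT * aB⁻¹ * η⁻¹ with hk
  set aP := aT + η + aB * η ^ 2 with haP
  set aR := aT + k + aB * k ^ 2 with haR
  have cB : k * aR⁻¹ = η * aP⁻¹ := by
    rw [mul_inv_eq_iff_eq_mul₀ hRne, mul_assoc, mul_comm aP⁻¹, ← mul_assoc,
      eq_mul_inv_iff_mul_eq₀ hPne, haR, haP, hk]
    field_simp
    ring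
  have key : (aT + k) * aP = aR * (aP + aT) := by
    rw [haR, haP, hk]
    field_simp
    linear_combination (-(η * aT + η ^ 2 * aB * aT + aT ^ 2)) * h2
  have cT : (1 + k * aT⁻¹) * aR⁻¹ = aT⁻¹ + aP⁻¹ := by
    field_simp
    linear_combination key
  calc aR⁻¹ • (T + k • (B + aT⁻¹ • T))
      = ((1 + k * aT⁻¹) * aR⁻¹) • T + (k * aR⁻¹) • B := by module
    _ = (aT⁻¹ + aP⁻¹) • T + (η * aP⁻¹) • B := by rw [cT, cB]
    _ = aT⁻¹ • T + aP⁻¹ • (T + η • B) := by module

theorem psi_mul (x y : Q) : C.psi (x * y) = C.psi x + C.psi y := by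
  by_cases hx : C.psi x = 0
  · obtain ⟨ζ, rfl⟩ := C.psi_eq_zero hx
    rw [psi_inl_mul, psi_inl, zero_add]
  by_cases hy : C.psi y = 0
  · obtain ⟨ζ, rfl⟩ := C.psi_eq_zero hy
    rw [← C.inl_comm, psi_inl_mul, psi_inl, add_zero]
  by_cases h : dt (C.psi x) (C.psi y) ≠ 0
  · exact C.psi_mul_indep hF h
  push Not at h
  -- the three lines through the standard vectors
  have span : ∀ u v w : Vec F, u ≠ 0 → dt u v = 0 → dt u w = 0 → dt v w = 0 := by
    intro u v w hu h1 h2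
    simp only [dt] at h1 h2 ⊢
    have e2 : (2 : F) = 0 := CharTwo.two_eq_zero
    rcases eq_or_ne u.1 0 with h0 | h0
    · have hu2 : u.2 ≠ 0 := fun h => hu (Prod.ext h0 h)
      refine (mul_eq_zero.1 (show u.2 * (v.1 * w.2 + v.2 * w.1) = 0 from ?_)).resolve_left hu2
      rw [h0, zero_mul, zero_add] at h1 h2
      linear_combination w.2 * h1 + v.2 * h2
    · refine (mul_eq_zero.1 (show u.1 * (v.1 * w.2 + v.2 * w.1) = 0 from ?_)).resolve_left h0
      linear_combination v.1 * h2 + w.1 * h1 - u.2 * v.1 * w.1 * e2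
  obtain ⟨w, hw1, hw2⟩ : ∃ w : Q, dt (C.psi x) (C.psi w) ≠ 0 ∧
      (C.psi (x * y) ≠ 0 → dt (C.psi (x * y)) (C.psi w) ≠ 0) := by
    have lift : ∀ W : Vec F, W ≠ 0 → ∀ u : Vec F, dt u W ≠ 0 → ∃ w : Q, ∀ u', dt u' W ≠ 0 →
        dt u' (C.psi w) ≠ 0 := by
      intro W hW u hu
      let p : Pr F := ⟨((dt u W)⁻¹ • u, W), by rw [dt_smul_left, inv_mul_cancel₀ hu]⟩
      refine ⟨C.lab (.inr p), fun u' hu' => ?_⟩
      rw [psi_inr, dt_smul_right]
      exact mul_ne_zero (inv_ne_zero (C.qa_ne hW)) hu'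
    have nb : ∀ u : Vec F, u ≠ 0 → dt u (1, 0) = 0 → dt u (0, 1) ≠ 0 ∧ dt u (1, 1) ≠ 0 := by
      intro u hu hu0
      have h2' : u.2 = 0 := by simpa [dt] using hu0
      have h1' : u.1 ≠ 0 := fun h => hu (Prod.ext h h2')
      exact ⟨by simp [dt, h1'], by simp [dt, h1', h2']⟩
    by_cases hxy : C.psi (x * y) = 0
    · by_cases h10 : dt (C.psi x) (1, 0) = 0
      · obtain ⟨w, hw⟩ := lift (0, 1) (by simp) _ (nb _ hx h10).1
        exact ⟨w, hw _ (nb _ hx h10).1, fun h => absurd hxy h⟩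
      · obtain ⟨w, hw⟩ := lift (1, 0) (by simp) _ h10
        exact ⟨w, hw _ h10, fun h => absurd hxy h⟩
    · by_cases h10 : dt (C.psi x) (1, 0) = 0 ∨ dt (C.psi (x * y)) (1, 0) = 0
      · by_cases h01 : dt (C.psi x) (0, 1) = 0 ∨ dt (C.psi (x * y)) (0, 1) = 0
        · have hh : dt (C.psi x) (1, 1) ≠ 0 ∧ dt (C.psi (x * y)) (1, 1) ≠ 0 := by
            rcases h10 with a | a <;> rcases h01 with b | b
            · exact absurd b (nb _ hx a).1
            · refine ⟨(nb _ hx a).2, fun e => ?_⟩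
              have : (C.psi (x * y)).1 = 0 := by simpa [dt] using b
              simp [dt, this] at e
              exact hxy (Prod.ext this e)
            · refine ⟨fun e => ?_, (nb _ hxy a).2⟩
              have : (C.psi x).1 = 0 := by simpa [dt] using b
              simp [dt, this] at e
              exact hx (Prod.ext this e)
            · exact absurd b (nb _ hxy a).1
          obtain ⟨w, hw⟩ := lift (1, 1) (by simp) _ hh.1
          exact ⟨w, hw _ hh.1, fun _ => hw _ hh.2⟩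
        · push Not at h01
          obtain ⟨w, hw⟩ := lift (0, 1) (by simp) _ h01.1
          exact ⟨w, hw _ h01.1, fun _ => hw _ h01.2⟩
      · push Not at h10
        obtain ⟨w, hw⟩ := lift (1, 0) (by simp) _ h10.1
        exact ⟨w, hw _ h10.1, fun _ => hw _ h10.2⟩
  have hyw : dt (C.psi y) (C.psi w) ≠ 0 := by
    intro e
    refine hw1 (span (C.psi y) _ _ hy ?_ e)
    rw [dt_comm]; exact h
  have e1 : C.psi (x * w) = C.psi x + C.psi w := C.psi_mul_indep hF hw1
  have hxwy : dt (C.psi (x * w)) (C.psi y) ≠ 0 := by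
    rw [e1, dt_add_left, h, zero_add, dt_comm]; exact hyw
  have e2 : C.psi (x * w * y) = C.psi x + C.psi w + C.psi y := by
    rw [C.psi_mul_indep hF hxwy, e1]
  have e3 : C.psi (x * w * y) = C.psi (x * y * w) := by
    have hb := C.bot_mul_comm w y
    obtain ⟨a, ha⟩ : ∃ a, w * y = C.lab (.inl a) * (y * w) := by
      obtain ⟨l1, hl1⟩ := C.bij.2 (y * w)
      obtain ⟨l2, hl2⟩ := C.bij.2 (w * y)
      rw [← hl1, ← hl2] at hb ⊢
      rcases l1 with a | p <;> rcases l2 with b | q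
      · exact ⟨b + a, by rw [C.zz, add_assoc, CharTwo.add_self_eq_zero, add_zero]⟩
      · rw [bot_inl, bot_inr] at hb; exact absurd hb q.bot_ne
      · rw [bot_inl, bot_inr] at hb; exact absurd hb.symm p.bot_ne
      · rw [bot_inr, bot_inr] at hb
        obtain ⟨a, rfl⟩ := exists_sh hb
        exact ⟨a, (C.zp a p).symm⟩
    rw [mul_assoc, ha, ← mul_assoc, ← C.inl_comm, mul_assoc, psi_inl_mul, ← mul_assoc]
  by_cases hxy : C.psi (x * y) = 0
  · obtain ⟨z, hz⟩ := C.psi_eq_zero hxy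
    rw [hz, psi_inl]
    rw [hz, psi_inl_mul, e2] at e3
    linear_combination (norm := skip) -(1 : F) • e3
    refine Prod.ext ?_ ?_ <;> simp <;> ring
  · rw [C.psi_mul_indep hF (hw2 hxy), e2] at e3
    exact add_right_cancel (e3.symm.trans (add_right_comm _ _ _))

end Coord

/-- Two coordinate systems with the same form define isomorphic groups, compatibly. -/
theorem exists_equiv (hF : ∃ g : F, g ≠ 0 ∧ g ≠ 1) {Q Q' : Type*} [Group Q] [Group Q']
    (C : Coord F Q) (C' : Coord F Q') (hqa : ∀ X : Vec F, X ≠ 0 → C.qa X = C'.qa X) :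
    ∃ e : Q ≃* Q', ∀ l, e (C.lab l) = C'.lab l := by
  let e : Q ≃ Q' := C.equiv.symm.trans C'.equiv
  have he : ∀ l, e (C.lab l) = C'.lab l := fun l => by
    show C'.equiv (C.equiv.symm (C.equiv l)) = _
    rw [Equiv.symm_apply_apply, Coord.equiv_apply]
  have hz : ∀ ζ y, e (C.lab (.inl ζ) * y) = C'.lab (.inl ζ) * e y := fun ζ y => by
    obtain ⟨l, rfl⟩ := C.bij.2 y
    rcases l with η | p
    · rw [C.zz, he, he, C'.zz]
    · rw [C.zp, he, he, C'.zp]
  have hmove : ∀ (ζ : F) (x : Q) y, x * (C.lab (.inl ζ) * y) = C.lab (.inl ζ) * (x * y) :=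
    fun ζ x y => by rw [← mul_assoc, ← C.inl_comm, mul_assoc]
  have hmove' : ∀ (ζ : F) (x : Q') y, x * (C'.lab (.inl ζ) * y) = C'.lab (.inl ζ) * (x * y) :=
    fun ζ x y => by rw [← mul_assoc, ← C'.inl_comm, mul_assoc]
  have hind : ∀ x y, dt (C.psi x) (C.psi y) ≠ 0 → e (x * y) = e x * e y := by
    intro x y h
    obtain ⟨p, η, ζ, ζ', hη, rfl, rfl⟩ := C.indep_form h
    rw [mul_assoc, hz, hmove, hz, hz, hz, he, he, mul_assoc, C.mul_formula hF p hη, he]
    have h1 := C'.mul_formula hF p hη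
    rw [← hqa _ p.top_ne, ← hqa _ p.bot_ne] at h1
    rw [hmove' ζ' (C'.lab (.inr (sh (C.qa p.1.1)⁻¹ (sw p)))), h1]
  refine ⟨⟨e, fun x y => ?_⟩, he⟩
  show e (x * y) = e x * e y
  by_cases hy : C.psi y = 0
  · obtain ⟨ζ, rfl⟩ := C.psi_eq_zero hy
    rw [← C.inl_comm, hz, he, C'.inl_comm]
  by_cases hx : C.psi x = 0
  · obtain ⟨ζ, rfl⟩ := C.psi_eq_zero hx
    rw [hz, he]
  by_cases h : dt (C.psi x) (C.psi y) ≠ 0
  · exact hind x y h
  push Not at h
  by_cases hxy : C.psi x = C.psi y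
  · obtain ⟨ζ, rfl⟩ : ∃ ζ, x = C.lab (.inl ζ) * y := by
      have h0 : C.psi (x * y⁻¹) = 0 := by
        have := C.psi_mul hF (x * y⁻¹) y
        rw [inv_mul_cancel_right, hxy] at this
        exact add_eq_right.1 this.symm
      obtain ⟨ζ, hζ⟩ := C.psi_eq_zero h0
      exact ⟨ζ, mul_inv_eq_iff_eq_mul.1 hζ⟩
    obtain ⟨l, rfl⟩ := C.bij.2 y
    rcases l with η | p
    · exact absurd (C.psi_inl η) hy
    · rw [mul_assoc, hz, C.sq, he, hz, he, mul_assoc, C'.sq]
      congr 3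
      rw [← inv_inv (C.φ _), ← inv_inv (C'.φ _)]
      exact congrArg Inv.inv (hqa _ p.bot_ne)
  -- split `x` through an element off the line
  obtain ⟨x2, hx2⟩ : ∃ x2 : Q, dt (C.psi x) (C.psi x2) ≠ 0 := by
    by_contra hcon
    push Not at hcon
    have key : ∀ W : Vec F, W ≠ 0 → ∀ u, dt u W = 1 → dt (C.psi x) W = 0 := by
      intro W hW u hu
      have := hcon (C.lab (.inr ⟨(u, W), hu⟩))
      rw [C.psi_inr, dt_smul_right] at this
      exact (mul_eq_zero.1 this).resolve_left (inv_ne_zero (C.qa_ne hW))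
    have a := key (1, 0) (by simp) (0, 1) (by simp [dt])
    have b := key (0, 1) (by simp) (1, 0) (by simp [dt])
    exact hx (Prod.ext (by simpa [dt] using b) (by simpa [dt] using a))
  have hyx2 : dt (C.psi y) (C.psi x2) ≠ 0 := by
    intro e'
    have h2' : (2 : F) = 0 := CharTwo.two_eq_zero
    have he2 : dt (C.psi x) (C.psi x2) * (C.psi y).1 = 0 ∧
        dt (C.psi x) (C.psi x2) * (C.psi y).2 = 0 := by
      simp only [dt] at h e' ⊢
      constructor
      · linear_combination (C.psi x).1 * e' + (C.psi x2).1 * h -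
          (C.psi x).1 * (C.psi y).2 * (C.psi x2).1 * h2'
      · linear_combination (C.psi x).2 * e' + (C.psi x2).2 * h -
          (C.psi x).2 * (C.psi y).1 * (C.psi x2).2 * h2'
    exact hy (Prod.ext ((mul_eq_zero.1 he2.1).resolve_left hx2)
      ((mul_eq_zero.1 he2.2).resolve_left hx2))
  set x1 := x * x2⁻¹ with hx1
  have hp1 : C.psi x1 = C.psi x + C.psi x2 := by
    have := C.psi_mul hF x1 x2
    rw [hx1, inv_mul_cancel_right] at this
    rw [this, add_assoc, vec_add_self, add_zero]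
  have hA : dt (C.psi x1) (C.psi x2) ≠ 0 := by
    rw [hp1, dt_add_left, dt_self, add_zero]; exact hx2
  have hB : dt (C.psi x2) (C.psi y) ≠ 0 := by rwa [dt_comm]
  have hC : dt (C.psi x1) (C.psi (x2 * y)) ≠ 0 := by
    rw [hp1, C.psi_mul_indep hF hB, dt_add_left, dt_add_right, dt_add_right, dt_self, h, add_zero,
      zero_add, dt_comm (C.psi x2) (C.psi y), ← dt_add_left]
    intro e'
    have e2 : (2 : F) = 0 := CharTwo.two_eq_zero
    set w := C.psi x + C.psi y with hw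
    have hwy : dt w (C.psi y) = 0 := by rw [hw, dt_add_left, h, dt_self, add_zero]
    have hw0 : w ≠ 0 := fun h0 => hxy (by
      have := congrArg (· + C.psi y) h0
      simpa [hw, add_assoc, vec_add_self] using this)
    have he2 : dt (C.psi y) (C.psi x2) * w.1 = 0 ∧ dt (C.psi y) (C.psi x2) * w.2 = 0 := by
      simp only [dt] at hwy e' ⊢
      constructor
      · linear_combination (C.psi y).1 * e' + (C.psi x2).1 * hwy -
          (C.psi y).1 * w.2 * (C.psi x2).1 * e2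
      · linear_combination (C.psi y).2 * e' + (C.psi x2).2 * hwy -
          (C.psi y).2 * w.1 * (C.psi x2).2 * e2
    exact hw0 (Prod.ext ((mul_eq_zero.1 he2.1).resolve_left hyx2)
      ((mul_eq_zero.1 he2.2).resolve_left hyx2))
  have ex : e x = e x1 * e x2 := by rw [← hind _ _ hA, hx1, inv_mul_cancel_right]
  rw [ex, mul_assoc, ← hind _ _ hB, ← hind _ _ hC, hx1, ← mul_assoc, inv_mul_cancel_right]

end Cfsg.Agent.Suz27.Core
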