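import Cfsg.Agent.Suz27.LineData
import Cfsg.Agent.Suz27.CoreUniq

/-!
# Coordinates on a unitary rank one group

`⟨Z, t⟩` is regular off its orbit, so the points off that orbit are pairs of rows of determinant one;
the structure equation, applied at the points of the orbit, is the relation of `Core.Coord`.
-/

set_option autoImplicit false

namespace Cfsg.Agent.Suz27.Core

open MulAction RankOne Matrix
open Cfsg.Agent.ZassNormal
open scoped MatrixGroups

section mat

variable {F : Type} [Field F] [CharP F 2]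

/-- The matrix with the given rows. -/
def mat (p : Pr F) : SL(2, F) :=
  ⟨!![p.1.1.1, p.1.1.2; p.1.2.1, p.1.2.2], by
    have h := p.2
    simp only [dt] at h
    rw [det_fin_two_of]
    linear_combination h - p.1.1.2 * p.1.2.1 * (CharTwo.two_eq_zero (R := F))⟩

theorem mat_injective : Function.Injective (mat (F := F)) := by
  intro p q h
  have h' : ∀ i j, (mat p).1 i j = (mat q).1 i j := fun i j => by rw [h]
  exact Subtype.ext (Prod.ext (Prod.ext (h' 0 0) (h' 0 1)) (Prod.ext (h' 1 0) (h' 1 1)))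

theorem mat_surjective : Function.Surjective (mat (F := F)) := by
  intro A
  have h : A.1 0 0 * A.1 1 1 - A.1 0 1 * A.1 1 0 = 1 := by rw [← det_fin_two]; exact A.2
  refine ⟨⟨((A.1 0 0, A.1 0 1), (A.1 1 0, A.1 1 1)), ?_⟩, ?_⟩
  · simp only [dt]
    linear_combination h + A.1 0 1 * A.1 1 0 * (CharTwo.two_eq_zero (R := F))
  · refine Subtype.ext ?_
    ext i j
    fin_cases i <;> fin_cases j <;> rfl

theorem mat_sh (ζ : F) (p : Pr F) : mat (sh ζ p) = transMat ζ * mat p := by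
  refine Subtype.ext ?_
  simp only [Matrix.SpecialLinearGroup.coe_mul, Matrix.SpecialLinearGroup.coe_one,
    Matrix.SpecialLinearGroup.map_apply_coe]
  ext i j
  fin_cases i <;> fin_cases j <;>
    simp [mat, sh, transMat, Matrix.mul_apply, Fin.sum_univ_two]

theorem mat_sw (p : Pr F) : mat (sw p) = weylMat * mat p := by
  refine Subtype.ext ?_
  simp only [Matrix.SpecialLinearGroup.coe_mul, Matrix.SpecialLinearGroup.coe_one,
    Matrix.SpecialLinearGroup.map_apply_coe]
  ext i j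
  fin_cases i <;> fin_cases j <;>
    simp [mat, sw, weylMat, Matrix.mul_apply, Fin.sum_univ_two, CharTwo.neg_eq]

/-- The bottom row scales down under a diagonal matrix. -/
def sc (μ : F) (hμ : μ ≠ 0) (p : Pr F) : Pr F :=
  ⟨(μ • p.1.1, μ⁻¹ • p.1.2), by
    rw [dt_smul_left, dt_smul_right, p.2, mul_one, mul_inv_cancel₀ hμ]⟩

theorem mat_sc (μ : F) (hμ : μ ≠ 0) (p : Pr F) : mat (sc μ hμ p) = diagMat μ hμ * mat p := by
  refine Subtype.ext ?_
  simp only [Matrix.SpecialLinearGroup.coe_mul, Matrix.SpecialLinearGroup.coe_one,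
    Matrix.SpecialLinearGroup.map_apply_coe]
  ext i j
  fin_cases i <;> fin_cases j <;>
    simp [mat, sc, diagMat, Matrix.mul_apply, Fin.sum_univ_two]

theorem diag_trans (μ ζ : F) (hμ : μ ≠ 0) :
    diagMat μ hμ * transMat ζ * (diagMat μ hμ)⁻¹ = transMat (μ ^ 2 * ζ) := by
  rw [mul_inv_eq_iff_eq_mul]
  refine Subtype.ext ?_
  simp only [Matrix.SpecialLinearGroup.coe_mul, Matrix.SpecialLinearGroup.coe_one,
    Matrix.SpecialLinearGroup.map_apply_coe]
  ext i j
  fin_cases i <;> fin_cases j <;>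
    simp [diagMat, transMat, Matrix.mul_apply, Fin.sum_univ_two]
  field_simp

theorem weyl_weyl : weylMat * weylMat = (1 : SL(2, F)) := by
  refine Subtype.ext ?_
  simp only [Matrix.SpecialLinearGroup.coe_mul, Matrix.SpecialLinearGroup.coe_one,
    Matrix.SpecialLinearGroup.map_apply_coe]
  ext i j
  fin_cases i <;> fin_cases j <;>
    simp [weylMat, Matrix.mul_apply, Fin.sum_univ_two, CharTwo.neg_eq]

theorem diag_low (μ ζ : F) (hμ : μ ≠ 0) :
    diagMat μ hμ * (weylMat * transMat ζ * weylMat) * (diagMat μ hμ)⁻¹ =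
      weylMat * transMat ((μ ^ 2)⁻¹ * ζ) * weylMat := by
  rw [mul_inv_eq_iff_eq_mul]
  refine Subtype.ext ?_
  simp only [Matrix.SpecialLinearGroup.coe_mul, Matrix.SpecialLinearGroup.coe_one,
    Matrix.SpecialLinearGroup.map_apply_coe]
  ext i j
  fin_cases i <;> fin_cases j <;>
    simp [diagMat, transMat, weylMat, Matrix.mul_apply, Fin.sum_univ_two, CharTwo.neg_eq]
  field_simp

theorem map_low (σ : F ≃+* F) (ζ : F) :
    Matrix.SpecialLinearGroup.map (σ : F →+* F) (weylMat * transMat ζ * weylMat) =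
      weylMat * transMat (σ ζ) * weylMat := by
  refine Subtype.ext ?_
  simp only [Matrix.SpecialLinearGroup.coe_mul, Matrix.SpecialLinearGroup.coe_one,
    Matrix.SpecialLinearGroup.map_apply_coe]
  ext i j
  fin_cases i <;> fin_cases j <;>
    simp [Matrix.SpecialLinearGroup.map_apply_coe, transMat, weylMat, Matrix.mul_apply,
      Fin.sum_univ_two, CharTwo.neg_eq]

theorem low_eq (ζ : F) (hζ : ζ ≠ 0) :
    weylMat * transMat ζ * weylMat =
      transMat ζ⁻¹ * weylMat * (diagMat ζ hζ * transMat ζ⁻¹) := by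
  refine Subtype.ext ?_
  simp only [Matrix.SpecialLinearGroup.coe_mul, Matrix.SpecialLinearGroup.coe_one,
    Matrix.SpecialLinearGroup.map_apply_coe]
  ext i j
  fin_cases i <;> fin_cases j <;>
    simp [diagMat, transMat, weylMat, Matrix.mul_apply, Fin.sum_univ_two, CharTwo.neg_eq, hζ,
      CharTwo.add_self_eq_zero]

end mat

universe u v

variable {G : Type u} {Ω : Type v} [Group G] [MulAction G Ω] {a : Ω} {t : G} {Q : Subgroup G}
  {F : Type} [Field F]

/-- Coordinates on `Q` with the action of `t` on the points. -/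
structure Frame [CharP F 2] (a : Ω) (t : G) (Q : Subgroup G) where
  /-- The coordinates. -/
  coord : Coord F Q
  t_inl : ∀ ζ : F, ζ ≠ 0 →
    t • ((coord.lab (.inl ζ) : G) • t • a) = (coord.lab (.inl ζ⁻¹) : G) • t • a
  t_inr : ∀ p : Pr F, t • ((coord.lab (.inr p) : G) • t • a) = (coord.lab (.inr (sw p)) : G) • t • a

variable [CharP F 2] [Fintype F] [Finite G]

theorem card_pr : Nat.card (Pr F) = (Fintype.card F ^ 2 - 1) * Fintype.card F := by
  classical
  have hex : ∀ B : {B : Vec F // B ≠ 0}, ∃ p : Pr F, p.1.2 = B.1 := by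
    rintro ⟨⟨x, y⟩, hB⟩
    by_cases hy : y = 0
    · subst hy
      have hx : x ≠ 0 := fun h => hB (by rw [h]; rfl)
      exact ⟨⟨((0, x⁻¹), (x, 0)), by simp [dt, hx]⟩, rfl⟩
    · exact ⟨⟨((y⁻¹, 0), (x, y)), by simp [dt, hy]⟩, rfl⟩
  choose P hP using hex
  have hbij : Function.Bijective fun z : {B : Vec F // B ≠ 0} × F => sh z.2 (P z.1) := by
    constructor
    · rintro ⟨B, ζ⟩ ⟨B', ζ'⟩ h
      have h1 := congrArg (fun p : Pr F => p.1.2) h
      simp only [sh_bot, hP] at h1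
      obtain rfl : B = B' := Subtype.ext h1
      have h2 := congrArg (fun p : Pr F => dt (P B).1.1 p.1.1) h
      simp only [sh_top, dt_add_right, dt_smul_right, dt_self, zero_add, (P B).2, mul_one] at h2
      rw [h2]
    · intro p
      obtain ⟨ζ, hζ⟩ := exists_sh (p := P ⟨p.1.2, p.bot_ne⟩) (p' := p)
        (hP ⟨p.1.2, p.bot_ne⟩).symm
      exact ⟨⟨⟨p.1.2, p.bot_ne⟩, ζ⟩, hζ.symm⟩
  rw [← Nat.card_eq_of_bijective _ hbij, Nat.card_prod, Nat.card_eq_fintype_card,
    Nat.card_eq_fintype_card, Fintype.card_subtype_compl, Fintype.card_subtype_eq, Fintype.card_prod,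
    sq]

/-- The coordinates. -/
theorem exists_frame (hR : R1 G Ω a t Q) (L : LineData F a t Q)
    (hF : Fintype.card F = qOf Q) (hn : Nat.card Q = qOf Q ^ 3)
    (hsq : ∀ x ∈ Q, (x * x) * (x * x) = 1) : Nonempty (Frame (F := F) a t Q) := by
  classical
  have hS := hR.setup
  haveI := hR.faithful
  set b : Ω := t • a with hb
  have hta : t • b = a := t_smul_ta hS
  let z : F → G := fun ζ => L.hom (transMat ζ)
  have hzQ : ∀ ζ, z ζ ∈ Q := fun ζ => ((L.sq_one _).2 ⟨ζ, rfl⟩).1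
  have hz2 : ∀ ζ, z ζ * z ζ = 1 := fun ζ => ((L.sq_one _).2 ⟨ζ, rfl⟩).2
  have hz_add : ∀ ζ η, z ζ * z η = z (ζ + η) := by
    intro ζ η
    show L.hom _ * L.hom _ = L.hom _
    rw [← map_mul]
    congr 1
    refine Subtype.ext ?_
    simp only [Matrix.SpecialLinearGroup.coe_mul]
    ext i j
    fin_cases i <;> fin_cases j <;> simp [transMat, Matrix.mul_apply, Fin.sum_univ_two, add_comm]
  have hz_inj : Function.Injective z := fun ζ η h => by
    simpa [transMat] using congrArg (fun A : SL(2, F) => A.1 0 1) (L.inj h)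
  have hz0 : z 0 = 1 := by
    have h := hz_add 0 0
    rw [add_zero] at h
    exact mul_eq_right.1 h
  have hzc : ∀ ζ, ∀ x ∈ Q, z ζ * x = x * z ζ := by
    intro ζ x hx
    by_cases h1 : z ζ = 1
    · rw [h1, one_mul, mul_one]
    · exact invol_central hS hR.rank2 ⟨h1, hz2 ζ⟩ (hS.le (hzQ ζ)) hx
  have hdiag : ∀ μ (hμ : μ ≠ 0), L.hom (diagMat μ hμ) • a = a ∧ L.hom (diagMat μ hμ) • b = b :=
    fun μ hμ => ⟨(Subgroup.mem_inf.1 (L.diag_mem μ hμ)).1, (Subgroup.mem_inf.1 (L.diag_mem μ hμ)).2⟩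
  -- the orbit of `a`
  let InLine : Ω → Prop := fun c => ∃ l : SL(2, F), L.hom l • a = c
  have inLine_iff : ∀ c, InLine c ↔ c = a ∨ ∃ ζ, z ζ • b = c := by
    intro c
    constructor
    · rintro ⟨l, rfl⟩
      rcases sl_two_decomp l with ⟨s, r, hs, rfl⟩ | ⟨t', s, r, hs, rfl⟩
      · exact Or.inl (by rw [map_mul, mul_smul, Q_fix_a hS (hzQ r), (hdiag s hs).1])
      · refine Or.inr ⟨t', ?_⟩
        rw [map_mul, map_mul, map_mul, L.weyl, mul_smul, mul_smul, mul_smul, Q_fix_a hS (hzQ r),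
          (hdiag s hs).1]
    · rintro (rfl | ⟨ζ, rfl⟩)
      · exact ⟨1, by rw [map_one, one_smul]⟩
      · exact ⟨transMat ζ * weylMat, by rw [map_mul, L.weyl, mul_smul]⟩
  have line_hom : ∀ (l : SL(2, F)) c, ¬ InLine c → ¬ InLine (L.hom l • c) := by
    rintro l c hc ⟨m, hm⟩
    exact hc ⟨l⁻¹ * m, by rw [map_mul, mul_smul, hm, map_inv, inv_smul_smul]⟩
  -- a base point off the line
  obtain ⟨x₀, hx₀, hx₀1⟩ : ∃ x ∈ Q, x * x ≠ 1 := by
    by_contra hcon
    push Not at hcon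
    have hall : qOf Q = Nat.card Q :=
      Nat.card_congr (Equiv.subtypeEquivRight fun x => ⟨fun h => h.1, fun h => ⟨h, hcon x h⟩⟩)
    have h2 : 1 < qOf Q := by rw [← hF]; exact Fintype.one_lt_card
    rw [← hall] at hn
    nlinarith [Nat.mul_le_mul h2.le h2.le]
  have off : ∀ x ∈ Q, (¬ InLine (x • b) ↔ x * x ≠ 1) := by
    intro x hx
    rw [inLine_iff, not_or]
    constructor
    · rintro ⟨-, h⟩ h1
      obtain ⟨ζ, hζ⟩ := (L.sq_one x).1 ⟨hx, h1⟩
      exact h ⟨ζ, by show L.hom _ • b = _; rw [hζ]⟩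
    · intro h1
      refine ⟨smul_Q_ne hS hx (ta_ne hS), ?_⟩
      rintro ⟨ζ, hζ⟩
      exact h1 (regular_unique hS (ta_ne hS) (hzQ ζ) hx hζ ▸ hz2 ζ)
  set p₀ : Ω := x₀ • b with hp₀def
  have hp₀ : ¬ InLine p₀ := (off x₀ hx₀).2 hx₀1
  let pt : Pr F → Ω := fun p => L.hom (mat p) • p₀
  have hpt : ∀ p, ¬ InLine (pt p) := fun p => line_hom _ _ hp₀
  have pt_inj : Function.Injective pt := by
    intro p q h
    refine mat_injective ?_
    by_contra hne
    refine L.free ((mat q)⁻¹ * mat p) p₀ (fun h1 => hne (inv_mul_eq_one.1 h1).symm)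
      (fun h1 => hp₀ ((inLine_iff _).2 (Or.inl h1)))
      (fun ζ h1 => hp₀ ((inLine_iff _).2 (Or.inr ⟨ζ, h1⟩))) ?_
    rw [map_mul, mul_smul, map_inv, inv_smul_eq_iff]
    exact h
  -- the element of `Q` at a point
  have hex : ∀ p : Pr F, ∃ x : Q, (x : G) • b = pt p := fun p => by
    obtain ⟨x, hx, h⟩ := regular' hS (c := pt p) fun h => hpt p ((inLine_iff _).2 (Or.inl h))
    exact ⟨⟨x, hx⟩, h⟩
  choose el hel using hex
  let zel : F → Q := fun ζ => ⟨z ζ, hzQ ζ⟩
  let lab : Lab F → Q := Sum.elim zel el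
  have el_sq : ∀ p, (el p : G) * el p ≠ 1 := fun p => (off _ (el p).2).1 (by rw [hel]; exact hpt p)
  have ext : ∀ x y : Q, (x : G) • b = (y : G) • b → x = y := fun x y h =>
    Subtype.ext (regular_unique hS (ta_ne hS) x.2 y.2 h)
  have el_bij : Function.Bijective
      fun p : Pr F => (⟨el p, fun h => el_sq p (congrArg Subtype.val h)⟩ : {x : Q // x * x ≠ 1}) := by
    rw [Nat.bijective_iff_injective_and_card]
    refine ⟨fun p q h => pt_inj ?_, ?_⟩
    · have h' : el p = el q := congrArg Subtype.val h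
      rw [← hel, ← hel, h']
    · have hc : Nat.card {x : Q // x * x = 1} = qOf Q :=
        Nat.card_congr ⟨fun x => ⟨x.1.1, x.1.2, congrArg Subtype.val x.2⟩,
          fun x => ⟨⟨x.1, x.2.1⟩, Subtype.ext x.2.2⟩, fun _ => rfl, fun _ => rfl⟩
      have hsplit : Nat.card {x : Q // x * x = 1} + Nat.card {x : Q // x * x ≠ 1} = Nat.card Q := by
        rw [← Nat.card_sum]; exact Nat.card_congr (Equiv.sumCompl _)
      rw [card_pr, hF, Nat.sub_mul, one_mul]
      rw [hc, hn] at hsplit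
      have : qOf Q ^ 2 * qOf Q = qOf Q ^ 3 := by ring
      omega
  have lab_bij : Function.Bijective lab := by
    constructor
    · rintro (x | x) (y | y) h
      · exact congrArg Sum.inl (hz_inj (congrArg Subtype.val h))
      · exact absurd (by rw [← show zel x = el y from h]; exact hz2 x) (el_sq y)
      · exact absurd (by rw [show el x = zel y from h]; exact hz2 y) (el_sq x)
      · exact congrArg Sum.inr (el_bij.1 (Subtype.ext h))
    · intro x
      by_cases h : x * x = 1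
      · obtain ⟨ζ, hζ⟩ := (L.sq_one (x : G)).1 ⟨x.2, congrArg Subtype.val h⟩
        exact ⟨.inl ζ, Subtype.ext hζ⟩
      · obtain ⟨p, hp⟩ := el_bij.2 ⟨x, h⟩
        exact ⟨.inr p, congrArg Subtype.val hp⟩
  have el_sh : ∀ ζ p, (el (sh ζ p) : G) = z ζ * el p := fun ζ p => by
    have h : el (sh ζ p) = zel ζ * el p := ext _ _ (by
      show _ = (z ζ * (el p : G)) • b
      rw [mul_smul, hel, hel]
      show L.hom (mat (sh ζ p)) • p₀ = L.hom _ • L.hom _ • p₀
      rw [mat_sh, map_mul, mul_smul])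
    exact congrArg Subtype.val h
  have el_sw : ∀ p, t • (el p : G) • b = (el (sw p) : G) • b := fun p => by
    rw [hel, hel]
    show t • L.hom _ • p₀ = L.hom _ • p₀
    rw [mat_sw, map_mul, L.weyl, mul_smul]
  have el_sc : ∀ (μ : F) (hμ : μ ≠ 0) p,
      (el (sc μ hμ p) : G) = L.hom (diagMat μ hμ) * el p * (L.hom (diagMat μ hμ))⁻¹ := by
    intro μ hμ p
    refine regular_unique hS (ta_ne hS) (el _).2 (hS.conj_mem _ (hdiag μ hμ).1 _ (el p).2) ?_
    rw [mul_smul, mul_smul, inv_smul_eq_iff.2 (hdiag μ hμ).2.symm, hel, hel]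
    show L.hom (mat (sc μ hμ p)) • p₀ = L.hom _ • L.hom _ • p₀
    rw [mat_sc, map_mul, mul_smul]
  -- the squaring map
  have hsqz : ∀ p, ∃ ζ, z ζ = (el p : G) * el p := fun p =>
    (L.sq_one _).1 ⟨mul_mem (el p).2 (el p).2, hsq _ (el p).2⟩
  choose sqv hsqv using hsqz
  have sqv_sh : ∀ ζ p, sqv (sh ζ p) = sqv p := by
    intro ζ p
    refine hz_inj ?_
    rw [hsqv, hsqv, el_sh]
    calc z ζ * (el p : G) * (z ζ * el p) = z ζ * ((el p : G) * z ζ) * el p := by group
      _ = (z ζ * z ζ) * (el p * el p) := by rw [← hzc ζ _ (el p).2]; group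
      _ = _ := by rw [hz2, one_mul]
  let φ : Vec F → F := fun B => if h : ∃ p : Pr F, p.1.2 = B then sqv h.choose else 0
  have hφ : ∀ p : Pr F, φ p.1.2 = sqv p := by
    intro p
    have h : ∃ q : Pr F, q.1.2 = p.1.2 := ⟨p, rfl⟩
    show (if h : ∃ q : Pr F, q.1.2 = p.1.2 then sqv h.choose else 0) = _
    rw [dif_pos h]
    obtain ⟨ζ, hζ⟩ := exists_sh (p := p) (p' := h.choose) h.choose_spec
    rw [hζ, sqv_sh]
  have hφe : ∀ B : Vec F, B ≠ 0 → ∃ p : Pr F, p.1.2 = B := by
    intro B hB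
    obtain ⟨x, y⟩ := B
    by_cases hy : y = 0
    · subst hy
      have hx : x ≠ 0 := fun h => hB (by rw [h]; rfl)
      exact ⟨⟨((0, x⁻¹), (x, 0)), by simp [dt, hx]⟩, rfl⟩
    · exact ⟨⟨((y⁻¹, 0), (x, y)), by simp [dt, hy]⟩, rfl⟩
  have el_inv : ∀ p, ((el p : G))⁻¹ = el (sh (φ p.1.2) p) := fun p => by
    refine inv_eq_of_mul_eq_one_right ?_
    rw [el_sh, hφ, hsqv]
    calc (el p : G) * (el p * el p * el p) = (el p * el p) * (el p * el p) := by group
      _ = 1 := hsq _ (el p).2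
  have hpair : ∀ ζ : F, ζ ≠ 0 → t • z ζ • b = z ζ⁻¹ • b := by
    intro ζ hζ
    have e := congrArg L.hom (low_eq ζ hζ)
    simp only [map_mul, L.weyl] at e
    show t • L.hom (transMat ζ) • t • a = L.hom (transMat ζ⁻¹) • t • a
    rw [← mul_smul, ← mul_smul, e]
    have hQ' : L.hom (transMat ζ⁻¹) ∈ Q := hzQ ζ⁻¹
    simp only [mul_smul, Q_fix_a hS hQ', (hdiag ζ hζ).1]
  refine ⟨{
    coord := {
      lab := lab
      bij := lab_bij
      φ := φ
      zz := fun ζ η => Subtype.ext (hz_add ζ η)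
      zp := fun ζ p => Subtype.ext (el_sh ζ p).symm
      pz := fun ζ p => Subtype.ext (by
        show (el p : G) * z ζ = el (sh ζ p)
        rw [el_sh, hzc ζ _ (el p).2])
      sq := fun p => Subtype.ext (by
        show (el p : G) * el p = z (φ p.1.2)
        rw [hφ, hsqv])
      φ_ne := fun B hB h => by
        obtain ⟨p, rfl⟩ := hφe B hB
        rw [hφ] at h
        exact el_sq p (by rw [← hsqv, h, hz0])
      φ_smul := fun μ B hμ hB => by
        obtain ⟨p, rfl⟩ := hφe B hB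
        have hμ' : μ⁻¹ ≠ 0 := inv_ne_zero hμ
        have h := hφ (sc μ⁻¹ hμ' p)
        rw [show (sc μ⁻¹ hμ' p).1.2 = μ • p.1.2 by simp [sc]] at h
        rw [h, hφ]
        refine hz_inj ?_
        rw [hsqv, el_sc]
        set d := L.hom (diagMat μ⁻¹ hμ') with hd
        calc d * (el p : G) * d⁻¹ * (d * el p * d⁻¹) = d * (el p * el p) * d⁻¹ := by group
          _ = z (sqv p * (μ ^ 2)⁻¹) := by
            rw [← hsqv, hd]
            show L.hom _ * L.hom _ * (L.hom _)⁻¹ = L.hom _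
            rw [← map_inv, ← map_mul, ← map_mul, diag_trans, inv_pow, mul_comm]
      ident := ?_ }
    t_inl := fun ζ hζ => hpair ζ hζ
    t_inr := fun p => el_sw p }⟩
  intro p
  set x : G := (el p : G) with hxdef
  have hxQ : x ∈ Q := (el p).2
  -- the structure equation of `x`
  set g : G := (el (sw p) : G) with hgdef
  set f : G := ((el (sw (sh (φ p.1.2) p)) : G))⁻¹ with hfdef
  have hg : g • b = t • x • b := (el_sw p).symm
  have hf : f⁻¹ • b = t • x⁻¹ • b := by
    rw [hfdef, inv_inv, hxdef, el_inv]; exact (el_sw _).symm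
  set h : G := g⁻¹ * (t * x * t) * f⁻¹ * t with hhdef
  have hh : h ∈ twoStab G a t := by
    refine Subgroup.mem_inf.2 ⟨?_, ?_⟩ <;> rw [mem_stabilizer_iff, hhdef]
    · simp only [mul_smul]
      rw [← hb, hf, ← mul_smul t t, hS.mul_self, one_smul, ← mul_smul x x⁻¹, mul_inv_cancel, one_smul,
        hb, ← mul_smul t t, hS.mul_self, one_smul, inv_smul_eq_iff, Q_fix_a hS (el (sw p)).2]
    · simp only [mul_smul]
      rw [hta, Q_fix_a hS (inv_mem (inv_mem (el (sw (sh (φ p.1.2) p))).2)), inv_smul_eq_iff, ← hb,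
        hg]
  have heq : t * x * t = g * h * t * f := by
    rw [hhdef]
    calc t * x * t = t * x * t * f⁻¹ * 1 * f := by group
      _ = t * x * t * f⁻¹ * (t * t) * f := by rw [hS.mul_self]
      _ = _ := by group
  clear_value h g f x
  obtain ⟨μ, hμ, σ, hconj⟩ := L.conj h hh
  have hline : ∀ c, InLine c → InLine (h • c) := by
    rintro c ⟨l, rfl⟩
    refine ⟨diagMat μ hμ * Matrix.SpecialLinearGroup.map (σ : F →+* F) l * (diagMat μ hμ)⁻¹, ?_⟩
    rw [← hconj, mul_smul, mul_smul, inv_smul_eq_iff.2 (mem_stabilizer_iff.1 hh.1).symm]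
  obtain ⟨m, hm⟩ : ∃ m : SL(2, F), h • p₀ = L.hom m • p₀ := by
    obtain ⟨y, hy, hyb⟩ := regular' hS (c := h • p₀) fun e => hp₀ ((inLine_iff _).2 (Or.inl
      (MulAction.injective h (e.trans (mem_stabilizer_iff.1 hh.1).symm))))
    have hy2 : y * y ≠ 1 := by
      intro hy2
      obtain ⟨ζ, hζ⟩ := (L.sq_one y).1 ⟨hy, hy2⟩
      obtain ⟨l, hl⟩ := (inLine_iff (z (σ.symm ((μ ^ 2)⁻¹ * ζ)) • b)).2 (Or.inr ⟨_, rfl⟩)
      apply hp₀
      refine ⟨l, hl.trans (MulAction.injective h ?_)⟩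
      show h • L.hom _ • b = h • p₀
      have e : h * L.hom (transMat (σ.symm ((μ ^ 2)⁻¹ * ζ))) = L.hom (transMat ζ) * h := by
        rw [← mul_inv_eq_iff_eq_mul, hconj,
          show Matrix.SpecialLinearGroup.map (σ : F →+* F) (transMat (σ.symm ((μ ^ 2)⁻¹ * ζ))) =
            transMat ((μ ^ 2)⁻¹ * ζ) from Subtype.ext (by
              simp only [Matrix.SpecialLinearGroup.map_apply_coe]
              ext i j
              fin_cases i <;> fin_cases j <;>
                simp [Matrix.SpecialLinearGroup.map_apply_coe, transMat]),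
          diag_trans, mul_inv_cancel_left₀ (pow_ne_zero 2 hμ)]
      rw [← mul_smul, e, mul_smul, show h • b = b from mem_stabilizer_iff.1 hh.2, hζ]
      exact hyb
    obtain ⟨q, hq⟩ := el_bij.2 ⟨⟨y, hy⟩, fun h' => hy2 (congrArg Subtype.val h')⟩
    refine ⟨mat q, ?_⟩
    rw [← hyb, ← hb]
    have : el q = (⟨y, hy⟩ : Q) := congrArg Subtype.val hq
    exact ((congrArg (fun w : Q => (w : G) • b) this).symm.trans (hel q))
  -- the effect of `h` on the points off the line
  let hm' : SL(2, F) → SL(2, F) := fun l =>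
    diagMat μ hμ * Matrix.SpecialLinearGroup.map (σ : F →+* F) l * (diagMat μ hμ)⁻¹ * m
  have hpt' : ∀ l : SL(2, F), h • L.hom l • p₀ = L.hom (hm' l) • p₀ := by
    intro l
    rw [map_mul, ← hconj, mul_smul, mul_smul, mul_smul, ← hm, inv_smul_smul]
  have hlow : ∀ ζ l, hm' (weylMat * transMat ζ * weylMat * l) =
      weylMat * transMat ((μ ^ 2)⁻¹ * σ ζ) * weylMat * hm' l := by
    intro ζ l
    simp only [hm', map_mul]
    rw [← map_mul, ← map_mul, map_low, ← diag_low μ (σ ζ) hμ]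
    group
  set fl : Pr F := sh (φ (sw (sh (φ p.1.2) p)).1.2) (sw (sh (φ p.1.2) p)) with hfl
  set jg : Pr F := sh (φ p.1.1) (sw p) with hjg
  have hjgel : (el jg : G) = g⁻¹ := by
    rw [hgdef, el_inv]; rfl
  have hfel : (el fl : G) = f := by
    rw [hfdef, el_inv]
  have hbase : hm' (mat (sw fl)) = mat jg := by
    obtain ⟨q, hq⟩ := mat_surjective (hm' (mat (sw fl)))
    rw [← hq]
    congr 1
    refine pt_inj ?_
    show L.hom (mat q) • p₀ = _
    rw [hq, ← hpt']
    show h • pt (sw fl) = pt jg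
    rw [← hel, ← hel, ← el_sw, hfel, hjgel]
    have e : g⁻¹ • b = (h * t * f) • b := by
      have e2 : h * t * f = g⁻¹ * (t * x * t) := by rw [heq]; group
      rw [e2]
      simp only [mul_smul]
      rw [hta, Q_fix_a hS hxQ, hb]
    rw [e, mul_smul, mul_smul]
  refine ⟨(μ ^ 2)⁻¹, σ, inv_ne_zero (pow_ne_zero 2 hμ), fun η hη => ?_⟩
  refine ext _ _ ?_
  show ((el jg : G) * el (sw (sh η p))) • b = (el _ : G) • b
  rw [mul_smul, hjgel, inv_smul_eq_iff, hel (sw (sh ((μ ^ 2)⁻¹ * (σ η)⁻¹) (sw jg)))]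
  have hL : (el (sw (sh η p)) : G) • b = (t * x * t) • z η⁻¹ • b := by
    rw [← el_sw, el_sh, mul_smul, mul_smul, mul_smul, hpair η⁻¹ (inv_ne_zero hη), inv_inv,
      ← mul_smul x (z η) b, ← hzc η x hxQ, mul_smul, hxdef]
  have hR' : L.hom (mat (sw (sh ((μ ^ 2)⁻¹ * (σ η)⁻¹) (sw jg)))) • p₀ =
      h • t • f • z η⁻¹ • b := by
    have hmat : mat (sw (sh ((μ ^ 2)⁻¹ * (σ η)⁻¹) (sw jg))) =
        hm' (weylMat * transMat η⁻¹ * weylMat * mat (sw fl)) := by
      rw [hlow, hbase, map_inv₀, mat_sw, mat_sh, mat_sw]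
      simp only [mul_assoc]
    rw [hmat, ← hpt']
    congr 1
    rw [← mul_smul f (z η⁻¹) b, ← hzc η⁻¹ f (hfel ▸ (el fl).2), mul_smul, ← hfel, hel fl,
      mul_assoc (weylMat * transMat η⁻¹) weylMat, ← mat_sw, sw_sw, map_mul, map_mul, L.weyl,
      mul_smul, mul_smul]
  rw [hL, heq]
  show _ = g • L.hom _ • p₀
  rw [hR']
  simp only [mul_smul]

end Cfsg.Agent.Suz27.Core
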