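import Cfsg.Agent.Suz27.CoreGroup
import Cfsg.Agent.Suz27.Semireg

/-!
# Uniqueness of the unitary rank one groups

Two groups with coordinates for the same field have the same generators as permutations of the points.
-/

set_option autoImplicit false

namespace Cfsg.Agent.Suz27.Core

open MulAction RankOne Matrix
open Cfsg.Agent.ZassNormal
open scoped MatrixGroups

universe u v u' v'

variable {F : Type} [Field F] [CharP F 2]

/-- Two non-values of the Artin-Schreier map differ by a value. -/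
theorem exists_artin_schreier [Finite F] {c d : F} (hc : ∀ μ : F, μ ^ 2 + μ ≠ c)
    (hd : ∀ μ : F, μ ^ 2 + μ ≠ d) : ∃ μ : F, μ ^ 2 + μ = c + d := by
  classical
  let f : F →+ F :=
    { toFun := fun μ => μ ^ 2 + μ
      map_zero' := by simp
      map_add' := fun x y => by rw [add_pow_char x y 2]; ring }
  have hker : Nat.card f.ker = 2 := by
    rw [Nat.card_eq_two_iff' ⟨0, f.ker.zero_mem⟩]
    refine ⟨⟨1, show (1 : F) ^ 2 + 1 = 0 by rw [one_pow]; exact CharTwo.add_self_eq_zero _⟩, ?_, ?_⟩
    · exact fun h => one_ne_zero (congrArg Subtype.val h)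
    · rintro ⟨μ, hμ⟩ hne
      have h : μ * (μ + 1) = 0 := by
        have hμ' : μ ^ 2 + μ = 0 := hμ
        linear_combination hμ'
      rcases mul_eq_zero.1 h with h | h
      · exact absurd (Subtype.ext h) hne
      · exact Subtype.ext (CharTwo.add_eq_zero.1 h)
  have hidx : f.range.index = 2 := by
    have h1 := f.range.card_mul_index
    have h2 := f.ker.card_mul_index
    rw [AddSubgroup.index_ker, hker] at h2
    have hp : 0 < Nat.card f.range := Nat.card_pos
    nlinarith
  have hin : c + d ∈ f.range := by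
    rw [AddSubgroup.add_mem_iff_of_index_two hidx]
    exact iff_of_false (fun ⟨μ, h⟩ => hc μ h) (fun ⟨μ, h⟩ => hd μ h)
  exact hin

/-- There is an element outside the image of the Artin-Schreier map. -/
theorem exists_not_artin_schreier [Finite F] : ∃ c : F, ∀ μ : F, μ ^ 2 + μ ≠ c := by
  by_contra hcon
  push Not at hcon
  have hsurj : Function.Surjective fun μ : F => μ ^ 2 + μ := hcon
  have hinj := Finite.injective_iff_surjective.2 hsurj
  have : (1 : F) = 0 := hinj (by simp [CharTwo.add_self_eq_zero])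
  exact one_ne_zero this

/-- The standard form. -/
def stdForm (c : F) (X : Vec F) : F := X.1 ^ 2 + X.1 * X.2 + c * X.2 ^ 2

theorem Coord.exists_normal [Finite F] {Q : Type*} [Group Q] (C : Coord F Q)
    (hF : ∃ g : F, g ≠ 0 ∧ g ≠ 1) {c : F} (hc : ∀ μ : F, μ ^ 2 + μ ≠ c) :
    ∃ (M : Vec F ≃ₗ[F] Vec F) (hM : ∀ X Y, dt (M X) (M Y) = dt X Y),
      ∀ X : Vec F, X ≠ 0 → (C.change M hM).qa X = stdForm c X := by
  obtain ⟨A, hA⟩ : ∃ A, A = C.qa (1, 0) := ⟨_, rfl⟩
  obtain ⟨D, hD⟩ : ∃ D, D = C.qa (0, 1) := ⟨_, rfl⟩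
  have hA0 : A ≠ 0 := hA ▸ C.qa_ne (by simp)
  obtain ⟨s, hs⟩ := FiniteField.isSquare_of_char_two (ringChar.eq F 2) A
  have hs0 : s ≠ 0 := fun h => hA0 (by rw [hs, h, mul_zero])
  have hAD : ∀ μ : F, μ ^ 2 + μ ≠ A * D := by
    intro μ h
    have hne : ((μ / A, 1) : Vec F) ≠ 0 := by simp
    refine C.qa_ne hne ?_
    rw [C.qa_form hF hne, ← hA, ← hD]
    field_simp
    linear_combination h + A * D * (CharTwo.two_eq_zero (R := F))
  obtain ⟨μ, hμ⟩ := exists_artin_schreier hAD hc
  let β := μ / s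
  let M : Vec F ≃ₗ[F] Vec F :=
    { toFun := fun X => (s⁻¹ * X.1 + β * X.2, s * X.2)
      map_add' := fun X Y => Prod.ext (by simp; ring) (by simp; ring)
      map_smul' := fun k X => Prod.ext (by simp; ring) (by simp; ring)
      invFun := fun X => (s * (X.1 - β * (s⁻¹ * X.2)), s⁻¹ * X.2)
      left_inv := fun X => Prod.ext (by simp; field_simp; ring) (by simp; field_simp)
      right_inv := fun X => Prod.ext (by simp; field_simp; ring) (by simp; field_simp) }
  have hMv : ∀ X, M X = (s⁻¹ * X.1 + β * X.2, s * X.2) := fun X => rfl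
  have hM : ∀ X Y, dt (M X) (M Y) = dt X Y := by
    intro X Y
    simp only [hMv, dt]
    field_simp
    linear_combination β * s * X.2 * Y.2 * (CharTwo.two_eq_zero (R := F))
  refine ⟨M, hM, fun X hX => ?_⟩
  rw [Coord.change_qa, C.qa_form hF (by simpa using hX), hMv, ← hA, ← hD, stdForm]
  simp only [β]
  rw [hs] at hμ ⊢
  field_simp
  linear_combination X.2 ^ 2 * hμ + (X.1 * μ * X.2 + X.2 ^ 2 * s ^ 2 * D) * (CharTwo.two_eq_zero (R := F))

variable {G : Type u} {Ω : Type v} [Group G] [MulAction G Ω] {a : Ω} {t : G} {Q : Subgroup G}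

/-- Change of the rows in a frame. -/
noncomputable def Frame.change (fr : Frame (F := F) a t Q) (M : Vec F ≃ₗ[F] Vec F)
    (hM : ∀ X Y, dt (M X) (M Y) = dt X Y) : Frame (F := F) a t Q where
  coord := fr.coord.change M hM
  t_inl := fr.t_inl
  t_inr := fun p => fr.t_inr _

/-- Transport of the line data along an isomorphism of fields. -/
noncomputable def lineDataMap {F' : Type} [Field F'] (L : LineData F' a t Q) (e : F ≃+* F') :
    LineData F a t Q where
  hom := L.hom.comp (Matrix.SpecialLinearGroup.map (e : F →+* F'))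
  inj := by
    intro A B h
    have h' := L.inj h
    refine Subtype.ext ?_
    ext i j
    have := congrArg (fun C : SL(2, F') => C.1 i j) h'
    simpa [Matrix.SpecialLinearGroup.map_apply_coe] using this
  weyl := by
    rw [MonoidHom.comp_apply]
    refine Eq.trans (congrArg L.hom ?_) L.weyl
    refine Subtype.ext ?_
    simp only [Matrix.SpecialLinearGroup.map_apply_coe]
    ext i j
    fin_cases i <;> fin_cases j <;> simp [weylMat]
  sq_one := by
    intro x
    have h : ∀ ζ : F, Matrix.SpecialLinearGroup.map (e : F →+* F') (transMat ζ) = transMat (e ζ) := by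
      intro ζ
      refine Subtype.ext ?_
      simp only [Matrix.SpecialLinearGroup.map_apply_coe]
      ext i j
      fin_cases i <;> fin_cases j <;> simp [transMat]
    simp only [MonoidHom.comp_apply, h, L.sq_one x]
    exact ⟨fun ⟨ζ, hζ⟩ => ⟨e.symm ζ, by rwa [e.apply_symm_apply]⟩, fun ⟨ζ, hζ⟩ => ⟨e ζ, hζ⟩⟩
  diag_mem := by
    intro μ hμ
    have h : Matrix.SpecialLinearGroup.map (e : F →+* F') (diagMat μ hμ) =
        diagMat (e μ) ((map_ne_zero e).2 hμ) := by
      refine Subtype.ext ?_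
      simp only [Matrix.SpecialLinearGroup.map_apply_coe]
      ext i j
      fin_cases i <;> fin_cases j <;> simp [diagMat]
    rw [MonoidHom.comp_apply, h]
    exact L.diag_mem _ _
  conj := by
    intro d hd
    obtain ⟨μ, hμ, σ, h⟩ := L.conj d hd
    refine ⟨e.symm μ, (map_ne_zero e.symm).2 hμ, (e.trans σ).trans e.symm, fun l => ?_⟩
    simp only [MonoidHom.comp_apply, h, map_mul, map_inv]
    have h1 : Matrix.SpecialLinearGroup.map (e : F →+* F') (diagMat (e.symm μ)
        ((map_ne_zero e.symm).2 hμ)) = diagMat μ hμ := by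
      refine Subtype.ext ?_
      simp only [Matrix.SpecialLinearGroup.map_apply_coe]
      ext i j
      fin_cases i <;> fin_cases j <;> simp [diagMat]
    have h2 : Matrix.SpecialLinearGroup.map (e : F →+* F')
        (Matrix.SpecialLinearGroup.map (((e.trans σ).trans e.symm : F ≃+* F) : F →+* F) l) =
        Matrix.SpecialLinearGroup.map (σ : F' →+* F')
          (Matrix.SpecialLinearGroup.map (e : F →+* F') l) := by
      refine Subtype.ext ?_
      simp only [Matrix.SpecialLinearGroup.map_apply_coe]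
      ext i j
      simp
    rw [h1, h2]
  free := by
    intro l p hl hpa hp
    refine L.free _ p ?_ hpa fun ζ h => hp (e.symm ζ) ?_
    · intro h
      refine hl (Subtype.ext ?_)
      ext i j
      have := congrArg (fun C : SL(2, F') => C.1 i j) h
      simp only [Matrix.SpecialLinearGroup.map_apply_coe, Matrix.SpecialLinearGroup.coe_one,
        RingHom.mapMatrix_apply, Matrix.map_apply] at this
      simp only [Matrix.SpecialLinearGroup.coe_one]
      refine e.injective ?_
      rw [show e ((1 : Matrix (Fin 2) (Fin 2) F) i j) = (1 : Matrix (Fin 2) (Fin 2) F') i j by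
        simp [Matrix.one_apply, apply_ite e]]
      exact this
    · rw [MonoidHom.comp_apply]
      convert h using 3
      refine Subtype.ext ?_
      simp only [Matrix.SpecialLinearGroup.map_apply_coe]
      ext i j
      fin_cases i <;> fin_cases j <;> simp [transMat]

variable {G' : Type u'} {Ω' : Type v'} [Group G'] [MulAction G' Ω'] {a' : Ω'} {t' : G'}
  {Q' : Subgroup G'}

open Classical in
/-- The points as labels. -/
noncomputable def pointEquiv [Finite G] (hR : R1 G Ω a t Q) (C : Coord F Q) : Option (Lab F) ≃ Ω :=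
  (Equiv.optionCongr (C.equiv.trans (qEquiv hR.setup))).trans (Equiv.optionSubtypeNe a)

theorem pointEquiv_none [Finite G] (hR : R1 G Ω a t Q) (C : Coord F Q) :
    pointEquiv hR C none = a := by
  simp [pointEquiv]

theorem pointEquiv_some [Finite G] (hR : R1 G Ω a t Q) (C : Coord F Q) (l : Lab F) :
    pointEquiv hR C (some l) = (C.lab l : G) • t • a := by
  simp [pointEquiv, qEquiv]
  rfl

theorem t_point [Finite G] (hR : R1 G Ω a t Q) (fr : Frame (F := F) a t Q) :
    t • pointEquiv hR fr.coord none = pointEquiv hR fr.coord (some (.inl 0)) ∧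
      t • pointEquiv hR fr.coord (some (.inl 0)) = pointEquiv hR fr.coord none ∧
      (∀ ζ : F, ζ ≠ 0 → t • pointEquiv hR fr.coord (some (.inl ζ)) =
        pointEquiv hR fr.coord (some (.inl ζ⁻¹))) ∧
      ∀ p : Pr F, t • pointEquiv hR fr.coord (some (.inr p)) =
        pointEquiv hR fr.coord (some (.inr (sw p))) := by
  have h0 : (fr.coord.lab (.inl 0) : G) = 1 := by rw [fr.coord.lab_zero]; rfl
  simp only [pointEquiv_none, pointEquiv_some, h0, one_smul]
  exact ⟨trivial, t_smul_ta hR.setup, fr.t_inl, fr.t_inr⟩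

/-- Two framed groups with the same field and form are isomorphic. -/
theorem equiv_of_frames [Finite G] [Finite G'] (hR : R1 G Ω a t Q) (hG : Gen t Q)
    (hR' : R1 G' Ω' a' t' Q') (hG' : Gen t' Q') (fr : Frame (F := F) a t Q)
    (fr' : Frame (F := F) a' t' Q') (hF : ∃ g : F, g ≠ 0 ∧ g ≠ 1)
    (hqa : ∀ X : Vec F, X ≠ 0 → fr.coord.qa X = fr'.coord.qa X) : Nonempty (G ≃* G') := by
  classical
  obtain ⟨e, he⟩ := exists_equiv hF fr.coord fr'.coord hqa
  haveI := hR.faithful
  haveI := hR'.faithful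
  set P := pointEquiv hR fr.coord with hP
  set P' := pointEquiv hR' fr'.coord with hP'
  let Φ : Ω ≃ Ω' := P.symm.trans P'
  have hΦ : ∀ o, Φ (P o) = P' o := fun o => by simp [Φ]
  have hmulQ : ∀ (x : Q) (o : Option (Lab F)), Φ ((x : G) • P o) = (e x : G') • Φ (P o) := by
    intro x o
    rw [hΦ]
    rcases o with _ | l
    · rw [hP, pointEquiv_none, Q_fix_a hR.setup x.2, ← pointEquiv_none hR fr.coord, ← hP, hΦ,
        hP', pointEquiv_none, Q_fix_a hR'.setup (e x).2]
    · obtain ⟨m, hm⟩ := fr.coord.bij.2 (x * fr.coord.lab l)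
      have h1 : (x : G) • P (some l) = P (some m) := by
        rw [hP, pointEquiv_some, pointEquiv_some, hm, Subgroup.coe_mul, mul_smul]
      rw [h1, hΦ, hP', pointEquiv_some, pointEquiv_some, ← he m, hm, map_mul, he l, Subgroup.coe_mul,
        mul_smul]
  have ht : ∀ o : Option (Lab F), Φ (t • P o) = t' • Φ (P o) := by
    intro o
    rw [hΦ]
    obtain ⟨a1, a2, a3, a4⟩ := t_point hR fr
    obtain ⟨b1, b2, b3, b4⟩ := t_point hR' fr'
    rcases o with _ | (ζ | p)
    · rw [a1, hΦ, b1]
    · rcases eq_or_ne ζ 0 with rfl | hζ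
      · rw [a2, hΦ, b2]
      · rw [a3 ζ hζ, hΦ, b3 ζ hζ]
    · rw [a4 p, hΦ, b4 p]
  let S : Subgroup G :=
    { carrier := {g | ∃ g' : G', ∀ w, Φ (g • w) = g' • Φ w}
      one_mem' := ⟨1, fun w => by rw [one_smul, one_smul]⟩
      mul_mem' := fun {g h} ⟨g', hg⟩ ⟨h', hh⟩ => ⟨g' * h', fun w => by
        rw [mul_smul, hg, hh, mul_smul]⟩
      inv_mem' := fun {g} ⟨g', hg⟩ => ⟨g'⁻¹, fun w => by
        conv_rhs => rw [← smul_inv_smul g w, hg, inv_smul_smul]⟩ }
  have hall : ∀ g : G, g ∈ S := by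
    intro g
    refine ((Subgroup.closure_le S).2 ?_) ((show Subgroup.closure _ = ⊤ from hG) ▸ Subgroup.mem_top g)
    rintro g (hg | hg)
    · refine ⟨e ⟨g, hg⟩, fun w => ?_⟩
      obtain ⟨o, rfl⟩ := P.surjective w
      exact hmulQ ⟨g, hg⟩ o
    · rw [Set.mem_singleton_iff.1 hg]
      refine ⟨t', fun w => ?_⟩
      obtain ⟨o, rfl⟩ := P.surjective w
      exact ht o
  choose F' hF' using hall
  let ψ : G →* G' := MonoidHom.mk' F' fun g h => FaithfulSMul.eq_of_smul_eq_smul fun w' : Ω' => by
    obtain ⟨w, rfl⟩ := Φ.surjective w'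
    rw [← hF', mul_smul, mul_smul, hF', hF']
  have hinj : Function.Injective ψ := fun g h hgh => FaithfulSMul.eq_of_smul_eq_smul fun w : Ω =>
    Φ.injective (by rw [hF', hF']; exact congrArg (fun x : G' => x • Φ w) hgh)
  have hsurj : Function.Surjective ψ := by
    rw [← MonoidHom.range_eq_top, eq_top_iff, ← show Subgroup.closure _ = ⊤ from hG',
      Subgroup.closure_le]
    rintro g' (hg | hg)
    · obtain ⟨x, hx⟩ := e.surjective ⟨g', hg⟩
      refine ⟨x, FaithfulSMul.eq_of_smul_eq_smul fun w' : Ω' => ?_⟩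
      obtain ⟨w, rfl⟩ := Φ.surjective w'
      obtain ⟨o, rfl⟩ := P.surjective w
      show F' _ • _ = _
      rw [← hF', hmulQ, hx]
    · refine ⟨t, FaithfulSMul.eq_of_smul_eq_smul fun w' : Ω' => ?_⟩
      obtain ⟨w, rfl⟩ := Φ.surjective w'
      obtain ⟨o, rfl⟩ := P.surjective w
      show F' _ • _ = _
      rw [← hF', ht, Set.mem_singleton_iff.1 hg]
  exact ⟨MulEquiv.ofBijective ψ ⟨hinj, hsurj⟩⟩

/-- **Uniqueness**, given that squares in `Q` square to one. -/
theorem unique_of_sq [Finite G] [Finite G'] (hR : R1 G Ω a t Q) (hG : Gen t Q)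
    (hn : Nat.card Q = qOf Q ^ 3) (hr : RInv a t Q) (hsq : ∀ x ∈ Q, (x * x) * (x * x) = 1)
    (hR' : R1 G' Ω' a' t' Q') (hG' : Gen t' Q') (hn' : Nat.card Q' = qOf Q' ^ 3)
    (hr' : RInv a' t' Q') (hsq' : ∀ x ∈ Q', (x * x) * (x * x) = 1) (hq : qOf Q' = qOf Q) :
    Nonempty (G ≃* G') := by
  classical
  obtain ⟨K, _, _, _, h4, hK, ⟨L⟩⟩ := exists_lineData hR hr
  obtain ⟨K', _, _, _, -, hK', ⟨L'⟩⟩ := exists_lineData hR' hr'
  let ek : K ≃+* K' := FiniteField.ringEquivOfCardEq (hK.trans (hq.symm.trans hK'.symm))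
  obtain ⟨fr⟩ := exists_frame hR L hK hn hsq
  obtain ⟨fr'⟩ := exists_frame hR' (lineDataMap L' ek) (hK.trans hq.symm) hn' hsq'
  have hF : ∃ g : K, g ≠ 0 ∧ g ≠ 1 := by
    by_contra hcon
    push Not at hcon
    have hsub : (Finset.univ : Finset K) ⊆ {0, 1} := fun g _ => by
      rcases eq_or_ne g 0 with h | h
      · simp [h]
      · simp [hcon g h]
    have := (Finset.card_le_card hsub).trans Finset.card_le_two
    rw [Finset.card_univ] at this
    omega
  obtain ⟨c, hc⟩ := exists_not_artin_schreier (F := K)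
  obtain ⟨M, hM, hqM⟩ := fr.coord.exists_normal hF hc
  obtain ⟨M', hM', hqM'⟩ := fr'.coord.exists_normal hF hc
  exact equiv_of_frames hR hG hR' hG' (fr.change M hM) (fr'.change M' hM') hF
    fun X hX => (hqM X hX).trans (hqM' X hX).symm

end Cfsg.Agent.Suz27.Core
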