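import Mathlib

/-!
Wielandt's order formula for a Frobenius group `⟨σ⟩⟨φ⟩` of order `ℓ p` acting on a nilpotent group
with fixed-point-free kernel: the order of the group is the `p`th power of that of the fixed group
of `φ`.  No coprimality with the order of the group is needed.
-/

set_option autoImplicit false

namespace Cfsg.Agent.Suz27.Fpf

open Matrix

section Abelian

variable {E : Type*} [AddCommGroup E] [Finite E]

/-- Solving a Vandermonde system whose nodes commute and have injective differences. -/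
theorem vandermonde_bijective {R : Type*} [CommRing R] [Module R E] {p : ℕ} (s : Fin p → R)
    (hs : ∀ i k : Fin p, i < k → ∀ e : E, (s k - s i) • e = 0 → e = 0) :
    Function.Bijective (fun c : Fin p → E => fun i : Fin p => ∑ j : Fin p, s i ^ (j : ℕ) • c j) := by
  classical
  have hinj : Function.Injective
      (fun c : Fin p → E => fun i : Fin p => ∑ j : Fin p, s i ^ (j : ℕ) • c j) := by
    intro c d h
    set M := Matrix.vandermonde s with hM
    have hz : ∀ i, ∑ j, M i j • (c j - d j) = 0 := fun i => by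
      simp only [smul_sub, Finset.sum_sub_distrib, sub_eq_zero]
      exact congrFun h i
    have hdet : ∀ k, M.det • (c k - d k) = 0 := fun k => by
      have h1 : ∑ i, M.adjugate k i • ∑ j, M i j • (c j - d j) = 0 :=
        Finset.sum_eq_zero fun i _ => by rw [hz, smul_zero]
      simp only [Finset.smul_sum, smul_smul] at h1
      rw [Finset.sum_comm] at h1
      simp only [← Finset.sum_smul] at h1
      have h2 : ∀ j, ∑ i, M.adjugate k i * M i j = if k = j then M.det else 0 := fun j => by
        rw [← Matrix.mul_apply, Matrix.adjugate_mul]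
        simp [Matrix.one_apply]
      simp only [h2] at h1
      simpa [ite_smul] using h1
    have hprod : ∀ (t : Finset (Fin p × Fin p)), (∀ x ∈ t, x.1 < x.2) → ∀ e : E,
        (∏ x ∈ t, (s x.2 - s x.1)) • e = 0 → e = 0 := by
      intro t
      induction t using Finset.induction_on with
      | empty => intro _ e he; simpa using he
      | @insert x t hx ih =>
        intro hlt e he
        rw [Finset.prod_insert hx, mul_smul] at he
        exact ih (fun y hy => hlt y (Finset.mem_insert_of_mem hy)) e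
          (hs _ _ (hlt x (Finset.mem_insert_self x t)) _ he)
    funext k
    refine sub_eq_zero.1 (hprod ((Finset.univ ×ˢ Finset.univ).filter fun x => x.1 < x.2)
      (fun x hx => (Finset.mem_filter.1 hx).2) _ ?_)
    convert hdet k using 2
    rw [hM, Matrix.det_vandermonde, Finset.prod_filter, Finset.prod_product]
    refine Finset.prod_congr rfl fun i _ => ?_
    rw [← Finset.prod_filter]
    exact Finset.prod_congr (by ext; simp) fun _ _ => rfl
  exact ⟨hinj, Finite.surjective_of_injective hinj⟩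

end Abelian

section Exponent

theorem pow_inj_of_prime {ℓ p c : ℕ} (hℓ : ℓ.Prime) (hp : p.Prime) (hc : (c : ZMod ℓ) ≠ 1)
    (hcp : (c : ZMod ℓ) ^ p = 1) {i k : ℕ} (hi : i < p) (hk : k < p)
    (h : (c : ZMod ℓ) ^ i = (c : ZMod ℓ) ^ k) : i = k := by
  haveI := Fact.mk hℓ
  haveI := Fact.mk hp
  have ho : orderOf (c : ZMod ℓ) = p := orderOf_eq_prime hcp hc
  exact pow_injOn_Iio_orderOf (by rw [Set.mem_Iio, ho]; exact hi)
    (by rw [Set.mem_Iio, ho]; exact hk) h

end Exponent

section AbelianFormula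

variable {E : Type*} [AddCommGroup E] [Finite E]

/-- The abelian case: the fixed points form a basis, and elements of trivial norm are
commutators. -/
theorem abelian_formula {σ φ : AddMonoid.End E} {ℓ p c : ℕ} (hℓ : ℓ.Prime) (hp : p.Prime)
    (hσ : σ ^ ℓ = 1) (hφ : φ ^ p = 1) (hc : (c : ZMod ℓ) ≠ 1)
    (hrel : φ * σ = σ ^ c * φ) (hfix : ∀ e : E, σ e = e → e = 0) :
    Nat.card E = Nat.card {e : E // φ e = e} ^ p ∧
      ∀ z : E, (∑ k ∈ Finset.range p, (φ ^ k) z) = 0 → ∃ w : E, w - φ w = z := by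
  classical
  haveI : NeZero p := ⟨hp.ne_zero⟩
  by_cases hE : ∀ e : E, e = 0
  · haveI : Subsingleton E := ⟨fun x y => by rw [hE x, hE y]⟩
    refine ⟨?_, fun z _ => ⟨0, Subsingleton.elim _ _⟩⟩
    haveI : Unique E := ⟨⟨0⟩, hE⟩
    haveI : Unique {e : E // φ e = e} := ⟨⟨⟨0, Subsingleton.elim _ _⟩⟩, fun x => Subtype.ext (hE x)⟩
    simp
  push Not at hE
  obtain ⟨e₀, he₀⟩ := hE
  -- the ring generated by `σ`
  let R : Subring (AddMonoid.End E) := Subring.closure {σ}
  letI : CommRing R := Subring.closureCommRingOfComm fun x hx y hy => by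
    rw [Set.mem_singleton_iff.1 hx, Set.mem_singleton_iff.1 hy]
  have hmul : ∀ (x y : AddMonoid.End E) (e : E), (x * y) e = x (y e) := fun _ _ _ => rfl
  let S : R := ⟨σ, Subring.subset_closure (Set.mem_singleton σ)⟩
  have hsmul : ∀ (m : ℕ) (e : E), (S ^ m) • e = (σ ^ m) e := fun m e => rfl
  have hmod : ∀ m n : ℕ, (m : ZMod ℓ) = n → σ ^ m = σ ^ n := fun m n h =>
    pow_eq_pow_of_modEq ((ZMod.natCast_eq_natCast_iff _ _ _).1 h) hσ
  have hinv : ∀ m : ℕ, (m : ZMod ℓ) ≠ 0 → ∀ e : E, (σ ^ m) e = e → e = 0 := by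
    intro m hm e he
    haveI := Fact.mk hℓ
    have hn : ∀ n : ℕ, ((σ ^ m) ^ n) e = e := fun n => by
      induction n with
      | zero => rfl
      | succ n ih => rw [pow_succ, hmul, he, ih]
    apply hfix
    have := hn ((m : ZMod ℓ)⁻¹).val
    rwa [← pow_mul, hmod _ 1 (by simp [mul_inv_cancel₀ hm]), pow_one] at this
  -- the relation
  have hrelpow : ∀ m i : ℕ, φ ^ i * σ ^ m = σ ^ (m * c ^ i) * φ ^ i := by
    have h1 : ∀ m : ℕ, φ * σ ^ m = σ ^ (m * c) * φ := by
      intro m
      induction m with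
      | zero => simp
      | succ m ih => rw [pow_succ, ← mul_assoc, ih, mul_assoc, hrel, ← mul_assoc, ← pow_add,
          add_mul, one_mul]
    intro m i
    induction i generalizing m with
    | zero => simp
    | succ i ih => rw [pow_succ, mul_assoc, h1, ← mul_assoc, ih, mul_assoc, pow_succ, mul_assoc,
        mul_comm c (c ^ i)]
  have hcp : (c : ZMod ℓ) ^ p = 1 := by
    by_contra h
    have h1 := hrelpow 1 p
    rw [hφ, one_mul, mul_one, one_mul, pow_one] at h1
    have hσ1 : (c ^ p : ℕ) ≠ 0 → False := by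
      intro h0
      obtain ⟨b, hb⟩ := Nat.exists_eq_succ_of_ne_zero h0
      refine he₀ (hinv b ?_ e₀ ?_)
      · intro hb0
        refine h ?_
        have := congrArg (fun x : ℕ => (x : ZMod ℓ)) hb
        push_cast at this
        rw [this, hb0, zero_add]
      · have hb' : σ ^ b * σ = σ := by rw [← pow_succ]; exact (h1.trans (congrArg (σ ^ ·) hb)).symm
        have hs : Function.Surjective σ := fun e => ⟨(σ ^ (ℓ - 1)) e, by
          rw [← hmul, ← pow_succ', Nat.sub_add_cancel hℓ.pos, hσ]; rfl⟩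
        obtain ⟨e₁, rfl⟩ := hs e₀
        exact DFunLike.congr_fun hb' e₁
    refine hσ1 fun h0 => ?_
    refine he₀ (hfix e₀ ?_)
    rw [h1, h0, pow_zero]
    rfl
  let s : Fin p → R := fun i => S ^ (c ^ (i : ℕ))
  have hs : ∀ i k : Fin p, i < k → ∀ e : E, (s k - s i) • e = 0 → e = 0 := by
    intro i k hik e he
    rw [sub_smul, sub_eq_zero, hsmul, hsmul] at he
    set d := ((c : ZMod ℓ) ^ (k : ℕ) - (c : ZMod ℓ) ^ (i : ℕ)).val with hd
    haveI := Fact.mk hℓ
    have hd' : (d : ZMod ℓ) = (c : ZMod ℓ) ^ (k : ℕ) - (c : ZMod ℓ) ^ (i : ℕ) := by simp [hd]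
    have hne : (d : ZMod ℓ) ≠ 0 := by
      rw [hd']
      exact sub_ne_zero.2 fun h => absurd (pow_inj_of_prime hℓ hp hc hcp k.2 i.2 h) (ne_of_gt hik)
    have h2 : (σ ^ d) ((σ ^ c ^ (i : ℕ)) e) = (σ ^ c ^ (i : ℕ)) e := by
      rw [← hmul, ← pow_add, hmod (d + c ^ (i : ℕ)) (c ^ (k : ℕ)) (by push_cast; rw [hd']; ring)]
      exact he
    have h3 := hinv d hne _ h2
    have h4 : (σ ^ ((ℓ - 1) * c ^ (i : ℕ))) ((σ ^ c ^ (i : ℕ)) e) = e := by
      rw [← hmul, ← pow_add, hmod _ (ℓ * c ^ (i : ℕ)) (by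
        rw [← add_one_mul, Nat.sub_add_cancel hℓ.one_le]), pow_mul, hσ, one_pow]
      rfl
    rw [h3, map_zero] at h4
    exact h4.symm
  have hT := vandermonde_bijective (E := E) s hs
  set T := fun c : Fin p → E => fun i : Fin p => ∑ j : Fin p, s i ^ (j : ℕ) • c j with hTdef
  have hφs : ∀ (i : Fin p) (d : Fin p → E),
      φ (T d i) = T (fun j => φ (d j)) (i + 1) := by
    intro i d
    simp only [hTdef, map_sum]
    refine Finset.sum_congr rfl fun j _ => ?_
    simp only [s, ← pow_mul, hsmul]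
    have hr := hrelpow (c ^ (i : ℕ) * j) 1
    rw [pow_one, pow_one] at hr
    rw [← hmul, hr, hmul]
    refine congrArg (fun f : AddMonoid.End E => f (φ (d j))) (hmod _ _ ?_)
    rw [Fin.val_add, Fin.val_one']
    push_cast
    rw [mul_right_comm, ← pow_succ]
    congr 1
    rw [Nat.add_mod_mod, ← pow_eq_pow_mod _ hcp]
  have hφi : ∀ (y : E) (i : Fin p), φ ((φ ^ (i : ℕ)) y) = (φ ^ ((i + 1 : Fin p) : ℕ)) y := by
    intro y i
    rw [← hmul, ← pow_succ']
    refine congrArg (fun f : AddMonoid.End E => f y) (pow_eq_pow_of_modEq ?_ hφ)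
    rw [Fin.val_add, Fin.val_one']
    exact ((Nat.ModEq.refl (i : ℕ)).add (Nat.mod_modEq 1 p).symm).trans (Nat.mod_modEq _ p).symm
  refine ⟨?_, ?_⟩
  · let Ψ : (Fin p → {e : E // φ e = e}) → E := fun d => T (fun j => (d j : E)) 0
    have key : ∀ (d : Fin p → {e : E // φ e = e}) (i : ℕ),
        T (fun j => (d j : E)) (Fin.ofNat p i) = (φ ^ i) (Ψ d) := by
      intro d i
      induction i with
      | zero => rfl
      | succ i ih =>
        rw [pow_succ', hmul, ← ih, hφs]
        have e : (fun j => φ (d j : E)) = fun j => (d j : E) := funext fun j => (d j).2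
        rw [e]
        congr 1
        ext
        simp [Fin.val_add]
    have hΨ : Function.Bijective Ψ := by
      refine ⟨fun d d' h => ?_, fun y => ?_⟩
      · have : T (fun j => (d j : E)) = T (fun j => (d' j : E)) := funext fun i => by
          rw [← Fin.ofNat_val_eq_self i, key, key, h]
        exact funext fun j => Subtype.ext (congrFun (hT.1 this) j)
      · obtain ⟨d, hd⟩ := hT.2 (fun i => (φ ^ (i : ℕ)) y)
        have hd' : (fun j => φ (d j)) = d := hT.1 (funext fun i => by
          obtain ⟨i, rfl⟩ : ∃ i' : Fin p, i = i' + 1 := ⟨i - 1, by simp⟩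
          show T _ (i + 1) = T d (i + 1)
          rw [← hφs, hd, hφi])
        refine ⟨fun j => ⟨d j, congrFun hd' j⟩, ?_⟩
        show T d 0 = y
        rw [hd]
        simp
    rw [← Nat.card_congr (Equiv.ofBijective Ψ hΨ), Nat.card_fun, Nat.card_fin]
  · intro z hz
    obtain ⟨d, hd⟩ := hT.2 (fun i => -∑ k ∈ Finset.range (i : ℕ), (φ ^ k) z)
    have hstep : ∀ i : Fin p, T (fun j => φ (d j)) (i + 1) = T d (i + 1) + z := by
      intro i
      rw [← hφs, hd]
      have h0 : φ (-∑ k ∈ Finset.range (i : ℕ), (φ ^ k) z) =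
          -(∑ k ∈ Finset.range ((i : ℕ) + 1), (φ ^ k) z) + z := by
        rw [map_neg, map_sum, Finset.sum_range_succ' (fun k => (φ ^ k) z) (i : ℕ)]
        simp only [pow_succ', hmul, pow_zero]
        show _ = -((_ : E) + z) + z
        abel
      rw [h0]
      rcases eq_or_ne ((i : ℕ) + 1) p with h | h
      · have hi0 : i + 1 = (0 : Fin p) := by
          ext; rw [Fin.val_add, Fin.val_one', Nat.add_mod_mod, h, Nat.mod_self]; rfl
        rw [hi0, h, hz]
        simp
      · have hi1 : ((i + 1 : Fin p) : ℕ) = (i : ℕ) + 1 := by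
          rw [Fin.val_add, Fin.val_one', Nat.add_mod_mod, Nat.mod_eq_of_lt (by omega)]
        simp only [hi1]
    have heq : (fun j => φ (d j)) = fun j => d j + if j = 0 then z else 0 := hT.1 (funext fun i => by
      obtain ⟨i, rfl⟩ : ∃ i' : Fin p, i = i' + 1 := ⟨i - 1, by simp⟩
      show T _ (i + 1) = T _ (i + 1)
      rw [hstep]
      simp [hTdef, smul_add, Finset.sum_add_distrib, smul_ite])
    refine ⟨-d 0, ?_⟩
    have := congrFun heq 0
    simp only [if_true] at this
    rw [map_neg, this]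
    abel

end AbelianFormula

end Cfsg.Agent.Suz27.Fpf
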