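import Cfsg.Agent.Suz27.Defs
import Cfsg.Agent.S1131
import Cfsg.Agent.Lib.SuzukiTwo.Setup
import Cfsg.Agent.Lib.Zassenhaus.Moebius

/-!
The line of a split rank one group with `r * r = 1`: a copy of `SL₂(q)` generated by the central
involutions `Z`, the inverted part `K` of the two-point stabiliser, and `t`.
-/

set_option autoImplicit false

namespace Cfsg.Agent.Suz27

open MulAction RankOne ZassNormal OnePoint
open scoped MatrixGroups

universe u v

variable {G : Type u} {Ω : Type v} [Group G] [MulAction G Ω]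

/-- The point of the line with parameter `c`. -/
def linePt {F : Type} (a : Ω) (t : G) (z : F → G) : OnePoint F → Ω :=
  fun c => c.elim a (fun x => z x • t • a)

open Classical in
/-- The line: parameters for `Z` and `K` and the embedded `SL₂`. -/
structure Line (a : Ω) (t : G) (Q : Subgroup G) (F : Type) [Field F] where
  z : F → G
  kk : Fˣ →* G
  ι : SL(2, F) →* G
  z_add : ∀ x y, z (x + y) = z x * z y
  z_inj : Function.Injective z
  z_range : ∀ g : G, (g ∈ Q ∧ g * g = 1) ↔ ∃ x, z x = g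
  kk_inj : Function.Injective kk
  kk_range : ∀ g : G, g ∈ Cfsg.invertedBy (twoStab G a t) t ↔ ∃ u, kk u = g
  kk_z : ∀ (u : Fˣ) x, kk u * z x * (kk u)⁻¹ = z ((u : F) * x)
  structure_eq : t * z 1 * t = z 1 * t * z 1
  ι_inj : Function.Injective ι
  ι_trans : ∀ x, ι (transMat x) = z x
  ι_diag : ∀ (c : F) (hc : c ≠ 0), ι (diagMat c hc) = kk (Units.mk0 c hc ^ 2)
  ι_weyl : ι weylMat = t
  ι_smul : ∀ A c, ι A • linePt a t z c =
    linePt a t z ((Matrix.SpecialLinearGroup.toGL A) • c)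

/-- Two homomorphisms on `SL₂` agreeing on translations, diagonal matrices and the Weyl element
are equal. -/
theorem sl_hom_ext {F : Type} [Field F] {M : Type*} [Group M] {f g : SL(2, F) →* M}
    (hT : ∀ x, f (transMat x) = g (transMat x))
    (hD : ∀ c hc, f (diagMat c hc) = g (diagMat c hc)) (hW : f weylMat = g weylMat) : f = g := by
  classical
  refine MonoidHom.ext fun A => ?_
  rcases sl_two_decomp A with ⟨s, r, hs, rfl⟩ | ⟨x, s, r, hs, rfl⟩
  · rw [map_mul, map_mul, hD, hT]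
  · simp only [map_mul, hD, hT, hW]

section
variable [Finite G] {a : Ω} {t : G} {Q : Subgroup G}

/-- The elements of square one of `Q`, as a subgroup. -/
def zSub (h : R1 G Ω a t Q) : Subgroup G where
  carrier := {g | g ∈ Q ∧ g * g = 1}
  one_mem' := ⟨Q.one_mem, one_mul 1⟩
  mul_mem' {x y} hx hy := by
    refine ⟨mul_mem hx.1 hy.1, ?_⟩
    rcases eq_or_ne x 1 with rfl | hx1
    · rw [one_mul, hy.2]
    have hc := invol_central h.setup h.rank2 ⟨hx1, hx.2⟩ (Q_fix_a h.setup hx.1) hy.1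
    calc x * y * (x * y) = x * (y * x) * y := by group
      _ = (x * x) * (y * y) := by rw [← hc]; group
      _ = 1 := by rw [hx.2, hy.2, one_mul]
  inv_mem' {x} hx := ⟨inv_mem hx.1, by rw [← mul_inv_rev, hx.2, inv_one]⟩

theorem zSub_mem_iff (h : R1 G Ω a t Q) {g : G} : g ∈ zSub h ↔ g ∈ Q ∧ g * g = 1 := Iff.rfl

theorem inv_mem_iff (h : R1 G Ω a t Q) {g : G} :
    g ∈ Cfsg.involutionsIn (stabilizer G a : Set G) ↔ (g ∈ Q ∧ g * g = 1) ∧ g ≠ 1 :=
  ⟨fun hg => ⟨⟨invol_mem_Q h.setup ⟨hg.2.1, hg.2.2⟩ hg.1, hg.2.2⟩, hg.2.1⟩,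
    fun hg => ⟨h.setup.le hg.1.1, hg.2, hg.1.2⟩⟩

/-- Parameters for `Z` and `K`, with `z 1` a prescribed involution. -/
theorem exists_coords (h : R1 G Ω a t Q) {s : G}
    (hs : s ∈ Cfsg.involutionsIn (stabilizer G a : Set G)) :
    ∃ (F : Type) (_ : Field F) (_ : Fintype F) (_ : CharP F 2) (z : F → G) (kk : Fˣ →* G),
      4 ≤ Fintype.card F ∧ Fintype.card F = qOf Q ∧ z 1 = s ∧
      (∀ x y, z (x + y) = z x * z y) ∧ Function.Injective z ∧
      (∀ g : G, (g ∈ Q ∧ g * g = 1) ↔ ∃ x, z x = g) ∧ Function.Injective kk ∧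
      (∀ g : G, g ∈ Cfsg.invertedBy (twoStab G a t) t ↔ ∃ u, kk u = g) ∧
      ∀ (u : Fˣ) x, kk u * z x * (kk u)⁻¹ = z ((u : F) * x) := by
  classical
  haveI := h.faithful
  have hS := h.setup
  obtain ⟨C, hCK, hCc, -⟩ := Cfsg.Agent.S1131.result hS h.rank2
  have hCmem : ∀ g, g ∈ C ↔ g ∈ Cfsg.invertedBy (twoStab G a t) t := fun g => by
    rw [← SetLike.mem_coe, hCK]
  set Z := zSub h
  have hCn : ∀ c ∈ C, ∀ x ∈ Z, c * x * c⁻¹ ∈ Z := by
    intro c hc x hx
    refine ⟨hS.conj_mem c (Subgroup.mem_inf.1 ((hCmem c).1 hc).1).1 x hx.1, ?_⟩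
    calc c * x * c⁻¹ * (c * x * c⁻¹) = c * (x * x) * c⁻¹ := by group
      _ = 1 := by rw [hx.2]; group
  let conjZ : C →* MulAut Z :=
    { toFun := fun c =>
        { toFun := fun x => ⟨(c : G) * x * (c : G)⁻¹, hCn c c.2 x x.2⟩
          invFun := fun x => ⟨(c : G)⁻¹ * x * (c : G), by
            simpa using hCn _ (inv_mem c.2) x x.2⟩
          left_inv := fun x => Subtype.ext (by group)
          right_inv := fun x => Subtype.ext (by group)
          map_mul' := fun x y => Subtype.ext (by simp [mul_assoc]) }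
      map_one' := MulEquiv.ext fun x => Subtype.ext (by simp)
      map_mul' := fun c d => MulEquiv.ext fun x => Subtype.ext (by simp [mul_assoc]) }
  have hconj : ∀ (c : C) (x : Z), ((conjZ c x : Z) : G) = (c : G) * x * (c : G)⁻¹ := fun c x => rfl
  have hZinv : ∀ x : Z, x ≠ 1 → (x : G) ∈ Cfsg.involutionsIn (stabilizer G a : Set G) := fun x hx =>
    (inv_mem_iff h).2 ⟨x.2, fun e => hx (Subtype.ext e)⟩
  have h2 : IsPGroup 2 Z := fun x => ⟨1, by
    rw [pow_one, pow_two]; exact Subtype.ext x.2.2⟩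
  obtain ⟨y₁, hy₁, y₂, hy₂, hne, -⟩ := exists_two_invol hS h.rank2
  have hcinj : Function.Injective conjZ := by
    intro c d hcd
    have hsZ : s ∈ Z := ((inv_mem_iff h).1 hs).1
    have e := congrArg Subtype.val (DFunLike.congr_fun hcd ⟨s, hsZ⟩)
    rw [hconj, hconj] at e
    have := inverted_conj_inj hS hs ((hCmem _).1 (inv_mem c.2)) ((hCmem _).1 (inv_mem d.2))
      (by simpa using e)
    exact Subtype.ext (inv_injective this)
  obtain ⟨F, i1, i2, i3, fr, hq4, hall⟩ := SuzukiTwo.exists_frame_of h2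
    ⟨⟨y₁, ((inv_mem_iff h).1 hy₁).1⟩, ⟨y₂, ((inv_mem_iff h).1 hy₂).1⟩,
      fun e => hne (congrArg Subtype.val e), fun e => hy₁.2.1 (congrArg Subtype.val e),
      Subtype.ext hy₁.2.2, fun e => hy₂.2.1 (congrArg Subtype.val e), Subtype.ext hy₂.2.2⟩
    conjZ.range (isCyclic_of_surjective conjZ.rangeRestrict conjZ.rangeRestrict_surjective)
    (by
      intro x y hx1 _ hy1 _
      obtain ⟨k, hk, hky⟩ := inverted_transitive hS (hZinv x hx1) (hZinv y hy1)
      have hky' : (k⁻¹ : G) * x * (k⁻¹)⁻¹ = y := by rw [inv_inv]; exact hky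
      refine ⟨⟨conjZ ⟨k⁻¹, inv_mem ((hCmem k).2 hk)⟩, ⟨_, rfl⟩⟩, Subtype.ext hky', ?_⟩
      rintro ⟨_, c, rfl⟩ hc
      refine Subtype.ext (congrArg conjZ (Subtype.ext ?_))
      have e : (c : G) * x * (c : G)⁻¹ = y := congrArg Subtype.val hc
      have := inverted_conj_inj hS (hZinv x hx1) ((hCmem _).1 (inv_mem c.2)) hk
        (by rw [inv_inv, e, hky])
      exact inv_eq_iff_eq_inv.1 this)
  have hactinj : Function.Injective fr.act := fun u w huw => Units.ext (by
    have := congrArg (fun f => f (fr.emb 1)) huw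
    simp only [fr.act_emb, mul_one] at this
    exact fr.emb_inj this)
  choose vv hvv using fun c : C => hall (conjZ c) ⟨c, rfl⟩
  let vh : C →* Fˣ := MonoidHom.mk' vv fun c d => hactinj (by
    rw [map_mul, hvv, hvv, hvv, map_mul])
  have hvinj : Function.Injective vh := fun c d e => hcinj (by
    rw [← hvv, ← hvv]; exact congrArg fr.act e)
  have hZcard : Nat.card Z = Fintype.card F := by
    rw [← Nat.card_eq_fintype_card]
    exact (Nat.card_congr (Equiv.ofBijective fr.emb ⟨fr.emb_inj, fun x => by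
      have hx : x * x = 1 := Subtype.ext x.2.2
      exact (fr.emb_range x).1 hx⟩)).symm
  have hCcard : Nat.card C = Nat.card Fˣ := by
    have h1 : Nat.card C = Nat.card (Cfsg.invertedBy (twoStab G a t) t) :=
      Nat.card_congr (Equiv.subtypeEquivRight hCmem)
    rw [h1, card_inverted hS, Nat.card_units, Nat.card_eq_fintype_card (α := F), ← hZcard]
    let e : Cfsg.involutionsIn (stabilizer G a : Set G) ≃ {x : Z // x ≠ 1} :=
      { toFun := fun g => ⟨⟨g, ((inv_mem_iff h).1 g.2).1⟩, fun e => g.2.2.1 (congrArg Subtype.val e)⟩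
        invFun := fun x => ⟨(x.1 : G), hZinv x.1 x.2⟩
        left_inv := fun g => rfl
        right_inv := fun x => rfl }
    rw [Nat.card_congr e]
    haveI := Fintype.ofFinite Z
    rw [Nat.card_eq_fintype_card, Nat.card_eq_fintype_card, Fintype.card_subtype_compl,
      Fintype.card_subtype_eq]
  let ve : C ≃* Fˣ := MulEquiv.ofBijective vh (hvinj.bijective_of_nat_card_le hCcard.ge)
  let kk : Fˣ →* G := C.subtype.comp ve.symm.toMonoidHom
  have hkk : ∀ u, fr.act u = conjZ (ve.symm u) := fun u => by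
    rw [← hvv]
    exact congrArg fr.act (ve.apply_symm_apply u).symm
  obtain ⟨e0, he0⟩ : ∃ e0, fr.emb e0 = ⟨s, ((inv_mem_iff h).1 hs).1⟩ :=
    (fr.emb_range _).1 (Subtype.ext hs.2.2)
  have he0ne : e0 ≠ 0 := fun e => hs.2.1 (by
    rw [e, fr.emb_zero] at he0; exact (congrArg Subtype.val he0).symm)
  refine ⟨F, i1, i2, i3, fun x => (fr.emb (x * e0) : G), kk, hq4, ?_, ?_, ?_, ?_, ?_, ?_, ?_, ?_⟩
  · rw [← hZcard]; rfl
  · show ((fr.emb (1 * e0) : Z) : G) = s
    rw [one_mul, he0]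
  · intro x y
    show ((fr.emb ((x + y) * e0) : Z) : G) = _
    rw [add_mul, fr.emb_add]; rfl
  · exact fun x y e => mul_right_cancel₀ he0ne (fr.emb_inj (Subtype.ext e))
  · intro g
    constructor
    · intro hg
      obtain ⟨x, hx⟩ := (fr.emb_range ⟨g, hg⟩).1 (Subtype.ext hg.2)
      exact ⟨x / e0, by
        show ((fr.emb (x / e0 * e0) : Z) : G) = g
        rw [div_mul_cancel₀ x he0ne, hx]⟩
    · rintro ⟨x, rfl⟩
      exact (fr.emb (x * e0)).2
  · exact Subtype.val_injective.comp ve.symm.injective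
  · intro g
    constructor
    · intro hg
      exact ⟨ve ⟨g, (hCmem g).2 hg⟩, by simp [kk]⟩
    · rintro ⟨u, rfl⟩
      exact (hCmem _).1 (ve.symm u).2
  · intro u x
    have := congrArg Subtype.val (fr.act_emb u (x * e0))
    rw [hkk, hconj] at this
    show _ = ((fr.emb ((u : F) * x * e0) : Z) : G)
    rw [mul_assoc (u : F)]
    exact this

/-- The line of a split rank one group with `r * r = 1`. -/
theorem exists_line (h : R1 G Ω a t Q) (hr : RInv a t Q) :
    ∃ (F : Type) (_ : Field F) (_ : Fintype F) (_ : CharP F 2),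
      4 ≤ Fintype.card F ∧ Fintype.card F = qOf Q ∧ Nonempty (Line a t Q F) := by
  classical
  have hS := h.setup
  obtain ⟨s, r, hs, hrQ, heq⟩ := structure_exists hS
  have hr2 := hr s r hs hrQ heq
  obtain ⟨F, i1, i2, i3, z, kk, hq4, hqc, hz1, zadd, zinj, zran, kinj, kran, kz⟩ :=
    exists_coords h hs
  refine ⟨F, i1, i2, i3, hq4, hqc, ?_⟩
  have ht2 := hS.mul_self
  have hzQ : ∀ x, z x ∈ Q := fun x => ((zran _).2 ⟨x, rfl⟩).1
  have hz0 : z 0 = 1 := by
    have := zadd 0 0
    rw [add_zero] at this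
    exact left_eq_mul.1 this
  have hkD : ∀ u, kk u ∈ twoStab G a t := fun u => ((kran _).2 ⟨u, rfl⟩).1
  have hka : ∀ u, kk u • a = a := fun u => mem_stabilizer_iff.1 (Subgroup.mem_inf.1 (hkD u)).1
  have hkb : ∀ u, kk u • t • a = t • a := fun u =>
    mem_stabilizer_iff.1 (Subgroup.mem_inf.1 (hkD u)).2
  have hza : ∀ x, z x • a = a := fun x => Q_fix_a hS (hzQ x)
  have htk : ∀ u, t * kk u * t = (kk u)⁻¹ := fun u => by
    have := ((kran _).2 ⟨u, rfl⟩).2
    rwa [t_inv hS] at this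
  have htk' : ∀ u, t * kk u = (kk u)⁻¹ * t := fun u => by
    calc t * kk u = t * kk u * (t * t) := by rw [ht2, mul_one]
      _ = (t * kk u * t) * t := by group
      _ = _ := by rw [htk]
  have hkzc : ∀ (u : Fˣ) x, kk u * z x = z ((u : F) * x) * kk u := fun u x => by
    rw [← kz]; group
  -- `r = s`
  have hri : r⁻¹ = r := inv_eq_self hr2
  rw [hri] at heq
  have hr1 : r ≠ 1 := fun e => hS.not_mem (by
    rw [e, one_mul, mul_one] at heq
    have : s = t := by
      calc s = (t * t) * s * (t * t) := by rw [ht2]; group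
        _ = t * (t * s * t) * t := by group
        _ = t := by rw [heq, ht2, one_mul]
    exact this ▸ hs.1)
  have hrs : r = s := by
    obtain ⟨ρ, hρ⟩ := (zran r).1 ⟨hrQ, hr2⟩
    have hρ0 : ρ ≠ 0 := fun e => hr1 (by rw [← hρ, e, hz0])
    set k := kk (Units.mk0 ρ hρ0) with hk
    have hkr : r = k * s * k⁻¹ := by rw [hk, ← hz1, kz, Units.val_mk0, mul_one, hρ]
    have e1 : t * r * t = s * (k⁻¹ * k⁻¹) * t * s := by
      have hh : t * k⁻¹ * t = k := by
        have := htk (Units.mk0 ρ hρ0)⁻¹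
        rwa [map_inv, inv_inv] at this
      calc t * r * t = (t * k * t) * (t * s * t) * (t * k⁻¹ * t) := by
            rw [hkr]
            calc t * (k * s * k⁻¹) * t = t * k * (t * t) * s * (t * t) * k⁻¹ * t := by
                  rw [ht2]; group
              _ = _ := by group
        _ = k⁻¹ * (r * t * r) * k := by rw [heq, hh, htk]
        _ = (k⁻¹ * r * k) * (k⁻¹ * (t * k) * k⁻¹) * r * k := by group
        _ = (k⁻¹ * r * k) * (k⁻¹ * k⁻¹ * t) * (k⁻¹ * r * k) := by rw [htk', ← hk]; group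
        _ = s * (k⁻¹ * k⁻¹) * t * s := by
            rw [show k⁻¹ * r * k = s by rw [hkr]; group]; group
    have e2 : t * r * t = s * 1 * t * r := by
      calc t * r * t = t * r * t * (r * r) := by rw [hr2, mul_one]
        _ = t * (r * t * r) * r := by group
        _ = (t * t) * s * t * r := by rw [← heq]; group
        _ = _ := by rw [ht2]; group
    exact (gtf_unique hS (invol_mem_Q hS ⟨hs.2.1, hs.2.2⟩ hs.1) (one_mem _) hrQ
      (invol_mem_Q hS ⟨hs.2.1, hs.2.2⟩ hs.1) (mul_mem (inv_mem (hkD _)) (inv_mem (hkD _)))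
      (invol_mem_Q hS ⟨hs.2.1, hs.2.2⟩ hs.1) (e2.symm.trans e1)).2.2
  rw [hrs, ← hz1] at heq
  have tz : ∀ x (hx : x ≠ 0),
      t * z x = z x⁻¹ * kk ((Units.mk0 x hx)⁻¹ ^ 2) * t * z x⁻¹ * t := by
    intro x hx
    set u := Units.mk0 x hx
    have hu : z x⁻¹ = (kk u)⁻¹ * z 1 * kk u := by
      have := kz u⁻¹ 1
      rw [map_inv, inv_inv, mul_one] at this
      rw [this, Units.val_inv_eq_inv_val, Units.val_mk0]
    have hx' : z x = kk u * z 1 * (kk u)⁻¹ := by rw [kz, Units.val_mk0, mul_one]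
    have htki : t * (kk u)⁻¹ = kk u * t := by
      have := htk' u⁻¹
      rwa [map_inv, inv_inv] at this
    calc t * z x = (t * kk u) * z 1 * (kk u)⁻¹ := by rw [hx']; group
      _ = (kk u)⁻¹ * (t * z 1 * t) * (t * (kk u)⁻¹) := by
          rw [htk']
          calc (kk u)⁻¹ * t * z 1 * (kk u)⁻¹ = (kk u)⁻¹ * t * z 1 * (t * t) * (kk u)⁻¹ := by
                rw [ht2]; group
            _ = _ := by group
      _ = ((kk u)⁻¹ * z 1 * kk u) * (kk u)⁻¹ * t * z 1 * (kk u * t) := by
          rw [heq, htki]; group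
      _ = z x⁻¹ * ((kk u)⁻¹ * (kk u)⁻¹) * (kk u * t) * z 1 * kk u * t := by rw [← hu]; group
      _ = z x⁻¹ * ((kk u)⁻¹ * (kk u)⁻¹) * t * ((kk u)⁻¹ * z 1 * kk u) * t := by
          rw [← htki]; group
      _ = _ := by rw [← hu, ← map_inv, ← map_mul, pow_two]
  -- the line
  set φ : OnePoint F → Ω := linePt a t z with hφ
  have hφi : φ ∞ = a := rfl
  have hφc : ∀ x : F, φ x = z x • t • a := fun x => rfl
  have hφne : ∀ x : F, z x • t • a ≠ a := fun x => smul_Q_ne hS (hzQ x) (ta_ne hS)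
  set gens : Set G := Set.range z ∪ Set.range kk ∪ {t} with hgens
  set L := Subgroup.closure gens
  let N : Set G := {g | (∃ x u, g = z x * kk u) ∨ ∃ x u y, g = z x * kk u * t * z y}
  have hLN : ∀ g ∈ L, g ∈ N := by
    have hz' : ∀ (x : F), ∀ g ∈ N, z x * g ∈ N := by
      rintro x g (⟨x', u, rfl⟩ | ⟨x', u, y, rfl⟩)
      · exact Or.inl ⟨x + x', u, by rw [zadd, mul_assoc]⟩
      · exact Or.inr ⟨x + x', u, y, by rw [zadd]; simp only [mul_assoc]⟩
    have hk' : ∀ (w : Fˣ), ∀ g ∈ N, kk w * g ∈ N := by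
      rintro w g (⟨x, u, rfl⟩ | ⟨x, u, y, rfl⟩)
      · exact Or.inl ⟨w * x, w * u, by rw [map_mul, ← mul_assoc, hkzc]; group⟩
      · exact Or.inr ⟨w * x, w * u, y, by
          simp only [← mul_assoc, hkzc, map_mul]⟩
    have ht' : ∀ g ∈ N, t * g ∈ N := by
      rintro g (⟨x, u, rfl⟩ | ⟨x, u, y, rfl⟩)
      · refine Or.inr ⟨0, u⁻¹, ((u⁻¹ : Fˣ) : F) * x, ?_⟩
        have e := hkzc u⁻¹ x
        rw [map_inv] at e
        have : z x * kk u = kk u * z (((u⁻¹ : Fˣ) : F) * x) := by
          calc z x * kk u = kk u * ((kk u)⁻¹ * z x) * kk u := by group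
            _ = _ := by rw [e]; group
        rw [this, ← mul_assoc, htk', hz0, one_mul, map_inv]
      · by_cases hx : x = 0
        · refine Or.inl ⟨((u⁻¹ : Fˣ) : F) * y, u⁻¹, ?_⟩
          rw [hx, hz0, one_mul, ← hkzc, map_inv, ← mul_assoc, ← mul_assoc, htk]
        · refine Or.inr ⟨x⁻¹, (Units.mk0 x hx)⁻¹ ^ 2 * u, (u : F) * x⁻¹ + y, ?_⟩
          have e := hkzc u x⁻¹
          calc t * (z x * kk u * t * z y) = (t * z x) * kk u * t * z y := by group
            _ = z x⁻¹ * kk ((Units.mk0 x hx)⁻¹ ^ 2) * t * z x⁻¹ * (t * kk u * t) * z y := by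
                rw [tz x hx]; group
            _ = z x⁻¹ * kk ((Units.mk0 x hx)⁻¹ ^ 2) * (t * (kk u)⁻¹) *
                  (kk u * z x⁻¹) * (kk u)⁻¹ * z y := by rw [htk]; group
            _ = z x⁻¹ * kk ((Units.mk0 x hx)⁻¹ ^ 2) * (kk u * t) *
                  (z ((u : F) * x⁻¹) * kk u) * (kk u)⁻¹ * z y := by
                have := htk' u⁻¹
                rw [map_inv, inv_inv] at this
                rw [this, e]
            _ = _ := by rw [map_mul, zadd]; group
    intro g hg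
    induction hg using Subgroup.closure_induction_left with
    | one => exact Or.inl ⟨0, 1, by rw [hz0, map_one, one_mul]⟩
    | mul_left g hg y hy ih =>
      rcases hg with (⟨x, rfl⟩ | ⟨u, rfl⟩) | hgt
      · exact hz' x y ih
      · exact hk' u y ih
      · rw [Set.mem_singleton_iff.1 hgt]; exact ht' y ih
    | inv_mul_cancel g hg y hy ih =>
      rcases hg with (⟨x, rfl⟩ | ⟨u, rfl⟩) | hgt
      · have : (z x)⁻¹ = z x := inv_eq_self ((zran _).2 ⟨x, rfl⟩).2
        rw [this]; exact hz' x y ih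
      · rw [← map_inv]; exact hk' _ y ih
      · rw [Set.mem_singleton_iff.1 hgt, t_inv hS]; exact ht' y ih
  have hfaith : ∀ g ∈ L, (∀ c, g • φ c = φ c) → g = 1 := by
    intro g hg hfix
    rcases hLN g hg with ⟨x, u, rfl⟩ | ⟨x, u, y, rfl⟩
    · have h0 := hfix ((0 : F) : OnePoint F)
      rw [hφc, hz0, one_smul, mul_smul, hkb] at h0
      have hx : x = 0 := zinj ((Q_fix_unique hS (hzQ x) (ta_ne hS) h0).trans hz0.symm)
      subst hx
      have h1 := hfix ((1 : F) : OnePoint F)
      rw [hφc, hz0, one_mul, ← mul_smul, hkzc, mul_smul, hkb, mul_one] at h1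
      have := zinj (regular_unique hS (ta_ne hS) (hzQ _) (hzQ _) h1)
      have hu1 : u = 1 := Units.ext (by simpa using this)
      rw [hu1, map_one, hz0, one_mul]
    · exfalso
      have h1 := hfix ((y : F) : OnePoint F)
      rw [hφc, mul_smul _ (z y), ← mul_smul (z y), ((zran _).2 ⟨y, rfl⟩).2, one_smul, mul_smul,
        mul_smul, t_smul_ta hS, hka, hza] at h1
      exact hφne y h1.symm
  -- realise the matrices
  have hP : ∀ A : SL(2, F), ∃ g ∈ L, ∀ c, g • φ c =
      φ ((Matrix.SpecialLinearGroup.toGL A) • c) := by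
    have hmul : ∀ A B : SL(2, F),
        (∃ g ∈ L, ∀ c, g • φ c = φ ((Matrix.SpecialLinearGroup.toGL A) • c)) →
        (∃ g ∈ L, ∀ c, g • φ c = φ ((Matrix.SpecialLinearGroup.toGL B) • c)) →
        ∃ g ∈ L, ∀ c, g • φ c = φ ((Matrix.SpecialLinearGroup.toGL (A * B)) • c) := by
      rintro A B ⟨g, hgL, hg⟩ ⟨k, hkL, hk⟩
      exact ⟨g * k, mul_mem hgL hkL, fun c => by rw [mul_smul, hk, hg, map_mul, mul_smul]⟩
    have hT : ∀ x : F, ∃ g ∈ L, ∀ c, g • φ c =
        φ ((Matrix.SpecialLinearGroup.toGL (transMat x)) • c) := by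
      refine fun x => ⟨z x, Subgroup.subset_closure (Or.inl (Or.inl ⟨x, rfl⟩)), fun c => ?_⟩
      rw [transMat_smul]
      cases c with
      | infty => exact hza x
      | coe k =>
        show z x • z k • t • a = z (k + x) • t • a
        rw [← mul_smul, ← zadd, add_comm]
    have hD : ∀ (c : F) (hc : c ≠ 0), ∃ g ∈ L, ∀ p, g • φ p =
        φ ((Matrix.SpecialLinearGroup.toGL (diagMat c hc)) • p) := by
      refine fun c hc => ⟨kk (Units.mk0 c hc ^ 2),
        Subgroup.subset_closure (Or.inl (Or.inr ⟨_, rfl⟩)), fun p => ?_⟩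
      rw [diagMat_smul]
      cases p with
      | infty => exact hka _
      | coe k =>
        show kk _ • z k • t • a = z (c ^ 2 * k) • t • a
        rw [← mul_smul, hkzc, mul_smul, hkb, Units.val_pow_eq_pow_val, Units.val_mk0]
    have hW : ∃ g ∈ L, ∀ p, g • φ p =
        φ ((Matrix.SpecialLinearGroup.toGL (weylMat (F := F))) • p) := by
      refine ⟨t, Subgroup.subset_closure (Or.inr rfl), fun p => ?_⟩
      cases p with
      | infty =>
        rw [weylMat_smul_infty, hφc, hz0, one_smul]; rfl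
      | coe k =>
        by_cases hk : k = 0
        · rw [hk, weylMat_smul_zero, hφc, hz0, one_smul]; exact t_smul_ta hS
        · rw [weylMat_smul_coe hk, CharTwo.neg_eq, hφc, hφc, ← mul_smul, tz k hk, mul_smul,
            t_smul_ta hS, mul_smul, hza, mul_smul, mul_smul, hkb]
    intro A
    rcases sl_two_decomp A with ⟨c, x, hc, rfl⟩ | ⟨y, c, x, hc, rfl⟩
    · exact hmul _ _ (hD c hc) (hT x)
    · exact hmul _ _ (hmul _ _ (hT y) hW) (hmul _ _ (hD c hc) (hT x))
  choose f hfL hf using hP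
  have huniq : ∀ A, ∀ g ∈ L,
      (∀ c, g • φ c = φ ((Matrix.SpecialLinearGroup.toGL A) • c)) → f A = g := by
    intro A g hg hgA
    have := hfaith (g⁻¹ * f A) (mul_mem (inv_mem hg) (hfL A)) fun c => by
      rw [mul_smul, hf, ← hgA, inv_smul_smul]
    exact (inv_mul_eq_one.1 this).symm
  let ι : SL(2, F) →* G := MonoidHom.mk' f fun A B =>
    huniq _ _ (mul_mem (hfL A) (hfL B)) fun c => by rw [mul_smul, hf, hf, map_mul, mul_smul]
  have hφinj : Function.Injective φ := by
    intro c d e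
    cases c with
    | infty =>
      cases d with
      | infty => rfl
      | coe y => exact absurd e.symm (hφne y)
    | coe x =>
      cases d with
      | infty => exact absurd e (hφne x)
      | coe y =>
        exact congrArg _ (zinj (regular_unique hS (ta_ne hS) (hzQ x) (hzQ y) e))
  refine ⟨⟨z, kk, ι, zadd, zinj, zran, kinj, kran, kz, heq, ?_, ?_, ?_, ?_, hf⟩⟩
  · rw [injective_iff_map_eq_one]
    intro A hA
    have hfix : ∀ c : OnePoint F, (Matrix.SpecialLinearGroup.toGL A) • c = c := fun c =>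
      hφinj (by
        rw [← hf A c]
        show ι A • φ c = φ c
        rw [hA, one_smul])
    have hdet : A.1 0 0 * A.1 1 1 - A.1 0 1 * A.1 1 0 = 1 := by
      rw [← Matrix.det_fin_two]; exact A.2
    have hc : A.1 1 0 = 0 := smul_infty_eq_self_iff.1 (hfix ∞)
    rw [hc, mul_zero, sub_zero] at hdet
    have hd : A.1 1 1 ≠ 0 := fun e => by simp [e] at hdet
    have h0 := hfix ((0 : F) : OnePoint F)
    have h1 := hfix ((1 : F) : OnePoint F)
    rw [toGL_smul_coe] at h0 h1
    simp [hc, hd] at h0 h1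
    rw [h0, add_zero, div_eq_one_iff_eq hd] at h1
    have ha1 : A.1 0 0 = 1 := by
      have h2 : (2 : F) = 0 := CharTwo.two_eq_zero
      have : (A.1 0 0 - 1) ^ 2 = 0 := by
        rw [← h1] at hdet
        linear_combination hdet + (1 - A.1 0 0) * h2
      exact sub_eq_zero.1 ((pow_eq_zero_iff two_ne_zero).1 this)
    refine Subtype.ext ?_
    ext i j
    fin_cases i <;> fin_cases j <;> simp [hc, h0, ha1, ← h1]
  · intro x
    refine huniq _ _ (Subgroup.subset_closure (Or.inl (Or.inl ⟨x, rfl⟩))) fun c => ?_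
    rw [transMat_smul]
    cases c with
    | infty => exact hza x
    | coe k =>
      show z x • z k • t • a = z (k + x) • t • a
      rw [← mul_smul, ← zadd, add_comm]
  · intro c hc
    refine huniq _ _ (Subgroup.subset_closure (Or.inl (Or.inr ⟨_, rfl⟩))) fun p => ?_
    rw [diagMat_smul]
    cases p with
    | infty => exact hka _
    | coe k =>
      show kk _ • z k • t • a = z (c ^ 2 * k) • t • a
      rw [← mul_smul, hkzc, mul_smul, hkb, Units.val_pow_eq_pow_val, Units.val_mk0]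
  · refine huniq _ _ (Subgroup.subset_closure (Or.inr rfl)) fun p => ?_
    cases p with
    | infty => rw [weylMat_smul_infty, hφc, hz0, one_smul]; rfl
    | coe k =>
      by_cases hk : k = 0
      · rw [hk, weylMat_smul_zero, hφc, hz0, one_smul]; exact t_smul_ta hS
      · rw [weylMat_smul_coe hk, CharTwo.neg_eq, hφc, hφc, ← mul_smul, tz k hk, mul_smul,
          t_smul_ta hS, mul_smul, hza, mul_smul, mul_smul, hkb]

/-- The semilinear action of `V` on the line. -/
theorem Line.exists_aut {F : Type} [Field F] [Finite F] (L : Line a t Q F)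
    (h : R1 G Ω a t Q) {v : G} (hv : v ∈ vGrp a t) :
    ∃ σ : F ≃+* F, (∀ x, v * L.z x * v⁻¹ = L.z (σ x)) ∧
      (∀ u : Fˣ, v * L.kk u * v⁻¹ = L.kk (Units.map (σ : F →* F) u)) ∧
      ∀ A, v * L.ι A * v⁻¹ = L.ι (Matrix.SpecialLinearGroup.map (σ : F →+* F) A) := by
  classical
  have hS := h.setup
  obtain ⟨hvD, hvt⟩ := Subgroup.mem_inf.1 hv
  have hvt' : v * t = t * v := Subgroup.mem_centralizer_singleton_iff.1 hvt
  have hz0 : L.z 0 = 1 := by
    have := L.z_add 0 0
    rw [add_zero] at this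
    exact left_eq_mul.1 this
  have hex : ∀ x, ∃ y, L.z y = v * L.z x * v⁻¹ := fun x => (L.z_range _).1 (by
    obtain ⟨hQ, h2⟩ := (L.z_range _).2 ⟨x, rfl⟩
    refine ⟨hS.conj_mem v (Subgroup.mem_inf.1 hvD).1 _ hQ, ?_⟩
    calc v * L.z x * v⁻¹ * (v * L.z x * v⁻¹) = v * (L.z x * L.z x) * v⁻¹ := by group
      _ = 1 := by rw [h2]; group)
  choose σ hσ using hex
  have hadd : ∀ x y, σ (x + y) = σ x + σ y := fun x y => L.z_inj (by
    rw [L.z_add, hσ, hσ, hσ, L.z_add]; group)
  have hσ0 : σ 0 = 0 := L.z_inj (by rw [hσ, hz0]; group)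
  have hinj : Function.Injective σ := fun x y e => L.z_inj (by
    have := congrArg L.z e
    rw [hσ, hσ] at this
    exact mul_left_cancel (mul_right_cancel this))
  have hs : L.z 1 ∈ Cfsg.involutionsIn (stabilizer G a : Set G) :=
    (inv_mem_iff h).2 ⟨(L.z_range _).2 ⟨1, rfl⟩, fun e => one_ne_zero (L.z_inj (e.trans hz0.symm))⟩
  have heq : t * L.z 1 * t = (L.z 1)⁻¹ * t * L.z 1 := by
    rw [inv_eq_self hs.2.2]; exact L.structure_eq
  have hσ1 : σ 1 = 1 := L.z_inj (by
    rw [hσ, (comm_of_comm_t hS hs ((L.z_range _).2 ⟨1, rfl⟩).1 heq hvD hvt').2]; group)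
  have hk : ∀ u : Fˣ, ∃ w : Fˣ, L.kk w = v * L.kk u * v⁻¹ := fun u => (L.kk_range _).1 (by
    obtain ⟨h1, h2⟩ := (L.kk_range _).2 ⟨u, rfl⟩
    refine ⟨mul_mem (mul_mem hvD h1) (inv_mem hvD), ?_⟩
    calc t * (v * L.kk u * v⁻¹) * t⁻¹ = (t * v) * L.kk u * (t * v)⁻¹ := by group
      _ = v * (t * L.kk u * t⁻¹) * v⁻¹ := by rw [← hvt']; group
      _ = _ := by rw [h2]; group)
  choose τ hτ using hk
  have hστ : ∀ (u : Fˣ) x, σ ((u : F) * x) = (τ u : F) * σ x := fun u x => L.z_inj (by
    rw [hσ, ← L.kk_z, ← L.kk_z, hσ, hτ]; group)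
  have hτσ : ∀ u : Fˣ, (τ u : F) = σ u := fun u => by
    have := hστ u 1
    rwa [mul_one, hσ1, mul_one, eq_comm] at this
  have hmul : ∀ x y, σ (x * y) = σ x * σ y := fun x y => by
    rcases eq_or_ne x 0 with rfl | hx
    · rw [zero_mul, hσ0, zero_mul]
    have := hστ (Units.mk0 x hx) y
    rwa [hτσ, Units.val_mk0] at this
  let σe : F ≃+* F :=
    { Equiv.ofBijective σ ⟨hinj, Finite.surjective_of_injective hinj⟩ with
      map_mul' := hmul
      map_add' := hadd }
  have hσe : ∀ x, σe x = σ x := fun x => rfl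
  have hkk : ∀ u : Fˣ, v * L.kk u * v⁻¹ = L.kk (Units.map (σe : F →* F) u) := fun u => by
    rw [← hτ]
    exact congrArg L.kk (Units.ext ((hτσ u).trans (hσe u).symm))
  refine ⟨σe, fun x => (hσ x).symm, hkk, fun A => ?_⟩
  refine DFunLike.congr_fun (sl_hom_ext (f := (MulAut.conj v).toMonoidHom.comp L.ι)
    (g := L.ι.comp (Matrix.SpecialLinearGroup.map (σe : F →+* F))) ?_ ?_ ?_) A
  · intro x
    have e : Matrix.SpecialLinearGroup.map (σe : F →+* F) (transMat x) = transMat (σe x) := by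
      refine Subtype.ext ?_
      rw [Matrix.SpecialLinearGroup.map_apply_coe, RingHom.mapMatrix_apply]
      ext i j
      fin_cases i <;> fin_cases j <;> simp [transMat, Matrix.map_apply]
    simp only [MonoidHom.comp_apply, MulEquiv.coe_toMonoidHom, MulAut.conj_apply, L.ι_trans, e]
    exact (hσ x).symm
  · intro c hc
    have hc' : σe c ≠ 0 := (map_ne_zero σe).2 hc
    have e : Matrix.SpecialLinearGroup.map (σe : F →+* F) (diagMat c hc) =
        diagMat (σe c) hc' := by
      refine Subtype.ext ?_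
      rw [Matrix.SpecialLinearGroup.map_apply_coe, RingHom.mapMatrix_apply]
      ext i j
      fin_cases i <;> fin_cases j <;> simp [diagMat, Matrix.map_apply]
    simp only [MonoidHom.comp_apply, MulEquiv.coe_toMonoidHom, MulAut.conj_apply, L.ι_diag, e]
    rw [hkk]
    exact congrArg L.kk (Units.ext (by simp))
  · have e : Matrix.SpecialLinearGroup.map (σe : F →+* F) (weylMat (F := F)) = weylMat := by
      refine Subtype.ext ?_
      rw [Matrix.SpecialLinearGroup.map_apply_coe, RingHom.mapMatrix_apply]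
      ext i j
      fin_cases i <;> fin_cases j <;> simp [weylMat, Matrix.map_apply]
    simp only [MonoidHom.comp_apply, MulEquiv.coe_toMonoidHom, MulAut.conj_apply, L.ι_weyl, e]
    rw [hvt']; group

end

end Cfsg.Agent.Suz27
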