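import Cfsg.Agent.Suz27.Line
import Cfsg.Agent.RankOneK.Setup
import Cfsg.Agent.Lib.RankOne.FieldAut
import Cfsg.Agent.Lib.Frobenius.FixedPointFree
import Cfsg.Agent.S1127
import Mathlib.NumberTheory.Multiplicity

/-!
Auxiliary facts for the NEAR-FIELD lemma: arithmetic, the group `W`, the order of `V / W`,
and the exponent of a `K`-invariant subgroup of order `q²`.
-/

set_option autoImplicit false

namespace Cfsg.Agent.Suz27.NearFld

open MulAction RankOne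
open RankOneK (wker)

/-! ### Arithmetic -/

lemma pow_prime_sub_one {p : ℕ} (hodd : Odd p) (i : ℤ) (hi : (p : ℤ) ∣ i - 1) :
    ∃ k : ℤ, i ^ p - 1 = (i - 1) * (p * (1 + p * k)) := by
  obtain ⟨b, hb⟩ := hi
  obtain ⟨m, hm⟩ := odd_sq_dvd_geom_sum₂_sub (1 : ℤ) b hodd
  have h := geom_sum₂_mul (1 + (p : ℤ) * b) 1 p
  set S := ∑ j ∈ Finset.range p, (1 + (p : ℤ) * b) ^ j * (1 : ℤ) ^ (p - 1 - j) with hS
  have hi' : i = 1 + (p : ℤ) * b := by linarith
  refine ⟨m, ?_⟩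
  rw [one_pow, mul_one] at hm
  rw [one_pow, ← hi'] at h
  rw [← h, show S = (p : ℤ) * (1 + p * m) by linear_combination hm]
  ring

/-- If `(p ^ f - 1) ^ p + 1` is divided by its full `p`-part, that part is `p ^ (f + 1)`. -/
lemma pow_sub_one_pow_add_one {p f : ℕ} (hp : p.Prime) (hodd : Odd p) (hf : 1 ≤ f) :
    ∃ k : ℕ, (p ^ f - 1) ^ p + 1 = p ^ (f + 1) * k ∧ ¬ p ∣ k := by
  obtain ⟨k, hk⟩ := pow_prime_sub_one hodd (1 - (p : ℤ) ^ f)
    ⟨-(p : ℤ) ^ (f - 1), by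
      obtain ⟨g, rfl⟩ : ∃ g, f = g + 1 := ⟨f - 1, by omega⟩
      rw [Nat.add_sub_cancel, pow_succ]; ring⟩
  have h1 : (((p ^ f - 1) ^ p + 1 : ℕ) : ℤ) = (p : ℤ) ^ (f + 1) * (1 + p * k) := by
    have hsub : (((p ^ f - 1 : ℕ)) : ℤ) = (p : ℤ) ^ f - 1 := by
      rw [Nat.cast_sub (Nat.one_le_pow _ _ hp.pos)]; push_cast; ring
    push_cast [hsub]
    have e : ((p : ℤ) ^ f - 1) ^ p = -((1 - (p : ℤ) ^ f) ^ p) := by
      rw [← hodd.neg_pow]; ring
    rw [e, pow_succ]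
    linear_combination -hk
  have hdvd : p ^ (f + 1) ∣ (p ^ f - 1) ^ p + 1 := by
    have : ((p ^ (f + 1) : ℕ) : ℤ) ∣ (((p ^ f - 1) ^ p + 1 : ℕ) : ℤ) := by
      rw [h1]; push_cast; exact dvd_mul_right _ _
    exact Int.natCast_dvd_natCast.1 this
  obtain ⟨k', hk'⟩ := hdvd
  refine ⟨k', hk', fun h => ?_⟩
  rw [hk'] at h1
  push_cast at h1
  have h2 : (k' : ℤ) = 1 + p * k :=
    mul_left_cancel₀ (pow_ne_zero _ (by exact_mod_cast hp.pos.ne')) h1
  have h3 : (p : ℤ) ∣ 1 + p * k := h2 ▸ Int.natCast_dvd_natCast.2 h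
  have h4 : (p : ℤ) ∣ 1 := (dvd_add_left (dvd_mul_right _ _)).1 h3
  have h5 := Int.le_of_dvd one_pos h4
  have := hp.two_le
  omega

/-- An automorphism of order `p` of a cyclic `p`-group fixes the elements of order `p` and the
`p`-th powers. -/
lemma conj_fix {G : Type*} [Group G] {p e : ℕ} [hp : Fact p.Prime] (hodd : Odd p) {x v : G}
    {i : ℕ} (hx : orderOf x = p ^ e) (hv : v ^ p = 1) (hc : v * x * v⁻¹ = x ^ i) :
    v * x ^ p * v⁻¹ = x ^ p ∧ ∀ y ∈ Subgroup.zpowers x, y ^ p = 1 → v * y * v⁻¹ = y := by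
  rcases Nat.eq_zero_or_pos e with rfl | he
  · rw [pow_zero, orderOf_eq_one_iff] at hx
    subst hx
    exact ⟨by simp, fun y hy _ => by
      rw [Subgroup.zpowers_one_eq_bot, Subgroup.mem_bot] at hy; simp [hy]⟩
  have hit : ∀ k : ℕ, v ^ k * x * (v ^ k)⁻¹ = x ^ i ^ k := by
    intro k
    induction k with
    | zero => simp
    | succ k ih =>
      calc v ^ (k + 1) * x * (v ^ (k + 1))⁻¹ = v * (v ^ k * x * (v ^ k)⁻¹) * v⁻¹ := by
            rw [pow_succ']; group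
        _ = _ := by rw [ih, ← conj_pow, hc, ← pow_mul, pow_succ']
  have hmod : ((p ^ e : ℕ) : ℤ) ∣ (i : ℤ) ^ p - 1 := by
    have h := hit p
    rw [hv, one_mul, inv_one, mul_one] at h
    conv_lhs at h => rw [← pow_one x]
    rw [pow_eq_pow_iff_modEq, hx] at h
    have := Nat.modEq_iff_dvd.1 h
    push_cast at this ⊢
    exact this
  have h1 : (p : ℤ) ∣ (i : ℤ) - 1 := by
    have hpd : (p : ℤ) ∣ (i : ℤ) ^ p - 1 :=
      (Int.natCast_dvd_natCast.2 (dvd_pow_self p he.ne')).trans hmod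
    rw [← ZMod.intCast_zmod_eq_zero_iff_dvd] at hpd ⊢
    push_cast at hpd ⊢
    rwa [ZMod.pow_card] at hpd
  obtain ⟨k, hk⟩ := pow_prime_sub_one hodd (i : ℤ) h1
  have h2 : ((p ^ e : ℕ) : ℤ) ∣ ((i : ℤ) - 1) * p := by
    rw [hk, ← mul_assoc] at hmod
    refine IsCoprime.dvd_of_dvd_mul_right ?_ hmod
    push_cast
    exact IsCoprime.pow_left ⟨-k, 1, by ring⟩
  refine ⟨?_, fun y hy hyp => ?_⟩
  · rw [← conj_pow, hc, ← pow_mul, pow_eq_pow_iff_modEq, hx, Nat.modEq_iff_dvd]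
    rw [show ((p : ℕ) : ℤ) - ((i * p : ℕ) : ℤ) = -(((i : ℤ) - 1) * p) by push_cast; ring]
    exact h2.neg_right
  · obtain ⟨j, rfl⟩ := Subgroup.mem_zpowers_iff.1 hy
    rw [← conj_zpow, hc, ← zpow_natCast, ← zpow_mul, mul_comm, zpow_mul, zpow_natCast]
    obtain ⟨d, hd⟩ := h1
    have e1 : (x ^ j) ^ ((i : ℤ) - 1) = 1 := by
      rw [hd, zpow_mul, zpow_natCast, hyp, one_zpow]
    calc (x ^ j) ^ i = (x ^ j) ^ (((i : ℤ) - 1) + 1) := by rw [sub_add_cancel, zpow_natCast]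
      _ = _ := by rw [zpow_add, e1, zpow_one, one_mul]

/-- The numerical core of the fixed-point argument. -/
lemma fix_numeric {p f c n S : ℕ} (hp : p.Prime) (hp2 : p ≠ 2) (hn : n + 1 = p ^ f)
    (hc : c + 1 = p ^ (f - 1)) (hc2 : ∃ j, c = 2 ^ j) (hdvd : c ∣ n) (hce : Even c)
    (hS : ∃ i, S = 2 ^ i) (hSn : S ∣ n) (hSmax : ¬ 2 * S ∣ n) (hmod : S ≡ c [MOD p]) : n = 8 := by
  obtain ⟨j, hj⟩ := hc2
  obtain ⟨i, hi⟩ := hS
  have hc0 : 2 ≤ c := by
    have : 0 < c := hj ▸ Nat.two_pow_pos j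
    obtain ⟨d, rfl⟩ := hce; omega
  have hp3 : 3 ≤ p := by have := hp.two_le; omega
  have hg : 1 ≤ f - 1 := by
    by_contra h
    rw [show f - 1 = 0 by omega, pow_zero] at hc
    omega
  have hn' : n = p * c + (p - 1) := by
    have e : p ^ f = p * p ^ (f - 1) := by rw [← pow_succ', show f - 1 + 1 = f by omega]
    rw [← hn, ← hc, mul_add, mul_one] at e
    omega
  have hcp : c ∣ p - 1 := by
    rw [hn'] at hdvd
    exact (Nat.dvd_add_right (dvd_mul_left c p)).1 hdvd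
  have hg1 : f - 1 = 1 := by
    by_contra h
    have h2 : p ^ 2 ≤ p ^ (f - 1) := Nat.pow_le_pow_right hp.pos (by omega)
    have h3 := Nat.le_of_dvd (by omega) hcp
    have h4 : 2 * p ≤ p ^ 2 := by rw [pow_two]; exact Nat.mul_le_mul_right p hp.two_le
    omega
  rw [hg1, pow_one] at hc
  have hn2 : n = c * (c + 2) := by
    rw [hn', ← hc, Nat.add_sub_cancel]; ring
  rcases j with _ | _ | j
  · simp at hj; omega
  · simp at hj; subst hj; omega
  exfalso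
  have hodd : Odd (2 ^ (j + 1) + 1) := (Nat.even_pow.2 ⟨even_two, by omega⟩).add_one
  have hn3 : n = 2 ^ (j + 3) * (2 ^ (j + 1) + 1) := by
    rw [hn2, hj]; ring
  have hcop : ∀ k : ℕ, Nat.Coprime (2 ^ k) (2 ^ (j + 1) + 1) := fun k =>
    Nat.Coprime.pow_left k (Nat.prime_two.coprime_iff_not_dvd.2 fun h =>
      Nat.not_even_iff_odd.2 hodd (even_iff_two_dvd.2 h))
  have hile : i ≤ j + 3 := by
    rw [hi, hn3] at hSn
    exact (Nat.pow_dvd_pow_iff_le_right (by norm_num)).1 ((hcop i).dvd_of_dvd_mul_right hSn)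
  have hige : ¬ i < j + 3 := fun h => hSmax (by
    rw [hi, ← pow_succ', hn3]
    exact (pow_dvd_pow 2 (by omega : i + 1 ≤ j + 3)).mul_right _)
  have hSc : S = c + c := by
    rw [hi, hj, show i = j + 3 by omega, ← two_mul, ← pow_succ']
  have h1 : p ∣ c := by
    have := (Nat.modEq_iff_dvd' (by omega : c ≤ S)).1 hmod.symm
    rwa [hSc, Nat.add_sub_cancel] at this
  have := Nat.le_of_dvd (by omega) h1
  omega

/-! ### The group `W` -/

universe u v

variable {G : Type u} {Ω : Type v} [Group G] [Finite G] [MulAction G Ω] {a : Ω} {t : G}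
  {Q : Subgroup G}

lemma wker_eq (hR : R1 G Ω a t Q) :
    wker G a t = vGrp a t ⊓ Subgroup.centralizer (Cfsg.invertedBy (twoStab G a t) t) :=
  (S1127.result hR.setup).2.symm

lemma wker_le (hR : R1 G Ω a t Q) : wker G a t ≤ vGrp a t := by
  rw [wker_eq hR]; exact inf_le_left

lemma wker_comm_sq_one (hR : R1 G Ω a t Q) {w x : G} (hw : w ∈ wker G a t) (hx : x ∈ Q)
    (hx2 : x * x = 1) : x * w = w * x := by
  rcases eq_or_ne x 1 with rfl | hx1
  · rw [one_mul, mul_one]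
  · exact Subgroup.mem_centralizer_iff.1 hw.2 x ⟨hR.setup.le hx, hx1, hx2⟩

lemma wker_comm_K (hR : R1 G Ω a t Q) {w k : G} (hw : w ∈ wker G a t)
    (hk : k ∈ Cfsg.invertedBy (twoStab G a t) t) : k * w = w * k := by
  rw [wker_eq hR] at hw
  exact Subgroup.mem_centralizer_iff.1 hw.2 k hk

lemma wker_conj (hR : R1 G Ω a t Q) {d w : G} (hd : d ∈ twoStab G a t) (hw : w ∈ wker G a t) :
    d * w * d⁻¹ ∈ wker G a t := by
  refine Subgroup.mem_inf.2
    ⟨mul_mem (mul_mem hd (Subgroup.mem_inf.1 hw).1) (inv_mem hd),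
      Subgroup.mem_centralizer_iff.2 fun x hx => ?_⟩
  have hx' : d⁻¹ * x * d ∈ Q ∧ d⁻¹ * x * d * (d⁻¹ * x * d) = 1 := by
    have h := hR.setup.conj_mem d⁻¹ (inv_mem (Subgroup.mem_inf.1 hd).1) x
      (invol_mem_Q hR.setup ⟨hx.2.1, hx.2.2⟩ hx.1)
    refine ⟨by simpa using h, ?_⟩
    calc d⁻¹ * x * d * (d⁻¹ * x * d) = d⁻¹ * (x * x) * d := by group
      _ = 1 := by rw [hx.2.2]; group
  have h := wker_comm_sq_one hR hw hx'.1 hx'.2
  calc x * (d * w * d⁻¹) = d * (d⁻¹ * x * d * w) * d⁻¹ := by group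
    _ = d * (w * (d⁻¹ * x * d)) * d⁻¹ := by rw [h]
    _ = _ := by group

lemma qOf_cent_wker (hR : R1 G Ω a t Q) {w : G} (hw : w ∈ wker G a t) :
    qOf (Q ⊓ Subgroup.centralizer {w}) = qOf Q :=
  Nat.card_congr (Equiv.subtypeEquivRight fun _ =>
    ⟨fun h => ⟨h.1.1, h.2⟩, fun h => ⟨⟨h.1,
      Subgroup.mem_centralizer_singleton_iff.2 (wker_comm_sq_one hR hw h.1 h.2)⟩, h.2⟩⟩)

lemma two_lt_qOf (hR : R1 G Ω a t Q) : 2 < qOf Q := by
  classical
  obtain ⟨s₁, hs₁, s₂, hs₂, hne, -⟩ := exists_two_invol hR.setup hR.rank2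
  obtain ⟨hm₁, h₁⟩ := (inv_mem_iff hR).1 hs₁
  obtain ⟨hm₂, h₂⟩ := (inv_mem_iff hR).1 hs₂
  let f : Fin 3 → {x : G // x ∈ Q ∧ x * x = 1} :=
    ![⟨1, one_mem _, one_mul 1⟩, ⟨s₁, hm₁⟩, ⟨s₂, hm₂⟩]
  have hf : Function.Injective f := by
    intro i j h
    fin_cases i <;> fin_cases j <;>
      simp_all [f, Subtype.ext_iff, eq_comm]
  have := Nat.card_le_card_of_injective f hf
  simp only [Nat.card_eq_fintype_card (α := Fin 3), Fintype.card_fin] at this
  unfold qOf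
  omega

/-- The centraliser in `Q` of a non-identity element of `W` has one of the three shapes. -/
lemma hasType_wker (hR : R1 G Ω a t Q) (hT : SubTypes a t Q) {w : G} (hw : w ∈ wker G a t)
    (hw1 : w ≠ 1) : HasType (Q ⊓ Subgroup.centralizer {w}) (RInv a t Q) :=
  hT w (wker_le hR hw) hw1 ((qOf_cent_wker hR hw).symm ▸ two_lt_qOf hR)

/-! ### The quotient `V / W` -/

/-- If `qOf Q = 2 ^ p` with `p` prime, an element of `V` outside `W` generates `V` modulo `W`. -/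
theorem exists_zpow_mul_mem_wker (hR : R1 G Ω a t Q) {p : ℕ} (hp : p.Prime)
    (hq : qOf Q = 2 ^ p) {v : G} (hv : v ∈ vGrp a t) (hvW : v ∉ wker G a t) {x : G}
    (hx : x ∈ vGrp a t) : ∃ j : ℤ, v ^ j * x ∈ wker G a t := by
  classical
  have hS := hR.setup
  obtain ⟨s₀, r, hs₀, hr, heq⟩ := structure_exists hS
  obtain ⟨F, _, _, _, z, kk, -, hcard, hz1, hzadd, hzinj, hzr, -, hkr, hkz⟩ := exists_coords hR hs₀
  have hz0 : z 0 = 1 := by
    have := hzadd 0 0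
    rw [add_zero] at this
    exact left_eq_mul.1 this
  have hex : ∀ (d : vGrp a t) c, ∃ y, z y = (d : G) * z c * (d : G)⁻¹ := fun d c => by
    obtain ⟨hQ, h2⟩ := (hzr _).2 ⟨c, rfl⟩
    refine (hzr _).1 ⟨hS.conj_mem _ (Subgroup.mem_inf.1 d.2.1).1 _ hQ, ?_⟩
    calc (d : G) * z c * (d : G)⁻¹ * ((d : G) * z c * (d : G)⁻¹)
        = d * (z c * z c) * (d : G)⁻¹ := by group
      _ = 1 := by rw [h2]; group
  choose σ hσ using hex
  have hdk : ∀ (d : vGrp a t) (u : Fˣ), ∃ u', kk u' = (d : G) * kk u * (d : G)⁻¹ := fun d u => by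
    obtain ⟨h1, h2⟩ := (hkr _).2 ⟨u, rfl⟩
    obtain ⟨hdD, hdt⟩ := Subgroup.mem_inf.1 d.2
    have hdt' := Subgroup.mem_centralizer_singleton_iff.1 hdt
    refine (hkr _).1 ⟨mul_mem (mul_mem hdD h1) (inv_mem hdD), ?_⟩
    calc t * (d * kk u * (d : G)⁻¹) * t⁻¹ = (t * d) * kk u * (t * d : G)⁻¹ := by group
      _ = d * (t * kk u * t⁻¹) * (d : G)⁻¹ := by rw [← hdt']; group
      _ = _ := by rw [h2]; group
  choose τ hτ using hdk
  have hadd : ∀ d x y, σ d (x + y) = σ d x + σ d y := fun d x y => hzinj (by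
    rw [hzadd, hσ, hσ, hσ, hzadd]; group)
  have h1 : ∀ d, σ d 1 = 1 := fun d => hzinj (by
    rw [hσ, hz1, (comm_of_comm_t hS hs₀ hr heq d.2.1
      (Subgroup.mem_centralizer_singleton_iff.1 d.2.2)).2]; group)
  have hstau : ∀ d (u : Fˣ) x, σ d ((u : F) * x) = (τ d u : F) * σ d x := fun d u x => hzinj (by
    rw [hσ, ← hkz, ← hkz, hσ, hτ]; group)
  have hmul : ∀ d x y, σ d (x * y) = σ d x * σ d y := fun d x y => by
    rcases eq_or_ne x 0 with rfl | hx0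
    · have h0 : σ d 0 = 0 := hzinj (by rw [hσ, hz0]; group)
      rw [zero_mul, h0, zero_mul]
    have e := hstau d (Units.mk0 x hx0) 1
    rw [mul_one, h1, mul_one, Units.val_mk0] at e
    have := hstau d (Units.mk0 x hx0) y
    rwa [Units.val_mk0, ← e] at this
  have hinj : ∀ d, Function.Injective (σ d) := fun d x y e => hzinj (by
    have := congrArg z e
    rw [hσ, hσ] at this
    exact mul_left_cancel (mul_right_cancel this))
  let σe : vGrp a t → F ≃+* F := fun d =>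
    { Equiv.ofBijective (σ d) ⟨hinj d, Finite.surjective_of_injective (hinj d)⟩ with
      map_mul' := hmul d
      map_add' := hadd d }
  let φ : vGrp a t →* (F ≃+* F) := MonoidHom.mk' σe fun d e => RingEquiv.ext fun c => hzinj (by
    show z (σ (d * e) c) = z (σ d (σ e c))
    rw [hσ, hσ, hσ]; push_cast; group)
  have hker : ∀ d : vGrp a t, φ d = 1 → (d : G) ∈ wker G a t := fun d hd => by
    refine ⟨d.2.1, Subgroup.mem_centralizer_iff.2 fun y hy => ?_⟩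
    obtain ⟨hym, -⟩ := (inv_mem_iff hR).1 hy
    obtain ⟨c, rfl⟩ := (hzr y).1 hym
    have : σ d c = c := DFunLike.congr_fun hd c
    have e := hσ d c
    rw [this] at e
    exact (mul_inv_eq_iff_eq_mul.1 e.symm).symm
  letI : Algebra (ZMod 2) F := ZMod.algebra F 2
  haveI : Fact (Nat.Prime 2) := ⟨Nat.prime_two⟩
  haveI : Finite (F ≃+* F) :=
    Finite.of_injective (fun e : F ≃+* F => (e : F → F)) DFunLike.coe_injective
  haveI : Fintype (F ≃+* F) := Fintype.ofFinite _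
  have hcardaut : Nat.card (F ≃+* F) = p := by
    have h := Module.card_eq_pow_finrank (K := ZMod 2) (V := F)
    rw [ZMod.card, hcard, hq] at h
    rw [card_aut]
    exact (Nat.pow_right_injective le_rfl h).symm
  haveI : Fact p.Prime := ⟨hp⟩
  have hv1 : φ ⟨v, hv⟩ ≠ 1 := fun h => hvW (hker ⟨v, hv⟩ h)
  have hgen : φ ⟨x, hx⟩ ∈ Subgroup.zpowers (φ ⟨v, hv⟩) := mem_zpowers_of_prime_card hcardaut hv1
  obtain ⟨j, hj⟩ := Subgroup.mem_zpowers_iff.1 hgen
  refine ⟨-j, hker (⟨v, hv⟩ ^ (-j) * ⟨x, hx⟩) ?_⟩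
  rw [map_mul, map_zpow, ← hj]; group

/-! ### Exponent four -/

/-- In a `K`-invariant subgroup of `Q` of order `q²` containing every element of square one of `Q`
all 2-elements have order at most four. -/
theorem pow_four_eq_one (hR : R1 G Ω a t Q) {R : Subgroup G} (hle : R ≤ Q)
    (hZ : ∀ x ∈ Q, x * x = 1 → x ∈ R)
    (hK : ∀ k ∈ Cfsg.invertedBy (twoStab G a t) t, ∀ x ∈ R, k * x * k⁻¹ ∈ R)
    (hcard : Nat.card R = qOf Q ^ 2) (h2 : IsPGroup 2 R) {x : G} (hx : x ∈ R) : x ^ 4 = 1 := by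
  classical
  have hS := hR.setup
  set Z := zSub hR with hZdef
  have hZR : Z ≤ R := fun y hy => hZ y hy.1 hy.2
  have hcent : ∀ y ∈ Z, ∀ g ∈ Q, y * g = g * y := fun y hy g hg => by
    rcases eq_or_ne y 1 with rfl | hy1
    · rw [one_mul, mul_one]
    · exact invol_central hS hR.rank2 ⟨hy1, hy.2⟩ (Q_fix_a hS hy.1) hg
  -- `K` is free on the cosets of `Z` outside `Z`
  have hfree : ∀ k ∈ Cfsg.invertedBy (twoStab G a t) t, k ≠ 1 → ∀ y ∈ Q,
      y⁻¹ * (k * y * k⁻¹) ∈ Z → y ∈ Z := by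
    intro k hk hk1 y hy hyz
    have hkZ : ∀ z' : Z, z'.1⁻¹ * (k * z' * k⁻¹) ∈ Z := fun z' => by
      refine mul_mem (inv_mem z'.2) ⟨hS.conj_mem k hk.1.1 _ z'.2.1, ?_⟩
      calc k * (z' : G) * k⁻¹ * (k * z' * k⁻¹) = k * ((z' : G) * z') * k⁻¹ := by group
        _ = 1 := by rw [z'.2.2]; group
    let L : Z → Z := fun z' => ⟨z'.1⁻¹ * (k * z' * k⁻¹), hkZ z'⟩
    have hL : Function.Injective L := by
      intro z₁ z₂ h
      have h' : z₁.1⁻¹ * (k * z₁ * k⁻¹) = z₂.1⁻¹ * (k * z₂ * k⁻¹) := congrArg Subtype.val h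
      refine Subtype.ext (mul_inv_eq_one.1 ?_)
      refine inverted_fpf hS hk hk1 (mul_mem z₁.2.1 (inv_mem z₂.2.1)) ?_
      have hc := hcent z₁ z₁.2 (z₂.1⁻¹) (inv_mem z₂.2.1)
      calc k * (z₁.1 * z₂.1⁻¹) = z₁.1 * (z₁.1⁻¹ * (k * z₁ * k⁻¹)) * (k * z₂.1⁻¹ * k⁻¹) * k := by
            group
        _ = _ := by rw [h']; group
    obtain ⟨z', hz'⟩ := Finite.surjective_of_injective hL ⟨(y⁻¹ * (k * y * k⁻¹))⁻¹, inv_mem hyz⟩
    have e : z'.1⁻¹ * (k * z' * k⁻¹) = (y⁻¹ * (k * y * k⁻¹))⁻¹ := congrArg Subtype.val hz'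
    have hfix : k * (y * z') = y * z' * k := by
      set c := y⁻¹ * (k * y * k⁻¹) with hc
      calc k * (y * z') = y * c * (z'.1 * (z'.1⁻¹ * (k * z' * k⁻¹))) * k := by rw [hc]; group
        _ = y * (c * z'.1) * c⁻¹ * k := by rw [e]; group
        _ = _ := by rw [hcent c hyz z'.1 z'.2.1]; group
    have := inverted_fpf hS hk hk1 (mul_mem hy z'.2.1) hfix
    rw [eq_inv_of_mul_eq_one_left this]
    exact inv_mem z'.2
  -- an element outside `Z` with square in `Z`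
  by_cases hxZ : x ∈ Z
  · rw [show 4 = 2 * 2 from rfl, pow_mul, pow_two x, hxZ.2, one_pow]
  obtain ⟨k₀, hk₀⟩ := h2 ⟨x, hx⟩
  have hex : ∃ i, x ^ 2 ^ i ∈ Z := ⟨k₀, by
    rw [show x ^ 2 ^ k₀ = 1 by simpa using congrArg Subtype.val hk₀]; exact one_mem _⟩
  obtain ⟨i, hi⟩ : ∃ i, Nat.find hex = i + 1 := by
    refine Nat.exists_eq_succ_of_ne_zero fun h => hxZ ?_
    have := Nat.find_spec hex
    rwa [h, pow_zero, pow_one] at this
  set x₁ := x ^ 2 ^ i with hx₁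
  have hx₁R : x₁ ∈ R := pow_mem hx _
  have hx₁n : x₁ ∉ Z := Nat.find_min hex (by omega)
  have hx₁s : x₁ * x₁ ∈ Z := by
    have := Nat.find_spec hex
    rwa [hi, pow_succ, pow_mul, pow_two] at this
  set K' := Cfsg.invertedBy (twoStab G a t) t with hK'
  let Φ : K' × Z → {y : R // (y : G) ∉ Z} := fun kz =>
    ⟨⟨(kz.1 : G) * x₁ * (kz.1 : G)⁻¹ * kz.2, mul_mem (hK _ kz.1.2 _ hx₁R) (hZR kz.2.2)⟩, fun h => by
      have h' : (kz.1 : G) * x₁ * (kz.1 : G)⁻¹ ∈ Z := by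
        simpa using mul_mem h (inv_mem kz.2.2)
      apply hx₁n
      refine ⟨hle hx₁R, ?_⟩
      calc x₁ * x₁ = (kz.1 : G)⁻¹ * ((kz.1 : G) * x₁ * (kz.1 : G)⁻¹ *
            ((kz.1 : G) * x₁ * (kz.1 : G)⁻¹)) * kz.1 := by group
        _ = 1 := by rw [h'.2]; group⟩
  obtain ⟨g, -, hgK, -, -⟩ :=
    haveI := hR.faithful
    RankOneK.structure_twoStab PF14.feitThompson hS hR.rank2
  have hΦ : Function.Injective Φ := by
    rintro ⟨k, z₁⟩ ⟨l, z₂⟩ h
    have h' : (k : G) * x₁ * (k : G)⁻¹ * z₁ = l * x₁ * (l : G)⁻¹ * z₂ :=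
      congrArg (fun y : {y : R // (y : G) ∉ Z} => ((y : R) : G)) h
    have hm : (l : G)⁻¹ * k ∈ K' := by
      rw [hgK]
      exact mul_mem (inv_mem ((hgK _).1 l.2)) ((hgK _).1 k.2)
    have hkl : (k : G) = l := by
      by_contra hne
      refine hx₁n (hfree _ hm (fun e => hne (inv_mul_eq_one.1 e).symm) x₁ (hle hx₁R) ?_)
      have hzz : (z₂ : G) * (z₁ : G)⁻¹ ∈ Z := mul_mem z₂.2 (inv_mem z₁.2)
      have e2 : x₁⁻¹ * ((l : G)⁻¹ * k * x₁ * ((l : G)⁻¹ * k)⁻¹) =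
          (l : G)⁻¹ * ((z₂ : G) * (z₁ : G)⁻¹) * l := by
        calc _ = x₁⁻¹ * (l : G)⁻¹ * ((k : G) * x₁ * (k : G)⁻¹ * z₁) * (z₁ : G)⁻¹ * l := by group
          _ = _ := by rw [h']; group
      rw [e2]
      refine ⟨by simpa using hS.conj_mem (l : G)⁻¹ (inv_mem l.2.1.1) _ hzz.1, ?_⟩
      calc _ = (l : G)⁻¹ * (((z₂ : G) * (z₁ : G)⁻¹) * ((z₂ : G) * (z₁ : G)⁻¹)) * l := by group
        _ = 1 := by rw [hzz.2]; group
    have hkl' : k = l := Subtype.ext hkl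
    subst hkl'
    exact Prod.ext rfl (Subtype.ext (mul_left_cancel h'))
  have hcardK : Nat.card K' + 1 = Nat.card Z := by
    rw [card_inverted hS]
    let e : Option (Cfsg.involutionsIn (stabilizer G a : Set G)) ≃ Z :=
      { toFun := fun o => o.elim 1 fun g => ⟨g, ((inv_mem_iff hR).1 g.2).1⟩
        invFun := fun z' => if h : (z' : G) = 1 then none else
          some ⟨z', (inv_mem_iff hR).2 ⟨z'.2, h⟩⟩
        left_inv := fun o => by
          rcases o with _ | g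
          · simp
          · simp [g.2.2.1]
        right_inv := fun z' => by
          by_cases h : (z' : G) = 1
          · simp only [h, ↓reduceDIte, Option.elim_none]; exact Subtype.ext h.symm
          · simp [h] }
    rw [← Nat.card_congr e, Finite.card_option]
  have hqZ : Nat.card Z = qOf Q := rfl
  have hcd : Nat.card {y : R // (y : G) ∉ Z} + Nat.card Z = Nat.card R := by
    rw [show Nat.card Z = Nat.card {y : R // (y : G) ∈ Z} from
      Nat.card_congr (Subgroup.subgroupOfEquivOfLe hZR).toEquiv.symm, add_comm, ← Nat.card_sum]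
    exact Nat.card_congr (Equiv.sumCompl (fun y : R => (y : G) ∈ Z))
  have hsurj := (hΦ.bijective_of_nat_card_le (by
    have e1 : Nat.card (K' × Z) + Nat.card Z = Nat.card R := by
      rw [Nat.card_prod, ← Nat.succ_mul, Nat.succ_eq_add_one, hcardK, hcard, pow_two, hqZ]
    omega)).2
  obtain ⟨⟨k, z'⟩, hkz⟩ := hsurj ⟨⟨x, hx⟩, hxZ⟩
  have e : (k : G) * x₁ * (k : G)⁻¹ * z' = x :=
    congrArg (fun y : {y : R // (y : G) ∉ Z} => ((y : R) : G)) hkz
  rw [← e]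
  have hc := hcent z' z'.2 _ (hle (hK _ k.2 _ hx₁R))
  calc ((k : G) * x₁ * (k : G)⁻¹ * z') ^ 4
      = ((k : G) * x₁ * (k : G)⁻¹) ^ 4 * (z' : G) ^ 4 := (Commute.symm hc).mul_pow 4
    _ = k * ((x₁ * x₁) * (x₁ * x₁)) * (k : G)⁻¹ * (((z' : G) * z') * ((z' : G) * z')) := by
        rw [conj_pow]
        simp only [show ∀ y : G, y ^ 4 = y * y * (y * y) from fun y => by
          rw [← pow_two, ← pow_two, ← pow_mul]]
    _ = 1 := by rw [hx₁s.2, z'.2.2]; group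

end Cfsg.Agent.Suz27.NearFld
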