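import Cfsg.Agent.Suz27.Defs
import Cfsg.Agent.RankOneK.Setup
import Cfsg.Agent.Lib.Components.ZStarInst
import Cfsg.Agent.Lib.Fitting.Minimal
import Cfsg.Agent.PF14.Compose

/-!
An element `v` of `C_D(t)` whose centraliser in `Q` has a single involution: the centraliser of `v`
acts on the fixed points of `v` as a doubly transitive group with an elementary abelian regular
normal subgroup, and the element `r` of the structure equation halves vectors (`PLAN.md`,
NEAR-FIELD).
-/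

set_option autoImplicit false

namespace Cfsg.Agent.Suz27.NearFld

open MulAction RankOne

universe u v

variable {G : Type u} {Ω : Type v} [Group G] [MulAction G Ω] {a : Ω} {t : G} {Q : Subgroup G}

/-- The action of the centraliser of `w` on the fixed points of `w`. -/
def act (w : G) : Subgroup.centralizer ({w} : Set G) →* Equiv.Perm {p : Ω // w • p = p} where
  toFun c :=
    { toFun := fun p => ⟨(c : G) • (p : Ω), by
        rw [← mul_smul, ← Subgroup.mem_centralizer_singleton_iff.1 c.2, mul_smul, p.2]⟩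
      invFun := fun p => ⟨(c : G)⁻¹ • (p : Ω), by
        have h : w * (c : G)⁻¹ = (c : G)⁻¹ * w :=
          (Commute.inv_right (show Commute w (c : G) from
            (Subgroup.mem_centralizer_singleton_iff.1 c.2).symm)).eq
        rw [← mul_smul, h, mul_smul, p.2]⟩
      left_inv := fun p => Subtype.ext (inv_smul_smul _ _)
      right_inv := fun p => Subtype.ext (smul_inv_smul _ _) }
  map_one' := Equiv.ext fun p => Subtype.ext (one_smul _ _)
  map_mul' c d := Equiv.ext fun p => Subtype.ext (mul_smul _ _ _)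

@[simp] lemma act_coe (w : G) (c : Subgroup.centralizer ({w} : Set G))
    (p : {p : Ω // w • p = p}) : ((act w c p : {p : Ω // w • p = p}) : Ω) = (c : G) • (p : Ω) := rfl

/-- The data attached to `v`: an element of `C_D(t)` with one involution in its centraliser in `Q`,
and the pair of the structure equation. -/
structure VData (G : Type u) (Ω : Type v) [Group G] [MulAction G Ω] (a : Ω) (t : G)
    (Q : Subgroup G) (w s r : G) : Prop where
  hR : R1 G Ω a t Q
  mem : w ∈ vGrp a t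
  qtwo : qOf (Q ⊓ Subgroup.centralizer {w}) = 2
  sMem : s ∈ Cfsg.involutionsIn (stabilizer G a : Set G)
  rMem : r ∈ Q
  eqn : t * s * t = r⁻¹ * t * r

section
variable {w s r : G} [Finite G] (hD : VData G Ω a t Q w s r)
include hD

lemma mem_D : w ∈ twoStab G a t := hD.mem.1

lemma wt : w * t = t * w := Subgroup.mem_centralizer_singleton_iff.1 hD.mem.2

lemma w_fix : w • a = a ∧ w • t • a = t • a := ⟨(mem_D hD).1, (mem_D hD).2⟩

lemma ws : w * s = s * w :=
  (comm_of_comm_t hD.hR.setup hD.sMem hD.rMem hD.eqn (mem_D hD) (wt hD)).2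

lemma wr : w * r = r * w :=
  (comm_of_comm_t hD.hR.setup hD.sMem hD.rMem hD.eqn (mem_D hD) (wt hD)).1

lemma s_isInv : IsInv s := ⟨hD.sMem.2.1, hD.sMem.2.2⟩

lemma s_a : s • a = a := hD.sMem.1

lemma s_mem_Q : s ∈ Q := invol_mem_Q hD.hR.setup (s_isInv hD) (s_a hD)

/-- The only element of square one in `C_Q(w)` other than `1` is `s`. -/
lemma eq_s {x : G} (hx : x ∈ Q) (hxw : x * w = w * x) (hx2 : x * x = 1) : x = 1 ∨ x = s := by
  classical
  have h1 : (⟨1, one_mem _, one_mul 1⟩ :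
      {y : G // y ∈ Q ⊓ Subgroup.centralizer {w} ∧ y * y = 1}) ≠
        ⟨s, ⟨s_mem_Q hD, Subgroup.mem_centralizer_singleton_iff.2 (ws hD).symm⟩, hD.sMem.2.2⟩ :=
    fun h => hD.sMem.2.1 (congrArg Subtype.val h).symm
  have hc : Nat.card {y : G // y ∈ Q ⊓ Subgroup.centralizer {w} ∧ y * y = 1} = 2 := hD.qtwo
  obtain ⟨p, q, hpq, huniv⟩ := Nat.card_eq_two_iff.1 hc
  have hall : ∀ z : {y : G // y ∈ Q ⊓ Subgroup.centralizer {w} ∧ y * y = 1}, z = p ∨ z = q :=
    fun z => by
      have : z ∈ ({p, q} : Set _) := huniv ▸ Set.mem_univ z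
      simpa using this
  have hx' := hall ⟨x, ⟨hx, Subgroup.mem_centralizer_singleton_iff.2 hxw⟩, hx2⟩
  rcases hall ⟨1, one_mem _, one_mul 1⟩ with e1 | e1 <;>
    rcases hall ⟨s, ⟨s_mem_Q hD, Subgroup.mem_centralizer_singleton_iff.2 (ws hD).symm⟩,
      hD.sMem.2.2⟩ with e2 | e2
  · exact absurd (e1.trans e2.symm) h1
  · rcases hx' with e | e
    · exact .inl (congrArg Subtype.val (e.trans e1.symm))
    · exact .inr (congrArg Subtype.val (e.trans e2.symm))
  · rcases hx' with e | e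
    · exact .inr (congrArg Subtype.val (e.trans e2.symm))
    · exact .inl (congrArg Subtype.val (e.trans e1.symm))
  · exact absurd (e1.trans e2.symm) h1

/-- An involution commuting with `w` and fixing `a` is `s`. -/
lemma invol_eq_s {u : G} (hu : IsInv u) (hua : u • a = a) (huw : u * w = w * u) : u = s :=
  (eq_s hD (invol_mem_Q hD.hR.setup hu hua) huw hu.2).resolve_left hu.1

/-- `w` centralises no non-identity element of `K`. -/
lemma cent_K {k : G} (hk : k ∈ Cfsg.invertedBy (twoStab G a t) t) (hkw : k * w = w * k) : k = 1 := by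
  have hu : IsInv (k⁻¹ * s * k) := by simpa using (s_isInv hD).conj k⁻¹
  have hua : (k⁻¹ * s * k) • a = a := by
    rw [mul_smul, mul_smul, hk.1.1, s_a hD, inv_smul_eq_iff, hk.1.1]
  have huw : k⁻¹ * s * k * w = w * (k⁻¹ * s * k) := by
    have c1 : Commute w k := hkw.symm
    exact ((c1.inv_right.mul_right (ws hD)).mul_right c1).eq.symm
  refine inverted_conj_inj hD.hR.setup hD.sMem hk ⟨one_mem _, by simp⟩ ?_
  rw [invol_eq_s hD hu hua huw]; simp

/-- `C_D(w) ≤ C_D(t)`. -/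
lemma cent_twoStab {d : G} (hd : d ∈ twoStab G a t) (hdw : d * w = w * d) : d ∈ vGrp a t := by
  have hS := hD.hR.setup
  obtain ⟨c, i, hc, hct, hi, hit, rfl, -⟩ :=
    odd_decomp hS.mul_self hS.odd_card (fun y hy => conj_t_twoStab hS hy) hd
  have hwD := mem_D hD
  have hcj : w * (c * i) * w⁻¹ = c * i := by rw [← hdw]; group
  have htw : t * w * t⁻¹ = w := mul_inv_eq_iff_eq_mul.2 (wt hD).symm
  have htw' : t * w⁻¹ * t⁻¹ = w⁻¹ := by
    calc t * w⁻¹ * t⁻¹ = (t * w * t⁻¹)⁻¹ := by group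
      _ = _ := by rw [htw]
  have hct' : t * c * t⁻¹ = c := mul_inv_eq_iff_eq_mul.2 hct
  have h1 : t * (w * c * w⁻¹) = w * c * w⁻¹ * t := by
    calc t * (w * c * w⁻¹) = (t * w * t⁻¹) * (t * c * t⁻¹) * (t * w⁻¹ * t⁻¹) * t := by group
      _ = _ := by rw [htw, hct', htw']
  have h2 : t * (w * i * w⁻¹) * t⁻¹ = (w * i * w⁻¹)⁻¹ := by
    calc t * (w * i * w⁻¹) * t⁻¹ = (t * w * t⁻¹) * (t * i * t⁻¹) * (t * w⁻¹ * t⁻¹) := by group
      _ = _ := by rw [htw, hit, htw']; group
  have e : w * c * w⁻¹ * (w * i * w⁻¹) = c * i := by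
    rw [← hcj]; group
  obtain ⟨-, h4⟩ := odd_decomp_unique hS.odd_card (mul_mem (mul_mem hwD hc) (inv_mem hwD)) h1
    (mul_mem (mul_mem hwD hi) (inv_mem hwD)) h2 hc hct hi hit e
  have hi1 : i = 1 := cent_K hD ⟨hi, hit⟩ (mul_inv_eq_iff_eq_mul.1 h4).symm
  subst hi1
  rw [mul_one]
  exact ⟨hc, Subgroup.mem_centralizer_singleton_iff.2 hct.symm⟩

lemma fix_smul_Q {x : G} (hx : x ∈ Q) :
    w • x • t • a = x • t • a ↔ x ∈ Q ⊓ Subgroup.centralizer {w} := by
  have hS := hD.hR.setup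
  constructor
  · intro h
    refine ⟨hx, Subgroup.mem_centralizer_singleton_iff.2 ?_⟩
    have := Q_comm_of_fixes hS (X := ({w} : Set G)) (fun y hy => by rw [Set.mem_singleton_iff.1 hy]; exact (w_fix hD).1)
      (ta_ne hS) (fun y hy => by rw [Set.mem_singleton_iff.1 hy]; exact (w_fix hD).2)
      (fun y hy => by rw [Set.mem_singleton_iff.1 hy]; exact h) hx rfl
    exact Subgroup.mem_centralizer_singleton_iff.1 this
  · rintro ⟨-, hc⟩
    rw [← mul_smul, ← Subgroup.mem_centralizer_singleton_iff.1 hc, mul_smul, (w_fix hD).2]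

/-- The fixed points of `w` are `a` and the translates of `t • a` under `C_Q(w)`. -/
lemma card_fix :
    Nat.card {p : Ω // w • p = p} = Nat.card ↥(Q ⊓ Subgroup.centralizer {w}) + 1 := by
  classical
  have hS := hD.hR.setup
  haveI := finite_omega hS
  let e : {p : {p : Ω // w • p = p} // (p : Ω) ≠ a} ≃ ↥(Q ⊓ Subgroup.centralizer {w}) :=
    { toFun := fun p => ⟨((qEquiv hS).symm ⟨p.1.1, p.2⟩ : Q), by
        have h : (((qEquiv hS).symm ⟨p.1.1, p.2⟩ : Q) : G) • t • a = p.1.1 :=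
          congrArg Subtype.val ((qEquiv hS).apply_symm_apply ⟨p.1.1, p.2⟩)
        exact (fix_smul_Q hD ((qEquiv hS).symm ⟨p.1.1, p.2⟩).2).1 (by rw [h]; exact p.1.2)⟩
      invFun := fun x => ⟨⟨(x : G) • t • a, (fix_smul_Q hD x.2.1).2 x.2⟩,
        smul_Q_ne hS x.2.1 (ta_ne hS)⟩
      left_inv := fun p => Subtype.ext (Subtype.ext (by
        have h : (((qEquiv hS).symm ⟨p.1.1, p.2⟩ : Q) : G) • t • a = p.1.1 :=
          congrArg Subtype.val ((qEquiv hS).apply_symm_apply ⟨p.1.1, p.2⟩)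
        exact h))
      right_inv := fun x => Subtype.ext (by
        show (((qEquiv hS).symm ⟨(x : G) • t • a, _⟩ : Q) : G) = x
        rw [show (qEquiv hS).symm ⟨(x : G) • t • a, smul_Q_ne hS x.2.1 (ta_ne hS)⟩ = ⟨x, x.2.1⟩
          from (Equiv.symm_apply_eq _).2 rfl]) }
  rw [← Nat.card_congr e]
  haveI : Finite {p : Ω // w • p = p} := Subtype.finite
  rw [← Nat.card_congr (Equiv.optionSubtypeNe (⟨a, (w_fix hD).1⟩ : {p : Ω // w • p = p})),
    Finite.card_option]
  congr 1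
  exact Nat.card_congr (Equiv.subtypeEquivRight fun p => not_congr Subtype.ext_iff)

lemma cQ_even : Even (Nat.card ↥(Q ⊓ Subgroup.centralizer {w})) := by
  have h : orderOf s = 2 := orderOf_eq_prime (by rw [pow_two, hD.sMem.2.2]) hD.sMem.2.1
  rw [even_iff_two_dvd, ← h]
  exact Subgroup.orderOf_dvd_natCard _
    ⟨s_mem_Q hD, Subgroup.mem_centralizer_singleton_iff.2 (ws hD).symm⟩

/-- `C(w)` is doubly transitive on the fixed points of `w`. -/
lemma two_trans {p q p' q' : Ω} (hp : w • p = p) (hq : w • q = q) (hp' : w • p' = p')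
    (hq' : w • q' = q') (h : p ≠ q) (h' : p' ≠ q') :
    ∃ g ∈ Subgroup.centralizer ({w} : Set G), g • p = p' ∧ g • q = q' := by
  have hS := hD.hR.setup
  have hs1 : s • t • a ≠ t • a := fun e =>
    ta_ne hS (fixed_unique hS (s_isInv hD) e (s_a hD))
  have hs2 : s • t • a ≠ a := smul_Q_ne hS (s_mem_Q hD) (ta_ne hS)
  have hsf : w • s • t • a = s • t • a :=
    (fix_smul_Q hD (s_mem_Q hD)).2
      ⟨s_mem_Q hD, Subgroup.mem_centralizer_singleton_iff.2 (ws hD).symm⟩
  have f : ∀ {x : Ω}, w • x = x → Fixes ({w} : Set G) x := fun hx y hy => by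
    rw [Set.mem_singleton_iff.1 hy]; exact hx
  exact cent_two_transitive hS ⟨a, t • a, s • t • a, (ta_ne hS).symm, hs2.symm, hs1.symm,
    f (w_fix hD).1, f (w_fix hD).2, f hsf⟩ (f hp) (f hq) (f hp') (f hq') h h'

lemma trans_from_a {p : Ω} (hp : w • p = p) :
    ∃ g ∈ Subgroup.centralizer ({w} : Set G), g • a = p := by
  have hS := hD.hR.setup
  by_cases hpa : p = a
  · exact ⟨1, one_mem _, by rw [one_smul, hpa]⟩
  obtain ⟨g, hg, h, -⟩ := two_trans hD (w_fix hD).1 (w_fix hD).2 hp (w_fix hD).1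
    (ta_ne hS).symm hpa
  exact ⟨g, hg, h⟩

/-- Involutions commuting with `w` are determined by their fixed point. -/
lemma invol_unique {u u' : G} (hu : IsInv u) (hu' : IsInv u') (huw : u * w = w * u)
    (hu'w : u' * w = w * u') {c : Ω} (hc : u • c = c) (hc' : u' • c = c) : u = u' := by
  have hwc : w • c = c := comm_fix hD.hR.setup hu hc huw
  obtain ⟨g, hg, hga⟩ := trans_from_a hD hwc
  have hgw : Commute w g := (Subgroup.mem_centralizer_singleton_iff.1 hg).symm
  have key : ∀ y : G, IsInv y → y * w = w * y → y • c = c → g⁻¹ * y * g = s := fun y hy hyw hyc => by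
    refine invol_eq_s hD (by simpa using hy.conj g⁻¹) ?_ ?_
    · rw [mul_smul, mul_smul, hga, hyc, inv_smul_eq_iff, hga]
    · exact ((hgw.inv_right.mul_right hyw.symm).mul_right hgw).eq.symm
  have := (key u hu huw hc).trans (key u' hu' hu'w hc').symm
  exact mul_left_cancel (mul_right_cancel this)

/-! ### The regular normal subgroup -/

/-- The properties of the regular normal subgroup of the group induced on the fixed points. -/
structure IsPlane (w s : G) (hs : s ∈ Subgroup.centralizer ({w} : Set G)) (ℓ f : ℕ)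
    (M : Subgroup (Equiv.Perm {p : Ω // w • p = p})) : Prop where
  prime : ℓ.Prime
  odd : Odd ℓ
  card : Nat.card {p : Ω // w • p = p} = ℓ ^ f
  card_sub : Nat.card M = ℓ ^ f
  le : M ≤ (act w).range
  pow : ∀ X ∈ M, X ^ ℓ = 1
  comm : ∀ X ∈ M, ∀ Y ∈ M, X * Y = Y * X
  trans : ∀ p q, ∃ X ∈ M, X p = q
  free : ∀ X ∈ M, ∀ p, X p = p → X = 1
  normal : ∀ c, ∀ X ∈ M, act w c * X * (act w c)⁻¹ ∈ M
  inv : ∀ X ∈ M, act w ⟨s, hs⟩ * X * (act w ⟨s, hs⟩)⁻¹ = X⁻¹

lemma s_mem_C : s ∈ Subgroup.centralizer ({w} : Set G) :=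
  Subgroup.mem_centralizer_singleton_iff.2 (ws hD).symm

/-- `s` is isolated in `C(w)`, so `C(w)` induces a group with a regular normal subgroup on the fixed
points of `w`. -/
theorem exists_plane : ∃ ℓ f M, IsPlane (Ω := Ω) w s (s_mem_C hD) ℓ f M := by
  classical
  have hS := hD.hR.setup
  haveI := finite_omega hS
  haveI : Fact (Nat.Prime 2) := ⟨Nat.prime_two⟩
  set C := Subgroup.centralizer ({w} : Set G) with hC
  haveI : Finite {p : Ω // w • p = p} := Subtype.finite
  set a₀ : {p : Ω // w • p = p} := ⟨a, (w_fix hD).1⟩ with ha₀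
  set S : C := ⟨s, s_mem_C hD⟩ with hSdef
  have hSo : orderOf S = 2 :=
    orderOf_eq_prime (Subtype.ext (by simp [pow_two, hSdef, hD.sMem.2.2]))
      fun h => hD.sMem.2.1 (congrArg Subtype.val h)
  obtain ⟨P, hP⟩ := (IsPGroup.of_card (n := 1) (by rw [Nat.card_zpowers, hSo, pow_one]) :
    IsPGroup 2 (Subgroup.zpowers S)).exists_le_sylow
  have hSP : S ∈ (P : Subgroup C) := hP (Subgroup.mem_zpowers S)
  -- `S` is central in `P`
  have hcomm_a : ∀ z : C, z * S = S * z → (z : G) • a = a := fun z h =>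
    comm_fix hS (s_isInv hD) (s_a hD) (congrArg Subtype.val h).symm
  have hinv : ∀ z : C, z ≠ 1 → z * z = 1 → (z : G) • a = a → z = S := fun z h1 h2 h3 =>
    Subtype.ext (invol_eq_s hD ⟨fun e => h1 (Subtype.ext e), congrArg Subtype.val h2⟩ h3
      (Subgroup.mem_centralizer_singleton_iff.1 z.2))
  have hSc : ∀ x ∈ (P : Subgroup C), x * S = S * x := by
    haveI : Nontrivial (P : Subgroup C) :=
      ⟨⟨⟨S, hSP⟩, 1, fun e => by
        have h1 : S = 1 := congrArg Subtype.val e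
        rw [← orderOf_eq_one_iff, hSo] at h1
        omega⟩⟩
    haveI : Nontrivial (Subgroup.center (P : Subgroup C)) := P.2.center_nontrivial
    obtain ⟨z, hz⟩ := exists_prime_orderOf_dvd_card' (G := Subgroup.center (P : Subgroup C)) 2 (by
      obtain ⟨m, hm, hm'⟩ := (P.2.to_subgroup _).nontrivial_iff_card.1
        (inferInstance : Nontrivial (Subgroup.center (P : Subgroup C)))
      rw [hm']; exact dvd_pow_self 2 hm.ne')
    have hz' : orderOf ((z : (P : Subgroup C)) : C) = 2 := by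
      rw [Subgroup.orderOf_coe, Subgroup.orderOf_coe, hz]
    have hzc : ∀ x ∈ (P : Subgroup C), x * ((z : (P : Subgroup C)) : C) = (z : (P : Subgroup C)) * x :=
      fun x hx => congrArg Subtype.val (Subgroup.mem_center_iff.1 z.2 ⟨x, hx⟩)
    have hzS : ((z : (P : Subgroup C)) : C) = S := by
      refine hinv _ (fun e => ?_) ?_ (hcomm_a _ (hzc S hSP).symm)
      · rw [e, orderOf_one] at hz'; omega
      · have := pow_orderOf_eq_one ((z : (P : Subgroup C)) : C)
        rwa [hz', pow_two] at this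
    intro x hx
    have := hzc x hx
    rwa [hzS] at this
  have hiso : ∀ g : C, g * S * g⁻¹ ∈ P → g * S * g⁻¹ = S := by
    intro g hg
    refine hinv _ (fun e => ?_) ?_ (hcomm_a _ (hSc _ hg))
    · have h1 : orderOf (g * S * g⁻¹) = 2 := by
        rw [← MulAut.conj_apply, MulEquiv.orderOf_eq, hSo]
      rw [e, orderOf_one] at h1; omega
    · have h2 : S * S = 1 := by rw [← pow_two, ← hSo, pow_orderOf_eq_one]
      calc g * S * g⁻¹ * (g * S * g⁻¹) = g * (S * S) * g⁻¹ := by group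
        _ = 1 := by rw [h2]; group
  obtain ⟨N, hNn, hNodd, hN⟩ := Components.zStarProperty C P S hSo hSP hiso
  set π := act (Ω := Ω) w with hπ
  set M₁ : Subgroup π.range := N.map π.rangeRestrict with hM₁
  have hM₁n : M₁.Normal := hNn.map _ π.rangeRestrict_surjective
  -- `N` moves some fixed point
  obtain ⟨g, hg, hga⟩ := trans_from_a hD (w_fix hD).2
  have hM₁ne : M₁ ≠ ⊥ := by
    intro h
    set n : C := S * ⟨g, hg⟩ * S⁻¹ * (⟨g, hg⟩ : C)⁻¹ with hn
    have h1 : π.rangeRestrict n ∈ M₁ := ⟨n, hN _, rfl⟩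
    rw [h, Subgroup.mem_bot] at h1
    have h2 : (n : G) • t • a = t • a := congrArg
      (fun z : π.range => (((z : Equiv.Perm {p : Ω // w • p = p})
        ⟨t • a, (w_fix hD).2⟩ : {p : Ω // w • p = p}) : Ω)) h1
    have h3 : (n : G) • t • a = s • t • a := by
      show (s * g * s⁻¹ * g⁻¹) • t • a = _
      rw [mul_smul, mul_smul, mul_smul, inv_smul_eq_iff.2 hga.symm,
        inv_smul_eq_iff.2 (s_a hD).symm, hga]
    exact ta_ne hS (fixed_unique hS (s_isInv hD) (h3.symm.trans h2) (s_a hD))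
  obtain ⟨M, hMmin, hMle⟩ := Fitting.exists_isMinNormal_le hM₁n hM₁ne
  have hMn : M.Normal := hMmin.1
  have hMsol : Group.IsSolvable M := by
    apply PF14.feitThompson
    exact hNodd.of_dvd_nat ((Subgroup.card_dvd_of_le hMle).trans (Subgroup.card_map_dvd _ _))
  haveI := hMmin.isMulCommutative
  obtain ⟨ℓ, hℓ, hel⟩ := hMmin.exists_isElementaryAbelian
  haveI : Fact ℓ.Prime := ⟨hℓ⟩
  set M' : Subgroup (Equiv.Perm {p : Ω // w • p = p}) := M.map π.range.subtype with hM'
  have hnorm : ∀ c, ∀ X ∈ M', π c * X * (π c)⁻¹ ∈ M' := by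
    rintro c _ ⟨X, hX, rfl⟩
    exact ⟨⟨π c, c, rfl⟩ * X * ⟨π c, c, rfl⟩⁻¹, hMn.conj_mem X hX _, rfl⟩
  have hcomm : ∀ X ∈ M', ∀ Y ∈ M', X * Y = Y * X := by
    rintro _ ⟨X, hX, rfl⟩ _ ⟨Y, hY, rfl⟩
    exact congrArg (fun z : M => ((z : π.range) : Equiv.Perm {p : Ω // w • p = p}))
      (mul_comm' (⟨X, hX⟩ : M) ⟨Y, hY⟩)
  have hpow : ∀ X ∈ M', X ^ ℓ = 1 := by
    rintro _ ⟨X, hX, rfl⟩
    rw [← map_pow, hel.2 X hX, map_one]
  -- transitivity
  have htrans : ∀ p q, ∃ X ∈ M', X p = q := by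
    intro p q
    rcases eq_or_ne p q with rfl | hpq
    · exact ⟨1, one_mem _, rfl⟩
    have : Nontrivial M := (Subgroup.nontrivial_iff_ne_bot M).2 hMmin.2.1
    obtain ⟨⟨X, hX⟩, hX1⟩ := exists_ne (1 : M)
    obtain ⟨x, hx⟩ : ∃ x, (X : Equiv.Perm {p : Ω // w • p = p}) x ≠ x := by
      by_contra h
      push Not at h
      exact hX1 (Subtype.ext (Subtype.ext (Equiv.ext h)))
    obtain ⟨c, hc, hc1, hc2⟩ := two_trans hD x.2
      ((X : Equiv.Perm {p : Ω // w • p = p}) x).2 p.2 q.2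
      (fun e => hx (Subtype.ext e).symm) (fun e => hpq (Subtype.ext e))
    refine ⟨π ⟨c, hc⟩ * X * (π ⟨c, hc⟩)⁻¹, hnorm _ _ ⟨X, hX, rfl⟩, ?_⟩
    have h1 : π ⟨c, hc⟩ x = p := Subtype.ext hc1
    have h2 : (π ⟨c, hc⟩)⁻¹ p = x := Equiv.Perm.inv_eq_iff_eq.2 h1.symm
    rw [Equiv.Perm.mul_apply, Equiv.Perm.mul_apply, h2]
    exact Subtype.ext hc2
  have hfree : ∀ X ∈ M', ∀ p, X p = p → X = 1 := by
    intro X hX p hp
    refine Equiv.ext fun q => ?_
    obtain ⟨Y, hY, rfl⟩ := htrans p q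
    rw [← Equiv.Perm.mul_apply, hcomm X hX Y hY, Equiv.Perm.mul_apply, hp]
    rfl
  have hcard : Nat.card M' = Nat.card {p : Ω // w • p = p} := by
    refine Nat.card_congr (Equiv.ofBijective (fun X : M' => (X : Equiv.Perm _) a₀) ⟨?_, ?_⟩)
    · intro X Y h
      have := hfree _ (mul_mem (inv_mem X.2) Y.2) a₀ (by
        rw [Equiv.Perm.mul_apply]
        exact Equiv.Perm.inv_eq_iff_eq.2 h.symm)
      exact Subtype.ext (inv_mul_eq_one.1 this)
    · intro q
      obtain ⟨X, hX, hXq⟩ := htrans a₀ q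
      exact ⟨⟨X, hX⟩, hXq⟩
  obtain ⟨f, hf⟩ := IsPGroup.iff_card.1 ((Fitting.isPGroup_of_isElementaryAbelian hel).map π.range.subtype)
  have hcf : Nat.card {p : Ω // w • p = p} = ℓ ^ f := hcard.symm.trans hf
  have hℓodd : Odd ℓ := by
    refine hℓ.odd_of_ne_two fun h2 => ?_
    have hodd : Odd (ℓ ^ f) := hcf ▸ (card_fix hD).symm ▸ (cQ_even hD).add_one
    rw [h2] at hodd
    rcases Nat.eq_zero_or_pos f with rfl | hf0
    · have := card_fix hD
      rw [hcf, pow_zero] at this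
      have := Nat.card_pos (α := ↥(Q ⊓ Subgroup.centralizer ({w} : Set G)))
      omega
    · exact Nat.not_even_iff_odd.2 hodd ((Nat.even_pow.2 ⟨even_two, hf0.ne'⟩))
  refine ⟨ℓ, f, M', hℓ, hℓodd, hcf, hf, Subgroup.map_subtype_le M, hpow, hcomm, htrans, hfree, hnorm, fun X hX => ?_⟩
  set T := π S with hT
  have hTX := hnorm S X hX
  have hfix : ∀ p, T p = p → p = a₀ := fun p hp =>
    Subtype.ext (fixed_unique hS (s_isInv hD) (congrArg Subtype.val hp) (s_a hD))
  have hTa : T a₀ = a₀ := Subtype.ext (s_a hD)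
  have hTT : T * T = 1 := by
    rw [hT, ← map_mul, ← pow_two, ← hSo, pow_orderOf_eq_one, map_one]
  have h1 : T * (X * (T * X * T⁻¹)) = X * (T * X * T⁻¹) * T := by
    have e := hcomm _ hX _ hTX
    rw [inv_eq_self hTT] at e ⊢
    calc T * (X * (T * X * T)) = T * X * T * X * T := by group
      _ = X * (T * X * T) * T := by rw [← e]
  have h2 : (X * (T * X * T⁻¹)) a₀ = a₀ := by
    refine hfix _ ?_
    calc T ((X * (T * X * T⁻¹)) a₀) = (T * (X * (T * X * T⁻¹))) a₀ := rfl
      _ = _ := by rw [h1, Equiv.Perm.mul_apply, hTa]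
  exact eq_inv_of_mul_eq_one_right (hfree _ (mul_mem hX hTX) a₀ h2)

/-- `r` halves vectors: its powers are trivial exactly when the powers of two are `1` modulo `ℓ`. -/
theorem r_pow_eq_one_iff {ℓ f : ℕ} {M : Subgroup (Equiv.Perm {p : Ω // w • p = p})}
    (hP : IsPlane (Ω := Ω) w s (s_mem_C hD) ℓ f M) (j : ℕ) : r ^ j = 1 ↔ 2 ^ j ≡ 1 [MOD ℓ] := by
  classical
  have hS := hD.hR.setup
  set C := Subgroup.centralizer ({w} : Set G) with hC
  haveI : Fact ℓ.Prime := ⟨hP.prime⟩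
  set a₀ : {p : Ω // w • p = p} := ⟨a, (w_fix hD).1⟩ with ha₀
  set b₀ : {p : Ω // w • p = p} := ⟨t • a, (w_fix hD).2⟩ with hb₀
  have hrC : r ∈ C := Subgroup.mem_centralizer_singleton_iff.2 (wr hD).symm
  have htC : t ∈ C := Subgroup.mem_centralizer_singleton_iff.2 (wt hD).symm
  set R := act (Ω := Ω) w ⟨r, hrC⟩ with hR
  set T := act (Ω := Ω) w ⟨t, htC⟩ with hT
  set S := act (Ω := Ω) w ⟨s, s_mem_C hD⟩ with hSdef
  have hSa : S a₀ = a₀ := Subtype.ext (s_a hD)
  have hRa : R a₀ = a₀ := Subtype.ext (Q_fix_a hS hD.rMem)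
  obtain ⟨X, hX, hXc⟩ := hP.trans a₀ (R b₀)
  have hTc : T (R b₀) = R b₀ := Subtype.ext (structure_r hS hD.sMem hD.eqn)
  -- `t` is the reflection in `r • t • a`
  have hTeq : T = X * S * X⁻¹ := by
    obtain ⟨g, hgX⟩ := hP.le hX
    have hga : (g : G) • a = ((R b₀ : {p : Ω // w • p = p}) : Ω) := by
      rw [← hXc, ← hgX]; rfl
    have hgw : Commute w (g : G) := (Subgroup.mem_centralizer_singleton_iff.1 g.2).symm
    have htg : t = (g : G) * s * (g : G)⁻¹ := by
      refine invol_unique hD (t_isInv hS) ((s_isInv hD).conj _) (wt hD).symm ?_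
        (c := ((R b₀ : {p : Ω // w • p = p}) : Ω)) (congrArg Subtype.val hTc) ?_
      · exact ((hgw.mul_right (ws hD)).mul_right hgw.inv_right).eq.symm
      · rw [mul_smul, mul_smul, inv_smul_eq_iff.2 hga.symm, s_a hD, hga]
    rw [hT, ← hgX, hSdef, ← map_inv, ← map_mul, ← map_mul]
    exact congrArg _ (Subtype.ext htg)
  -- `b = X² a`
  have hb : b₀ = (X * X) a₀ := by
    have hTa : T a₀ = b₀ := Subtype.ext rfl
    have hinvX : S * X⁻¹ * S⁻¹ = X := by
      calc S * X⁻¹ * S⁻¹ = (S * X * S⁻¹)⁻¹ := by group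
        _ = X := by rw [hP.inv X hX, inv_inv]
    have e : X * S * X⁻¹ = X * (S * X⁻¹ * S⁻¹) * S := by group
    rw [← hTa, hTeq, e, hinvX, Equiv.Perm.mul_apply, hSa]
  -- conjugation by `r⁻¹` squares `X`
  have hsq : R⁻¹ * X * R = X * X := by
    have hm : R⁻¹ * X * R ∈ M := by
      have := hP.normal (⟨r, hrC⟩⁻¹) X hX
      rwa [map_inv, ← hR, inv_inv] at this
    refine inv_mul_eq_one.1 (hP.free _ (mul_mem (inv_mem hm) (mul_mem hX hX)) a₀ ?_)
    rw [Equiv.Perm.mul_apply, ← hb, Equiv.Perm.inv_eq_iff_eq, Equiv.Perm.mul_apply,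
      Equiv.Perm.mul_apply, hRa, hXc, Equiv.Perm.inv_eq_iff_eq.2 rfl]
  have hpow : ∀ i : ℕ, (R ^ i)⁻¹ * X * R ^ i = X ^ 2 ^ i := by
    intro i
    induction i with
    | zero => simp
    | succ i ih =>
      calc (R ^ (i + 1))⁻¹ * X * R ^ (i + 1) = R⁻¹ * ((R ^ i)⁻¹ * X * R ^ i) * R := by
            rw [pow_succ]; group
        _ = R⁻¹ * X ^ 2 ^ i * R := by rw [ih]
        _ = (R⁻¹ * X * R) ^ 2 ^ i := by
            have e := conj_pow (a := R⁻¹) (b := X) (i := 2 ^ i)
            rw [inv_inv] at e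
            exact e.symm
        _ = _ := by rw [hsq, ← pow_two, ← pow_mul, pow_succ' 2 i]
  have hX1 : X ≠ 1 := fun h => by
    rw [h] at hXc
    exact t_fix_ne_a hS (structure_r hS hD.sMem hD.eqn) (congrArg Subtype.val hXc).symm
  have hXo : orderOf X = ℓ := orderOf_eq_prime (hP.pow X hX) hX1
  constructor
  · intro h
    have hR1 : R ^ j = 1 := by
      rw [hR, ← map_pow, show (⟨r, hrC⟩ : C) ^ j = 1 from Subtype.ext (by simpa using h), map_one]
    have := hpow j
    rw [hR1, inv_one, one_mul, mul_one] at this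
    rw [← hXo, ← pow_eq_pow_iff_modEq, pow_one]
    exact this.symm
  · intro h
    rw [← hXo, ← pow_eq_pow_iff_modEq, pow_one] at h
    have e := hpow j
    rw [h] at e
    have hRj : ∀ i : ℕ, (R ^ i) a₀ = a₀ := fun i => by
      induction i with
      | zero => rfl
      | succ i ih => rw [pow_succ, Equiv.Perm.mul_apply, hRa, ih]
    have h2 : ((R ^ j)⁻¹ * X * R ^ j) a₀ = X a₀ := by rw [e]
    rw [Equiv.Perm.mul_apply, Equiv.Perm.mul_apply, hRj, hXc, Equiv.Perm.inv_eq_iff_eq] at h2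
    have h3 : r ^ j • r • t • a = r • t • a := by
      rw [hR, ← map_pow] at h2
      exact (congrArg Subtype.val h2).symm
    exact Q_fix_unique hS (pow_mem hD.rMem j) (smul_Q_ne hS hD.rMem (ta_ne hS)) h3

/-- If `C_Q(w)` has order eight, `r² = 1`. -/
theorem r_sq_of_card_eight (h8 : Nat.card ↥(Q ⊓ Subgroup.centralizer {w}) = 8) : r * r = 1 := by
  obtain ⟨ℓ, f, M, hP⟩ := exists_plane hD
  have h9 : ℓ ^ f = 9 := by rw [← hP.card, card_fix hD, h8]
  have hf : f ≠ 0 := fun h => by rw [h, pow_zero] at h9; omega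
  have hℓ : ℓ = 3 := by
    have hd : ℓ ∣ 3 * 3 := (dvd_pow_self ℓ hf).trans (h9 ▸ dvd_refl _)
    rcases hP.prime.dvd_mul.1 hd with h | h <;>
      exact (Nat.prime_dvd_prime_iff_eq hP.prime Nat.prime_three).1 h
  rw [← pow_two, r_pow_eq_one_iff hD hP, hℓ]
  rfl

end

end Cfsg.Agent.Suz27.NearFld
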