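import Cfsg.Agent.Suz27.NearFieldBase
import Cfsg.Agent.Suz27.NearFieldAux
import Mathlib.GroupTheory.Transfer

/-!
The transfer to `V / W`, the kernel and order of the centraliser of `v`, and the fixed-point
argument of the NEAR-FIELD lemma.
-/

set_option autoImplicit false

namespace Cfsg.Agent.Suz27.NearFld

open MulAction RankOne
open RankOneK (wker)

universe u v

variable {G : Type u} {Ω : Type v} [Group G] [MulAction G Ω] {a : Ω} {t : G} {Q : Subgroup G}
  [Finite G] {w s r : G}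

lemma not_mem_wker (hD : VData G Ω a t Q w s r) : w ∉ wker G a t := fun h => by
  have h2 := two_lt_qOf hD.hR
  rw [← qOf_cent_wker hD.hR h, hD.qtwo] at h2
  exact lt_irrefl 2 h2

/-- The transfer to `V / W` shows that `p` divides the number of fixed points of `w`. -/
theorem dvd_card_fix (hD : VData G Ω a t Q w s r) (hG : Gen t Q) {p : ℕ} (hp : p.Prime)
    (hord : orderOf w = p) (hgenV : ∀ x ∈ vGrp a t, ∃ j : ℤ, w ^ j * x ∈ wker G a t) :
    p ∣ Nat.card {q : Ω // w • q = q} := by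
  classical
  haveI := hD.hR.faithful
  haveI : Fact p.Prime := ⟨hp⟩
  have hS := hD.hR.setup
  have hpodd : Odd p := hord ▸ odd_orderOf_of_mem hS.odd_card (mem_D hD)
  obtain ⟨g₀, -, hK, hn, -⟩ := RankOneK.structure_twoStab PF14.feitThompson hS hD.hR.rank2
  set H := stabilizer G a with hH
  set W := wker G a t with hWdef
  set C := Subgroup.zpowers g₀ with hC
  have hCD : C ≤ twoStab G a t := fun k hk => ((hK k).2 hk).1
  have hWD : W ≤ twoStab G a t := inf_le_left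
  have hWn : W ≤ Subgroup.normalizer (C : Set G) := by
    intro x hx
    rw [Subgroup.mem_normalizer_iff]
    intro y
    constructor
    · intro hy
      rw [← wker_comm_K hD.hR hx ((hK y).2 hy), mul_inv_cancel_right]
      exact hy
    · intro hy
      have h := wker_comm_K hD.hR hx ((hK _).2 hy)
      have e : y = x * y * x⁻¹ := by
        calc y = x⁻¹ * (x * y * x⁻¹ * x) := by group
          _ = x⁻¹ * (x * (x * y * x⁻¹)) := by rw [h]
          _ = _ := by group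
      rw [e]; exact hy
  have hWC : ∀ y ∈ W ⊔ C, ∃ x ∈ W, ∃ k ∈ C, y = x * k := fun y hy => by
    rw [← SetLike.mem_coe, Subgroup.coe_mul_of_left_le_normalizer_right W C hWn] at hy
    obtain ⟨x, hx, k, hk, rfl⟩ := hy
    exact ⟨x, hx, k, hk, rfl⟩
  set U₀ := Q ⊔ (W ⊔ C) with hU₀
  have hU₀le : U₀ ≤ H := sup_le hS.le (sup_le (fun x hx => (hWD hx).1) fun x hx => (hCD hx).1)
  have hconj : ∀ g ∈ H, ∀ x ∈ U₀, g * x * g⁻¹ ∈ U₀ := by
    intro g hg
    obtain ⟨q, hq, d, hd, rfl⟩ := exists_decomp hS hg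
    have hQU : Q ≤ U₀ := le_sup_left
    have hdU : ∀ x ∈ U₀, d * x * d⁻¹ ∈ U₀ := by
      suffices h : U₀ ≤ U₀.comap (MulAut.conj d).toMonoidHom from fun x hx => h hx
      refine sup_le (fun x hx => hQU (hS.conj_mem d (Subgroup.mem_inf.1 hd).1 x hx))
        (sup_le (fun x hx => ?_) fun x hx => ?_)
      · exact Subgroup.mem_sup_right (Subgroup.mem_sup_left (wker_conj hD.hR hd hx))
      · refine Subgroup.mem_sup_right (Subgroup.mem_sup_right ?_)
        obtain ⟨j, rfl⟩ := Subgroup.mem_zpowers_iff.1 hx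
        show d * g₀ ^ j * d⁻¹ ∈ C
        rw [← conj_zpow]
        exact zpow_mem (hn d hd) j
    intro x hx
    rw [show q * d * x * (q * d)⁻¹ = q * (d * x * d⁻¹) * q⁻¹ by group]
    exact mul_mem (mul_mem (hQU hq) (hdU x hx)) (inv_mem (hQU hq))
  set U : Subgroup H := U₀.subgroupOf H with hU
  haveI : U.Normal := ⟨fun x hx g => hconj g g.2 x hx⟩
  set π : H →* H ⧸ U := QuotientGroup.mk' U with hπ
  have hwH : w ∈ H := (w_fix hD).1
  set wb := π ⟨w, hwH⟩ with hwb
  have hgen : ∀ y : H ⧸ U, y ∈ Subgroup.zpowers wb := by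
    intro y
    obtain ⟨⟨g, hg⟩, rfl⟩ := QuotientGroup.mk'_surjective U y
    obtain ⟨q, hq, d, hd, rfl⟩ := exists_decomp hS hg
    obtain ⟨c, i, hc, hct, hi, hit, rfl, -⟩ :=
      odd_decomp hS.mul_self hS.odd_card (fun y hy => conj_t_twoStab hS hy) hd
    obtain ⟨j, hj⟩ := hgenV c ⟨hc, Subgroup.mem_centralizer_singleton_iff.2 hct.symm⟩
    refine Subgroup.mem_zpowers_iff.2 ⟨-j, ?_⟩
    rw [hwb, ← map_zpow, hπ, QuotientGroup.mk'_eq_mk']
    refine ⟨(⟨w, hwH⟩ ^ (-j))⁻¹ * ⟨q * (c * i), hg⟩, ?_, by group⟩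
    show (((⟨w, hwH⟩ : H) ^ (-j))⁻¹ * ⟨q * (c * i), hg⟩ : H).1 ∈ U₀
    have e : (((⟨w, hwH⟩ : H) ^ (-j))⁻¹ * ⟨q * (c * i), hg⟩ : H).1 =
        (w ^ j * q * (w ^ j)⁻¹) * ((w ^ j * c) * i) := by
      push_cast; group
    rw [e]
    refine mul_mem (Subgroup.mem_sup_left (hS.conj_mem _ (zpow_mem hwH j) q hq))
      (Subgroup.mem_sup_right (mul_mem (Subgroup.mem_sup_left hj)
        (Subgroup.mem_sup_right ((hK i).1 ⟨hi, hit⟩))))
  letI : CommGroup (H ⧸ U) :=
    { (inferInstance : Group (H ⧸ U)) with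
      mul_comm := fun x y => by
        obtain ⟨i, rfl⟩ := Subgroup.mem_zpowers_iff.1 (hgen x)
        obtain ⟨j, rfl⟩ := Subgroup.mem_zpowers_iff.1 (hgen y)
        rw [← zpow_add, ← zpow_add, add_comm] }
  have hwp : wb ^ p = 1 := by
    rw [hwb, ← map_pow, show (⟨w, hwH⟩ : H) ^ p = 1 from Subtype.ext (by
      simpa [hord] using pow_orderOf_eq_one w), map_one]
  have hw1 : wb ≠ 1 := by
    intro h
    rw [hwb, hπ, QuotientGroup.mk'_apply, QuotientGroup.eq_one_iff] at h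
    have h' : w ∈ U₀ := h
    have hN : W ⊔ C ≤ Subgroup.normalizer (Q : Set G) :=
      sup_le (hWD.trans (twoStab_le_normalizer hS)) (hCD.trans (twoStab_le_normalizer hS))
    rw [← SetLike.mem_coe, Subgroup.coe_mul_of_right_le_normalizer_left Q (W ⊔ C) hN] at h'
    obtain ⟨q, hq, y, hy, hqy⟩ := h'
    obtain ⟨x, hx, k, hk, rfl⟩ := hWC y hy
    obtain ⟨-, h2⟩ := decomp_unique hS hq (mul_mem (hWD hx) (hCD hk)) Q.one_mem (mem_D hD)
      (by rw [one_mul]; exact hqy)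
    obtain ⟨h3, -⟩ := odd_decomp_unique hS.odd_card (hWD hx)
      (Subgroup.mem_centralizer_singleton_iff.1 (wker_le hD.hR hx).2).symm ((hK k).2 hk).1
      ((hK k).2 hk).2 (mem_D hD) (wt hD).symm (one_mem _) (by simp) (by rw [mul_one]; exact h2)
    exact not_mem_wker hD (h3 ▸ hx)
  have hpow : ∀ y : H ⧸ U, y ^ p = 1 := fun y => by
    obtain ⟨i, rfl⟩ := Subgroup.mem_zpowers_iff.1 (hgen y)
    rw [← zpow_natCast, ← zpow_mul, mul_comm, zpow_mul, zpow_natCast, hwp, one_zpow]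
  set τ := MonoidHom.transfer π with hτ
  -- the transfer is trivial
  have hτt : τ t = 1 := by
    have h2 : τ t * τ t = 1 := by rw [← map_mul, hS.mul_self, map_one]
    exact eq_one_of_mul_self (hpodd.of_dvd_nat (orderOf_dvd_of_pow_eq_one (hpow _))) h2
  have hτQ : ∀ x ∈ Q, τ x = 1 := by
    obtain ⟨k, hk, hk1⟩ := exists_inverted_ne_one hS hD.hR.rank2
    let L : Q → Q := fun y => ⟨(y : G)⁻¹ * (k * y * k⁻¹),
      mul_mem (inv_mem y.2) (hS.conj_mem k hk.1.1 y y.2)⟩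
    have hL : Function.Injective L := by
      intro y z h
      have h' : (y : G)⁻¹ * (k * y * k⁻¹) = (z : G)⁻¹ * (k * z * k⁻¹) := congrArg Subtype.val h
      refine Subtype.ext (mul_inv_eq_one.1 (inverted_fpf hS hk hk1 (mul_mem y.2 (inv_mem z.2)) ?_))
      calc k * ((y : G) * (z : G)⁻¹) = y * ((y : G)⁻¹ * (k * y * k⁻¹)) * (k * (z : G)⁻¹ * k⁻¹) * k := by
            group
        _ = _ := by rw [h']; group
    intro x hx
    obtain ⟨y, hy⟩ := Finite.surjective_of_injective hL ⟨x, hx⟩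
    rw [← show (y : G)⁻¹ * (k * y * k⁻¹) = x from congrArg Subtype.val hy, map_mul, map_mul, map_mul,
      map_inv, map_inv]
    rw [mul_comm (τ k) (τ y), mul_inv_cancel_right, inv_mul_cancel]
  have hτ1 : τ w = 1 := by
    have h : (Q : Set G) ∪ {t} ⊆ (τ.ker : Set G) := by
      rintro x (hx | hx)
      · exact hτQ x hx
      · rw [Set.mem_singleton_iff.1 hx]; exact hτt
    have h2 : Subgroup.closure ((Q : Set G) ∪ {t}) ≤ τ.ker := (Subgroup.closure_le _).2 h
    rw [hG] at h2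
    exact h2 (Subgroup.mem_top w)
  -- evaluation at `w`
  haveI : Fintype (Quotient (orbitRel (Subgroup.zpowers w) (G ⧸ H))) := Fintype.ofFinite _
  rw [hτ, MonoidHom.transfer_eq_prod_quotient_orbitRel_zpowers_quot] at hτ1
  set per : Quotient (orbitRel (Subgroup.zpowers w) (G ⧸ H)) → ℕ :=
    fun o => Function.minimalPeriod (w • ·) o.out with hper
  have hfix : ∀ o, per o = 1 ↔ w • o.out.out • a = o.out.out • a := by
    intro o
    rw [hper, Function.minimalPeriod_eq_one_iff_isFixedPt]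
    show w • o.out = o.out ↔ _
    conv_lhs => rw [← QuotientGroup.out_eq' o.out]
    show ((w * o.out.out : G) : G ⧸ H) = (o.out.out : G ⧸ H) ↔ _
    rw [QuotientGroup.eq]
    show ((w * o.out.out)⁻¹ * o.out.out) • a = a ↔ _
    rw [mul_smul, inv_smul_eq_iff, mul_smul]
    exact eq_comm
  have hterm : ∀ o, π ⟨o.out.out⁻¹ * w ^ per o * o.out.out,
      QuotientGroup.out_conj_pow_minimalPeriod_mem H w o.out⟩ = if per o = 1 then wb else 1 := by
    intro o
    have hdvd : per o ∣ p := by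
      apply Function.IsPeriodicPt.minimalPeriod_dvd
      show (w • ·)^[p] o.out = o.out
      rw [smul_iterate, ← hord, pow_orderOf_eq_one]
      exact one_smul G o.out
    rcases (Nat.dvd_prime hp).1 hdvd with h | h
    · rw [if_pos h]
      obtain ⟨c, hc, hca⟩ := trans_from_a hD ((hfix o).1 h)
      have hcH : c⁻¹ * o.out.out ∈ H := by
        show (c⁻¹ * o.out.out) • a = a
        rw [mul_smul, inv_smul_eq_iff, hca]
      have e : (⟨o.out.out⁻¹ * w ^ per o * o.out.out,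
          QuotientGroup.out_conj_pow_minimalPeriod_mem H w o.out⟩ : H) =
          (⟨_, hcH⟩ : H)⁻¹ * ⟨w, hwH⟩ * ⟨_, hcH⟩ := Subtype.ext (by
        have hcw := Subgroup.mem_centralizer_singleton_iff.1 hc
        show o.out.out⁻¹ * w ^ per o * o.out.out = (c⁻¹ * o.out.out)⁻¹ * w * (c⁻¹ * o.out.out)
        rw [h, pow_one]
        calc o.out.out⁻¹ * w * o.out.out = o.out.out⁻¹ * (c * c⁻¹ * w) * o.out.out := by group
          _ = o.out.out⁻¹ * (c * (w * c⁻¹)) * o.out.out := by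
            rw [mul_assoc c c⁻¹ w, show c⁻¹ * w = w * c⁻¹ from
              (show Commute c w from hcw).inv_left.eq]
          _ = _ := by group)
      rw [e, map_mul, map_mul, map_inv, mul_comm _ (π ⟨w, hwH⟩), mul_assoc, inv_mul_cancel, mul_one]
    · rw [if_neg (by rw [h]; exact hp.one_lt.ne'), ← map_one π]
      refine congrArg π (Subtype.ext ?_)
      show o.out.out⁻¹ * w ^ per o * o.out.out = 1
      rw [h, ← hord, pow_orderOf_eq_one]; group
  rw [Finset.prod_congr rfl (fun o _ => hterm o), ← Finset.prod_filter, Finset.prod_const] at hτ1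
  have hcount : (Finset.univ.filter fun o => per o = 1).card = Nat.card {q : Ω // w • q = q} := by
    rw [← Fintype.card_subtype, ← Nat.card_eq_fintype_card]
    refine Nat.card_congr (Equiv.ofBijective
      (fun o => ⟨o.1.out.out • a, (hfix o.1).1 o.2⟩) ⟨?_, ?_⟩)
    · intro o o' h
      have h' : o.1.out.out • a = o'.1.out.out • a := congrArg Subtype.val h
      apply Subtype.ext
      rw [← Quotient.out_eq o.1, ← Quotient.out_eq o'.1]
      refine congrArg _ ?_
      rw [← QuotientGroup.out_eq' o.1.out, ← QuotientGroup.out_eq' o'.1.out, QuotientGroup.eq]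
      show (o.1.out.out⁻¹ * o'.1.out.out) • a = a
      rw [mul_smul, inv_smul_eq_iff, h']
    · rintro ⟨q, hq⟩
      haveI := pretransitive hS
      obtain ⟨g, hg⟩ := exists_smul_eq G a q
      set o : Quotient (orbitRel (Subgroup.zpowers w) (G ⧸ H)) := Quotient.mk'' (g : G ⧸ H) with ho
      have hmem : o.out ∈ MulAction.orbit (Subgroup.zpowers w) (g : G ⧸ H) :=
        orbitRel_apply.1 (Quotient.exact' (Quotient.out_eq' o))
      obtain ⟨⟨k, hk⟩, hk'⟩ := hmem
      have hout : o.out.out • a = q := by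
        obtain ⟨j, rfl⟩ := Subgroup.mem_zpowers_iff.1 hk
        have e : ((w ^ j * g : G) : G ⧸ H) = (o.out.out : G ⧸ H) := by
          rw [QuotientGroup.out_eq']; exact hk'
        rw [QuotientGroup.eq] at e
        have e' : ((w ^ j * g)⁻¹ * o.out.out) • a = a := e
        rw [mul_smul, inv_smul_eq_iff, mul_smul, hg] at e'
        rw [e']
        have : w ^ j ∈ stabilizer G q := zpow_mem (mem_stabilizer_iff.2 hq) j
        exact this
      exact ⟨⟨o, (hfix o).2 (by rw [hout, hq])⟩, Subtype.ext hout⟩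
  rw [hcount] at hτ1
  rw [← orderOf_eq_prime hwp hw1]
  exact orderOf_dvd_of_pow_eq_one hτ1

/-- The standing hypotheses of the second half of the NEAR-FIELD lemma. -/
structure Hyp (G : Type u) (Ω : Type v) [Group G] [Finite G] [MulAction G Ω] (a : Ω) (t : G)
    (Q : Subgroup G) (w s r : G) (p : ℕ) : Prop where
  data : VData G Ω a t Q w s r
  types : SubTypes a t Q
  prime : p.Prime
  ord : orderOf w = p
  gen : ∀ x ∈ vGrp a t, ∃ j : ℤ, w ^ j * x ∈ wker G a t
  nQ : Nat.card Q = Nat.card ↥(Q ⊓ Subgroup.centralizer {w}) ^ p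
  notTwo : ¬ IsPGroup 2 ↥(Q ⊓ Subgroup.centralizer {w})

/-- `W₀ = C_W(w)`. -/
abbrev w0 (a : Ω) (t w : G) : Subgroup G := wker G a t ⊓ Subgroup.centralizer {w}

section
variable {p : ℕ} (hy : Hyp G Ω a t Q w s r p)
include hy

lemma w_ne_one : w ≠ 1 := fun h => hy.prime.ne_one (by rw [← hy.ord, h, orderOf_one])

lemma w_pow : w ^ p = 1 := hy.ord ▸ pow_orderOf_eq_one w

lemma p_odd : Odd p := hy.ord ▸ odd_orderOf_of_mem hy.data.hR.setup.odd_card (mem_D hy.data)

lemma zpow_mem_wker {j : ℤ} (h : w ^ j ∈ wker G a t) : w ^ j = 1 := by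
  by_contra hne
  haveI : Fact p.Prime := ⟨hy.prime⟩
  have hc : Nat.card (Subgroup.zpowers w) = p := by rw [Nat.card_zpowers, hy.ord]
  have hmem := mem_zpowers_of_prime_card hc
    (g := ⟨w ^ j, Subgroup.zpow_mem_zpowers w j⟩) (g' := ⟨w, Subgroup.mem_zpowers w⟩)
    (fun e => hne (congrArg Subtype.val e))
  obtain ⟨i, hi⟩ := Subgroup.mem_zpowers_iff.1 hmem
  refine not_mem_wker hy.data ?_
  have e : (w ^ j) ^ i = w := by simpa using congrArg Subtype.val hi
  rw [← e]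
  exact zpow_mem h i

/-- `C_D(w) = ⟨w⟩ × W₀`. -/
lemma cent_decomp {d : G} (hd : d ∈ twoStab G a t) (hdw : d * w = w * d) :
    ∃ j : ℤ, ∃ x ∈ w0 a t w, d = w ^ j * x := by
  obtain ⟨j, hj⟩ := hy.gen d (cent_twoStab hy.data hd hdw)
  refine ⟨-j, w ^ j * d, ⟨hj, Subgroup.mem_centralizer_singleton_iff.2 ?_⟩, by group⟩
  exact ((Commute.self_zpow w j).mul_right (show Commute w d from hdw.symm)).eq.symm

/-- An element of `W` fixing all fixed points of `w` is trivial. -/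
lemma wker_eq_one {x : G} (hx : x ∈ wker G a t) (h : ∀ q : Ω, w • q = q → x • q = q) : x = 1 := by
  by_contra hx1
  refine hy.notTwo ((hasType_wker hy.data.hR hy.types hx hx1).1.to_le fun q hq => ?_)
  refine ⟨hq.1, Subgroup.mem_centralizer_singleton_iff.2 ?_⟩
  have hD := hx.1
  have hf := h _ ((fix_smul_Q hy.data hq.1).2 hq)
  exact Subgroup.mem_centralizer_singleton_iff.1 (Q_comm_of_fixes hy.data.hR.setup
    (X := ({x} : Set G)) (fun y hy' => by rw [Set.mem_singleton_iff.1 hy']; exact (Subgroup.mem_inf.1 hD).1)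
    (ta_ne hy.data.hR.setup) (fun y hy' => by rw [Set.mem_singleton_iff.1 hy']; exact (Subgroup.mem_inf.1 hD).2)
    (fun y hy' => by rw [Set.mem_singleton_iff.1 hy']; exact hf) hq.1 rfl)

/-- The kernel of the action on the fixed points is `⟨w⟩`. -/
lemma act_eq_one {c : Subgroup.centralizer ({w} : Set G)} (h : act (Ω := Ω) w c = 1) :
    (c : G) ∈ Subgroup.zpowers w := by
  have hfix : ∀ q : Ω, w • q = q → (c : G) • q = q := fun q hq =>
    congrArg (fun e => ((e ⟨q, hq⟩ : {q : Ω // w • q = q}) : Ω)) h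
  obtain ⟨j, x, hx, e⟩ := cent_decomp hy
    (Subgroup.mem_inf.2 ⟨hfix a (w_fix hy.data).1, hfix _ (w_fix hy.data).2⟩)
    (Subgroup.mem_centralizer_singleton_iff.1 c.2)
  have hx1 : x = 1 := wker_eq_one hy hx.1 fun q hq => by
    have h1 := hfix q hq
    rw [e, mul_smul] at h1
    have h2 : (w ^ j) • q = q := zpow_mem (mem_stabilizer_iff.2 hq : w ∈ stabilizer G q) j
    exact smul_left_cancel (w ^ j) (h1.trans h2.symm)
  rw [e, hx1, mul_one]
  exact Subgroup.zpow_mem_zpowers w j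

lemma act_w_zpow (j : ℤ) (hj : w ^ j ∈ Subgroup.centralizer ({w} : Set G)) :
    act (Ω := Ω) w ⟨w ^ j, hj⟩ = 1 := Equiv.ext fun q => Subtype.ext
  (zpow_mem (mem_stabilizer_iff.2 q.2 : w ∈ stabilizer G (q : Ω)) j)

lemma mul_card_w0 : Nat.card ↥(twoStab G a t ⊓ Subgroup.centralizer {w} : Subgroup G) =
    p * Nat.card (w0 a t w) := by
  rw [← hy.ord, ← Nat.card_zpowers, ← Nat.card_prod]
  refine (Nat.card_congr (Equiv.ofBijective (fun q : Subgroup.zpowers w × w0 a t w =>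
    (⟨q.1 * q.2, ?_⟩ : (twoStab G a t ⊓ Subgroup.centralizer {w} : Subgroup G))) ⟨?_, ?_⟩)).symm
  · refine Subgroup.mem_inf.2 ⟨mul_mem ?_ (Subgroup.mem_inf.1 (Subgroup.mem_inf.1 q.2.2).1).1,
      mul_mem ?_ (Subgroup.mem_inf.1 q.2.2).2⟩
    · exact Subgroup.zpowers_le.2 (mem_D hy.data) q.1.2
    · exact Subgroup.zpowers_le.2 (Subgroup.mem_centralizer_singleton_iff.2 rfl) q.1.2
  · rintro ⟨⟨x, hx⟩, y⟩ ⟨⟨x', hx'⟩, y'⟩ h
    obtain ⟨i, rfl⟩ := Subgroup.mem_zpowers_iff.1 hx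
    obtain ⟨i', rfl⟩ := Subgroup.mem_zpowers_iff.1 hx'
    have h' : w ^ i * (y : G) = w ^ i' * y' := congrArg Subtype.val h
    have e : w ^ (i - i') = (y' : G) * (y : G)⁻¹ := by
      rw [zpow_sub]
      calc w ^ i * (w ^ i')⁻¹ = (w ^ i')⁻¹ * w ^ i := by group
        _ = (w ^ i')⁻¹ * (w ^ i * y) * (y : G)⁻¹ := by group
        _ = _ := by rw [h']; group
    have h1 := zpow_mem_wker hy (j := i - i') (e ▸ mul_mem y'.2.1 (inv_mem y.2.1))
    rw [zpow_sub, mul_inv_eq_one] at h1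
    refine Prod.ext (Subtype.ext h1) (Subtype.ext (mul_left_cancel (a := w ^ i) ?_))
    rw [h', h1]
  · rintro ⟨d, hd⟩
    obtain ⟨j, x, hx, e⟩ := cent_decomp hy (Subgroup.mem_inf.1 hd).1
      (Subgroup.mem_centralizer_singleton_iff.1 (Subgroup.mem_inf.1 hd).2)
    exact ⟨(⟨_, Subgroup.zpow_mem_zpowers w j⟩, ⟨x, hx⟩), Subtype.ext e.symm⟩

lemma card_vGrp : Nat.card (vGrp a t) = p * Nat.card (wker G a t) := by
  rw [← hy.ord, ← Nat.card_zpowers, ← Nat.card_prod]
  refine (Nat.card_congr (Equiv.ofBijective (fun q : Subgroup.zpowers w × wker G a t =>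
    (⟨q.1 * q.2, mul_mem (Subgroup.zpowers_le.2 hy.data.mem q.1.2)
      (wker_le hy.data.hR q.2.2)⟩ : vGrp a t)) ⟨?_, ?_⟩)).symm
  · rintro ⟨⟨x, hx⟩, y⟩ ⟨⟨x', hx'⟩, y'⟩ h
    obtain ⟨i, rfl⟩ := Subgroup.mem_zpowers_iff.1 hx
    obtain ⟨i', rfl⟩ := Subgroup.mem_zpowers_iff.1 hx'
    have h' : w ^ i * (y : G) = w ^ i' * y' := congrArg Subtype.val h
    have e : w ^ (i - i') = (y' : G) * (y : G)⁻¹ := by
      rw [zpow_sub]
      calc w ^ i * (w ^ i')⁻¹ = (w ^ i')⁻¹ * w ^ i := by group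
        _ = (w ^ i')⁻¹ * (w ^ i * y) * (y : G)⁻¹ := by group
        _ = _ := by rw [h']; group
    have h1 := zpow_mem_wker hy (j := i - i') (e ▸ mul_mem y'.2 (inv_mem y.2))
    rw [zpow_sub, mul_inv_eq_one] at h1
    refine Prod.ext (Subtype.ext h1) (Subtype.ext (mul_left_cancel (a := w ^ i) ?_))
    rw [h', h1]
  · rintro ⟨d, hd⟩
    obtain ⟨j, hj⟩ := hy.gen d hd
    exact ⟨(⟨_, Subgroup.zpow_mem_zpowers w (-j)⟩, ⟨_, hj⟩), Subtype.ext (by
      show w ^ (-j) * (w ^ j * d) = d; group)⟩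

/-- `|C(w)| = |Fix w| · |C_Q(w)| · p · |W₀|`. -/
lemma card_cent : Nat.card (Subgroup.centralizer ({w} : Set G)) =
    Nat.card {q : Ω // w • q = q} *
      (Nat.card ↥(Q ⊓ Subgroup.centralizer {w}) * (p * Nat.card (w0 a t w))) := by
  classical
  have hS := hy.data.hR.setup
  have hD := hy.data
  set C := Subgroup.centralizer ({w} : Set G) with hC
  haveI := finite_omega hS
  letI : MulAction C {q : Ω // w • q = q} := MulAction.compHom _ (act (Ω := Ω) w)
  set a₀ : {q : Ω // w • q = q} := ⟨a, (w_fix hD).1⟩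
  have horb : MulAction.orbit C a₀ = Set.univ := Set.eq_univ_of_forall fun q => by
    obtain ⟨g, hg, hga⟩ := trans_from_a hD q.2
    exact ⟨⟨g, hg⟩, Subtype.ext hga⟩
  have h := Subgroup.index_mul_card (MulAction.stabilizer C a₀)
  rw [index_stabilizer, horb, Set.ncard_univ] at h
  rw [← h]
  congr 1
  rw [← mul_card_w0 hy, ← Nat.card_prod]
  refine (Nat.card_congr (Equiv.ofBijective
    (fun q : ↥(Q ⊓ C) × ↥(twoStab G a t ⊓ C) =>
      (⟨⟨(q.1 : G) * q.2, mul_mem q.1.2.2 q.2.2.2⟩, Subtype.ext (by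
        show ((q.1 : G) * q.2) • a = a
        rw [mul_smul, (Subgroup.mem_inf.1 (Subgroup.mem_inf.1 q.2.2).1).1, Q_fix_a hS q.1.2.1])⟩ :
        MulAction.stabilizer C a₀)) ⟨?_, ?_⟩)).symm
  · rintro ⟨q, d⟩ ⟨q', d'⟩ e
    obtain ⟨h1, h2⟩ := decomp_unique hS q.2.1 d.2.1 q'.2.1 d'.2.1
      (congrArg (fun x : MulAction.stabilizer C a₀ => ((x : C) : G)) e)
    exact Prod.ext (Subtype.ext h1) (Subtype.ext h2)
  · rintro ⟨⟨g, hg⟩, hga⟩
    have hga' : g • a = a := congrArg Subtype.val (mem_stabilizer_iff.1 hga)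
    obtain ⟨q, hq, d, hd, rfl⟩ := exists_decomp hS hga'
    have hw : w * (q * d) * w⁻¹ = q * d := by
      rw [← Subgroup.mem_centralizer_singleton_iff.1 hg]; group
    obtain ⟨h1, h2⟩ := decomp_unique hS (q := w * q * w⁻¹) (d := w * d * w⁻¹)
      (hS.conj_mem w (w_fix hD).1 q hq) (mul_mem (mul_mem (mem_D hD) hd) (inv_mem (mem_D hD)))
      hq hd (by rw [← hw]; group)
    exact ⟨(⟨q, hq, Subgroup.mem_centralizer_singleton_iff.2 (mul_inv_eq_iff_eq_mul.1 h1).symm⟩,
      ⟨d, hd, Subgroup.mem_centralizer_singleton_iff.2 (mul_inv_eq_iff_eq_mul.1 h2).symm⟩),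
      Subtype.ext (Subtype.ext rfl)⟩

/-- `w` fixes only `1` in `K`, so `|K| ≡ 1` modulo `p`. -/
lemma not_dvd_inverted : ¬ p ∣ Nat.card (Cfsg.invertedBy (twoStab G a t) t) := by
  classical
  haveI : Fact p.Prime := ⟨hy.prime⟩
  have hD := hy.data
  have htw : t * w = w * t := (wt hD).symm
  have hmem : ∀ (j : Subgroup.zpowers w) (k : Cfsg.invertedBy (twoStab G a t) t),
      (j : G) * k * (j : G)⁻¹ ∈ Cfsg.invertedBy (twoStab G a t) t := by
    rintro ⟨j, hj⟩ ⟨k, hk, hkt⟩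
    have hjD : j ∈ twoStab G a t := Subgroup.zpowers_le.2 (mem_D hD) hj
    obtain ⟨i, rfl⟩ := Subgroup.mem_zpowers_iff.1 hj
    refine ⟨mul_mem (mul_mem hjD hk) (inv_mem hjD), ?_⟩
    have hc : t * w ^ i = w ^ i * t := ((show Commute t w from htw).zpow_right i).eq
    calc t * (w ^ i * k * (w ^ i)⁻¹) * t⁻¹ = (t * w ^ i) * k * (t * w ^ i)⁻¹ := by group
      _ = w ^ i * (t * k * t⁻¹) * (w ^ i)⁻¹ := by rw [hc]; group
      _ = w ^ i * k⁻¹ * (w ^ i)⁻¹ := congrArg (fun z => w ^ i * z * (w ^ i)⁻¹) hkt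
      _ = (w ^ i * k * (w ^ i)⁻¹)⁻¹ := by group
  letI : MulAction (Subgroup.zpowers w) (Cfsg.invertedBy (twoStab G a t) t) :=
    { smul := fun j k => ⟨_, hmem j k⟩
      one_smul := fun k => Subtype.ext (by
        show (1 : G) * k * (1 : G)⁻¹ = k
        group)
      mul_smul := fun i j k => Subtype.ext (by
        show (i * j : G) * k * (i * j : G)⁻¹ = i * (j * k * (j : G)⁻¹) * (i : G)⁻¹
        group) }
  have hp : IsPGroup p (Subgroup.zpowers w) :=
    IsPGroup.of_card (n := 1) (by rw [Nat.card_zpowers, hy.ord, pow_one])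
  have h := hp.card_modEq_card_fixedPoints (α := Cfsg.invertedBy (twoStab G a t) t)
  have hsub : ∀ k : fixedPoints (Subgroup.zpowers w) (Cfsg.invertedBy (twoStab G a t) t),
      (k.1 : G) = 1 := fun k => by
    refine cent_K hD k.1.2 ?_
    have e : w * (k.1 : G) * w⁻¹ = k.1 := congrArg Subtype.val (k.2 ⟨w, Subgroup.mem_zpowers w⟩)
    exact (mul_inv_eq_iff_eq_mul.1 e).symm
  have hone : (⟨1, one_mem _, by simp⟩ : Cfsg.invertedBy (twoStab G a t) t) ∈
      fixedPoints (Subgroup.zpowers w) (Cfsg.invertedBy (twoStab G a t) t) := fun j =>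
    Subtype.ext (by show (j : G) * 1 * (j : G)⁻¹ = 1; group)
  have hfix : Nat.card (fixedPoints (Subgroup.zpowers w) (Cfsg.invertedBy (twoStab G a t) t)) = 1 :=
    Nat.card_eq_one_iff_unique.2
      ⟨⟨fun x y => Subtype.ext (Subtype.ext ((hsub x).trans (hsub y).symm))⟩, ⟨⟨_, hone⟩⟩⟩
  rw [hfix] at h
  intro hdvd
  rw [Nat.ModEq, Nat.mod_eq_zero_of_dvd hdvd, Nat.mod_eq_of_lt hy.prime.one_lt] at h
  · omega
  

end

end Cfsg.Agent.Suz27.NearFld
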