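import Cfsg.Agent.Suz27.NearFieldCore

/-!
An element of order `p` of `W₀` cannot fix a hyperplane of the plane on the fixed points of `v`
(NEAR-FIELD lemma).
-/

set_option autoImplicit false

namespace Cfsg.Agent.Suz27.NearFld

open MulAction RankOne
open RankOneK (wker)

universe u v

variable {G : Type u} {Ω : Type v} [Group G] [MulAction G Ω] {a : Ω} {t : G} {Q : Subgroup G}
  [Finite G] {w s r : G} {p f : ℕ} {M : Subgroup (Equiv.Perm {q : Ω // w • q = q})}

section
variable (hy : Hyp G Ω a t Q w s r p) (hP : IsPlane w s (s_mem_C hy.data) p f M)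
include hy hP

lemma card_cQ : Nat.card ↥(Q ⊓ Subgroup.centralizer ({w} : Set G)) + 1 = p ^ f := by
  rw [← card_fix hy.data, hP.card]

lemma f_pos : 1 ≤ f := by
  by_contra h
  have h1 := card_cQ hy hP
  have h2 := Nat.card_pos (α := ↥(Q ⊓ Subgroup.centralizer ({w} : Set G)))
  rw [show f = 0 by omega, pow_zero] at h1
  omega

lemma not_dvd_cQ : ¬ p ∣ Nat.card ↥(Q ⊓ Subgroup.centralizer ({w} : Set G)) := fun h => by
  have h1 : p ∣ Nat.card ↥(Q ⊓ Subgroup.centralizer ({w} : Set G)) + 1 := by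
    rw [card_cQ hy hP]; exact dvd_pow_self p (by have := f_pos hy hP; omega)
  exact hy.prime.ne_one (Nat.dvd_one.1 ((Nat.dvd_add_right h).1 h1))

lemma not_dvd_Q : ¬ p ∣ Nat.card Q := by
  rw [hy.nQ]; exact fun h => not_dvd_cQ hy hP (hy.prime.dvd_of_dvd_pow h)

/-- The points fixed by `u ∈ W₀`: `a` and the translates of `t • a` under `C_Q(w) ∩ C(u)`. -/
lemma card_fix_two {u : G} (hu : u ∈ w0 a t w) :
    Nat.card {q : {q : Ω // w • q = q} // u • (q : Ω) = q} =
      Nat.card ↥(Q ⊓ Subgroup.centralizer {w} ⊓ Subgroup.centralizer {u}) + 1 := by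
  classical
  have hS := hy.data.hR.setup
  haveI := finite_omega hS
  have huD := Subgroup.mem_inf.1 (Subgroup.mem_inf.1 (Subgroup.mem_inf.1 hu).1).1
  have hfx : ∀ x : ↥(Q ⊓ Subgroup.centralizer {w} ⊓ Subgroup.centralizer {u}),
      u • ((x : G) • t • a) = (x : G) • t • a := fun x => by
    rw [← mul_smul, ← Subgroup.mem_centralizer_singleton_iff.1 x.2.2, mul_smul, huD.2]
  let e : Option ↥(Q ⊓ Subgroup.centralizer {w} ⊓ Subgroup.centralizer {u}) →
      {q : {q : Ω // w • q = q} // u • (q : Ω) = q} := fun o => o.elim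
    ⟨⟨a, (w_fix hy.data).1⟩, huD.1⟩
    fun x => ⟨⟨(x : G) • t • a, (fix_smul_Q hy.data x.2.1.1).2 x.2.1⟩, hfx x⟩
  have he : Function.Bijective e := by
    constructor
    · rintro (_ | x) (_ | y) h
      · rfl
      · exact absurd (congrArg (fun z : {q : {q : Ω // w • q = q} // u • (q : Ω) = q} =>
          ((z : {q : Ω // w • q = q}) : Ω)) h).symm (smul_Q_ne hS y.2.1.1 (ta_ne hS))
      · exact absurd (congrArg (fun z : {q : {q : Ω // w • q = q} // u • (q : Ω) = q} =>
          ((z : {q : Ω // w • q = q}) : Ω)) h) (smul_Q_ne hS x.2.1.1 (ta_ne hS))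
      · exact congrArg some (Subtype.ext (regular_unique hS (ta_ne hS) x.2.1.1 y.2.1.1
          (congrArg (fun z : {q : {q : Ω // w • q = q} // u • (q : Ω) = q} =>
            ((z : {q : Ω // w • q = q}) : Ω)) h)))
    · rintro ⟨⟨q, hq⟩, hqu⟩
      by_cases hqa : q = a
      · exact ⟨none, Subtype.ext (Subtype.ext hqa.symm)⟩
      obtain ⟨x, hx, hxq⟩ := regular' hS hqa
      refine ⟨some ⟨x, (fix_smul_Q hy.data hx).1 (by rw [hxq]; exact hq), ?_⟩,
        Subtype.ext (Subtype.ext hxq)⟩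
      exact Q_comm_of_fixes hS (X := ({u} : Set G))
        (fun y hy' => by rw [Set.mem_singleton_iff.1 hy']; exact huD.1) (ta_ne hS)
        (fun y hy' => by rw [Set.mem_singleton_iff.1 hy']; exact huD.2)
        (fun y hy' => by rw [Set.mem_singleton_iff.1 hy', hxq]; exact hqu) hx rfl
  rw [← Nat.card_congr (Equiv.ofBijective e he), Finite.card_option]

/-- No element of order `p` of `W₀` centralises a hyperplane of `M`. -/
theorem no_hyperplane {u : G} (hu : u ∈ w0 a t w) (hu1 : u ≠ 1) (hup : u ^ p = 1)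
    (hbig : p ^ (f - 1) ≤ Nat.card ↥(M ⊓ Subgroup.centralizer
      ({act (Ω := Ω) w ⟨u, (Subgroup.mem_inf.1 hu).2⟩} : Set (Equiv.Perm _)))) : False := by
  classical
  have hS := hy.data.hR.setup
  haveI := finite_omega hS
  haveI : Fact p.Prime := ⟨hy.prime⟩
  haveI : Fact (Nat.Prime 2) := ⟨Nat.prime_two⟩
  set U := act (Ω := Ω) w ⟨u, (Subgroup.mem_inf.1 hu).2⟩ with hUdef
  set M' := M ⊓ Subgroup.centralizer ({U} : Set (Equiv.Perm _)) with hM'
  set cQ := Q ⊓ Subgroup.centralizer ({w} : Set G) with hcQ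
  set R := cQ ⊓ Subgroup.centralizer ({u} : Set G) with hRdef
  set a₀ : {q : Ω // w • q = q} := ⟨a, (w_fix hy.data).1⟩
  have huW := (Subgroup.mem_inf.1 hu).1
  have huD := Subgroup.mem_inf.1 (Subgroup.mem_inf.1 huW).1
  have hUa : U a₀ = a₀ := Subtype.ext huD.1
  -- the fixed points correspond to `M'`
  have hM'card : Nat.card M' = Nat.card R + 1 := by
    rw [hRdef, ← card_fix_two hy hP hu]
    have hcommU : ∀ X : M', U ((X : Equiv.Perm _) a₀) = (X : Equiv.Perm _) a₀ := fun X => by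
      rw [← Equiv.Perm.mul_apply, ← Subgroup.mem_centralizer_singleton_iff.1 X.2.2,
        Equiv.Perm.mul_apply, hUa]
    refine Nat.card_congr (Equiv.ofBijective
      (fun X : M' => (⟨(X : Equiv.Perm {q : Ω // w • q = q}) a₀, congrArg Subtype.val (hcommU X)⟩ :
        {q : {q : Ω // w • q = q} // u • (q : Ω) = q})) ⟨?_, ?_⟩)
    · intro X Y h
      have h' : (X : Equiv.Perm _) a₀ = (Y : Equiv.Perm _) a₀ := congrArg Subtype.val h
      refine Subtype.ext (inv_mul_eq_one.1 (hP.free _ (mul_mem (inv_mem X.2.1) Y.2.1) a₀ ?_))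
      rw [Equiv.Perm.mul_apply]
      exact Equiv.Perm.inv_eq_iff_eq.2 h'.symm
    · rintro ⟨q, hq⟩
      obtain ⟨X, hX, rfl⟩ := hP.trans a₀ q
      refine ⟨⟨X, hX, Subgroup.mem_centralizer_singleton_iff.2 ?_⟩, rfl⟩
      have hX' : U * X * U⁻¹ ∈ M := hP.normal _ X hX
      have e : U * X * U⁻¹ = X := by
        refine (inv_mul_eq_one.1 (hP.free _ (mul_mem (inv_mem hX) hX') a₀ ?_)).symm
        rw [Equiv.Perm.mul_apply, Equiv.Perm.mul_apply, Equiv.Perm.mul_apply,
          Equiv.Perm.inv_eq_iff_eq.2 hUa.symm, Equiv.Perm.inv_eq_iff_eq]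
        exact Subtype.ext hq
      exact (mul_inv_eq_iff_eq_mul.1 e).symm
  have hMp : IsPGroup p M := IsPGroup.of_card (n := f) hP.card_sub
  have hM'le : M' ≤ M := inf_le_left
  obtain ⟨d, hd⟩ := IsPGroup.iff_card.1 (hMp.to_le hM'le)
  have hdf : d < f := by
    have h1 : p ^ d ≤ p ^ f := by
      rw [← hd, ← hP.card_sub]
      exact Subgroup.card_le_of_le hM'le
    refine lt_of_le_of_ne ((Nat.pow_le_pow_iff_right hy.prime.one_lt).1 h1) fun e => hu1 ?_
    have hMM : M' = M := Subgroup.eq_of_le_of_card_ge hM'le (by rw [hd, hP.card_sub, e])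
    refine wker_eq_one hy huW fun q hq => ?_
    obtain ⟨X, hX, hXq⟩ := hP.trans a₀ ⟨q, hq⟩
    have hXc : X * U = U * X :=
      Subgroup.mem_centralizer_singleton_iff.1 (hMM.ge hX).2
    have e2 : U ⟨q, hq⟩ = ⟨q, hq⟩ := by
      rw [← hXq, ← Equiv.Perm.mul_apply, ← hXc, Equiv.Perm.mul_apply, hUa]
    exact congrArg Subtype.val e2
  have hfd : f - 1 = d := by
    rw [hd] at hbig
    have := (Nat.pow_le_pow_iff_right hy.prime.one_lt).1 hbig
    omega
  have hc : Nat.card R + 1 = p ^ (f - 1) := by rw [← hM'card, hfd, hd]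
  -- `R` is a 2-group containing `s`
  have hR2 : IsPGroup 2 R :=
    (hasType_wker hy.data.hR hy.types huW hu1).1.to_le fun x hx =>
      Subgroup.mem_inf.2 ⟨hx.1.1, hx.2⟩
  obtain ⟨j, hj⟩ := IsPGroup.iff_card.1 hR2
  have hRle : R ≤ cQ := inf_le_left
  have hceven : Even (Nat.card R) := by
    have h : orderOf s = 2 := orderOf_eq_prime (by rw [pow_two, hy.data.sMem.2.2]) hy.data.sMem.2.1
    rw [even_iff_two_dvd, ← h]
    exact Subgroup.orderOf_dvd_natCard _ ⟨⟨s_mem_Q hy.data,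
      Subgroup.mem_centralizer_singleton_iff.2 (ws hy.data).symm⟩,
      Subgroup.mem_centralizer_singleton_iff.2
        (wker_comm_sq_one hy.data.hR huW (s_mem_Q hy.data) hy.data.sMem.2.2)⟩
  -- the Sylow 2-subgroup of `C_Q(w)`, with `u` acting on it
  haveI := isNilpotent_Q hS hy.data.hR.rank2
  haveI : Group.IsNilpotent cQ :=
    Subgroup.isNilpotent_of_ker_le_center (Subgroup.inclusion (inf_le_left : cQ ≤ Q))
      (by rw [(MonoidHom.ker_eq_bot_iff _).2 (Subgroup.inclusion_injective _)]; exact bot_le)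
  obtain ⟨S⟩ : Nonempty (Sylow 2 cQ) := inferInstance
  haveI : (S : Subgroup cQ).Normal :=
    S.normal_of_normalizerCondition Group.normalizerCondition_of_isNilpotent
  haveI := Sylow.unique_of_normal S inferInstance
  have hmemS : ∀ x : cQ, (∃ k : ℕ, x ^ 2 ^ k = 1) → x ∈ (S : Subgroup cQ) := by
    rintro x ⟨k, hk⟩
    have hx : IsPGroup 2 (Subgroup.zpowers x) := by
      rintro ⟨y, hy'⟩
      obtain ⟨i, rfl⟩ := Subgroup.mem_zpowers_iff.1 hy'
      exact ⟨k, Subtype.ext (by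
        push_cast
        rw [← zpow_natCast, ← zpow_mul, mul_comm, zpow_mul, zpow_natCast, hk, one_zpow])⟩
    obtain ⟨P, hP'⟩ := hx.exists_le_sylow
    rw [Subsingleton.elim S P]
    exact hP' (Subgroup.mem_zpowers x)
  have hpowS : ∀ x ∈ (S : Subgroup cQ), ∃ k : ℕ, x ^ 2 ^ k = 1 := fun x hx => by
    obtain ⟨k, hk⟩ := S.2 ⟨x, hx⟩
    exact ⟨k, congrArg Subtype.val hk⟩
  set A := Subgroup.zpowers u with hA
  have hAp : IsPGroup p A :=
    IsPGroup.of_card (n := 1) (by rw [Nat.card_zpowers, pow_one, orderOf_eq_prime hup hu1])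
  have hconj : ∀ (i : A) (x : cQ), (i : G) * x * (i : G)⁻¹ ∈ cQ := by
    rintro ⟨i, hi⟩ x
    have hia : i ∈ stabilizer G a := Subgroup.zpowers_le.2 huD.1 hi
    have hiw : i ∈ Subgroup.centralizer ({w} : Set G) :=
      Subgroup.zpowers_le.2 (Subgroup.mem_inf.1 hu).2 hi
    exact Subgroup.mem_inf.2
      ⟨hS.conj_mem i hia x x.2.1, mul_mem (mul_mem hiw x.2.2) (inv_mem hiw)⟩
  have hconjS : ∀ (i : A) (x : (S : Subgroup cQ)),
      (⟨_, hconj i x.1⟩ : cQ) ∈ (S : Subgroup cQ) := fun i x => by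
    obtain ⟨k, hk⟩ := hpowS x.1 x.2
    refine hmemS _ ⟨k, Subtype.ext ?_⟩
    rw [SubmonoidClass.coe_pow]
    show ((i : G) * ((x : cQ) : G) * (i : G)⁻¹) ^ 2 ^ k = 1
    rw [conj_pow, show ((x : cQ) : G) ^ 2 ^ k = 1 by simpa using congrArg Subtype.val hk]
    group
  letI : MulAction A (S : Subgroup cQ) :=
    { smul := fun i x => ⟨_, hconjS i x⟩
      one_smul := fun x => Subtype.ext (Subtype.ext (by
        show (1 : G) * ((x : cQ) : G) * (1 : G)⁻¹ = _
        group))
      mul_smul := fun i k x => Subtype.ext (Subtype.ext (by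
        show (i * k : G) * ((x : cQ) : G) * (i * k : G)⁻¹ = i * (k * ((x : cQ) : G) * (k : G)⁻¹) * (i : G)⁻¹
        group)) }
  have hmod := hAp.card_modEq_card_fixedPoints (α := (S : Subgroup cQ))
  have hfixc : Nat.card (fixedPoints A (S : Subgroup cQ)) = Nat.card R := by
    refine Nat.card_congr (Equiv.ofBijective (fun x => (⟨((x.1 : cQ) : G), ⟨x.1.1.2,
      Subgroup.mem_centralizer_singleton_iff.2 ?_⟩⟩ : R)) ⟨?_, ?_⟩)
    · have e : u * ((x.1 : cQ) : G) * u⁻¹ = ((x.1 : cQ) : G) :=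
        congrArg (fun z : (S : Subgroup cQ) => ((z : cQ) : G)) (x.2 ⟨u, Subgroup.mem_zpowers u⟩)
      exact (mul_inv_eq_iff_eq_mul.1 e).symm
    · intro x y h
      exact Subtype.ext (Subtype.ext (Subtype.ext (congrArg (fun z : R => (z : G)) h)))
    · rintro ⟨x, hx⟩
      obtain ⟨k, hk⟩ := hR2 ⟨x, hx⟩
      have hxS : (⟨x, hRle hx⟩ : cQ) ∈ (S : Subgroup cQ) := hmemS _ ⟨k, Subtype.ext (by
        simpa using congrArg Subtype.val hk)⟩
      refine ⟨⟨⟨⟨x, hRle hx⟩, hxS⟩, fun i => Subtype.ext (Subtype.ext ?_)⟩, rfl⟩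
      show (i : G) * x * (i : G)⁻¹ = x
      have hxu : x ∈ Subgroup.centralizer ({u} : Set G) := hx.2
      have hi : (i : G) ∈ Subgroup.centralizer ({x} : Set G) :=
        Subgroup.zpowers_le.2 (Subgroup.mem_centralizer_singleton_iff.2
          (Subgroup.mem_centralizer_singleton_iff.1 hxu).symm) i.2
      rw [Subgroup.mem_centralizer_singleton_iff.1 hi, mul_inv_cancel_right]
  rw [hfixc] at hmod
  have hpne : p ≠ 2 := fun h => by
    have := p_odd hy
    rw [h] at this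
    exact absurd this (by decide)
  obtain ⟨i, hi⟩ := IsPGroup.iff_card.1 S.2
  have hSfac : i = (Nat.card cQ).factorization 2 :=
    Nat.pow_right_injective le_rfl (hi.symm.trans S.card_eq_multiplicity)
  have h8 : Nat.card cQ = 8 := fix_numeric hy.prime hpne (card_cQ hy hP) hc ⟨j, hj⟩
    (Subgroup.card_dvd_of_le hRle) hceven ⟨i, hi⟩ (S : Subgroup cQ).card_subgroup_dvd_card
    (by rw [hi, ← pow_succ', hSfac]
        exact Nat.pow_succ_factorization_not_dvd Nat.card_pos.ne' Nat.prime_two) hmod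
  exact hy.notTwo (IsPGroup.of_card (n := 3) h8)

end

end Cfsg.Agent.Suz27.NearFld
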