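import Cfsg.Agent.Suz27.NearFieldFix
import Cfsg.Agent.Lib.Frobenius.Complement
import Cfsg.Agent.S1134

/-!
Fusion of `v` inside the abelian regular subgroup of `C(v)` in `G`: the plane on the fixed points of
`v` has dimension one (NEAR-FIELD lemma).
-/

set_option autoImplicit false
set_option maxHeartbeats 800000

namespace Cfsg.Agent.Suz27.NearFld

open MulAction RankOne
open RankOneK (wker)

universe u v

variable {G : Type u} {Ω : Type v} [Group G] [MulAction G Ω] {a : Ω} {t : G} {Q : Subgroup G}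
  [Finite G] {w s r : G} {p f : ℕ} {M : Subgroup (Equiv.Perm {q : Ω // w • q = q})}

section
variable (hy : Hyp G Ω a t Q w s r p) (hP : IsPlane w s (s_mem_C hy.data) p f M)
include hy hP

lemma factorization_cent :
    (Nat.card (Subgroup.centralizer ({w} : Set G))).factorization p =
      f + 1 + (Nat.card (w0 a t w)).factorization p := by
  have hp := hy.prime
  have h1 : Nat.card ↥(Q ⊓ Subgroup.centralizer ({w} : Set G)) ≠ 0 := Nat.card_pos.ne'
  have h2 : Nat.card (w0 a t w) ≠ 0 := Nat.card_pos.ne'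
  rw [card_cent hy, hP.card,
    Nat.factorization_mul (pow_ne_zero _ hp.ne_zero) (mul_ne_zero h1 (mul_ne_zero hp.ne_zero h2)),
    Nat.factorization_mul h1 (mul_ne_zero hp.ne_zero h2), Nat.factorization_mul hp.ne_zero h2]
  simp only [Finsupp.add_apply]
  rw [hp.factorization_pow, Finsupp.single_eq_same, hp.factorization_self,
    Nat.factorization_eq_zero_of_not_dvd (not_dvd_cQ hy hP)]
  omega

lemma factorization_group :
    (Nat.card G).factorization p = f + 2 + (Nat.card (wker G a t)).factorization p := by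
  have hp := hy.prime
  have hS := hy.data.hR.setup
  obtain ⟨k, hk, hkp⟩ := pow_sub_one_pow_add_one hp (p_odd hy) (f_pos hy hP)
  have hQ : Nat.card Q + 1 = p ^ (f + 1) * k := by
    rw [hy.nQ, ← hk, ← card_cQ hy hP, Nat.add_sub_cancel]
  have hk0 : k ≠ 0 := fun h => hkp (h ▸ dvd_zero p)
  have hW0 : Nat.card (wker G a t) ≠ 0 := Nat.card_pos.ne'
  have hK0 : Nat.card (Cfsg.invertedBy (twoStab G a t) t) ≠ 0 := by
    intro h
    have := not_dvd_inverted hy
    rw [h] at this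
    exact this (dvd_zero p)
  rw [card_group hS, hQ, card_twoStab hS,
    show Nat.card (twoStab G a t ⊓ Subgroup.centralizer {t} : Subgroup G) =
      p * Nat.card (wker G a t) from card_vGrp hy]
  have hQ0 : Nat.card Q ≠ 0 := Nat.card_pos.ne'
  have hpW := mul_ne_zero hp.ne_zero hW0
  rw [Nat.factorization_mul (mul_ne_zero hQ0 (mul_ne_zero hpW hK0))
      (mul_ne_zero (pow_ne_zero _ hp.ne_zero) hk0),
    Nat.factorization_mul hQ0 (mul_ne_zero hpW hK0), Nat.factorization_mul hpW hK0,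
    Nat.factorization_mul hp.ne_zero hW0, Nat.factorization_mul (pow_ne_zero _ hp.ne_zero) hk0]
  simp only [Finsupp.add_apply]
  rw [hp.factorization_pow, Finsupp.single_eq_same, hp.factorization_self,
    Nat.factorization_eq_zero_of_not_dvd (not_dvd_Q hy hP),
    Nat.factorization_eq_zero_of_not_dvd (not_dvd_inverted hy),
    Nat.factorization_eq_zero_of_not_dvd hkp]
  omega

omit hP in
/-- `W` acts without fixed points on a non-trivial subgroup of odd order of `Q`. -/
lemma exists_fpf : ∃ V : Subgroup G, V ≠ ⊥ ∧ Frobenius.IsFPF (wker G a t) V := by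
  classical
  haveI : Fact p.Prime := ⟨hy.prime⟩
  have hS := hy.data.hR.setup
  haveI := isNilpotent_Q hS hy.data.hR.rank2
  -- an odd Sylow subgroup of `Q`
  obtain ⟨l, hl, hl2, hld⟩ : ∃ l : ℕ, l.Prime ∧ l ≠ 2 ∧ l ∣ Nat.card Q := by
    by_contra h
    push Not at h
    refine hy.notTwo (IsPGroup.to_le ?_ inf_le_left)
    refine IsPGroup.of_card (n := (Nat.card Q).primeFactorsList.length) ?_
    refine Nat.eq_prime_pow_of_unique_prime_dvd Nat.card_pos.ne' fun {d} hd hdd => ?_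
    by_contra hd2
    exact h d hd hd2 hdd
  haveI : Fact l.Prime := ⟨hl⟩
  obtain ⟨S⟩ : Nonempty (Sylow l Q) := inferInstance
  haveI : (S : Subgroup Q).Normal :=
    S.normal_of_normalizerCondition Group.normalizerCondition_of_isNilpotent
  haveI := Sylow.unique_of_normal S inferInstance
  set V := (S : Subgroup Q).map Q.subtype with hV
  have hVne : V ≠ ⊥ := by
    intro h
    rw [hV, Subgroup.map_eq_bot_iff_of_injective _ Q.subtype_injective] at h
    exact Sylow.ne_bot_of_dvd_card S hld h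
  have hin : ∀ d : G, d ∈ wker G a t → ∀ v' ∈ V, d * v' * d⁻¹ ∈ V := by
    rintro d hd _ ⟨z, hz, rfl⟩
    have hm : d * (z : G) * d⁻¹ ∈ Q :=
      hS.conj_mem d (Subgroup.mem_inf.1 (Subgroup.mem_inf.1 hd).1).1 z z.2
    obtain ⟨k, hk⟩ := S.2 ⟨z, hz⟩
    have hzl : (⟨_, hm⟩ : Q) ^ l ^ k = 1 := Subtype.ext (by
      rw [SubmonoidClass.coe_pow]
      show (d * (z : G) * d⁻¹) ^ l ^ k = 1
      have h0 : (z : G) ^ l ^ k = 1 := by
        simpa using congrArg (fun q : (S : Subgroup Q) => ((q : Q) : G)) hk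
      rw [conj_pow, h0, mul_one, mul_inv_cancel])
    have hp' : IsPGroup l (Subgroup.zpowers (⟨_, hm⟩ : Q)) := by
      rintro ⟨y', hy''⟩
      obtain ⟨i, rfl⟩ := Subgroup.mem_zpowers_iff.1 hy''
      exact ⟨k, Subtype.ext (by
        rw [SubmonoidClass.coe_pow, ← zpow_natCast, ← zpow_mul, mul_comm, zpow_mul, zpow_natCast,
          hzl, one_zpow]
        rfl)⟩
    obtain ⟨P, hP'⟩ := hp'.exists_le_sylow
    exact ⟨⟨_, hm⟩, (Subsingleton.elim S P) ▸ hP' (Subgroup.mem_zpowers _), rfl⟩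
  have hfpf : Frobenius.IsFPF (wker G a t) V := by
    refine ⟨fun d hd => ?_, fun d hd hd1 => ?_⟩
    · rw [Subgroup.mem_normalizer_iff]
      intro v'
      exact ⟨hin d hd v', fun h => by
        simpa [mul_assoc] using hin d⁻¹ (inv_mem hd) _ h⟩
    · rw [eq_bot_iff]
      rintro v' ⟨hv', hc⟩
      rw [Subgroup.mem_bot]
      obtain ⟨z, hz, rfl⟩ := hv'
      have h2 := (hasType_wker hy.data.hR hy.types hd hd1).1 ⟨(z : G), ⟨z.2, hc⟩⟩
      obtain ⟨i, hi⟩ := h2
      obtain ⟨k, hk⟩ := S.2 ⟨z, hz⟩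
      have e1 : orderOf (z : G) ∣ 2 ^ i := orderOf_dvd_of_pow_eq_one (by
        simpa using congrArg Subtype.val hi)
      have e2 : orderOf (z : G) ∣ l ^ k := orderOf_dvd_of_pow_eq_one (by
        simpa using congrArg (fun q : (S : Subgroup Q) => ((q : Q) : G)) hk)
      have hcop : Nat.Coprime (2 ^ i) (l ^ k) :=
        Nat.Coprime.pow i k ((Nat.coprime_primes Nat.prime_two hl).2 (Ne.symm hl2))
      exact orderOf_eq_one_iff.1 (Nat.eq_one_of_dvd_coprimes hcop e1 e2)
  exact ⟨V, hVne, hfpf⟩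

omit hP in
/-- Commuting elements of order `p` of `W` generate the same subgroup. -/
lemma wker_zpowers {x y : G} (hx : x ∈ wker G a t) (hx1 : x ≠ 1) (hxp : x ^ p = 1)
    (hy' : y ∈ wker G a t) (hyp : y ^ p = 1) (hxy : Commute x y) : y ∈ Subgroup.zpowers x := by
  haveI : Fact p.Prime := ⟨hy.prime⟩
  obtain ⟨V, hVne, hfpf⟩ := exists_fpf hy
  exact hfpf.mem_zpowers_of_commute hVne hx hy' (orderOf_eq_prime hxp hx1) hyp hxy

omit hP in
/-- A `p`-subgroup of `W` is cyclic. -/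
lemma isCyclic_pSubgroup {T : Subgroup G} (hT : T ≤ wker G a t) (hTp : IsPGroup p T) :
    IsCyclic T := by
  haveI : Fact p.Prime := ⟨hy.prime⟩
  obtain ⟨V, hVne, hfpf⟩ := exists_fpf hy
  rcases S0016.result (G := T) p hTp ((hfpf.mono_left hT).eq_of_card_prime hVne hTp) with
    hc | ⟨h2, -⟩
  · exact hc
  · have := p_odd hy
    rw [h2] at this
    exact absurd this (by decide)

/-- The plane has dimension one. -/
theorem f_eq_one : f = 1 := by
  classical
  have hp := hy.prime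
  have hD := hy.data
  have hS := hD.hR.setup
  haveI : Fact p.Prime := ⟨hp⟩
  haveI := finite_omega hS
  haveI := hD.hR.faithful
  have hpodd := p_odd hy
  by_contra hf1
  have hf : 2 ≤ f := by have := f_pos hy hP; omega
  set C := Subgroup.centralizer ({w} : Set G) with hC
  set π := act (Ω := Ω) w with hπ
  set a₀ : {q : Ω // w • q = q} := ⟨a, (w_fix hD).1⟩ with ha₀
  set b₀ : {q : Ω // w • q = q} := ⟨t • a, (w_fix hD).2⟩ with hb₀
  have hwC : ∀ j : ℤ, w ^ j ∈ C := fun j =>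
    zpow_mem (Subgroup.mem_centralizer_singleton_iff.2 rfl) j
  have hw0C : ∀ {x : G}, x ∈ w0 a t w → x ∈ C := fun hx => (Subgroup.mem_inf.1 hx).2
  have hinj : ∀ {x : G} (hx : x ∈ w0 a t w), π ⟨x, hw0C hx⟩ = 1 → x = 1 := fun {x} hx h =>
    wker_eq_one hy (Subgroup.mem_inf.1 hx).1 fun q hq =>
      congrArg (fun e => ((e ⟨q, hq⟩ : {q : Ω // w • q = q}) : Ω)) h
  have hker : ∀ c : C, π c = 1 → ∃ j : ℤ, (c : G) = w ^ j := fun c hc => by
    obtain ⟨j, hj⟩ := Subgroup.mem_zpowers_iff.1 (act_eq_one hy hc)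
    exact ⟨j, hj.symm⟩
  have hπw : ∀ j : ℤ, π ⟨w ^ j, hwC j⟩ = 1 := fun j => act_w_zpow hy j (hwC j)
  -- the subgroup `N`
  set N : Subgroup C := M.comap π with hNdef
  haveI hNn : N.Normal := ⟨fun x hx c => by
    show π (c * x * c⁻¹) ∈ M
    rw [map_mul, map_mul, map_inv]
    exact hP.normal c _ hx⟩
  have hwN : ∀ j : ℤ, (⟨w ^ j, hwC j⟩ : C) ∈ N := fun j => by
    show π _ ∈ M
    rw [hπw j]; exact one_mem M
  have hkerle : π.ker ≤ N := fun x hx => by
    show π x ∈ M
    rw [MonoidHom.mem_ker.1 hx]; exact one_mem M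
  have hkercard : Nat.card π.ker = p := by
    rw [← hy.ord, ← Nat.card_zpowers]
    refine Nat.card_congr (Equiv.ofBijective
      (fun x : π.ker => (⟨((x : C) : G), act_eq_one hy (MonoidHom.mem_ker.1 x.2)⟩ :
        Subgroup.zpowers w)) ⟨?_, ?_⟩)
    · intro x y h
      exact Subtype.ext (Subtype.ext (congrArg (fun z : Subgroup.zpowers w => (z : G)) h))
    · rintro ⟨x, hx⟩
      obtain ⟨j, rfl⟩ := Subgroup.mem_zpowers_iff.1 hx
      exact ⟨⟨⟨_, hwC j⟩, MonoidHom.mem_ker.2 (hπw j)⟩, rfl⟩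
  have hNcard : Nat.card N = p ^ (f + 1) := by
    have h := Subgroup.card_mul_index ((π.comp N.subtype).ker)
    rw [Subgroup.index_ker] at h
    have h1 : (π.comp N.subtype).range = M := by
      refine le_antisymm ?_ fun X hX => ?_
      · rintro _ ⟨x, rfl⟩; exact x.2
      · obtain ⟨x, hx⟩ := hP.le hX
        exact ⟨⟨x, by show π x ∈ M; rw [hx]; exact hX⟩, hx⟩
    have h2 : Nat.card (π.comp N.subtype).ker = p := by
      rw [← hkercard]
      exact Nat.card_congr
        { toFun := fun x => ⟨(x.1 : C), x.2⟩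
          invFun := fun x => ⟨⟨x.1, hkerle x.2⟩, x.2⟩
          left_inv := fun _ => rfl
          right_inv := fun _ => rfl }
    rw [h1, h2, hP.card_sub] at h
    rw [← h, pow_succ, mul_comm]
  have hNp : IsPGroup p N := IsPGroup.of_card hNcard
  obtain ⟨P₁, hNP⟩ := hNp.exists_le_sylow
  set P₁G := (P₁ : Subgroup C).map C.subtype with hP₁G
  have hP₁card : Nat.card P₁G = p ^ (f + 1 + (Nat.card (w0 a t w)).factorization p) := by
    rw [hP₁G, Subgroup.card_map_of_injective C.subtype_injective, P₁.card_eq_multiplicity,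
      factorization_cent hy hP]
  have hP₁p : IsPGroup p P₁G := P₁.2.map _
  obtain ⟨P, hP₁P⟩ := hP₁p.exists_le_sylow
  have hw0le : (Nat.card (w0 a t w)).factorization p ≤ (Nat.card (wker G a t)).factorization p :=
    (Nat.factorization_le_iff_dvd Nat.card_pos.ne' Nat.card_pos.ne').2
      (Subgroup.card_dvd_of_le inf_le_left) p
  -- an element of `P` normalising `P₁G`
  obtain ⟨g, hgP, hgn, hgnot⟩ : ∃ g ∈ (P : Subgroup G), g ∈ Subgroup.normalizer (P₁G : Set G) ∧
      g ∉ P₁G := by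
    haveI := P.2.isNilpotent
    have hlt : P₁G.subgroupOf (P : Subgroup G) < ⊤ := by
      rw [lt_top_iff_ne_top]
      intro h
      rw [Subgroup.subgroupOf_eq_top] at h
      have he := congrArg (fun X : Subgroup G => Nat.card X) (le_antisymm hP₁P h)
      simp only [hP₁card, P.card_eq_multiplicity, factorization_group hy hP] at he
      have := Nat.pow_right_injective hp.two_le he
      omega
    obtain ⟨-, ⟨g, hgP⟩, hgn, hgnot⟩ :=
      SetLike.lt_iff_le_and_exists.1 (Group.normalizerCondition_of_isNilpotent _ hlt)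
    refine ⟨g, hgP, ?_, fun h => hgnot h⟩
    rw [Subgroup.mem_normalizer_iff] at hgn ⊢
    intro x
    constructor
    · intro hx
      exact (hgn ⟨x, hP₁P hx⟩).1 hx
    · intro hx
      have hxP : x ∈ (P : Subgroup G) := by
        have := mul_mem (mul_mem (inv_mem hgP) (hP₁P hx)) hgP
        simpa [mul_assoc] using this
      exact (hgn ⟨x, hxP⟩).2 hx
  have hwP₁ : w ∈ P₁G := ⟨⟨w ^ (1 : ℤ), hwC 1⟩, hNP (hwN 1), zpow_one w⟩
  have hP₁C : P₁G ≤ C := by rintro _ ⟨x, -, rfl⟩; exact x.2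
  have hnot_C : g ∉ C := by
    intro hgC
    have hPC : IsPGroup p ↥((P : Subgroup G).subgroupOf C) :=
      P.2.comap_of_injective _ C.subtype_injective
    have hle : (P₁ : Subgroup C) ≤ (P : Subgroup G).subgroupOf C := fun x hx => hP₁P ⟨x, hx, rfl⟩
    have hmem : (⟨g, hgC⟩ : C) ∈ (P : Subgroup G).subgroupOf C := hgP
    rw [P₁.3 hPC hle] at hmem
    exact hgnot ⟨_, hmem, rfl⟩
  -- facts about elements of `N`
  have hNfix : ∀ x ∈ N, π x a₀ = a₀ → π x = 1 := fun x hx h => hP.free _ hx a₀ h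
  have hsC := s_mem_C hD
  set S : C := ⟨s, hsC⟩ with hSdef
  have hNinv : ∀ x ∈ N, π (S * x * S⁻¹ * x) = 1 := fun x hx => by
    rw [map_mul, map_mul, map_mul, map_inv, hP.inv _ hx, inv_mul_cancel]
  have hNpow : ∀ x ∈ N, x ^ p = 1 := by
    intro x hx
    obtain ⟨i, hi⟩ := hker (x ^ p) (by rw [map_pow]; exact hP.pow _ hx)
    obtain ⟨j, hj⟩ := hker _ (hNinv x hx)
    have e1 : s * (x : G) * s⁻¹ = w ^ j * (x : G)⁻¹ := by
      rw [← hj]
      show s * (x : G) * s⁻¹ = s * x * s⁻¹ * x * (x : G)⁻¹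
      group
    have hxc : Commute (w ^ j) (x : G) := by
      have h1 : Commute w (x : G) := (Subgroup.mem_centralizer_singleton_iff.1 x.2).symm
      exact h1.zpow_left j
    have hxpG : (x : G) ^ p = w ^ i := by rw [← hi]; simp
    have e2 : (x : G) ^ p = ((x : G) ^ p)⁻¹ := by
      calc (x : G) ^ p = s * (x : G) ^ p * s⁻¹ := by
            rw [hxpG, ← ((show Commute w s from ws hD).zpow_left i).eq, mul_inv_cancel_right]
        _ = (w ^ j * (x : G)⁻¹) ^ p := by rw [← conj_pow, e1]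
        _ = ((x : G) ^ p)⁻¹ := by
          rw [hxc.inv_right.mul_pow, ← zpow_natCast (w ^ j), ← zpow_mul, mul_comm, zpow_mul,
            zpow_natCast, w_pow hy, one_zpow, one_mul, inv_pow]
    refine Subtype.ext ?_
    rw [SubmonoidClass.coe_pow]
    refine eq_one_of_mul_self ?_ (eq_inv_iff_mul_eq_one.1 e2)
    obtain ⟨k, hk⟩ := hNp ⟨x, hx⟩
    refine (hpodd.pow (n := k)).of_dvd_nat (orderOf_dvd_of_pow_eq_one ?_)
    rw [← pow_mul, mul_comm, pow_mul,
      show (x : G) ^ p ^ k = 1 by simpa using congrArg (fun z : N => ((z : C) : G)) hk, one_pow]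
  -- an element of order `p` of the centre of `P₁G` outside `⟨w⟩`
  obtain ⟨z, hzP, hzc, hzp, hzw⟩ : ∃ z : C, z ∈ (P₁ : Subgroup C) ∧
      (∀ x ∈ (P₁ : Subgroup C), x * z = z * x) ∧ z ^ p = 1 ∧ (z : G) ∉ Subgroup.zpowers w := by
    by_contra hno
    push Not at hno
    set y := g * w * g⁻¹ with hydef
    have hyP : y ∈ P₁G := (Subgroup.mem_normalizer_iff.1 hgn w).1 hwP₁
    obtain ⟨z, hz, hzy⟩ := hyP
    have hzy' : (z : G) = y := hzy
    have hzc : ∀ x ∈ (P₁ : Subgroup C), x * z = z * x := by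
      intro x hx
      have hx' : g⁻¹ * (x : G) * g ∈ P₁G := by
        refine (Subgroup.mem_normalizer_iff.1 hgn _).2 ?_
        rw [show g * (g⁻¹ * (x : G) * g) * g⁻¹ = x by group]
        exact ⟨x, hx, rfl⟩
      obtain ⟨x', hx'', hxe⟩ := hx'
      have hxe' : (x' : G) = g⁻¹ * (x : G) * g := hxe
      have hc := Subgroup.mem_centralizer_singleton_iff.1 x'.2
      refine Subtype.ext ?_
      show (x : G) * z = z * x
      rw [hzy', hydef]
      calc (x : G) * (g * w * g⁻¹) = g * ((x' : G) * w) * g⁻¹ := by rw [hxe']; group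
        _ = g * (w * x') * g⁻¹ := by rw [hc]
        _ = _ := by rw [hxe']; group
    have hyp : y ^ p = 1 := by rw [hydef, conj_pow, w_pow hy]; group
    have hzmem := hno z hz hzc (Subtype.ext (by simp [hzy', hyp]))
    rw [hzy'] at hzmem
    obtain ⟨i, hi⟩ := (Submonoid.mem_powers_iff _ _).1
      (mem_powers_iff_mem_zpowers.2 hzmem)
    have hit : ∀ k : ℕ, g ^ k * w * (g ^ k)⁻¹ = w ^ i ^ k := by
      intro k
      induction k with
      | zero => simp
      | succ k ih =>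
        calc g ^ (k + 1) * w * (g ^ (k + 1))⁻¹ = g * (g ^ k * w * (g ^ k)⁻¹) * g⁻¹ := by
              rw [pow_succ']; group
          _ = _ := by rw [ih, ← conj_pow, ← hydef, ← hi, ← pow_mul, pow_succ']
    obtain ⟨k, hk⟩ := P.2 ⟨g, hgP⟩
    have h1 := hit (p ^ k)
    rw [show g ^ p ^ k = 1 by simpa using congrArg Subtype.val hk, one_mul, inv_one, mul_one] at h1
    conv_lhs at h1 => rw [← pow_one w]
    rw [pow_eq_pow_iff_modEq, hy.ord, ← ZMod.natCast_eq_natCast_iff] at h1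
    push_cast at h1
    rw [ZMod.pow_card_pow] at h1
    have h2 : (i : ℕ) ≡ 1 [MOD p] := by
      rw [← ZMod.natCast_eq_natCast_iff]; push_cast; exact h1.symm
    have h3 : g * w * g⁻¹ = w := by
      rw [← hydef, ← hi]
      conv_rhs => rw [← pow_one w]
      rw [pow_eq_pow_iff_modEq, hy.ord]; exact h2
    exact hnot_C (Subgroup.mem_centralizer_singleton_iff.2 (mul_inv_eq_iff_eq_mul.1 h3))
  have hzN : z ∈ N := by
    obtain ⟨X, hX, hXz⟩ := hP.trans a₀ (π z a₀)
    show π z ∈ M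
    have hcom : ∀ Y ∈ M, π z * Y = Y * π z := fun Y hY => by
      obtain ⟨y, hy'⟩ := hP.le hY
      have hy'' : π y = Y := hy'
      have hyN : y ∈ N := by show π y ∈ M; rw [hy'']; exact hY
      rw [← hy'', ← map_mul, ← map_mul, hzc y (hNP hyN)]
    have : π z = X := by
      refine Equiv.ext fun q => ?_
      obtain ⟨Y, hY, rfl⟩ := hP.trans a₀ q
      rw [← Equiv.Perm.mul_apply, hcom Y hY, Equiv.Perm.mul_apply, ← hXz,
        ← Equiv.Perm.mul_apply, hP.comm Y hY X hX, Equiv.Perm.mul_apply]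
    rw [this]; exact hX
  have hzπ : π z ≠ 1 := fun h => hzw (act_eq_one hy h)
  -- `C_Q(w)` is transitive on the non-identity elements of the plane
  have hqtrans : ∀ X ∈ M, ∀ Y ∈ M, X ≠ 1 → Y ≠ 1 → ∃ q : C, (q : G) ∈ Q ∧
      π q * X * (π q)⁻¹ = Y := by
    intro X hX Y hY hX1 hY1
    have hne : ∀ Z ∈ M, Z ≠ 1 → ((Z a₀ : {q : Ω // w • q = q}) : Ω) ≠ a := fun Z hZ hZ1 e =>
      hZ1 (hP.free Z hZ a₀ (Subtype.ext e))
    obtain ⟨q, hq, hqx⟩ := regular hS (hne X hX hX1) (hne Y hY hY1)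
    have hfx : ∀ Z : {q : Ω // w • q = q}, Fixes ({w} : Set G) (Z : Ω) := fun Z z hz => by
      rw [Set.mem_singleton_iff.1 hz]; exact Z.2
    have hqC : q ∈ C := Q_comm_of_fixes hS (fun z hz => by
      rw [Set.mem_singleton_iff.1 hz]; exact (w_fix hD).1) (hne X hX hX1) (hfx _) (hfx _) hq hqx
    refine ⟨⟨q, hqC⟩, hq, ?_⟩
    have hm := hP.normal ⟨q, hqC⟩ X hX
    refine (inv_mul_eq_one.1 (hP.free _ (mul_mem (inv_mem hY) hm) a₀ ?_)).symm
    have hqa : π ⟨q, hqC⟩ a₀ = a₀ := Subtype.ext (Q_fix_a hS hq)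
    rw [Equiv.Perm.mul_apply, Equiv.Perm.mul_apply, Equiv.Perm.mul_apply,
      Equiv.Perm.inv_eq_iff_eq.2 hqa.symm, Equiv.Perm.inv_eq_iff_eq]
    exact Subtype.ext hqx
  have hNcomm : ∀ x ∈ N, ∀ y ∈ N, x * y = y * x := by
    intro x hx y hy'
    by_cases h : π x = 1
    · obtain ⟨j, hj⟩ := hker x h
      refine Subtype.ext ?_
      show (x : G) * y = y * x
      rw [hj]
      exact ((show Commute w (y : G) from
        (Subgroup.mem_centralizer_singleton_iff.1 y.2).symm).zpow_left j).eq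
    obtain ⟨q, -, hqz⟩ := hqtrans _ hzN _ hx hzπ h
    set z' := q * z * q⁻¹ with hz'
    have hz'c : ∀ y' ∈ N, y' * z' = z' * y' := fun y' hy'' => by
      have := hzc _ (hNP (hNn.conj_mem y' hy'' q⁻¹))
      rw [inv_inv] at this
      calc y' * z' = q * (q⁻¹ * y' * q * z) * q⁻¹ := by rw [hz']; group
        _ = q * (z * (q⁻¹ * y' * q)) * q⁻¹ := by rw [this]
        _ = _ := by rw [hz']; group
    obtain ⟨j, hj⟩ := hker (z'⁻¹ * x) (by
      rw [map_mul, map_inv, hz', map_mul, map_mul, map_inv, hqz, inv_mul_cancel])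
    have hxz : x = z' * ⟨w ^ j, hwC j⟩ := by
      have : (⟨w ^ j, hwC j⟩ : C) = z'⁻¹ * x := Subtype.ext hj.symm
      rw [this]; group
    have hwy : (⟨w ^ j, hwC j⟩ : C) * y = y * ⟨w ^ j, hwC j⟩ := Subtype.ext
      ((show Commute w (y : G) from
        (Subgroup.mem_centralizer_singleton_iff.1 y.2).symm).zpow_left j).eq
    rw [hxz, mul_assoc, hwy, ← mul_assoc, ← hz'c y hy', mul_assoc]
  -- transporting `N` by `g`
  set NG := N.map C.subtype with hNGdef
  have hNGP : NG ≤ P₁G := Subgroup.map_mono hNP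
  set A := NG.map (MulAut.conj g).toMonoidHom with hAdef
  by_cases hAN : A = NG
  · -- the orbit of `w` has size `p ^ f`
    have hgN : g ∈ Subgroup.normalizer (NG : Set G) := by
      rw [Subgroup.mem_normalizer_iff]
      intro x
      constructor
      · intro hx
        rw [← hAN]
        exact ⟨x, hx, rfl⟩
      · intro hx
        rw [← hAN] at hx
        obtain ⟨y, hy', hyx⟩ := hx
        have : y = x := mul_left_cancel (mul_right_cancel hyx)
        exact this ▸ hy'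
    set Nz := Subgroup.normalizer (NG : Set G) with hNz
    have hCN : C ≤ Nz := by
      intro c hc
      rw [hNz, Subgroup.mem_normalizer_iff]
      intro x
      constructor
      · rintro ⟨y, hy', rfl⟩
        exact ⟨⟨c, hc⟩ * y * ⟨c, hc⟩⁻¹, hNn.conj_mem y hy' _, rfl⟩
      · rintro ⟨y, hy', hyx⟩
        refine ⟨⟨c, hc⟩⁻¹ * y * ⟨c, hc⟩, by simpa using hNn.conj_mem y hy' (⟨c, hc⟩⁻¹), ?_⟩
        have hyx' : (y : G) = c * x * c⁻¹ := hyx
        show c⁻¹ * (y : G) * c = x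
        rw [hyx']; group
    letI : MulAction Nz G := MulAction.compHom G ((MulAut.conj (G := G)).comp Nz.subtype)
    have hsmul : ∀ (n : Nz) (x : G), n • x = (n : G) * x * (n : G)⁻¹ := fun _ _ => rfl
    have hstab : MulAction.stabilizer Nz w = C.subgroupOf Nz := by
      ext n
      rw [mem_stabilizer_iff, hsmul, Subgroup.mem_subgroupOf, hC,
        Subgroup.mem_centralizer_singleton_iff, mul_inv_eq_iff_eq_mul]
    set L := MulAction.orbit Nz w with hL
    have hLcard : L.ncard * Nat.card C = Nat.card Nz := by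
      have h := Subgroup.index_mul_card (MulAction.stabilizer Nz w)
      rw [index_stabilizer, hstab] at h
      rw [← h, hL, Nat.card_congr (Subgroup.subgroupOfEquivOfLe hCN).toEquiv]
    have hLp : p ∣ L.ncard := by
      have hX : IsPGroup p ↥((P : Subgroup G) ⊓ Nz) := P.2.to_le inf_le_left
      obtain ⟨m, hm⟩ := IsPGroup.iff_card.1 hX
      have hle : P₁G ≤ (P : Subgroup G) ⊓ Nz := le_inf hP₁P (hP₁C.trans hCN)
      have hlt : f + 1 + (Nat.card (w0 a t w)).factorization p < m := by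
        by_contra hge
        push Not at hge
        have e : P₁G = (P : Subgroup G) ⊓ Nz := Subgroup.eq_of_le_of_card_ge hle (by
          rw [hm, hP₁card]; exact Nat.pow_le_pow_right hp.pos hge)
        exact hgnot (e ▸ (⟨hgP, hgN⟩ : g ∈ (P : Subgroup G) ⊓ Nz))
      have hdvd : p ^ m ∣ L.ncard * Nat.card C := by
        rw [hLcard, ← hm]; exact Subgroup.card_dvd_of_le inf_le_right
      by_contra hnd
      have h2 := (Nat.Coprime.pow_left m (hp.coprime_iff_not_dvd.2 hnd)).dvd_of_dvd_mul_left hdvd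
      rw [hp.pow_dvd_iff_le_factorization Nat.card_pos.ne', factorization_cent hy hP] at h2
      omega
    -- elements of the orbit
    have hLN : ∀ x ∈ L, ∃ hx : x ∈ C, (⟨x, hx⟩ : C) ∈ N := by
      rintro _ ⟨n, rfl⟩
      have hw' : w ∈ NG := ⟨⟨w ^ (1 : ℤ), hwC 1⟩, hwN 1, zpow_one w⟩
      obtain ⟨y, hy', hyn⟩ := (Subgroup.mem_normalizer_iff.1 n.2 w).1 hw'
      have hyn' : (y : G) = (n : G) * w * (n : G)⁻¹ := hyn
      have hmem : (n : G) * w * (n : G)⁻¹ ∈ C := hyn' ▸ y.2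
      refine ⟨hmem, ?_⟩
      have e : y = ⟨(n : G) * w * (n : G)⁻¹, hmem⟩ := Subtype.ext hyn'
      exact (e ▸ hy' : (⟨(n : G) * w * (n : G)⁻¹, hmem⟩ : C) ∈ N)
    have hLz : ∀ x ∈ L, x ∈ Subgroup.zpowers w → x = w := by
      rintro _ ⟨n, rfl⟩ hx
      change (n : G) * w * (n : G)⁻¹ ∈ _ at hx
      show (n : G) * w * (n : G)⁻¹ = w
      have hV : ({w} : Set G) ⊆ (vGrp a t : Subgroup G) := Set.singleton_subset_iff.2 hD.mem
      obtain ⟨c, hc, hcx⟩ := S1134.result hS hD.hR.rank2 {w} hV (n : G) (by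
        rintro _ ⟨y, hy', rfl⟩
        rw [Set.mem_singleton_iff.1 hy']
        exact Subgroup.zpowers_le.2 hD.mem hx)
      rw [Set.image_singleton, Set.image_singleton, Set.singleton_eq_singleton_iff] at hcx
      have hcw := hcx
      obtain ⟨j, hj⟩ := hy.gen c hc
      obtain ⟨i, hi⟩ := Subgroup.mem_zpowers_iff.1 hx
      set d := w ^ j * c with hd
      have e : d * w * d⁻¹ = w ^ i := by
        have h1 : c * w * c⁻¹ = w ^ i := hcw.trans hi.symm
        calc d * w * d⁻¹ = w ^ j * (c * w * c⁻¹) * (w ^ j)⁻¹ := by rw [hd]; group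
          _ = _ := by rw [h1]; group
      have hmem : w ^ (i - 1) ∈ wker G a t := by
        have : w ^ (i - 1) = d * (w * d⁻¹ * w⁻¹) := by
          rw [zpow_sub, zpow_one, ← e]; group
        rw [this]
        exact mul_mem hj (wker_conj hD.hR (mem_D hD) (inv_mem hj))
      have := zpow_mem_wker hy hmem
      rw [zpow_sub, zpow_one, mul_inv_eq_one] at this
      rw [← hi, this]
    have hLfin : L.Finite := Set.toFinite _
    set L' := L \ {w} with hL'
    have hwL : w ∈ L := mem_orbit_self w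
    have hL'card : L'.ncard + 1 = L.ncard := by
      rw [hL']; exact Set.ncard_diff_singleton_add_one hwL hLfin
    -- the invariant `x * (s x s⁻¹)`
    let ψ : G → G := fun x => x * (s * x * s⁻¹)
    set I := ψ '' L' with hI
    have hL'mem : ∀ x ∈ L', ∃ hx : x ∈ C, (⟨x, hx⟩ : C) ∈ N ∧ π ⟨x, hx⟩ ≠ 1 := by
      rintro x ⟨hxL, hxw⟩
      obtain ⟨hx, hxN⟩ := hLN x hxL
      exact ⟨hx, hxN, fun h => hxw (hLz x hxL (act_eq_one hy h))⟩
    have hψw : ∀ x ∈ L', ψ x ∈ Subgroup.zpowers w := by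
      intro x hx
      obtain ⟨hxC, hxN, -⟩ := hL'mem x hx
      refine act_eq_one hy (c := (⟨x, hxC⟩ : C) * (S * ⟨x, hxC⟩ * S⁻¹)) ?_
      rw [map_mul, map_mul, map_mul, map_inv, hP.inv _ hxN, mul_inv_cancel]
    have hψinj : ∀ x ∈ L', ∀ y ∈ L', ψ x = ψ y → ∀ hx : x ∈ C, ∀ hy' : y ∈ C,
        π ⟨x, hx⟩ = π ⟨y, hy'⟩ → x = y := by
      intro x _ y _ hψ hx hy' hπxy
      obtain ⟨j, hj⟩ := hker (⟨x, hx⟩⁻¹ * ⟨y, hy'⟩) (by
        rw [map_mul, map_inv, hπxy, inv_mul_cancel])
      have hj' : y = x * w ^ j := by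
        rw [← hj]; show y = x * (x⁻¹ * y); group
      have hwx : Commute (w ^ j) x :=
        ((show Commute w x from (Subgroup.mem_centralizer_singleton_iff.1 hx).symm)).zpow_left j
      have hws : Commute (w ^ j) s := (show Commute w s from ws hD).zpow_left j
      have e : ψ y = ψ x * (w ^ j * w ^ j) := by
        show y * (s * y * s⁻¹) = x * (s * x * s⁻¹) * (w ^ j * w ^ j)
        rw [hj']
        have h1 : s * (x * w ^ j) * s⁻¹ = s * x * s⁻¹ * w ^ j := by
          rw [← mul_assoc s x, mul_assoc _ (w ^ j), hws.inv_right.eq, ← mul_assoc]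
        have hc2 : Commute (w ^ j) (s * x * s⁻¹) := (hws.mul_right hwx).mul_right hws.inv_right
        rw [h1, mul_assoc x, ← mul_assoc (w ^ j), hc2.eq]
        group
      rw [← hψ, left_eq_mul] at e
      have hwj : w ^ j = 1 := eq_one_of_mul_self
        (odd_orderOf_of_mem hS.odd_card (zpow_mem (mem_D hD) j)) e
      rw [hj', hwj, mul_one]
    have hconjL : ∀ q : C, (q : G) ∈ Q → ∀ x ∈ L',
        (q : G) * x * (q : G)⁻¹ ∈ L' ∧ ψ ((q : G) * x * (q : G)⁻¹) = ψ x := by
      intro q hqQ x hx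
      have hqw : (q : G) * w * (q : G)⁻¹ = w := by
        rw [Subgroup.mem_centralizer_singleton_iff.1 q.2]; group
      refine ⟨⟨?_, fun h => hx.2 ?_⟩, ?_⟩
      · obtain ⟨n, rfl⟩ := hx.1
        refine ⟨⟨q, hCN q.2⟩ * n, ?_⟩
        show ((q : G) * n) * w * ((q : G) * n)⁻¹ = (q : G) * ((n : G) * w * (n : G)⁻¹) * (q : G)⁻¹
        group
      · rw [Set.mem_singleton_iff] at h ⊢
        calc x = (q : G)⁻¹ * ((q : G) * x * (q : G)⁻¹) * q := by group
          _ = (q : G)⁻¹ * w * q := by rw [h]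
          _ = (q : G)⁻¹ * ((q : G) * w * (q : G)⁻¹) * q := by rw [hqw]
          _ = w := by group
      · have hsq : s * (q : G) = (q : G) * s := invol_central hS hD.hR.rank2 (s_isInv hD) (s_a hD) hqQ
        obtain ⟨i, hi⟩ := Subgroup.mem_zpowers_iff.1 (hψw x hx)
        show (q : G) * x * (q : G)⁻¹ * (s * ((q : G) * x * (q : G)⁻¹) * s⁻¹) = ψ x
        calc (q : G) * x * (q : G)⁻¹ * (s * ((q : G) * x * (q : G)⁻¹) * s⁻¹)
            = (q : G) * x * (q : G)⁻¹ * ((s * q) * x * (s * (q : G))⁻¹) := by group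
          _ = (q : G) * (x * (s * x * s⁻¹)) * (q : G)⁻¹ := by rw [hsq]; group
          _ = (q : G) * w ^ i * (q : G)⁻¹ := by rw [hi]
          _ = w ^ i := by rw [← conj_zpow, hqw]
          _ = ψ x := hi
    have hcount : L'.ncard = Nat.card ↥(Q ⊓ C) * I.ncard := by
      have hM1 : Nat.card {X : M // X ≠ 1} = Nat.card ↥(Q ⊓ C) := by
        have h1 := card_cQ hy hP
        haveI := Fintype.ofFinite M
        rw [Nat.card_eq_fintype_card, Fintype.card_subtype_compl, Fintype.card_subtype_eq,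
          ← Nat.card_eq_fintype_card, hP.card_sub, ← h1]
        exact Nat.add_sub_cancel _ _
      rw [← hM1, ← Nat.card_coe_set_eq, ← Nat.card_coe_set_eq, ← Nat.card_prod]
      choose hxC hxN hxne using hL'mem
      refine Nat.card_congr (Equiv.ofBijective (fun x : L' =>
        ((⟨⟨π ⟨x, hxC x x.2⟩, hxN x x.2⟩, fun h => hxne x x.2 (congrArg Subtype.val h)⟩ :
          {X : M // X ≠ 1}), (⟨ψ x, x, x.2, rfl⟩ : I))) ⟨?_, ?_⟩)
      · intro x y h
        refine Subtype.ext (hψinj x x.2 y y.2 (congrArg (fun z => (z.2 : G)) h) (hxC x x.2) (hxC y y.2) ?_)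
        exact congrArg (fun z : {X : M // X ≠ 1} × I => ((z.1.1 : M) : Equiv.Perm {q : Ω // w • q = q})) h
      · rintro ⟨⟨⟨X, hX⟩, hX1⟩, ⟨_, y, hy', rfl⟩⟩
        obtain ⟨q, hqQ, hq⟩ := hqtrans _ (hxN y hy') X hX (hxne y hy')
          (fun h => hX1 (Subtype.ext h))
        refine ⟨⟨(q : G) * y * (q : G)⁻¹, (hconjL q hqQ y hy').1⟩, Prod.ext ?_ ?_⟩
        · refine Subtype.ext (Subtype.ext ?_)
          show π _ = X
          rw [← hq, ← map_inv, ← map_mul, ← map_mul]
          rfl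
        · exact Subtype.ext (hconjL q hqQ y hy').2
    have hIle : I.ncard ≤ p := by
      have h : I ⊆ (Subgroup.zpowers w : Set G) := by rintro _ ⟨x, hx, rfl⟩; exact hψw x hx
      have h1 := Set.ncard_le_ncard h
      rw [← Nat.card_coe_set_eq (Subgroup.zpowers w : Set G)] at h1
      exact h1.trans_eq (by rw [← hy.ord]; exact Nat.card_zpowers w)
    have hIone : I.ncard = 1 := by
      have h1 := hLp
      rw [← hL'card, hcount] at h1
      have h2 := card_cQ hy hP
      have h3 : ((Nat.card ↥(Q ⊓ C) : ℕ) : ZMod p) = -1 := by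
        refine eq_neg_of_add_eq_zero_left ?_
        rw [← Nat.cast_one, ← Nat.cast_add, h2, Nat.cast_pow, ZMod.natCast_self, zero_pow (by omega)]
      rw [← CharP.cast_eq_zero_iff (ZMod p) p] at h1
      push_cast at h1
      rw [h3] at h1
      have h4 : (I.ncard : ZMod p) = ((1 : ℕ) : ZMod p) := by push_cast; linear_combination -h1
      rw [ZMod.natCast_eq_natCast_iff] at h4
      have := hp.one_lt
      rcases Nat.lt_or_ge I.ncard p with h5 | h5
      · rwa [Nat.ModEq, Nat.mod_eq_of_lt h5, Nat.mod_eq_of_lt hp.one_lt] at h4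
      · rw [le_antisymm hIle h5, Nat.ModEq, Nat.mod_self, Nat.mod_eq_of_lt hp.one_lt] at h4
        omega
    have hLpf : L.ncard = p ^ f := by
      rw [← hL'card, hcount, hIone, mul_one]
      exact card_cQ hy hP
    have hdiv : p ^ f * Nat.card C ∣ Nat.card G := by
      rw [← hLpf, hLcard]; exact Subgroup.card_subgroup_dvd_card _
    have hfac := (Nat.factorization_le_iff_dvd (mul_ne_zero (pow_ne_zero _ hp.ne_zero)
      Nat.card_pos.ne') Nat.card_pos.ne').2 hdiv p
    rw [Nat.factorization_mul (pow_ne_zero _ hp.ne_zero) Nat.card_pos.ne'] at hfac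
    simp only [Finsupp.add_apply] at hfac
    rw [hp.factorization_pow, Finsupp.single_eq_same, factorization_cent hy hP,
      factorization_group hy hP] at hfac
    -- a Sylow subgroup of `W` normalised by `w`
    set V := vGrp a t with hV
    have hzV : IsPGroup p ↥((Subgroup.zpowers w).subgroupOf V) := by
      refine IsPGroup.of_card (n := 1) ?_
      rw [Nat.card_congr (Subgroup.subgroupOfEquivOfLe (Subgroup.zpowers_le.2 hD.mem)).toEquiv,
        Nat.card_zpowers, hy.ord, pow_one]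
    obtain ⟨PV, hwPV⟩ := hzV.exists_le_sylow
    set T := (PV : Subgroup V).map V.subtype ⊓ wker G a t with hT
    have hTcard : Nat.card T = p ^ (Nat.card (wker G a t)).factorization p := by
      have hPVc : Nat.card ((PV : Subgroup V).map V.subtype) =
          p ^ (1 + (Nat.card (wker G a t)).factorization p) := by
        rw [Subgroup.card_map_of_injective V.subtype_injective, PV.card_eq_multiplicity, hV,
          card_vGrp hy, Nat.factorization_mul hp.ne_zero Nat.card_pos.ne', Finsupp.add_apply,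
          hp.factorization_self]
      have hwT : w ∈ (PV : Subgroup V).map V.subtype :=
        ⟨⟨w, hD.mem⟩, hwPV (Subgroup.mem_zpowers w), rfl⟩
      have hprod : Nat.card ((PV : Subgroup V).map V.subtype) = p * Nat.card T := by
        have hcz : Nat.card (Subgroup.zpowers w) = p := by rw [Nat.card_zpowers, hy.ord]
        conv_rhs => rw [← hcz]
        rw [← Nat.card_prod]
        refine (Nat.card_congr (Equiv.ofBijective (fun q : Subgroup.zpowers w × T =>
          (⟨q.1 * q.2, mul_mem (Subgroup.zpowers_le.2 hwT q.1.2) q.2.2.1⟩ :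
            ((PV : Subgroup V).map V.subtype))) ⟨?_, ?_⟩)).symm
        · rintro ⟨⟨x, hx⟩, y⟩ ⟨⟨x', hx'⟩, y'⟩ h
          obtain ⟨i, rfl⟩ := Subgroup.mem_zpowers_iff.1 hx
          obtain ⟨i', rfl⟩ := Subgroup.mem_zpowers_iff.1 hx'
          have h' : w ^ i * (y : G) = w ^ i' * y' := congrArg Subtype.val h
          have e : w ^ (i - i') = (y' : G) * (y : G)⁻¹ := by
            rw [zpow_sub]
            calc w ^ i * (w ^ i')⁻¹ = (w ^ i')⁻¹ * w ^ i := by group
              _ = (w ^ i')⁻¹ * (w ^ i * y) * (y : G)⁻¹ := by group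
              _ = _ := by rw [h']; group
          have h1 := zpow_mem_wker hy (j := i - i') (e ▸ mul_mem y'.2.2 (inv_mem y.2.2))
          rw [zpow_sub, mul_inv_eq_one] at h1
          refine Prod.ext (Subtype.ext h1) (Subtype.ext (mul_left_cancel (a := w ^ i) ?_))
          rw [h', h1]
        · rintro ⟨d, hd⟩
          obtain ⟨j, hj⟩ := hy.gen d (Subgroup.map_subtype_le _ hd)
          exact ⟨(⟨_, Subgroup.zpow_mem_zpowers w (-j)⟩,
            ⟨_, mul_mem (Subgroup.zpowers_le.2 hwT (Subgroup.zpow_mem_zpowers w j)) hd, hj⟩),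
            Subtype.ext (by show w ^ (-j) * (w ^ j * d) = d; group)⟩
      rw [hPVc, pow_add, pow_one] at hprod
      exact (Nat.eq_of_mul_eq_mul_left hp.pos hprod).symm
    have hTp : IsPGroup p T := IsPGroup.of_card hTcard
    have hTcyc : IsCyclic T := isCyclic_pSubgroup hy inf_le_right hTp
    obtain ⟨⟨x, hxT⟩, hx⟩ := hTcyc.exists_generator
    have hxT' : ∀ y ∈ T, y ∈ Subgroup.zpowers x := fun y hy' => by
      obtain ⟨j, hj⟩ := Subgroup.mem_zpowers_iff.1 (hx ⟨y, hy'⟩)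
      exact Subgroup.mem_zpowers_iff.2 ⟨j, by simpa using congrArg Subtype.val hj⟩
    have hxo : orderOf x = p ^ (Nat.card (wker G a t)).factorization p := by
      rw [← hTcard, ← Nat.card_zpowers]
      exact Nat.card_congr (Equiv.subtypeEquivRight fun y =>
        ⟨fun h => Subgroup.zpowers_le.2 hxT h, hxT' y⟩)
    have hwx : w * x * w⁻¹ ∈ T := by
      refine Subgroup.mem_inf.2 ⟨?_, wker_conj hD.hR (mem_D hD) (Subgroup.mem_inf.1 hxT).2⟩
      have hwT : w ∈ (PV : Subgroup V).map V.subtype :=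
        ⟨⟨w, hD.mem⟩, hwPV (Subgroup.mem_zpowers w), rfl⟩
      exact mul_mem (mul_mem hwT (Subgroup.mem_inf.1 hxT).1) (inv_mem hwT)
    obtain ⟨i, hi⟩ := (Submonoid.mem_powers_iff _ _).1
      (mem_powers_iff_mem_zpowers.2 (hxT' _ hwx))
    obtain ⟨hfix1, hfix2⟩ := conj_fix hpodd hxo (w_pow hy) hi.symm
    have hxW : x ∈ wker G a t := (Subgroup.mem_inf.1 hxT).2
    -- the `p`-th power lies in `W₀`
    have hxp0 : x ^ p ∈ w0 a t w := Subgroup.mem_inf.2 ⟨pow_mem hxW p,
      Subgroup.mem_centralizer_singleton_iff.2 (mul_inv_eq_iff_eq_mul.1 hfix1).symm⟩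
    set e := (Nat.card (wker G a t)).factorization p with he
    have he1 : 1 ≤ e := by omega
    have hle2 : e - 1 ≤ (Nat.card (w0 a t w)).factorization p := by
      rw [← hp.pow_dvd_iff_le_factorization Nat.card_pos.ne']
      refine dvd_trans ?_ (Subgroup.card_dvd_of_le (Subgroup.zpowers_le.2 hxp0))
      rw [Nat.card_zpowers, orderOf_pow, hxo,
        Nat.gcd_eq_right (dvd_pow_self p (by omega : e ≠ 0))]
      rw [Nat.pow_div (by omega) hp.pos |>.symm, pow_one]
    have hf2 : f = 2 := by omega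
    -- an element of order `p` of `W₀`
    set u := x ^ p ^ (e - 1) with hu
    have hup : u ^ p = 1 := by
      rw [hu, ← pow_mul, ← pow_succ, show e - 1 + 1 = e by omega, ← hxo, pow_orderOf_eq_one]
    have hu1 : u ≠ 1 := fun h => by
      have := Nat.le_of_dvd (pow_pos hp.pos _) (orderOf_dvd_of_pow_eq_one h)
      rw [hxo] at this
      exact absurd this (not_le.2 (Nat.pow_lt_pow_right hp.one_lt (by omega)))
    have hu0 : u ∈ w0 a t w := Subgroup.mem_inf.2 ⟨pow_mem hxW _,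
      Subgroup.mem_centralizer_singleton_iff.2
        (mul_inv_eq_iff_eq_mul.1 (hfix2 u (Subgroup.npow_mem_zpowers x _) hup)).symm⟩
    set U := π ⟨u, hw0C hu0⟩ with hU
    refine no_hyperplane hy hP hu0 hu1 hup ?_
    rw [hf2, show 2 - 1 = 1 from rfl, pow_one]
    obtain ⟨X, hX, hXb⟩ := hP.trans a₀ b₀
    have hUX : U * X * U⁻¹ = X := by
      refine (inv_mul_eq_one.1 (hP.free _ (mul_mem (inv_mem hX) (hP.normal _ X hX)) a₀ ?_)).symm
      have hD' := Subgroup.mem_inf.1 (Subgroup.mem_inf.1 (Subgroup.mem_inf.1 hu0).1).1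
      have hUa : U a₀ = a₀ := Subtype.ext hD'.1
      have hUb : U b₀ = b₀ := Subtype.ext hD'.2
      rw [Equiv.Perm.mul_apply, Equiv.Perm.mul_apply, Equiv.Perm.mul_apply,
        Equiv.Perm.inv_eq_iff_eq.2 hUa.symm, hXb, hUb, Equiv.Perm.inv_eq_iff_eq, hXb]
    set M' := M ⊓ Subgroup.centralizer ({U} : Set (Equiv.Perm _))
    have hXM : X ∈ M' := Subgroup.mem_inf.2
      ⟨hX, Subgroup.mem_centralizer_singleton_iff.2 (mul_inv_eq_iff_eq_mul.1 hUX).symm⟩
    have hXo : orderOf X = p := orderOf_eq_prime (hP.pow X hX) fun h => by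
      rw [h] at hXb
      exact ta_ne hS (congrArg Subtype.val hXb).symm
    exact Nat.le_of_dvd Nat.card_pos (hXo ▸ Subgroup.orderOf_dvd_natCard M' hXM)
  · -- a second subgroup of `P₁G` like `N`
    have hAP : A ≤ P₁G := by
      rintro _ ⟨x, hx, rfl⟩
      exact (Subgroup.mem_normalizer_iff.1 hgn x).1 (hNGP hx)
    set AC := A.comap C.subtype with hACdef
    have hACP : AC ≤ (P₁ : Subgroup C) := fun x hx => by
      obtain ⟨y, hy', hyx⟩ := hAP hx
      exact (Subtype.ext hyx : y = x) ▸ hy'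
    have hAC : A ≤ C := hAP.trans hP₁C
    have hApre : ∀ x ∈ AC, ∃ y ∈ N, (x : G) = g * (y : G) * g⁻¹ := by
      intro x hx
      obtain ⟨_, ⟨y, hy', rfl⟩, hyx⟩ := hx
      exact ⟨y, hy', hyx.symm⟩
    have hACpow : ∀ x ∈ AC, x ^ p = 1 := fun x hx => by
      obtain ⟨y, hy', e⟩ := hApre x hx
      refine Subtype.ext ?_
      rw [SubmonoidClass.coe_pow, e, conj_pow,
        show (y : G) ^ p = 1 by simpa using congrArg Subtype.val (hNpow y hy')]
      simp
    have hACcomm : ∀ x ∈ AC, ∀ y ∈ AC, x * y = y * x := fun x hx y hy' => by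
      obtain ⟨x', hx', ex⟩ := hApre x hx
      obtain ⟨y', hy'', ey⟩ := hApre y hy'
      refine Subtype.ext ?_
      show (x : G) * y = y * x
      have hc : (x' : G) * y' = y' * x' := congrArg Subtype.val (hNcomm x' hx' y' hy'')
      calc (x : G) * y = g * ((x' : G) * y') * g⁻¹ := by rw [ex, ey]; group
        _ = g * ((y' : G) * x') * g⁻¹ := by rw [hc]
        _ = _ := by rw [ex, ey]; group
    have hACcard : Nat.card AC = p ^ (f + 1) := by
      rw [← Subgroup.card_map_of_injective (K := AC) C.subtype_injective, hACdef,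
        Subgroup.map_comap_eq_self (by rwa [Subgroup.range_subtype]), hAdef,
        Subgroup.card_map_of_injective (MulAut.conj g).injective, hNGdef,
        Subgroup.card_map_of_injective C.subtype_injective, hNcard]
    set Ab := AC.map π with hAbdef
    have hAbnotM : ¬ Ab ≤ M := by
      intro h
      apply hAN
      have h1 : AC ≤ N := fun x hx => h ⟨x, hx, rfl⟩
      have h2 : AC = N := Subgroup.eq_of_le_of_card_ge h1 (by rw [hACcard, hNcard])
      rw [hNGdef, ← h2, hACdef, Subgroup.map_comap_eq_self (by rwa [Subgroup.range_subtype])]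
    have hAbbig : p ^ f ≤ Nat.card Ab := by
      have h := Subgroup.card_mul_index ((π.comp AC.subtype).ker)
      rw [Subgroup.index_ker] at h
      have h1 : (π.comp AC.subtype).range = Ab := by
        rw [hAbdef, MonoidHom.range_comp, Subgroup.range_subtype]
      have h2 : Nat.card (π.comp AC.subtype).ker ≤ p := by
        rw [← hkercard]
        exact Nat.card_le_card_of_injective
          (fun x : (π.comp AC.subtype).ker => (⟨(x.1 : C), x.2⟩ : π.ker))
          fun x y h' => Subtype.ext (Subtype.ext (congrArg (fun z : π.ker => (z : C)) h'))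
      rw [h1, hACcard] at h
      have h3 : p ^ (f + 1) ≤ p * Nat.card Ab := h ▸ Nat.mul_le_mul_right _ h2
      rw [pow_succ'] at h3
      exact Nat.le_of_mul_le_mul_left h3 hp.pos
    have hAbrange : Ab ≤ π.range := Subgroup.map_le_range π AC
    have hAbn : Ab ≤ Subgroup.normalizer (M : Set (Equiv.Perm _)) := by
      intro γ hγ
      obtain ⟨c, rfl⟩ := hAbrange hγ
      rw [Subgroup.mem_normalizer_iff]
      intro X
      refine ⟨hP.normal c X, fun h => ?_⟩
      have h2 : π c⁻¹ * (π c * X * (π c)⁻¹) * (π c⁻¹)⁻¹ ∈ M := hP.normal c⁻¹ _ h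
      rw [map_inv, inv_inv] at h2
      have e : (π c)⁻¹ * (π c * X * (π c)⁻¹) * π c = X := by group
      rwa [e] at h2
    set H := Ab ⊔ M with hHdef
    have hHmem : ∀ δ ∈ H, ∃ γ ∈ Ab, ∃ X ∈ M, δ = γ * X := fun δ hδ => by
      rw [← SetLike.mem_coe, hHdef, Subgroup.coe_mul_of_left_le_normalizer_right Ab M hAbn] at hδ
      obtain ⟨γ, hγ, X, hX, rfl⟩ := hδ
      exact ⟨γ, hγ, X, hX, rfl⟩
    have hAbpow : ∀ γ ∈ Ab, γ ^ p = 1 := by
      rintro _ ⟨x, hx, rfl⟩
      rw [← map_pow, hACpow x hx, map_one]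
    have hAbcomm : ∀ γ ∈ Ab, ∀ γ' ∈ Ab, γ * γ' = γ' * γ := by
      rintro _ ⟨x, hx, rfl⟩ _ ⟨y, hy', rfl⟩
      rw [← map_mul, ← map_mul, hACcomm x hx y hy']
    set H₀ := H ⊓ MulAction.stabilizer (Equiv.Perm {q : Ω // w • q = q}) a₀ with hH₀def
    have hH₀fix : ∀ δ ∈ H₀, δ a₀ = a₀ := fun δ hδ => (Subgroup.mem_inf.1 hδ).2
    have hmodM : ∀ γ ∈ Ab, ∀ X ∈ M, γ⁻¹ * X * γ ∈ M := fun γ hγ X hX => by
      obtain ⟨c, rfl⟩ := hAbrange hγ
      have := hP.normal c⁻¹ X hX
      simpa using this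
    have hkeyM : ∀ δ ∈ H₀, ∀ δ' ∈ H₀, δ * δ' = δ' * δ := by
      intro δ hδ δ' hδ'
      obtain ⟨γ, hγ, X, hX, e⟩ := hHmem δ (Subgroup.mem_inf.1 hδ).1
      obtain ⟨γ', hγ', X', hX', e'⟩ := hHmem δ' (Subgroup.mem_inf.1 hδ').1
      have hm : (δ' * δ)⁻¹ * (δ * δ') ∈ M := by
        have e1 : δ * δ' = (γ * γ') * (γ'⁻¹ * X * γ' * X') := by rw [e, e']; group
        have e2 : δ' * δ = (γ * γ') * (γ⁻¹ * X' * γ * X) := by
          rw [hAbcomm γ hγ γ' hγ', e, e']; group
        rw [e1, e2, mul_inv_rev, mul_assoc, inv_mul_cancel_left]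
        exact mul_mem (inv_mem (mul_mem (hmodM γ hγ X' hX') hX))
          (mul_mem (hmodM γ' hγ' X hX) hX')
      have := hP.free _ hm a₀ (hH₀fix _ (mul_mem (inv_mem (mul_mem hδ' hδ)) (mul_mem hδ hδ')))
      exact (inv_mul_eq_one.1 this).symm
    have hH₀pow : ∀ δ ∈ H₀, δ ^ p = 1 := by
      intro δ hδ
      obtain ⟨γ, hγ, X, hX, e⟩ := hHmem δ (Subgroup.mem_inf.1 hδ).1
      have hk : ∀ k : ℕ, ∃ Y ∈ M, δ ^ k = γ ^ k * Y := by
        intro k
        induction k with
        | zero => exact ⟨1, one_mem _, by simp⟩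
        | succ k ih =>
          obtain ⟨Y, hY, hk⟩ := ih
          exact ⟨γ⁻¹ * Y * γ * X, mul_mem (hmodM γ hγ Y hY) hX, by rw [pow_succ, hk, e]; group⟩
      obtain ⟨Y, hY, hk⟩ := hk p
      rw [hAbpow γ hγ, one_mul] at hk
      rw [hk]
      exact hP.free Y hY a₀ (hk ▸ hH₀fix _ (pow_mem hδ p))
    have hHrange : H ≤ π.range := sup_le hAbrange hP.le
    -- `H₀` fixes a second point
    have hH₀p : IsPGroup p H₀ := fun δ => ⟨1, Subtype.ext (by
      rw [pow_one, SubmonoidClass.coe_pow]; exact hH₀pow δ δ.2)⟩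
    obtain ⟨q, hq, hqa⟩ := hH₀p.exists_fixed_point_of_prime_dvd_card_of_fixed_point
      (α := {q : Ω // w • q = q}) (by rw [hP.card]; exact dvd_pow_self p (by omega))
      (a := a₀) (fun δ => hH₀fix δ δ.2)
    obtain ⟨x, hx, hxq⟩ := regular' hS (show (q : Ω) ≠ a from fun e => hqa (Subtype.ext e).symm)
    have hxC : x ∈ C := ((fix_smul_Q hD hx).1 (by rw [hxq]; exact q.2)).2
    set ξ := π ⟨x, hxC⟩ with hξ
    -- `H₀` is conjugate into the image of `W₀`
    have hintoW : ∀ δ ∈ H₀, ∃ u, ∃ hu : u ∈ w0 a t w,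
        π ⟨u, hw0C hu⟩ = ξ⁻¹ * δ * ξ ∧ u ^ p = 1 := by
      intro δ hδ
      obtain ⟨c, hc⟩ := hHrange (Subgroup.mem_inf.1 hδ).1
      set d : C := ⟨x, hxC⟩⁻¹ * c * ⟨x, hxC⟩ with hd
      have hπd : π d = ξ⁻¹ * δ * ξ := by rw [hd, map_mul, map_mul, map_inv, hc]
      have hξa : ξ a₀ = a₀ := Subtype.ext (Q_fix_a hS hx)
      have hξb : ξ b₀ = q := Subtype.ext hxq
      have h1 : π d a₀ = a₀ := by
        rw [hπd, Equiv.Perm.mul_apply, Equiv.Perm.mul_apply, hξa, hH₀fix δ hδ]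
        exact Equiv.Perm.inv_eq_iff_eq.2 hξa.symm
      have h2 : π d b₀ = b₀ := by
        rw [hπd, Equiv.Perm.mul_apply, Equiv.Perm.mul_apply, hξb]
        have : δ q = q := hq ⟨δ, hδ⟩
        rw [this]
        exact Equiv.Perm.inv_eq_iff_eq.2 hξb.symm
      obtain ⟨j, u, hu, hdu⟩ := cent_decomp hy
        (Subgroup.mem_inf.2 ⟨congrArg Subtype.val h1, congrArg Subtype.val h2⟩)
        (Subgroup.mem_centralizer_singleton_iff.1 d.2)
      have hde : d = ⟨w ^ j, hwC j⟩ * ⟨u, hw0C hu⟩ := Subtype.ext hdu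
      have hπu : π ⟨u, hw0C hu⟩ = ξ⁻¹ * δ * ξ := by
        rw [← hπd, hde, map_mul, hπw j, one_mul]
      refine ⟨u, hu, hπu, hinj (pow_mem hu p) ?_⟩
      have e : (⟨u ^ p, hw0C (pow_mem hu p)⟩ : C) = ⟨u, hw0C hu⟩ ^ p := Subtype.ext (by simp)
      rw [e, map_pow, hπu]
      have hcp : (ξ⁻¹ * δ * ξ) ^ p = ξ⁻¹ * δ ^ p * ξ := by
        have := conj_pow (a := ξ⁻¹) (b := δ) (i := p)
        rwa [inv_inv] at this
      rw [hcp, hH₀pow δ hδ]; group
    obtain ⟨γ₁, hγ₁, hγ₁M⟩ := SetLike.not_le_iff_exists.1 hAbnotM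
    obtain ⟨X₁, hX₁, hX₁e⟩ := hP.trans a₀ (γ₁ a₀)
    set δ₁ := X₁⁻¹ * γ₁ with hδ₁
    have hδ₁H : δ₁ ∈ H₀ := Subgroup.mem_inf.2
      ⟨mul_mem (Subgroup.mem_sup_right (inv_mem hX₁)) (Subgroup.mem_sup_left hγ₁), by
        show δ₁ a₀ = a₀
        rw [hδ₁, Equiv.Perm.mul_apply, ← hX₁e]
        exact Equiv.Perm.inv_eq_iff_eq.2 rfl⟩
    have hδ₁1 : δ₁ ≠ 1 := fun h => hγ₁M (by
      rw [hδ₁, inv_mul_eq_one] at h; exact h ▸ hX₁)
    obtain ⟨u₁, hu₁, hπu₁, hu₁p⟩ := hintoW δ₁ hδ₁H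
    have hu₁1 : u₁ ≠ 1 := fun h => hδ₁1 (by
      have h1 : π ⟨u₁, hw0C hu₁⟩ = 1 := by
        rw [show (⟨u₁, hw0C hu₁⟩ : C) = 1 from Subtype.ext h, map_one]
      rw [hπu₁] at h1
      calc δ₁ = ξ * (ξ⁻¹ * δ₁ * ξ) * ξ⁻¹ := by group
        _ = 1 := by rw [h1]; group)
    have hH₀card : Nat.card H₀ ≤ p := by
      have hall : ∀ δ ∈ H₀, δ ∈ Subgroup.zpowers δ₁ := by
        intro δ hδ
        obtain ⟨u, hu, hπu, hup⟩ := hintoW δ hδ
        have hcomm : Commute u₁ u := by
          have : u₁ * u * u₁⁻¹ * u⁻¹ = 1 := hinj (mul_mem (mul_mem (mul_mem hu₁ hu) (inv_mem hu₁))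
            (inv_mem hu)) (by
              refine (congrArg π (Subtype.ext rfl : (⟨_, _⟩ : C) = ⟨u₁, hw0C hu₁⟩ * ⟨u, hw0C hu⟩ *
                ⟨u₁, hw0C hu₁⟩⁻¹ * ⟨u, hw0C hu⟩⁻¹)).trans ?_
              rw [map_mul, map_mul, map_mul, map_inv, map_inv, hπu₁, hπu]
              calc _ = ξ⁻¹ * (δ₁ * δ) * (δ * δ₁)⁻¹ * ξ := by group
                _ = 1 := by rw [hkeyM δ₁ hδ₁H δ hδ]; group)
          exact mul_inv_eq_iff_eq_mul.1 (mul_inv_eq_one.1 this)
        obtain ⟨j, hj⟩ := Subgroup.mem_zpowers_iff.1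
          (wker_zpowers hy (Subgroup.mem_inf.1 hu₁).1 hu₁1 hu₁p (Subgroup.mem_inf.1 hu).1 hup hcomm)
        refine Subgroup.mem_zpowers_iff.2 ⟨j, ?_⟩
        have e : π ⟨u, hw0C hu⟩ = π ⟨u₁, hw0C hu₁⟩ ^ j := by
          rw [← map_zpow]; exact congrArg π (Subtype.ext (by simp [hj]))
        rw [hπu, hπu₁] at e
        have e' := conj_zpow (a := ξ⁻¹) (b := δ₁) (i := j)
        rw [inv_inv] at e'
        rw [e'] at e
        exact (mul_left_cancel (mul_right_cancel e)).symm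
      calc Nat.card H₀ ≤ Nat.card (Subgroup.zpowers δ₁) := Subgroup.card_le_of_le hall
        _ ≤ p := by
          rw [Nat.card_zpowers, orderOf_eq_prime (hH₀pow δ₁ hδ₁H) hδ₁1]
    -- many elements of `M` commute with `δ₁`
    set Mi := Ab ⊓ M with hMidef
    have hMi : p ^ (f - 1) ≤ Nat.card Mi := by
      choose X' hX' hX'e using fun γ : Ab => hP.trans a₀ ((γ : Equiv.Perm {q : Ω // w • q = q}) a₀)
      have hmem : ∀ γ : Ab, (X' γ)⁻¹ * γ ∈ H₀ := fun γ => Subgroup.mem_inf.2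
        ⟨mul_mem (Subgroup.mem_sup_right (inv_mem (hX' γ))) (Subgroup.mem_sup_left γ.2), by
          show ((X' γ)⁻¹ * (γ : Equiv.Perm {q : Ω // w • q = q})) a₀ = a₀
          rw [Equiv.Perm.mul_apply, ← hX'e γ]
          exact Equiv.Perm.inv_eq_iff_eq.2 rfl⟩
      let φ : Ab → H₀ := fun γ => ⟨_, hmem γ⟩
      let rep : H₀ → Ab := fun δ => if h : ∃ γ, φ γ = δ then h.choose else 1
      have hrep : ∀ γ, φ (rep (φ γ)) = φ γ := fun γ => by
        have h : ∃ γ', φ γ' = φ γ := ⟨γ, rfl⟩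
        simp only [rep, dif_pos h]
        exact h.choose_spec
      have hdiff : ∀ γ : Ab, (γ : Equiv.Perm {q : Ω // w • q = q}) * (rep (φ γ) : Equiv.Perm {q : Ω // w • q = q})⁻¹ ∈ Mi := fun γ => by
        refine Subgroup.mem_inf.2 ⟨mul_mem γ.2 (inv_mem (rep (φ γ)).2), ?_⟩
        have h : (X' (rep (φ γ)))⁻¹ * (rep (φ γ) : Equiv.Perm {q : Ω // w • q = q}) = (X' γ)⁻¹ * γ :=
          congrArg Subtype.val (hrep γ)
        have h2 : (γ : Equiv.Perm {q : Ω // w • q = q}) * (rep (φ γ) : Equiv.Perm {q : Ω // w • q = q})⁻¹ =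
            X' γ * (X' (rep (φ γ)))⁻¹ := by
          calc (γ : Equiv.Perm {q : Ω // w • q = q}) * (rep (φ γ) : Equiv.Perm {q : Ω // w • q = q})⁻¹
              = X' γ * ((X' γ)⁻¹ * γ) * (rep (φ γ) : Equiv.Perm {q : Ω // w • q = q})⁻¹ := by group
            _ = _ := by rw [← h]; group
        rw [h2]
        exact mul_mem (hX' _) (inv_mem (hX' _))
      have hle : Nat.card Ab ≤ Nat.card (H₀ × Mi) :=
        Nat.card_le_card_of_injective (fun γ => (φ γ, (⟨_, hdiff γ⟩ : Mi))) fun γ γ' h => by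
          have h1 : φ γ = φ γ' := congrArg Prod.fst h
          have h2 := congrArg (fun z : H₀ × Mi => (z.2 : Equiv.Perm {q : Ω // w • q = q})) h
          simp only [h1] at h2
          exact Subtype.ext (mul_right_cancel h2)
      rw [Nat.card_prod] at hle
      have h3 : p ^ f ≤ p * Nat.card Mi := hAbbig.trans (hle.trans (Nat.mul_le_mul_right _ hH₀card))
      rw [← show f - 1 + 1 = f by omega, pow_succ'] at h3
      exact Nat.le_of_mul_le_mul_left h3 hp.pos
    have hMicomm : ∀ X ∈ Mi, X * δ₁ = δ₁ * X := fun X hX => by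
      have c1 : Commute X X₁ := hP.comm X (Subgroup.mem_inf.1 hX).2 X₁ hX₁
      have c2 : Commute X γ₁ := hAbcomm X (Subgroup.mem_inf.1 hX).1 γ₁ hγ₁
      exact (c1.inv_right.mul_right c2).eq
    refine no_hyperplane hy hP hu₁ hu₁1 hu₁p (le_trans hMi ?_)
    refine Nat.card_le_card_of_injective (fun X : Mi => (⟨ξ⁻¹ * X * ξ, Subgroup.mem_inf.2
      ⟨?_, Subgroup.mem_centralizer_singleton_iff.2 ?_⟩⟩ :
      ↥(M ⊓ Subgroup.centralizer ({π ⟨u₁, hw0C hu₁⟩} : Set (Equiv.Perm _))))) fun X Y h => ?_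
    · have := hP.normal (⟨x, hxC⟩⁻¹) X (Subgroup.mem_inf.1 X.2).2
      rwa [map_inv, inv_inv] at this
    · rw [hπu₁]
      calc ξ⁻¹ * (X : Equiv.Perm {q : Ω // w • q = q}) * ξ * (ξ⁻¹ * δ₁ * ξ) = ξ⁻¹ * ((X : Equiv.Perm {q : Ω // w • q = q}) * δ₁) * ξ := by
            group
        _ = ξ⁻¹ * (δ₁ * X) * ξ := by rw [hMicomm X X.2]
        _ = _ := by group
    · exact Subtype.ext (mul_left_cancel (mul_right_cancel (congrArg Subtype.val h)))

end

end Cfsg.Agent.Suz27.NearFld
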