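import Cfsg.Agent.Suz27.CharFamilyStable
import Cfsg.Agent.Lib.Transfer.Hall
import Cfsg.Agent.CharDeep.Deg.Basic
import Cfsg.Agent.S0188
import Cfsg.Agent.S1132

/-!
`Q = S × O` with `S` its Sylow 2-subgroup, and the irreducible characters `φ ⊗ θ` of `Q` with the
action of `D` on them (part C of `PLAN.md`).
-/

set_option autoImplicit false

namespace Cfsg.Agent.Suz27

open MulAction RankOne

universe u v

variable {G : Type u} {Ω : Type v} [Group G] [MulAction G Ω] {a : Ω} {t : G} {Q : Subgroup G}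

/-- An element killed by two coprime exponents is trivial. -/
lemma eq_one_of_coprime_pow {H : Type*} [Group H] {x : H} {i j : ℕ} (hij : Nat.Coprime i j)
    (hi : x ^ i = 1) (hj : x ^ j = 1) : x = 1 :=
  orderOf_eq_one_iff.1 (Nat.eq_one_of_dvd_coprimes hij (orderOf_dvd_of_pow_eq_one hi)
    (orderOf_dvd_of_pow_eq_one hj))

/-- A function on a group is constant on the elements of square one. -/
def TrivS {P : Type*} [Group P] (f : P → ℂ) : Prop := ∀ z : P, z * z = 1 → f z = f 1

/-- `Y` is invariant under conjugation by `D`. -/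
def DInv (hS : Cfsg.IsRankOneSetup G Ω a t Q) (Y : Subgroup Q) : Prop :=
  ∀ d, ∀ x ∈ Y, conjHom hS d x ∈ Y

section
variable {hS : Cfsg.IsRankOneSetup G Ω a t Q} {Y : Subgroup Q}

/-- Conjugation of an invariant subgroup of `Q` by an element of `D`. -/
def conjSub (hY : DInv hS Y) (d : twoStab G a t) : Y →* Y :=
  ((conjHom hS d).comp Y.subtype).codRestrict Y fun x => hY d x x.2

@[simp] lemma conjSub_coe (hY : DInv hS Y) (d : twoStab G a t) (x : Y) :
    ((conjSub hY d x : Y) : Q) = conjHom hS d x := rfl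

lemma conjSub_conjSub (hY : DInv hS Y) (c d : twoStab G a t) (x : Y) :
    conjSub hY c (conjSub hY d x) = conjSub hY (d * c) x :=
  Subtype.ext (conjHom_conjHom hS c d x)

lemma conjSub_one (hY : DInv hS Y) (x : Y) : conjSub hY 1 x = x :=
  Subtype.ext (conjHom_one hS x)

lemma conjSub_surjective (hY : DInv hS Y) (d : twoStab G a t) :
    Function.Surjective (conjSub hY d) := fun x =>
  ⟨conjSub hY d⁻¹ x, by rw [conjSub_conjSub, inv_mul_cancel, conjSub_one]⟩

lemma conjSub_injective (hY : DInv hS Y) (d : twoStab G a t) :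
    Function.Injective (conjSub hY d) := fun x y h => by
  have := congrArg (conjSub hY d⁻¹) h
  rwa [conjSub_conjSub, conjSub_conjSub, mul_inv_cancel, conjSub_one, conjSub_one] at this

variable [Finite G]

/-- The conjugate of an irreducible character of an invariant subgroup. -/
def tw (hY : DInv hS Y) (d : twoStab G a t) (θ : Cfsg.IrrCharacter Y) : Cfsg.IrrCharacter Y :=
  ⟨fun x => (θ : Y → ℂ) (conjSub hY d x),
    CharCore.isIrrCharacter_comp_surjective θ.2 (conjSub hY d) (conjSub_surjective hY d)⟩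

lemma tw_apply (hY : DInv hS Y) (d : twoStab G a t) (θ : Cfsg.IrrCharacter Y) (x : Y) :
    (tw hY d θ : Y → ℂ) x = (θ : Y → ℂ) (conjSub hY d x) := rfl

lemma tw_tw (hY : DInv hS Y) (c d : twoStab G a t) (θ : Cfsg.IrrCharacter Y) :
    tw hY d (tw hY c θ) = tw hY (d * c) θ :=
  Subtype.ext (funext fun x => congrArg (θ : Y → ℂ) (conjSub_conjSub hY c d x))

lemma tw_one (hY : DInv hS Y) (θ : Cfsg.IrrCharacter Y) : tw hY 1 θ = θ :=
  Subtype.ext (funext fun x => congrArg (θ : Y → ℂ) (conjSub_one hY x))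

lemma charDegree_tw (hY : DInv hS Y) (d : twoStab G a t) (θ : Cfsg.IrrCharacter Y) :
    Cfsg.charDegree (tw hY d θ : Y → ℂ) = Cfsg.charDegree (θ : Y → ℂ) := by
  unfold Cfsg.charDegree
  rw [tw_apply, map_one]

/-- Only the identity of `D` fixes `θ`. -/
def Free (hY : DInv hS Y) (θ : Cfsg.IrrCharacter Y) : Prop := ∀ d, tw hY d θ = θ → d = 1

lemma Free.tw {hY : DInv hS Y} {θ : Cfsg.IrrCharacter Y} (h : Free hY θ) (c : twoStab G a t) :
    Free hY (tw hY c θ) := fun d hd => by
  have h2 := congrArg (Suz27.tw hY c⁻¹) hd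
  rw [tw_tw, tw_tw, tw_tw, inv_mul_cancel, tw_one] at h2
  have h3 := h _ h2
  exact conj_eq_one_iff.1 (by rwa [inv_inv] : c⁻¹ * d * c⁻¹⁻¹ = 1)

lemma Free.inj {hY : DInv hS Y} {θ : Cfsg.IrrCharacter Y} (h : Free hY θ) :
    Function.Injective fun d => Suz27.tw hY d θ := fun c d hcd => by
  have h2 := congrArg (Suz27.tw hY d⁻¹) hcd
  simp only [tw_tw, inv_mul_cancel, tw_one] at h2
  exact (inv_mul_eq_one.1 (h _ h2)).symm

/-- A non-empty stable set of free characters has at least `|D|` members. -/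
lemma card_le_of_free {hY : DInv hS Y} {T : Finset (Cfsg.IrrCharacter Y)}
    (hfree : ∀ θ ∈ T, Free hY θ) (hst : ∀ θ ∈ T, ∀ d, Suz27.tw hY d θ ∈ T) (hne : T.Nonempty) :
    Nat.card (twoStab G a t) ≤ T.card := by
  obtain ⟨θ, hθ⟩ := hne
  haveI := Fintype.ofFinite (twoStab G a t)
  rw [Nat.card_eq_fintype_card, ← Finset.card_univ]
  exact Finset.card_le_card_of_injOn (fun d => Suz27.tw hY d θ) (fun d _ => hst θ hθ d)
    fun c _ d _ h => (hfree θ hθ).inj h

end

/-- `Q` as the product of its Sylow 2-subgroup and its part of odd order. -/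
structure Split (hS : Cfsg.IsRankOneSetup G Ω a t Q) where
  S : Subgroup Q
  O : Subgroup Q
  invS : DInv hS S
  invO : DInv hS O
  two : IsPGroup 2 S
  odd : Odd (Nat.card O)
  e : S × O ≃* Q
  he : ∀ x, e x = (x.1 : Q) * x.2
  sq_mem : ∀ z : Q, z * z = 1 → z ∈ S
  shape : IsMulCommutative S ∨ Cfsg.IsSuzukiTwoGroup S

theorem exists_split [Finite G] (hR : R1 G Ω a t Q) : Nonempty (Split hR.setup) := by
  haveI : Fact (Nat.Prime 2) := ⟨Nat.prime_two⟩
  haveI := hR.faithful
  have hnil : Group.IsNilpotent Q := isNilpotent_Q hR.setup hR.rank2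
  set P : Sylow 2 Q := default with hP
  haveI := Transfer.nilpotent_sylow_normal hnil P
  obtain ⟨O, hO⟩ := Subgroup.exists_right_complement'_of_coprime P.card_coprime_index
  have hcO : Nat.card O = (P : Subgroup Q).index := by
    have h1 := hO.card_mul
    have h2 := (P : Subgroup Q).card_mul_index
    exact Nat.eq_of_mul_eq_mul_left Nat.card_pos (h1.trans h2.symm)
  have hodd : Odd (Nat.card O) := by
    rw [hcO, ← Nat.not_even_iff_odd, even_iff_two_dvd]
    exact P.not_dvd_index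
  have hcop : (Nat.card (P : Subgroup Q)).Coprime (Nat.card O) := hcO ▸ P.card_coprime_index
  have hcomm : ∀ (x : (P : Subgroup Q)) (y : O), Commute (x : Q) y := fun x y =>
    Transfer.nilpotent_commute_of_coprime hnil
      (Nat.Coprime.of_dvd (Subgroup.orderOf_coe x ▸ orderOf_dvd_natCard x)
        (Subgroup.orderOf_coe y ▸ orderOf_dvd_natCard y) hcop)
  set φ : ↥(↑P : Subgroup Q) × ↥O →* Q :=
    MonoidHom.noncommCoprod (P : Subgroup Q).subtype O.subtype hcomm with hφ
  have hφ' : ∀ x, φ x = (x.1 : Q) * x.2 := fun x => rfl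
  have hbij : Function.Bijective φ := hO
  have hmemS : ∀ x : Q, x ^ Nat.card (P : Subgroup Q) = 1 ↔ x ∈ (P : Subgroup Q) := by
    refine fun x => ⟨fun h => ?_, fun h => ?_⟩
    · obtain ⟨⟨y, z⟩, rfl⟩ := hbij.2 x
      rw [hφ', (hcomm y z).mul_pow, ← Subgroup.coe_pow, pow_card_eq_one', Subgroup.coe_one,
        one_mul] at h
      have hz := eq_one_of_coprime_pow hcop h (by rw [← Subgroup.coe_pow, pow_card_eq_one',
        Subgroup.coe_one])
      rw [hφ', hz, mul_one]
      exact y.2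
    · exact congrArg Subtype.val (pow_card_eq_one' (x := (⟨x, h⟩ : (P : Subgroup Q))))
  have hmemO : ∀ x : Q, x ^ Nat.card O = 1 ↔ x ∈ O := by
    refine fun x => ⟨fun h => ?_, fun h => ?_⟩
    · obtain ⟨⟨y, z⟩, rfl⟩ := hbij.2 x
      have ez : (z : Q) ^ Nat.card O = 1 := congrArg Subtype.val (pow_card_eq_one' (x := z))
      rw [hφ', (hcomm y z).mul_pow, ez, mul_one] at h
      have hy := eq_one_of_coprime_pow hcop (by rw [← Subgroup.coe_pow, pow_card_eq_one',
        Subgroup.coe_one]) h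
      rw [hφ', hy, one_mul]
      exact z.2
    · exact congrArg Subtype.val (pow_card_eq_one' (x := (⟨x, h⟩ : O)))
  exact ⟨{
    S := P
    O := O
    invS := fun d x hx => (hmemS _).1 (by rw [← map_pow, (hmemS x).2 hx, map_one])
    invO := fun d x hx => (hmemO _).1 (by rw [← map_pow, (hmemO x).2 hx, map_one])
    two := P.2
    odd := hodd
    e := MulEquiv.ofBijective φ hbij
    he := hφ'
    sq_mem := fun z hz => by
      obtain ⟨i, hi⟩ := (Nat.prime_two.eq_one_or_self_of_dvd _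
        (orderOf_dvd_of_pow_eq_one (n := 2) (by rw [pow_two, hz]))).elim
        (fun h => (⟨0, h⟩ : ∃ i, orderOf z = 2 ^ i)) fun h => ⟨1, h⟩
      exact Transfer.nilpotent_mem_sylow hnil P hi
    shape := S1132.result hR.setup hR.rank2 P }⟩

namespace Split

variable {hS : Cfsg.IsRankOneSetup G Ω a t Q} (sp : Split hS)

lemma card_eq : Nat.card Q = Nat.card sp.S * Nat.card sp.O := by
  rw [← Nat.card_congr sp.e.toEquiv, Nat.card_prod]

lemma e_symm_conj (d : twoStab G a t) (x : Q) :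
    sp.e.symm (conjHom hS d x) =
      (conjSub sp.invS d (sp.e.symm x).1, conjSub sp.invO d (sp.e.symm x).2) := by
  rw [MulEquiv.symm_apply_eq, sp.he, conjSub_coe, conjSub_coe, ← map_mul, ← sp.he,
    MulEquiv.apply_symm_apply]

lemma e_symm_S (x : sp.S) : sp.e.symm (x : Q) = (x, 1) := by
  rw [MulEquiv.symm_apply_eq, sp.he, Subgroup.coe_one, mul_one]

lemma e_symm_O (y : sp.O) : sp.e.symm (y : Q) = (1, y) := by
  rw [MulEquiv.symm_apply_eq, sp.he, Subgroup.coe_one, one_mul]

variable [Finite G]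

/-- The character `φ ⊗ θ` of `Q`. -/
noncomputable def pair (x : Cfsg.IrrCharacter sp.S × Cfsg.IrrCharacter sp.O) :
    Cfsg.IrrCharacter Q :=
  ⟨fun z => (x.1 : sp.S → ℂ) (sp.e.symm z).1 * (x.2 : sp.O → ℂ) (sp.e.symm z).2,
    CharCore.isIrrCharacter_comp_surjective (S0188.isIrrCharacter_prod x.1.2 x.2.2)
      sp.e.symm.toMonoidHom sp.e.symm.surjective⟩

lemma pair_apply (x : Cfsg.IrrCharacter sp.S × Cfsg.IrrCharacter sp.O) (z : Q) :
    (sp.pair x : Q → ℂ) z =
      (x.1 : sp.S → ℂ) (sp.e.symm z).1 * (x.2 : sp.O → ℂ) (sp.e.symm z).2 := rfl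

lemma charDegree_pair (x : Cfsg.IrrCharacter sp.S × Cfsg.IrrCharacter sp.O) :
    Cfsg.charDegree (sp.pair x : Q → ℂ) =
      Cfsg.charDegree (x.1 : sp.S → ℂ) * Cfsg.charDegree (x.2 : sp.O → ℂ) :=
  CharDeep.Deg.degree_of_eq (by
    rw [pair_apply, map_one, Nat.cast_mul, ← CharDeep.Deg.apply_one, ← CharDeep.Deg.apply_one]
    rfl)

lemma pair_injective : Function.Injective sp.pair := by
  classical
  rintro ⟨φ, θ⟩ ⟨φ', θ'⟩ h
  have key : ∀ {P : Type u} [Group P] [Finite P] (α β : Cfsg.IrrCharacter P) (c c' : ℂ), c ≠ 0 →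
      (∀ x, c * (α : P → ℂ) x = c' * (β : P → ℂ) x) → α = β := by
    intro P _ _ α β c c' hc hx
    haveI := Fintype.ofFinite P
    by_contra hne
    have e : c • (α : P → ℂ) = c' • (β : P → ℂ) := funext hx
    have := congrArg (fun f => Cfsg.classInner f (α : P → ℂ)) e
    simp only [CharCore.classInner_smul_left, CharCore.classInner_irr_self,
      CharCore.classInner_irr_of_ne (Ne.symm hne)] at this
    simp only [mul_one, mul_zero] at this
    exact hc this
  have hval := fun z => congrFun (congrArg Subtype.val h) z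
  refine Prod.ext (key _ _ ((θ : sp.O → ℂ) 1) ((θ' : sp.O → ℂ) 1)
    (CharCore.irr_apply_one_ne_zero θ) fun x => ?_)
    (key _ _ ((φ : sp.S → ℂ) 1) ((φ' : sp.S → ℂ) 1) (CharCore.irr_apply_one_ne_zero φ) fun y => ?_)
  · have := hval (x : Q)
    simp only [pair_apply, e_symm_S] at this
    linear_combination this
  · have := hval (y : Q)
    simpa only [pair_apply, e_symm_O] using this

lemma twistIrr_pair (d : twoStab G a t) (x : Cfsg.IrrCharacter sp.S × Cfsg.IrrCharacter sp.O) :
    twistIrr hS d (sp.pair x) = sp.pair (tw sp.invS d x.1, tw sp.invO d x.2) :=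
  Subtype.ext (funext fun z => by
    show (sp.pair x : Q → ℂ) (conjHom hS d z) = _
    rw [pair_apply, e_symm_conj]
    rfl)

lemma dfree_pair {x : Cfsg.IrrCharacter sp.S × Cfsg.IrrCharacter sp.O}
    (h : Free sp.invO x.2) : DFree hS (sp.pair x : Q → ℂ) := fun d hd => by
  refine h d (congrArg Prod.snd (sp.pair_injective (a₁ := (tw sp.invS d x.1, tw sp.invO d x.2))
    (a₂ := x) ?_))
  rw [← twistIrr_pair]
  exact Subtype.ext hd

lemma trivZ_pair_iff (x : Cfsg.IrrCharacter sp.S × Cfsg.IrrCharacter sp.O) :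
    TrivZ (sp.pair x : Q → ℂ) ↔ TrivS (x.1 : sp.S → ℂ) := by
  refine ⟨fun h z hz => ?_, fun h z hz => ?_⟩
  · have := h (z : Q) (by rw [← Subgroup.coe_mul, hz, Subgroup.coe_one])
    simp only [pair_apply, e_symm_S, map_one] at this
    exact mul_right_cancel₀ (CharCore.irr_apply_one_ne_zero x.2) this
  · have hzS := sp.sq_mem z hz
    simp only [pair_apply, map_one, sp.e_symm_S ⟨z, hzS⟩, Prod.fst_one, Prod.snd_one]
    rw [h ⟨z, hzS⟩ (Subtype.ext hz)]

end Split

end Cfsg.Agent.Suz27
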