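import Cfsg.Agent.Suz27.OddSylow

/-!
The family lemma applied to the characters `φ ⊗ θ`, `θ` in a stable set of free characters of the
part of odd order of `Q` (part C of `PLAN.md`).
-/

set_option autoImplicit false

namespace Cfsg.Agent.Suz27

open MulAction RankOne

universe u v

variable {G : Type u} {Ω : Type v} [Group G] [MulAction G Ω] {a : Ω} {t : G} {Q : Subgroup G}

/-- The elements of square one of `S` are those of `Q`. -/
lemma Split.card_sq_one {hS : Cfsg.IsRankOneSetup G Ω a t Q} (sp : Split hS) :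
    Nat.card {z : sp.S // z * z = 1} = qOf Q :=
  Nat.card_congr
    { toFun := fun z => ⟨((z.1 : Q) : G), (z.1 : Q).2, by
        rw [← Subgroup.coe_mul, ← Subgroup.coe_mul, z.2, Subgroup.coe_one, Subgroup.coe_one]⟩
      invFun := fun x => ⟨⟨⟨x.1, x.2.1⟩, sp.sq_mem ⟨x.1, x.2.1⟩ (Subtype.ext x.2.2)⟩,
        Subtype.ext (Subtype.ext x.2.2)⟩
      left_inv := fun z => rfl
      right_inv := fun x => rfl }

open Classical in
/-- The two bounds for a stable set `T` of free characters of the part of odd order. -/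
theorem odd_bounds [Finite G] (hR : R1 G Ω a t Q) (sp : Split hR.setup)
    (T : Finset (Cfsg.IrrCharacter sp.O)) (hfree : ∀ θ ∈ T, Free sp.invO θ)
    (hst : ∀ θ ∈ T, ∀ d, tw sp.invO d θ ∈ T) :
    ∃ c X : Cfsg.IrrCharacter sp.O → ℤ,
      (∀ θ ∈ T, X θ = 2 * c θ + ((qOf Q : ℤ) - 2) * Nat.card (vGrp a t) *
          Cfsg.charDegree (θ : sp.O → ℂ) ∧ X θ ≠ 0 ∧ Even (X θ)) ∧
      (∀ θ θ' : Cfsg.IrrCharacter sp.O, Cfsg.charDegree (θ : sp.O → ℂ) = Cfsg.charDegree (θ' : sp.O → ℂ) → c θ = c θ') ∧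
      ((Nat.card Q : ℤ) + 1) * ((qOf Q : ℤ) - 1) * (Nat.card sp.S * ∑ θ ∈ T, X θ ^ 2) <
        ((qOf Q : ℤ) - 2) ^ 2 * Nat.card Q * Nat.card (vGrp a t) *
          Nat.card (twoStab G a t) ∧
      (Nat.card sp.S : ℤ) * ∑ θ ∈ T, (c θ ^ 2 + (Cfsg.charDegree (θ : sp.O → ℂ) : ℤ) ^ 2 *
          Nat.card (twoStab G a t) * Nat.card (vGrp a t)) <
        (Nat.card Q : ℤ) * Nat.card (vGrp a t) * Nat.card (twoStab G a t) := by
  have hS := hR.setup
  set q := qOf Q with hqdef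
  set m := Nat.card (vGrp a t) with hm
  set k := Nat.card (twoStab G a t) with hk
  have hq4 : 4 ≤ q := hR.four_le_q
  have hcS : ∀ z : sp.S, z * z = 1 → z ∈ Subgroup.center sp.S := fun z =>
    sq_one_mem_center sp.shape
  have hZ : Nat.card {z : sp.S // z * z = 1} = q := sp.card_sq_one
  obtain ⟨hN3, hN⟩ := linear_bound sp.shape (hZ ▸ hq4)
  obtain ⟨φn, hφn⟩ := exists_not_trivS hcS (by omega)
  set dS : Cfsg.IrrCharacter sp.S → ℕ := fun φ => Cfsg.charDegree (φ : sp.S → ℂ) with hdS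
  set dO : Cfsg.IrrCharacter sp.O → ℕ := fun θ => Cfsg.charDegree (θ : sp.O → ℂ) with hdO
  set Deg := T.image dO with hDeg
  set Te : ℕ → Finset (Cfsg.IrrCharacter sp.O) := fun e => T.filter fun θ => dO θ = e with hTe
  set pairEmb : Cfsg.IrrCharacter sp.S × Cfsg.IrrCharacter sp.O ↪ Cfsg.IrrCharacter Q :=
    ⟨sp.pair, sp.pair_injective⟩ with hpe
  set F : Deg → Finset (Cfsg.IrrCharacter Q) := fun e =>
    (Finset.univ ×ˢ Te e.1).map pairEmb with hF
  set w : Deg → Cfsg.IrrCharacter Q → ℕ := fun e ψ => Cfsg.charDegree (ψ : Q → ℂ) / e.1 with hw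
  have hmem : ∀ e : Deg, ∀ ψ ∈ F e, ∃ φ θ, θ ∈ T ∧ dO θ = e.1 ∧ sp.pair (φ, θ) = ψ := by
    intro e ψ hψ
    obtain ⟨⟨φ, θ⟩, hx, rfl⟩ := Finset.mem_map.1 hψ
    obtain ⟨hθ, hd⟩ := Finset.mem_filter.1 (Finset.mem_product.1 hx).2
    exact ⟨φ, θ, hθ, hd, rfl⟩
  have hwval : ∀ e : Deg, ∀ x : Cfsg.IrrCharacter sp.S × Cfsg.IrrCharacter sp.O, dO x.2 = e.1 →
      w e (sp.pair x) = dS x.1 := by
    intro e x hx
    simp only [hw]
    rw [sp.charDegree_pair, ← hx]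
    exact Nat.mul_div_cancel _ (CharDeep.Deg.degree_pos x.2)
  have hTk : ∀ e : Deg, k ≤ (Te e.1).card := by
    intro e
    obtain ⟨θ, hθ, hd⟩ := Finset.mem_image.1 e.2
    refine card_le_of_free (hY := sp.invO) (fun θ hθ => hfree θ (Finset.mem_filter.1 hθ).1)
      (fun θ hθ d => Finset.mem_filter.2 ⟨hst θ (Finset.mem_filter.1 hθ).1 d, ?_⟩)
      ⟨θ, Finset.mem_filter.2 ⟨hθ, hd⟩⟩
    rw [← (Finset.mem_filter.1 hθ).2]
    exact charDegree_tw sp.invO d θ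
  have hbase : ∀ e : Deg, ((F e).filter fun ψ => w e ψ = 1).card =
      Nat.card {φ : Cfsg.IrrCharacter sp.S // dS φ = 1} * (Te e.1).card := by
    intro e
    rw [Nat.card_eq_fintype_card, Fintype.card_subtype, ← Finset.card_product, Finset.filter_map,
      Finset.card_map]
    congr 1
    ext ⟨φ, θ⟩
    simp only [Finset.mem_filter, Finset.mem_product, Finset.mem_univ, true_and,
      Function.comp_apply]
    constructor
    · rintro ⟨hθ, h1⟩
      exact ⟨(hwval e (φ, θ) (Finset.mem_filter.1 hθ).2) ▸ h1, hθ⟩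
    · rintro ⟨h1, hθ⟩
      exact ⟨hθ, (hwval e (φ, θ) (Finset.mem_filter.1 hθ).2).trans h1⟩
  obtain ⟨c, hc, h1, h2⟩ := families_bounds_stable hR (fun e : Deg => e.1) F w
    (fun e ψ hψ => by
      obtain ⟨φ, θ, -, hd, rfl⟩ := hmem e ψ hψ
      rw [hwval e (φ, θ) hd, CharDeep.Deg.apply_one, sp.charDegree_pair, ← hd, mul_comm])
    (fun e ψ hψ => by
      obtain ⟨φ, θ, hθ, -, rfl⟩ := hmem e ψ hψ
      exact sp.dfree_pair (hfree θ hθ))
    (fun e ψ hψ d => by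
      obtain ⟨φ, θ, hθ, hd, rfl⟩ := hmem e ψ hψ
      rw [sp.twistIrr_pair]
      exact Finset.mem_map.2 ⟨_, Finset.mem_product.2 ⟨Finset.mem_univ _, Finset.mem_filter.2
        ⟨hst θ hθ d, (charDegree_tw sp.invO d θ).trans hd⟩⟩, rfl⟩)
    (fun e ψ hψ hne => by
      obtain ⟨φ, θ, -, hd, rfl⟩ := hmem e ψ hψ
      rw [hwval e (φ, θ) hd] at hne ⊢
      rw [hbase]
      calc k * (2 * dS φ + 1) ≤ (Te e.1).card * (2 * dS φ + 1) :=
            Nat.mul_le_mul_right _ (hTk e)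
        _ < _ := by
          rw [mul_comm (Nat.card _)]
          exact Nat.mul_lt_mul_of_pos_left (hN φ hne)
            (lt_of_lt_of_le Nat.card_pos (hTk e)))
    (fun e => by
      rw [hbase]
      exact (Nat.mul_le_mul (hTk e) hN3).trans (le_of_eq (mul_comm _ _)))
    (fun e => by
      obtain ⟨θ, hθ, hd⟩ := Finset.mem_image.1 e.2
      refine ⟨sp.pair (⟨1, CharCore.isIrrCharacter_one⟩, θ), Finset.mem_map.2 ⟨_,
        Finset.mem_product.2 ⟨Finset.mem_univ _, Finset.mem_filter.2 ⟨hθ, hd⟩⟩, rfl⟩, ?_, ?_⟩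
      · rw [hwval e _ hd]
        exact CharDeep.Deg.degree_of_eq (Nat.cast_one.symm)
      · exact (sp.trivZ_pair_iff _).2 fun z _ => rfl)
    (fun e => by
      obtain ⟨θ, hθ, hd⟩ := Finset.mem_image.1 e.2
      exact ⟨sp.pair (φn, θ), Finset.mem_map.2 ⟨_, Finset.mem_product.2 ⟨Finset.mem_univ _,
        Finset.mem_filter.2 ⟨hθ, hd⟩⟩, rfl⟩, fun h => hφn ((sp.trivZ_pair_iff _).1 h)⟩)
    (fun e e' hne => Finset.disjoint_left.2 fun ψ hψ hψ' => by
      obtain ⟨φ, θ, -, hd, rfl⟩ := hmem e ψ hψ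
      obtain ⟨φ', θ', -, hd', he⟩ := hmem e' _ hψ'
      have hθ : θ' = θ := congrArg Prod.snd (sp.pair_injective he)
      rw [hθ] at hd'
      exact hne (Subtype.ext (hd.symm.trans hd')))
  -- read the two bounds back on `T`
  let c' : Cfsg.IrrCharacter sp.O → ℤ := fun θ =>
    if h : dO θ ∈ Deg then c ⟨dO θ, h⟩ else 0
  let X' : Cfsg.IrrCharacter sp.O → ℤ := fun θ => 2 * c' θ + ((q : ℤ) - 2) * m * dO θ
  have hc' : ∀ e : Deg, ∀ θ ∈ Te e.1, c' θ = c e := by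
    intro e θ hθ
    have hd := (Finset.mem_filter.1 hθ).2
    show dite _ _ _ = _
    rw [dif_pos (hd.symm ▸ e.2 : dO θ ∈ Deg)]
    exact congrArg c (Subtype.ext hd)
  have hsplit : ∀ g : Cfsg.IrrCharacter sp.O → ℤ,
      ∑ e : Deg, ∑ θ ∈ Te e.1, g θ = ∑ θ ∈ T, g θ := fun g =>
    (Finset.sum_coe_sort Deg (fun e => ∑ θ ∈ Te e, g θ)).trans
      (Finset.sum_fiberwise_of_maps_to (fun θ hθ => Finset.mem_image_of_mem dO hθ) g)
  have hsq : (∑ φ : Cfsg.IrrCharacter sp.S, (dS φ : ℤ) ^ 2) = Nat.card sp.S := by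
    exact_mod_cast (sum_charDegree_sq (P := sp.S))
  have hA : (q : ℤ) * ∑ φ : Cfsg.IrrCharacter sp.S,
      (if TrivS (φ : sp.S → ℂ) then (dS φ : ℤ) ^ 2 else 0) = Nat.card sp.S := by
    have h := congrArg (Nat.cast : ℕ → ℤ) (sum_triv_sq hcS)
    simp only [Nat.cast_mul, Nat.cast_sum, apply_ite (Nat.cast : ℕ → ℤ), Nat.cast_pow,
      Nat.cast_zero, hZ] at h
    exact h
  have hkm : (k : ℤ) = ((q : ℤ) - 1) * m := by
    rw [hk, hR.card_twoStab, Nat.cast_mul, Nat.cast_sub (by omega)]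
    rfl
  refine ⟨c', X', fun θ hθ => ⟨rfl, ?_⟩, fun θ θ' he => ?_, ?_, ?_⟩
  · have hd : dO θ ∈ Deg := Finset.mem_image_of_mem dO hθ
    have := hc ⟨dO θ, hd⟩
    show 2 * c' θ + ((q : ℤ) - 2) * m * dO θ ≠ 0 ∧ _
    rw [hc' ⟨dO θ, hd⟩ θ (Finset.mem_filter.2 ⟨hθ, rfl⟩)]
    refine ⟨this.1, ?_⟩
    show Even (2 * c' θ + ((q : ℤ) - 2) * m * dO θ)
    rw [hc' ⟨dO θ, hd⟩ θ (Finset.mem_filter.2 ⟨hθ, rfl⟩)]
    exact this.2
  · have he : dO θ = dO θ' := he
    show dite _ _ _ = dite _ _ _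
    by_cases h : dO θ ∈ Deg
    · rw [dif_pos h, dif_pos (he ▸ h : dO θ' ∈ Deg)]
      exact congrArg c (Subtype.ext he)
    · rw [dif_neg h, dif_neg (he ▸ h : dO θ' ∉ Deg)]
  · refine lt_of_eq_of_lt ?_ h1
    congr 1
    rw [← hsplit, Finset.mul_sum]
    refine Finset.sum_congr rfl fun e _ => ?_
    rw [Finset.sum_congr rfl (g := fun _ => (2 * c e + ((q : ℤ) - 2) * m * e.1) ^ 2)
      fun θ hθ => by
        show (2 * c' θ + ((q : ℤ) - 2) * m * dO θ) ^ 2 = _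
        rw [hc' e θ hθ, (Finset.mem_filter.1 hθ).2],
      Finset.sum_const, nsmul_eq_mul, Finset.sum_map, Finset.sum_product_right,
      Finset.sum_congr rfl (g := fun _ => (Nat.card sp.S : ℤ)) fun θ hθ => by
        rw [← hsq]
        refine Finset.sum_congr rfl fun φ _ => ?_
        show (w e (sp.pair (φ, θ)) : ℤ) ^ 2 = _
        rw [hwval e (φ, θ) (Finset.mem_filter.1 hθ).2],
      Finset.sum_const, nsmul_eq_mul]
    ring
  · refine lt_of_eq_of_lt ?_ h2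
    rw [← hsplit, Finset.mul_sum]
    refine Finset.sum_congr rfl fun e _ => ?_
    rw [Finset.mul_sum, Finset.sum_map, Finset.sum_product_right]
    refine Finset.sum_congr rfl fun θ hθ => ?_
    have hde : Cfsg.charDegree (θ : sp.O → ℂ) = e.1 := (Finset.mem_filter.1 hθ).2
    rw [hc' e θ hθ, hde]
    rw [Finset.sum_congr rfl (g := fun φ =>
      (c e - (e.1 : ℤ) * m) ^ 2 * (dS φ : ℤ) ^ 2 +
        (((e.1 : ℤ) * k + c e) ^ 2 - (c e - (e.1 : ℤ) * m) ^ 2) *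
          (if TrivS (φ : sp.S → ℂ) then (dS φ : ℤ) ^ 2 else 0)) fun φ _ => by
      show (w e (sp.pair (φ, θ)) : ℤ) ^ 2 *
        (if TrivZ (sp.pair (φ, θ) : Q → ℂ) then _ else _) = _
      rw [hwval e (φ, θ) (Finset.mem_filter.1 hθ).2, if_congr (sp.trivZ_pair_iff _) rfl rfl]
      split_ifs <;> ring,
      Finset.sum_add_distrib, ← Finset.mul_sum, ← Finset.mul_sum, hsq]
    refine mul_left_cancel₀ (show (q : ℤ) ≠ 0 by omega) ?_
    rw [hkm]
    linear_combination -(((e.1 : ℤ) * (((q : ℤ) - 1) * m) + c e) ^ 2 -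
      (c e - (e.1 : ℤ) * m) ^ 2) * hA

end Cfsg.Agent.Suz27
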