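import Cfsg.Agent.Suz27.OddDecomp
import Cfsg.Agent.CharDeep.Deg.DegreeP
import Cfsg.Agent.S1137
import Cfsg.Agent.S1138
import Cfsg.Agent.S1139

/-!
Degrees of the irreducible characters of a Sylow 2-subgroup of `Q`, and of those trivial on its
elements of square one (part C of `PLAN.md`).
-/

set_option autoImplicit false

namespace Cfsg.Agent.Suz27

open scoped ComplexConjugate

universe u

variable {P : Type u} [Group P] [Finite P]

/-- The sum of the squared degrees is the group order. -/
lemma sum_charDegree_sq :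
    ∑ φ : Cfsg.IrrCharacter P, Cfsg.charDegree (φ : P → ℂ) ^ 2 = Nat.card P := by
  haveI := Fintype.ofFinite P
  have h := CharCore.sum_degree_sq (G := P)
  simp only [CharDeep.Deg.apply_one] at h
  exact_mod_cast h

open Classical in
/-- If the elements of square one are central, the squared degrees of the characters trivial on
them add up to the order of their quotient. -/
lemma sum_triv_sq (hc : ∀ z : P, z * z = 1 → z ∈ Subgroup.center P) :
    Nat.card {z : P // z * z = 1} *
      (∑ φ : Cfsg.IrrCharacter P, if TrivS (φ : P → ℂ) then Cfsg.charDegree (φ : P → ℂ) ^ 2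
        else 0) = Nat.card P := by
  haveI := Fintype.ofFinite P
  set T := {z : P // z * z = 1} with hT
  have hrow : ∀ φ : Cfsg.IrrCharacter P, ∑ z : T, (φ : P → ℂ) 1 * (φ : P → ℂ) z.1 =
      (Fintype.card T : ℂ) * if TrivS (φ : P → ℂ) then (φ : P → ℂ) 1 ^ 2 else 0 := by
    intro φ
    by_cases h : TrivS (φ : P → ℂ)
    · rw [if_pos h, Finset.sum_congr rfl fun z _ => by rw [h z.1 z.2], Finset.sum_const,
        Finset.card_univ, nsmul_eq_mul, pow_two]
    · rw [if_neg h, mul_zero]
      obtain ⟨z₀, hz₀, hne⟩ : ∃ z₀ : P, z₀ * z₀ = 1 ∧ (φ : P → ℂ) z₀ ≠ (φ : P → ℂ) 1 := by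
        by_contra hcon
        exact h fun z hz => of_not_not fun hh => hcon ⟨z, hz, hh⟩
      obtain ⟨c, -, hcy⟩ := CharDeep.Deg.exists_central_scalar φ (hc z₀ hz₀)
      have h1 := hcy 1
      have h2 := hcy z₀
      rw [mul_one] at h1
      rw [hz₀, h1, ← mul_assoc] at h2
      have hc1 : c ≠ 1 := fun e => hne (by rw [h1, e, one_mul])
      let σ : T ≃ T :=
        { toFun := fun z => ⟨z₀ * z.1, by
            rw [← mul_assoc, mul_assoc z₀, ((Subgroup.mem_center_iff.1 (hc z₀ hz₀)) z.1),
              ← mul_assoc, hz₀, one_mul, z.2]⟩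
          invFun := fun z => ⟨z₀ * z.1, by
            rw [← mul_assoc, mul_assoc z₀, ((Subgroup.mem_center_iff.1 (hc z₀ hz₀)) z.1),
              ← mul_assoc, hz₀, one_mul, z.2]⟩
          left_inv := fun z => Subtype.ext (by simp [← mul_assoc, hz₀])
          right_inv := fun z => Subtype.ext (by simp [← mul_assoc, hz₀]) }
      have hs : ∑ z : T, (φ : P → ℂ) 1 * (φ : P → ℂ) z.1 =
          c * ∑ z : T, (φ : P → ℂ) 1 * (φ : P → ℂ) z.1 := by
        conv_lhs => rw [← Equiv.sum_comp σ]
        rw [Finset.mul_sum]
        refine Finset.sum_congr rfl fun z _ => ?_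
        show (φ : P → ℂ) 1 * (φ : P → ℂ) (z₀ * z.1) = _
        rw [hcy]
        ring
      have h3 : (1 - c) * ∑ z : T, (φ : P → ℂ) 1 * (φ : P → ℂ) z.1 = 0 := by
        linear_combination hs
      exact (mul_eq_zero.1 h3).resolve_left (sub_ne_zero.2 (Ne.symm hc1))
  have hcol : ∑ z : T, ∑ φ : Cfsg.IrrCharacter P, (φ : P → ℂ) 1 * (φ : P → ℂ) z.1 =
      (Nat.card P : ℂ) := by
    rw [Finset.sum_congr rfl fun z _ => CharCore.sum_degree_mul_apply z.1,
      Finset.sum_eq_single (⟨1, one_mul 1⟩ : T) (fun z _ hz => if_neg fun e => hz (Subtype.ext e))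
        (by simp), if_pos rfl]
  rw [Finset.sum_comm, Finset.sum_congr rfl fun φ _ => hrow φ, ← Finset.mul_sum] at hcol
  simp only [CharDeep.Deg.apply_one] at hcol
  rw [Nat.card_eq_fintype_card (α := T)]
  exact_mod_cast hcol

/-- If there are at least two elements of square one, some character is not trivial on them. -/
lemma exists_not_trivS (hc : ∀ z : P, z * z = 1 → z ∈ Subgroup.center P)
    (h2 : 2 ≤ Nat.card {z : P // z * z = 1}) :
    ∃ φ : Cfsg.IrrCharacter P, ¬ TrivS (φ : P → ℂ) := by
  classical
  by_contra hcon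
  have h := sum_triv_sq hc
  rw [Finset.sum_congr rfl fun φ _ => if_pos (of_not_not fun hh => hcon ⟨φ, hh⟩),
    sum_charDegree_sq] at h
  have := Nat.card_pos (α := P)
  nlinarith

/-- The number of linear characters is the index of the commutator subgroup. -/
lemma card_linear :
    Nat.card {φ : Cfsg.IrrCharacter P // Cfsg.charDegree (φ : P → ℂ) = 1} =
      (commutator P).index := by
  rw [← CharCore.card_linearCharacters]
  refine Nat.card_congr (Equiv.subtypeEquivRight fun φ => ⟨fun h => ?_, fun h => ?_⟩)
  · rw [CharDeep.Deg.apply_one, h, Nat.cast_one]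
  · exact CharDeep.Deg.degree_of_eq (h.trans Nat.cast_one.symm)

/-- An automorphism of odd order of a field with four elements is trivial. -/
lemma ringEquiv_eq_refl_of_card_four {F : Type*} [Field F] [Fintype F] (hF : Fintype.card F = 4)
    (φ : F ≃+* F) (hodd : Odd (orderOf φ)) : φ = RingEquiv.refl F := by
  classical
  have h2 : φ ^ 2 = 1 := by
    ext x
    show φ (φ x) = x
    by_contra hne
    have h1 : φ x ≠ x := fun e => hne (by rw [e, e])
    have h3 : φ (φ x) ≠ φ x := fun e => h1 (φ.injective e)
    have hx0 : x ≠ 0 := fun e => h1 (by rw [e, map_zero])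
    have hx1 : x ≠ 1 := fun e => h1 (by rw [e, map_one])
    have hy0 : φ x ≠ 0 := fun e => hx0 (φ.injective (e.trans (map_zero φ).symm))
    have hy1 : φ x ≠ 1 := fun e => hx1 (φ.injective (e.trans (map_one φ).symm))
    have hz0 : φ (φ x) ≠ 0 := fun e => hy0 (φ.injective (e.trans (map_zero φ).symm))
    have hz1 : φ (φ x) ≠ 1 := fun e => hy1 (φ.injective (e.trans (map_one φ).symm))
    have hc : ({0, 1, x, φ x, φ (φ x)} : Finset F).card = 5 := by
      simp [hx0.symm, hx1.symm, hy0.symm, hy1.symm, hz0.symm, hz1.symm, h1.symm, h3.symm,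
        Ne.symm hne]
    have := Finset.card_le_univ ({0, 1, x, φ x, φ (φ x)} : Finset F)
    omega
  rcases (Nat.dvd_prime Nat.prime_two).1 (orderOf_dvd_of_pow_eq_one h2) with h | h
  · exact orderOf_eq_one_iff.1 h
  · rw [h] at hodd
    exact absurd hodd (by decide)

/-- The elements of square one are central in an abelian or Suzuki 2-group. -/
lemma sq_one_mem_center (h : IsMulCommutative P ∨ Cfsg.IsSuzukiTwoGroup P) {z : P}
    (hz : z * z = 1) : z ∈ Subgroup.center P := by
  rcases h with h | h
  · exact Subgroup.mem_center_iff.2 fun x => h.is_comm.comm x z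
  · by_cases h1 : z = 1
    · rw [h1]; exact one_mem _
    · exact (((S1137.result h).1 z).1 ⟨h1, hz⟩).1

/-- In an abelian or Suzuki 2-group with at least four elements of square one there are at least
three linear characters, and twice a degree other than one plus one is below their number. -/
lemma linear_bound (h : IsMulCommutative P ∨ Cfsg.IsSuzukiTwoGroup P)
    (hq : 4 ≤ Nat.card {z : P // z * z = 1}) :
    3 ≤ Nat.card {φ : Cfsg.IrrCharacter P // Cfsg.charDegree (φ : P → ℂ) = 1} ∧
      ∀ φ : Cfsg.IrrCharacter P, Cfsg.charDegree (φ : P → ℂ) ≠ 1 →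
        2 * Cfsg.charDegree (φ : P → ℂ) + 1 <
          Nat.card {φ : Cfsg.IrrCharacter P // Cfsg.charDegree (φ : P → ℂ) = 1} := by
  haveI := Fintype.ofFinite P
  rw [card_linear]
  have hd : ∀ φ : Cfsg.IrrCharacter P,
      Cfsg.charDegree (φ : P → ℂ) ^ 2 ≤ (Subgroup.center P).index :=
    fun φ => CharDeep.Deg.degree_sq_le_index_center φ
  have hle : Nat.card {z : P // z * z = 1} ≤ Nat.card P :=
    Nat.card_le_card_of_injective _ Subtype.val_injective
  rcases h with h | h
  · have hcomm : commutator P = ⊥ := by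
      rw [commutator_def, Subgroup.commutator_eq_bot_iff_le_centralizer]
      exact fun x _ => Subgroup.mem_centralizer_iff.2 fun y _ => h.is_comm.comm y x
    have hcen : (Subgroup.center P).index = 1 :=
      Subgroup.index_eq_one.2 (eq_top_iff.2 fun z _ =>
        Subgroup.mem_center_iff.2 fun x => h.is_comm.comm x z)
    rw [hcomm, Subgroup.index_bot]
    refine ⟨by omega, fun φ hφ => absurd ?_ hφ⟩
    have := hd φ
    have := CharDeep.Deg.degree_pos φ
    nlinarith
  · have h37 := S1137.result h
    obtain ⟨-, hcom, hsize, -⟩ := S1138.result h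
    have hqz : Nat.card {z : P // z * z = 1} = Nat.card (Subgroup.center P) :=
      Nat.card_congr (Equiv.subtypeEquivRight fun z =>
        ⟨fun hz => sq_one_mem_center (Or.inr h) hz, h37.2 z⟩)
    have hidx : (Subgroup.center P).index ≤ (commutator P).index := by
      refine Nat.le_of_dvd (Nat.pos_of_ne_zero Subgroup.index_ne_zero_of_finite)
        (Subgroup.index_dvd_of_le ?_)
      rw [commutator_def, Subgroup.commutator_le]
      intro x _ y _
      have := hcom x⁻¹ y⁻¹
      rwa [inv_inv, inv_inv] at this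
    have hmul := (Subgroup.center P).card_mul_index
    set q := Nat.card (Subgroup.center P) with hqdef
    set M := (Subgroup.center P).index with hM
    have hq4 : 4 ≤ q := hqz ▸ hq
    obtain ⟨j, hj⟩ := IsPGroup.iff_card.1 (h.2.1.to_subgroup (Subgroup.center P))
    rw [← hqdef] at hj
    have hcase : (M = q ∧ Nat.card P = q ^ 2) ∨ M = q * q := by
      rcases hsize with h2 | h3
      · exact Or.inl ⟨Nat.eq_of_mul_eq_mul_left (by omega : 0 < q)
          (by rw [hmul, h2, pow_two]), h2⟩
      · exact Or.inr (Nat.eq_of_mul_eq_mul_left (by omega : 0 < q) (by rw [hmul, h3]; ring))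
    have hM6 : 6 ≤ M := by
      rcases hcase with ⟨e, h2⟩ | e
      · by_contra hlt
        have hj2 : j = 2 := by
          rcases Nat.lt_trichotomy j 2 with hj' | hj' | hj'
          · have := Nat.pow_le_pow_right (show 0 < 2 by omega) (show j ≤ 1 by omega)
            omega
          · exact hj'
          · have := Nat.pow_le_pow_right (show 0 < 2 by omega) (show 3 ≤ j by omega)
            omega
        obtain ⟨F, _, _, φ, hF, hne, hodd, -⟩ := S1139.result h h2
        refine hne (ringEquiv_eq_refl_of_card_four ?_ φ hodd)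
        rw [hF, ← hqdef, hj, hj2]
        norm_num
      · rw [e]; nlinarith
    refine ⟨by omega, fun φ _ => ?_⟩
    have := hd φ
    nlinarith

end Cfsg.Agent.Suz27
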