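import Cfsg.Agent.Suz27.Defs
import Mathlib.FieldTheory.Finite.GaloisField

/-!
The number `qOf Q` is a power of two at least four.
-/

set_option autoImplicit false

namespace Cfsg.Agent.Suz27

open MulAction RankOne

variable {G Ω : Type*} [Group G] [MulAction G Ω] [Finite G] {a : Ω} {t : G} {Q : Subgroup G}

/-- If `Q` is a 2-group then `qOf Q = 2 ^ m` with `m ≥ 2`. -/
theorem exists_qOf_eq (hR : R1 G Ω a t Q) (h2 : IsPGroup 2 Q) :
    ∃ m : ℕ, 2 ≤ m ∧ qOf Q = 2 ^ m := by
  haveI : Fact (Nat.Prime 2) := ⟨Nat.prime_two⟩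
  set Z : Subgroup G :=
    { carrier := {x | x ∈ Q ∧ x * x = 1}
      one_mem' := ⟨one_mem _, mul_one 1⟩
      inv_mem' := fun {x} hx => ⟨inv_mem hx.1, by rw [← _root_.mul_inv_rev, hx.2, inv_one]⟩
      mul_mem' := fun {x y} hx hy => by
        refine ⟨mul_mem hx.1 hy.1, ?_⟩
        rcases eq_or_ne x 1 with rfl | hx1
        · rw [one_mul]; exact hy.2
        have hc := invol_central hR.setup hR.rank2 ⟨hx1, hx.2⟩ (Q_fix_a hR.setup hx.1) hy.1
        calc x * y * (x * y) = x * (y * x) * y := by group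
          _ = x * x * (y * y) := by rw [← hc]; group
          _ = 1 := by rw [hx.2, hy.2, one_mul] } with hZdef
  have hZQ : Z ≤ Q := fun x hx => hx.1
  have hq : qOf Q = Nat.card Z := rfl
  obtain ⟨m, hm⟩ := IsPGroup.iff_card.1 (h2.to_le hZQ)
  refine ⟨m, ?_, hq.trans hm⟩
  obtain ⟨s, hs, s', hs', hne, -⟩ := exists_two_invol hR.setup hR.rank2
  have hsZ : s ∈ Z := ⟨invol_mem_Q hR.setup ⟨hs.2.1, hs.2.2⟩ hs.1, hs.2.2⟩
  have hs'Z : s' ∈ Z := ⟨invol_mem_Q hR.setup ⟨hs'.2.1, hs'.2.2⟩ hs'.1, hs'.2.2⟩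
  have h3 : 2 < Nat.card Z := by
    classical
    by_contra hle
    push Not at hle
    haveI : Fintype Z := Fintype.ofFinite _
    rw [Nat.card_eq_fintype_card] at hle
    have hsub : ({1, ⟨s, hsZ⟩, ⟨s', hs'Z⟩} : Finset Z) ⊆ Finset.univ := Finset.subset_univ _
    have h := Finset.card_le_card hsub
    rw [Finset.card_insert_of_notMem, Finset.card_pair, Finset.card_univ] at h
    · omega
    · exact fun e => hne (congrArg Subtype.val e)
    · simp only [Finset.mem_insert, Finset.mem_singleton, not_or]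
      exact ⟨fun e => hs.2.1 (congrArg Subtype.val e).symm,
        fun e => hs'.2.1 (congrArg Subtype.val e).symm⟩
  rcases m with _ | _ | m
  · rw [hm] at h3; simp at h3
  · rw [hm] at h3; simp at h3
  · omega

/-- A field with `2 ^ k` elements in the lowest universe. -/
theorem exists_field_two_pow {k : ℕ} (hk : k ≠ 0) :
    ∃ (F : Type) (_ : Field F) (_ : Fintype F), Fintype.card F = 2 ^ k := by
  haveI : Fact (Nat.Prime 2) := ⟨Nat.prime_two⟩
  letI : Fintype (GaloisField 2 k) := Fintype.ofFinite _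
  exact ⟨GaloisField 2 k, inferInstance, inferInstance,
    by rw [← Nat.card_eq_fintype_card]; exact GaloisField.card 2 k hk⟩

end Cfsg.Agent.Suz27
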