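import Mathlib
import Cfsg.Agent.S0215
import Cfsg.Agent.Lib.Transfer.Hall

/-!
A doubly transitive simple group of odd degree whose point stabiliser has a nilpotent normal
subgroup of odd index transitive on the other points: 2-elements fixing points, and the central
involutions of the Sylow 2-subgroup of a point stabiliser (helper74).
-/

set_option autoImplicit false

namespace Cfsg.Agent.Suz27.Reg

open MulAction Subgroup

variable {G : Type*} [Group G] {Ω : Type*} [MulAction G Ω]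

/-- The standing hypotheses; `S` is a Sylow 2-subgroup of `G` inside `U`. -/
structure Ctx (a : Ω) (U S : Subgroup G) : Prop where
  odd : Odd (Nat.card Ω)
  three : 2 < Nat.card Ω
  trans2 : ∀ p q p' q' : Ω, p ≠ q → p' ≠ q' → ∃ g : G, g • p = p' ∧ g • q = q'
  faithful : ∀ g : G, (∀ x : Ω, g • x = x) → g = 1
  Ua : ∀ u ∈ U, u • a = a
  trU : ∀ x y : Ω, x ≠ a → y ≠ a → ∃ u ∈ U, u • x = y
  SU : S ≤ U
  S2 : IsPGroup 2 S
  Sidx : ¬ 2 ∣ S.index
  Sn : ∀ g : G, g • a = a → ∀ s ∈ S, g * s * g⁻¹ ∈ S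
  split : ∀ u ∈ U, ∃ s ∈ S, ∃ c : G, (∀ t ∈ S, c * t = t * c) ∧ u = s * c

/-- The order is a power of two. -/
def Is2 (x : G) : Prop := ∃ k : ℕ, x ^ 2 ^ k = 1

theorem is2_one : Is2 (1 : G) := ⟨0, one_pow _⟩

theorem is2_inv {x : G} (h : Is2 x) : Is2 x⁻¹ := by
  obtain ⟨k, hk⟩ := h
  exact ⟨k, by rw [inv_pow, hk, inv_one]⟩

theorem is2_conj {x : G} (g : G) (h : Is2 x) : Is2 (g * x * g⁻¹) := by
  obtain ⟨k, hk⟩ := h
  exact ⟨k, by rw [conj_pow, hk, mul_one, mul_inv_cancel]⟩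

theorem is2_of_sq {x : G} (h : x * x = 1) : Is2 x := ⟨1, by rw [pow_one, sq, h]⟩

theorem is2_of_mem {Y : Subgroup G} (hY : IsPGroup 2 Y) {x : G} (hx : x ∈ Y) : Is2 x := by
  obtain ⟨k, hk⟩ := hY ⟨x, hx⟩
  exact ⟨k, congrArg Subtype.val hk⟩

theorem isPGroup_zpowers {x : G} (h : Is2 x) : IsPGroup 2 (zpowers x) := by
  rintro ⟨y, hy⟩
  obtain ⟨i, rfl⟩ := mem_zpowers_iff.mp hy
  obtain ⟨k, hk⟩ := h
  refine ⟨k, Subtype.ext ?_⟩
  show (x ^ i) ^ 2 ^ k = 1
  rw [← zpow_natCast, ← zpow_mul, mul_comm, zpow_mul, zpow_natCast, hk, one_zpow]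

theorem inv_eq_self {x : G} (h : x * x = 1) : x⁻¹ = x := inv_eq_of_mul_eq_one_right h

theorem sq_conj {x : G} (g : G) (h : x * x = 1) : g * x * g⁻¹ * (g * x * g⁻¹) = 1 := by
  calc g * x * g⁻¹ * (g * x * g⁻¹) = g * (x * x) * g⁻¹ := by group
    _ = 1 := by rw [h, mul_one, mul_inv_cancel]

theorem fix_inv {x : G} {p : Ω} (h : x • p = p) : x⁻¹ • p = p := inv_smul_eq_iff.mpr h.symm

theorem fix_conj {x : G} (g : G) {p : Ω} (h : x • p = p) : (g * x * g⁻¹) • g • p = g • p := by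
  rw [mul_smul, mul_smul, inv_smul_smul, h]

theorem fix_of_conj {x : G} (g : G) {p : Ω} (h : (g * x * g⁻¹) • g • p = g • p) : x • p = p := by
  rw [mul_smul, mul_smul, inv_smul_smul] at h
  exact smul_left_cancel g h

/-- An involutive map on a finite type changes the cardinality by an even number. -/
theorem card_mod_two {α : Type*} [Finite α] (f : α → α) (hf : ∀ x, f (f x) = x) :
    Nat.card α ≡ Nat.card {x // f x = x} [MOD 2] := by
  classical
  haveI := Fintype.ofFinite α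
  haveI : Fact (Nat.Prime 2) := ⟨Nat.prime_two⟩
  let g : Function.End α := f
  have h : g ^ 2 ^ 1 = 1 := by
    rw [pow_one, sq]
    exact funext hf
  have h2 := Equiv.Perm.card_fixedPoints_modEq h
  rw [← Nat.card_eq_fintype_card, ← Nat.card_eq_fintype_card] at h2
  exact h2.trans (congrArg (· % 2) (Nat.card_congr (Equiv.subtypeEquivRight fun _ => Iff.rfl)))

variable {a : Ω} {U S : Subgroup G} (C : Ctx a U S)
include C

theorem Ctx.exists_smul (p q : Ω) : ∃ g : G, g • p = q := by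
  by_cases hpq : p = q
  · exact ⟨1, by rw [one_smul, hpq]⟩
  · obtain ⟨g, hg, -⟩ := C.trans2 p q q p hpq (Ne.symm hpq)
    exact ⟨g, hg⟩

theorem Ctx.S_fix {x : G} (hx : x ∈ S) : x • a = a := C.Ua x (C.SU hx)

theorem Ctx.mem_S [Finite G] {x : G} (hx : x • a = a) (h2 : Is2 x) : x ∈ S := by
  haveI : Fact (Nat.Prime 2) := ⟨Nat.prime_two⟩
  have hz : zpowers x ≤ normalizer (S : Set G) := by
    rw [zpowers_le, mem_normalizer_iff]
    exact fun s => ⟨fun hs => C.Sn x hx s hs, fun hs => by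
      have := C.Sn x⁻¹ (fix_inv hx) _ hs
      simpa [mul_assoc] using this⟩
  have hp := IsPGroup.to_sup_of_normal_right' (isPGroup_zpowers h2) C.S2 hz
  have := (C.S2.toSylow C.Sidx).is_maximal' hp le_sup_right
  exact (le_of_eq this) (le_sup_left (a := zpowers x) (mem_zpowers x))

theorem Ctx.mul_fix2 [Finite G] {p : Ω} {x y : G} (hx : x • p = p) (hx2 : Is2 x) (hy : y • p = p)
    (hy2 : Is2 y) : Is2 (x * y) := by
  obtain ⟨g, hg⟩ := C.exists_smul p a
  have h1 := C.mem_S (hg ▸ fix_conj g hx) (is2_conj g hx2)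
  have h2 := C.mem_S (hg ▸ fix_conj g hy) (is2_conj g hy2)
  have h3 := is2_conj g⁻¹ (is2_of_mem C.S2 (mul_mem h1 h2))
  simpa [mul_assoc] using h3

omit C in
/-- The 2-elements fixing `p` and `q`, for a group as in `Ctx`. -/
def Ctx.wGrp [Finite G] {a : Ω} {U S : Subgroup G} (C : Ctx a U S) (p q : Ω) : Subgroup G where
  carrier := {x | x • p = p ∧ x • q = q ∧ Is2 x}
  one_mem' := ⟨one_smul _ _, one_smul _ _, is2_one⟩
  mul_mem' := fun {x y} hx hy =>
    ⟨by rw [mul_smul, hy.1, hx.1], by rw [mul_smul, hy.2.1, hx.2.1],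
      C.mul_fix2 hx.1 hx.2.2 hy.1 hy.2.2⟩
  inv_mem' := fun {x} hx => ⟨fix_inv hx.1, fix_inv hx.2.1, is2_inv hx.2.2⟩

variable [Finite G]

theorem Ctx.mem_w {p q : Ω} {x : G} :
    x ∈ C.wGrp p q ↔ x • p = p ∧ x • q = q ∧ Is2 x := Iff.rfl

theorem Ctx.w_two (p q : Ω) : IsPGroup 2 (C.wGrp p q) := by
  rintro ⟨x, hx⟩
  obtain ⟨k, hk⟩ := hx.2.2
  exact ⟨k, Subtype.ext hk⟩

theorem Ctx.w_comm (p q : Ω) : C.wGrp p q = C.wGrp q p := by
  ext x
  rw [C.mem_w, C.mem_w]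
  tauto

theorem Ctx.w_conj (g : G) {p q : Ω} {x : G} :
    g * x * g⁻¹ ∈ C.wGrp (g • p) (g • q) ↔ x ∈ C.wGrp p q := by
  rw [C.mem_w, C.mem_w]
  refine ⟨fun h => ⟨fix_of_conj g h.1, fix_of_conj g h.2.1, ?_⟩,
    fun h => ⟨fix_conj g h.1, fix_conj g h.2.1, is2_conj g h.2.2⟩⟩
  have := is2_conj g⁻¹ h.2.2
  simpa [mul_assoc] using this

theorem Ctx.w_le_S (x : Ω) : C.wGrp a x ≤ S := fun _ hw => C.mem_S hw.1 hw.2.2

theorem Ctx.w_card {p q r s : Ω} (hpq : p ≠ q) (hrs : r ≠ s) :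
    Nat.card (C.wGrp p q) = Nat.card (C.wGrp r s) := by
  obtain ⟨g, hgp, hgq⟩ := C.trans2 p q r s hpq hrs
  subst hgp hgq
  exact Nat.card_congr ((MulAut.conj g).toEquiv.subtypeEquiv fun x => (C.w_conj g).symm)

/-- If the 2-elements fixing `p` and `q` fix `r ≠ s`, they are those fixing `r` and `s`. -/
theorem Ctx.w_eq {p q r s : Ω} (hpq : p ≠ q) (hrs : r ≠ s)
    (h : ∀ w ∈ C.wGrp p q, w • r = r ∧ w • s = s) : C.wGrp r s = C.wGrp p q := by
  have hle : C.wGrp p q ≤ C.wGrp r s := fun w hw => ⟨(h w hw).1, (h w hw).2, hw.2.2⟩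
  exact (Subgroup.eq_of_le_of_card_ge hle (C.w_card hrs hpq).le).symm

omit [Finite G] in
/-- A central element of square one of the Sylow 2-subgroup fixing `p`. -/
def InA (p : Ω) (z : G) : Prop :=
  z • p = p ∧ z * z = 1 ∧ ∀ x : G, x • p = p → Is2 x → x * z = z * x

omit [Finite G] C in
theorem InA.conj {p : Ω} {z : G} (h : InA p z) (g : G) : InA (g • p) (g * z * g⁻¹) := by
  refine ⟨fix_conj g h.1, sq_conj g h.2.1, fun x hx hx2 => ?_⟩
  have h1 := h.2.2 (g⁻¹ * x * g) (by rw [mul_smul, mul_smul, hx, inv_smul_smul])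
    (by simpa using is2_conj g⁻¹ hx2)
  calc x * (g * z * g⁻¹) = g * ((g⁻¹ * x * g) * z) * g⁻¹ := by group
    _ = g * (z * (g⁻¹ * x * g)) * g⁻¹ := by rw [h1]
    _ = g * z * g⁻¹ * x := by group

theorem Ctx.inA_comm {z s : G} (hz : InA a z) (hs : s ∈ S) : s * z = z * s :=
  hz.2.2 s (C.S_fix hs) (is2_of_mem C.S2 hs)

theorem Ctx.inA_mem {z : G} (hz : InA a z) : z ∈ S := C.mem_S hz.1 (is2_of_sq hz.2.1)

theorem Ctx.inA_iff {z : G} : InA a z ↔ z ∈ S ∧ z * z = 1 ∧ ∀ s ∈ S, s * z = z * s :=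
  ⟨fun h => ⟨C.inA_mem h, h.2.1, fun _ hs => C.inA_comm h hs⟩,
    fun h => ⟨C.S_fix h.1, h.2.1, fun x hx hx2 => h.2.2 x (C.mem_S hx hx2)⟩⟩

omit [Finite G] C in
/-- The central elements of square one of the Sylow 2-subgroup fixing `p`, as a set. -/
def aSet (p : Ω) : Set G := {z | InA p z}

/-- A non-identity central involution fixes one point only. -/
theorem Ctx.fix_only {p x : Ω} {z : G} (hz : InA p z) (h1 : z ≠ 1) (hx : z • x = x) : x = p := by
  have base : ∀ z : G, InA a z → ∀ x : Ω, z • x = x → x ≠ a → z = 1 := by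
    intro z hz x hx hxa
    refine C.faithful z fun y => ?_
    by_cases hy : y = a
    · rw [hy]; exact hz.1
    obtain ⟨u, hu, rfl⟩ := C.trU x y hxa hy
    obtain ⟨s, hs, c, hc, rfl⟩ := C.split u hu
    have h2 : z * (s * c) = s * c * z := by
      rw [← mul_assoc, ← C.inA_comm hz hs, mul_assoc, ← hc z (C.inA_mem hz), mul_assoc]
    rw [← mul_smul, h2, mul_smul, hx]
  by_contra hxp
  obtain ⟨g, hg⟩ := C.exists_smul p a
  have h2 := base _ (hg ▸ hz.conj g) (g • x) (fix_conj g hx)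
    fun h => hxp (smul_left_cancel g (h.trans hg.symm))
  exact h1 (by simpa using h2)

theorem Ctx.inA_not_w {p q : Ω} (hpq : p ≠ q) {z : G} (hz : InA p z) (hw : z ∈ C.wGrp p q) :
    z = 1 := by
  by_contra h1
  exact hpq (C.fix_only hz h1 hw.2.1).symm

variable [Finite Ω]

theorem Ctx.exists_ne : ∃ b : Ω, b ≠ a := by
  haveI : Nontrivial Ω := Finite.one_lt_card_iff_nontrivial.mp (by have := C.three; omega)
  exact _root_.exists_ne a

/-- The 2-subgroups fix a point. -/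
theorem Ctx.exists_fix {Y : Subgroup G} (hY : IsPGroup 2 Y) : ∃ p : Ω, ∀ y ∈ Y, y • p = p := by
  haveI : Fact (Nat.Prime 2) := ⟨Nat.prime_two⟩
  obtain ⟨p, hp⟩ := hY.nonempty_fixed_point_of_prime_not_dvd_card Ω
    (fun h => Nat.not_even_iff_odd.mpr C.odd (even_iff_two_dvd.mpr h))
  exact ⟨p, fun y hy => hp ⟨y, hy⟩⟩

theorem Ctx.S_ne : S ≠ ⊥ := by
  intro h
  obtain ⟨b, hb⟩ := C.exists_ne
  obtain ⟨g, hga, hgb⟩ := C.trans2 a b b a hb.symm hb
  have hodd : Odd (Nat.card G) := by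
    rw [← Nat.not_even_iff_odd, even_iff_two_dvd]
    have := C.Sidx
    rwa [h, index_bot] at this
  obtain ⟨m, hm⟩ : Odd (orderOf g) := hodd.of_dvd_nat (orderOf_dvd_natCard g)
  have hg2 : (g * g) • a = a := by rw [mul_smul, hga, hgb]
  have hfix : (g * g) ^ (m + 1) • a = a := by
    induction m + 1 with
    | zero => rw [pow_zero, one_smul]
    | succ k ih => rw [pow_succ, mul_smul, hg2, ih]
  refine hb ?_
  rw [← hga]
  calc g • a = (g * g) ^ (m + 1) • a := by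
        rw [← sq, ← pow_mul, show 2 * (m + 1) = 2 * m + 1 + 1 by ring, ← hm, pow_succ,
          pow_orderOf_eq_one, one_mul]
    _ = a := hfix

theorem Ctx.exists_inA (p : Ω) : ∃ z : G, InA p z ∧ z ≠ 1 := by
  haveI : Fact (Nat.Prime 2) := ⟨Nat.prime_two⟩
  haveI : Nontrivial S := (nontrivial_iff_ne_bot S).mpr C.S_ne
  haveI := C.S2.center_nontrivial
  obtain ⟨⟨⟨w, hwS⟩, hwc⟩, hw1⟩ := _root_.exists_ne (1 : center S)
  have hd : 2 ∣ Nat.card (center S) := by
    obtain ⟨k, hk⟩ := IsPGroup.iff_card.mp (C.S2.to_subgroup (center S))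
    rcases k with _ | k
    · have := Finite.one_lt_card (α := center S)
      omega
    · exact hk ▸ dvd_pow_self 2 k.succ_ne_zero
  obtain ⟨z, hz⟩ := exists_prime_orderOf_dvd_card' 2 hd
  have hz2 : ((z : S) : G) * ((z : S) : G) = 1 := by
    rw [← sq, ← orderOf_dvd_iff_pow_eq_one, Subgroup.orderOf_coe, Subgroup.orderOf_coe, hz]
  have hza : InA a ((z : S) : G) := C.inA_iff.mpr ⟨(z : S).2, hz2,
    fun s hs => congrArg Subtype.val (mem_center_iff.mp z.2 ⟨s, hs⟩)⟩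
  obtain ⟨g, rfl⟩ := C.exists_smul a p
  refine ⟨_, hza.conj g, fun h => ?_⟩
  have h1 : ((z : S) : G) = 1 := by simpa using h
  have : z = 1 := Subtype.ext (Subtype.ext h1)
  rw [this, orderOf_one] at hz
  omega

/-- The centraliser of a 2-group is transitive on its fixed points. -/
theorem Ctx.cent_trans {Y : Set G} (h2 : ∀ y ∈ Y, Is2 y) {p q : Ω} (hp : ∀ y ∈ Y, y • p = p)
    (hq : ∀ y ∈ Y, y • q = q) : ∃ c : G, (∀ y ∈ Y, c * y = y * c) ∧ c • p = q := by
  classical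
  by_contra hno
  let O := {r : Ω // ∃ c : G, (∀ y ∈ Y, c * y = y * c) ∧ c • p = r}
  have mov : ∀ z : G, (∀ y ∈ Y, z * y = y * z) → ∀ r : Ω,
      (∃ c : G, (∀ y ∈ Y, c * y = y * c) ∧ c • p = r) →
      ∃ c : G, (∀ y ∈ Y, c * y = y * c) ∧ c • p = z • r := by
    rintro z hz r ⟨c, hc, rfl⟩
    refine ⟨z * c, fun y hy => ?_, mul_smul z c p⟩
    rw [mul_assoc, hc y hy, ← mul_assoc, hz y hy, mul_assoc]
  have par : ∀ r : Ω, (∀ y ∈ Y, y • r = r) →
      Nat.card O % 2 = Nat.card {o : O // o.1 = r} % 2 := by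
    intro r hr
    obtain ⟨z, hz, hz1⟩ := C.exists_inA r
    have hzY : ∀ y ∈ Y, z * y = y * z := fun y hy => (hz.2.2 y (hr y hy) (h2 y hy)).symm
    let f : O → O := fun o => ⟨z • o.1, mov z hzY o.1 o.2⟩
    have hf : ∀ o, f (f o) = o := fun o => Subtype.ext (show z • z • o.1 = o.1 by
      rw [← mul_smul, hz.2.1, one_smul])
    refine (card_mod_two f hf).trans ?_
    rw [Nat.card_congr (Equiv.subtypeEquivRight (p := fun o => f o = o) (q := fun o => o.1 = r)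
      fun o => ⟨fun h => C.fix_only hz hz1 (congrArg Subtype.val h),
        fun h => Subtype.ext (show z • o.1 = o.1 by rw [h]; exact hz.1)⟩)]
  have hp' := par p hp
  have hq' := par q hq
  have e1 : Nat.card {o : O // o.1 = p} = 1 := Nat.card_eq_one_iff_unique.mpr
    ⟨⟨fun x y => Subtype.ext (Subtype.ext (x.2.trans y.2.symm))⟩,
      ⟨⟨⟨p, 1, fun y _ => by rw [one_mul, mul_one], one_smul G p⟩, rfl⟩⟩⟩
  have e2 : Nat.card {o : O // o.1 = q} = 0 := by
    haveI : IsEmpty {o : O // o.1 = q} := ⟨fun o => hno (o.2 ▸ o.1.2)⟩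
    exact Nat.card_of_isEmpty
  omega

/-- A point stabiliser has more than one central involution, as `G` is simple. -/
theorem Ctx.two_inA [IsSimpleGroup G] :
    ∃ z z' : G, InA a z ∧ InA a z' ∧ z ≠ 1 ∧ z' ≠ 1 ∧ z ≠ z' := by
  haveI : Fact (Nat.Prime 2) := ⟨Nat.prime_two⟩
  obtain ⟨z, hz, hz1⟩ := C.exists_inA a
  by_contra hno
  have hiso : ∀ g : G, g * z * g⁻¹ ∈ (C.S2.toSylow C.Sidx : Subgroup G) → g * z * g⁻¹ = z := by
    intro g hg
    have h0 : (g * z * g⁻¹) • a = a := C.S_fix hg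
    have hne : g * z * g⁻¹ ≠ 1 := fun h => hz1 (by simpa using h)
    have ha : a = g • a := C.fix_only (hz.conj g) hne h0
    by_contra hgz
    refine hno ⟨g * z * g⁻¹, z, ?_, hz, hne, hz1, hgz⟩
    have := hz.conj g
    rwa [← ha] at this
  obtain ⟨N, hN, hNodd, hNc⟩ := S0215.result (C.S2.toSylow C.Sidx) z
    (orderOf_eq_prime (by rw [sq]; exact hz.2.1) hz1) (C.inA_mem hz) hiso
  rcases IsSimpleGroup.eq_bot_or_eq_top_of_normal N hN with rfl | rfl
  · obtain ⟨b, hb⟩ := C.exists_ne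
    obtain ⟨g, hg, -⟩ := C.trans2 a b b a hb.symm hb
    have h1 := mem_bot.mp (hNc g)
    have h2 : g * z = z * g := by
      calc g * z = (z * g * z⁻¹ * g⁻¹)⁻¹ * (z * g) := by group
        _ = z * g := by rw [h1, inv_one, one_mul]
    exact hb (C.fix_only hz hz1 (by rw [← hg, ← mul_smul, ← h2, mul_smul, hz.1]))
  · rw [card_top] at hNodd
    have h2 : 2 ∣ Nat.card G := by
      have := orderOf_dvd_natCard z
      rwa [orderOf_eq_prime (p := 2) (by rw [sq]; exact hz.2.1) hz1] at this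
    exact Nat.not_even_iff_odd.mpr hNodd (even_iff_two_dvd.mpr h2)

end Cfsg.Agent.Suz27.Reg
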