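import Mathlib
import Cfsg.Agent.Suz27.RegularBase

/-!
Continuation of `RegularBase`: the dihedral lemma and the count of the lines left invariant by an
involution (helper74).
-/

set_option autoImplicit false

namespace Cfsg.Agent.Suz27.Reg

open MulAction Subgroup

section

variable {G : Type*} [Group G]

theorem semi {j z : G} (hj : j * j = 1) (hz : z * z = 1) (n : ℕ) :
    j * (j * z) ^ n = ((j * z)⁻¹) ^ n * j ∧ z * (j * z) ^ n = ((j * z)⁻¹) ^ n * z := by
  have h : (j * z)⁻¹ = z * j := by rw [mul_inv_rev, inv_eq_self hj, inv_eq_self hz]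
  have h1 : SemiconjBy j (j * z) (j * z)⁻¹ := by
    rw [SemiconjBy, h, ← mul_assoc, hj, one_mul, mul_assoc, hj, mul_one]
  have h2 : SemiconjBy z (j * z) (j * z)⁻¹ := by
    rw [SemiconjBy, h, mul_assoc]
  exact ⟨h1.pow_right n, h2.pow_right n⟩

theorem mem_normalizer_of_comm {X : Subgroup G} {g : G} (h : ∀ w ∈ X, g * w = w * g) :
    g ∈ normalizer (X : Set G) := by
  rw [mem_normalizer_iff]
  refine fun w => ⟨fun hw => ?_, fun hw => ?_⟩
  · rw [h w hw, mul_inv_cancel_right]; exact hw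
  · have h1 := h _ hw
    have h2 : g * w * g⁻¹ = w := by
      calc g * w * g⁻¹ = g⁻¹ * (g * (g * w * g⁻¹)) := by group
        _ = g⁻¹ * (g * w * g⁻¹ * g) := by rw [h1]
        _ = w := by group
    rwa [h2] at hw

variable {Ω : Type*} [MulAction G Ω] {a : Ω} {U S : Subgroup G} (C : Ctx a U S) [Finite G]
include C

theorem Ctx.inA_mul {z z' : G} (h : InA a z) (h' : InA a z') : InA a (z * z') := by
  refine C.inA_iff.mpr ⟨mul_mem (C.inA_mem h) (C.inA_mem h'), ?_, fun s hs => ?_⟩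
  · calc z * z' * (z * z') = z * (z' * z) * z' := by group
      _ = z * z * (z' * z') := by rw [C.inA_comm h (C.inA_mem h')]; group
      _ = 1 := by rw [h.2.1, h'.2.1, one_mul]
  · rw [← mul_assoc, C.inA_comm h hs, mul_assoc, C.inA_comm h' hs, mul_assoc]

omit C [Finite G] in
theorem inA_one (p : Ω) : InA p (1 : G) :=
  ⟨one_smul _ _, one_mul 1, fun x _ _ => by rw [mul_one, one_mul]⟩

/-- The fixed points of `W(a, x)` other than `a` give the same group. -/
theorem Ctx.w_eq_iff {x y : Ω} (hx : x ≠ a) (hy : y ≠ a) :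
    C.wGrp a y = C.wGrp a x ↔ ∀ w ∈ C.wGrp a x, w • y = y :=
  ⟨fun h w hw => by rw [← h] at hw; exact hw.2.1,
    fun h => C.w_eq hx.symm hy.symm fun w hw => ⟨hw.1, h w hw⟩⟩

theorem Ctx.w_map {g : G} (hg : g • a = a) {x : Ω} {w : G} :
    g * w * g⁻¹ ∈ C.wGrp a (g • x) ↔ w ∈ C.wGrp a x := by
  have h := C.w_conj g (p := a) (q := x) (x := w)
  rwa [hg] at h

/-- Conjugation by `g` fixing `a` respects equality of lines. -/
theorem Ctx.w_congr {g : G} (hg : g • a = a) {x y : Ω} (h : C.wGrp a x = C.wGrp a y) :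
    C.wGrp a (g • x) = C.wGrp a (g • y) := by
  ext w
  have e : g * (g⁻¹ * w * g) * g⁻¹ = w := by group
  rw [← e, C.w_map hg, C.w_map hg, h]

theorem Ctx.norm_fix {g : G} {x r : Ω} (hg : g ∈ normalizer (C.wGrp a x : Set G))
    (hr : ∀ w ∈ C.wGrp a x, w • r = r) : ∀ w ∈ C.wGrp a x, w • g • r = g • r := by
  intro w hw
  have h1 : g⁻¹ * w * g ∈ C.wGrp a x := by
    rw [mem_normalizer_iff.mp hg]
    have e : g * (g⁻¹ * w * g) * g⁻¹ = w := by group
    rwa [e]
  have h2 := hr _ h1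
  rw [mul_smul, mul_smul, inv_smul_eq_iff] at h2
  exact h2

variable [Finite Ω]

/-- The dihedral lemma. -/
theorem Ctx.key {x q : Ω} (hx : x ≠ a) {j z : G} (hjS : j ∈ S) (hj : j * j = 1)
    (hjn : j ∈ normalizer (C.wGrp a x : Set G))
    (hfree : ∀ r : Ω, (∀ w ∈ C.wGrp a x, w • r = r) → r ≠ a → j • r ≠ r)
    (hq : ∀ w ∈ C.wGrp a x, w • q = q) (hqa : q ≠ a) (hz : InA q z) (hz1 : z ≠ 1) :
    ∃ c : G, c • q = a ∧ InA a (c * z * c⁻¹) ∧ j * (c * z * c⁻¹) ∈ C.wGrp a x ∧
      ((∀ w ∈ C.wGrp a x, j * w = w * j) → ∀ w ∈ C.wGrp a x, c * w = w * c) := by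
  haveI : Fact (Nat.Prime 2) := ⟨Nat.prime_two⟩
  set W := C.wGrp a x with hW
  have hWq : C.wGrp a q = W := (C.w_eq_iff hx hqa).mpr hq
  have hzW : ∀ w ∈ W, z * w = w * z := fun w hw => (hz.2.2 w (hq w hw) hw.2.2).symm
  obtain ⟨k, h, ⟨i, rfl⟩, hord⟩ := Nat.exists_eq_two_pow_mul_odd (orderOf_pos (j * z)).ne'
  set d := j * z with hd
  set c := d⁻¹ ^ i with hc
  set y := c * z * c⁻¹ with hy
  set e := d ^ (2 * i + 1) with he
  have he2 : Is2 e := ⟨k, by
    rw [he, ← pow_mul, mul_comm (2 * i + 1), ← hord, pow_orderOf_eq_one]⟩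
  have hdn : d ∈ normalizer (W : Set G) := mul_mem hjn (mem_normalizer_of_comm hzW)
  have hcn : c ∈ normalizer (W : Set G) := pow_mem (inv_mem hdn) i
  obtain ⟨hsj, -⟩ := semi hj hz.2.1 (2 * i + 1)
  obtain ⟨-, hsz⟩ := semi hj hz.2.1 i
  have hye : y = j * e := by
    rw [hy, hc, ← hsz, inv_pow, inv_inv, mul_assoc, ← pow_add, ← two_mul]
    calc z * d ^ (2 * i) = (j * j) * (z * d ^ (2 * i)) := by rw [hj, one_mul]
      _ = j * (d * d ^ (2 * i)) := by rw [hd]; simp only [mul_assoc]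
      _ = j * e := by rw [← pow_succ', he]
  have hyA : InA (c • q) y := hz.conj c
  have hy1 : y ≠ 1 := fun h => hz1 (by simpa [hy] using h)
  -- a common fixed point of `j` and `e`
  have hR : Nat.card Ω ≡ Nat.card {r : Ω // e • r = r} [MOD 2] := by
    refine ((isPGroup_zpowers he2).card_modEq_card_fixedPoints Ω).trans ?_
    rw [Nat.card_congr (Equiv.subtypeEquivRight
      (p := fun r => r ∈ fixedPoints (zpowers e) Ω) (q := fun r => e • r = r) fun r =>
      ⟨fun h => h ⟨e, mem_zpowers e⟩, fun h g => by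
        obtain ⟨n, hn⟩ := mem_zpowers_iff.mp g.2
        show (g : G) • r = r
        rw [← hn]
        exact mem_stabilizer_iff.mp (zpow_mem (mem_stabilizer_iff.mpr h) n)⟩)]
  have hje : ∀ r : Ω, e • r = r → e • j • r = j • r := fun r hr => by
    have h1 : e * j = j * e⁻¹ := by
      rw [eq_comm, ← mul_left_inj e, mul_assoc, inv_mul_cancel, mul_one, mul_assoc, hsj, inv_pow,
        ← mul_assoc, ← he, mul_inv_cancel, one_mul]
    rw [← mul_smul, h1, mul_smul, fix_inv hr]
  let F : {r : Ω // e • r = r} → {r : Ω // e • r = r} := fun r => ⟨j • r.1, hje r.1 r.2⟩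
  have hFF : ∀ r, F (F r) = r := fun r => Subtype.ext (show j • j • r.1 = r.1 by
    rw [← mul_smul, hj, one_smul])
  obtain ⟨⟨⟨r, hr⟩, hjr⟩⟩ : Nonempty {r // F r = r} := by
    rw [← not_isEmpty_iff]
    intro hemp
    have h1 := hR.trans (card_mod_two F hFF)
    rw [Nat.card_of_isEmpty (α := {r // F r = r})] at h1
    have h2 := C.odd
    rw [Nat.odd_iff] at h2
    have : Nat.card Ω % 2 = 0 % 2 := h1
    omega
  have hjr' : j • r = r := congrArg Subtype.val hjr
  have hcq : r = c • q := C.fix_only hyA hy1 (by rw [hye, mul_smul, hr, hjr'])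
  have hrW : ∀ w ∈ W, w • r = r := hcq ▸ C.norm_fix hcn hq
  have hra : r = a := by
    by_contra hra
    exact hfree r hrW hra hjr'
  have hca : c • q = a := hcq.symm.trans hra
  have hyAa : InA a y := hca ▸ hyA
  have hej : e = j * y := by rw [hye, ← mul_assoc, hj, one_mul]
  have hee : e * e = 1 := by
    rw [hej]
    calc j * y * (j * y) = j * (y * j) * y := by group
      _ = (j * j) * (y * y) := by rw [← C.inA_comm hyAa hjS]; group
      _ = 1 := by rw [hj, hyAa.2.1, one_mul]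
  have hez : e * z = z * e := by
    rw [(semi hj hz.2.1 (2 * i + 1)).2, inv_pow, ← he, inv_eq_self hee]
  have heq : e • q = q := C.fix_only hz hz1 (by rw [← mul_smul, ← hez, mul_smul, hz.1])
  refine ⟨c, hca, hyAa, ?_, fun hjW w hw => ?_⟩
  · rw [← hej, ← hWq]
    exact ⟨by rw [hej, mul_smul, hyAa.1, C.S_fix hjS], heq, he2⟩
  · exact ((((Commute.mul_left (hjW w hw) (hzW w hw)) : Commute d w).inv_left).pow_left i).eq

/-- An element of square one normalising a line is a central involution times one of its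
elements. -/
theorem Ctx.pick {x : Ω} (hx : x ≠ a) {j : G} (hjS : j ∈ S) (hj : j * j = 1)
    (hjn : j ∈ normalizer (C.wGrp a x : Set G)) : ∃ z, InA a z ∧ j * z ∈ C.wGrp a x := by
  by_cases hjW : j ∈ C.wGrp a x
  · exact ⟨1, inA_one a, by rwa [mul_one]⟩
  obtain ⟨z, hz, hz1⟩ := C.exists_inA x
  obtain ⟨c, -, hA, hm, -⟩ := C.key hx hjS hj hjn (fun r hr hra hjr => hjW (by
    rw [← (C.w_eq_iff hx hra).mpr hr]
    exact ⟨C.S_fix hjS, hjr, is2_of_sq hj⟩)) (fun w hw => hw.2.1) hx hz hz1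
  exact ⟨_, hA, hm⟩

/-- The centraliser of a line is transitive on the non-identity central involutions. -/
theorem Ctx.trans_inA {x : Ω} (hx : x ≠ a) {z z' : G} (hz : InA a z) (hz1 : z ≠ 1)
    (hz' : InA a z') (hz'1 : z' ≠ 1) :
    ∃ k : G, k • a = a ∧ (∀ w ∈ C.wGrp a x, k * w = w * k) ∧ k * z * k⁻¹ = z' := by
  obtain ⟨t, ht, ht1⟩ := C.exists_inA x
  have main : ∀ v : G, InA a v → v ≠ 1 → ∃ c : G, c • x = a ∧ c * t * c⁻¹ = v ∧
      ∀ w ∈ C.wGrp a x, c * w = w * c := by
    intro v hv hv1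
    have hcom : ∀ w ∈ C.wGrp a x, v * w = w * v := fun w hw => (C.inA_comm hv (C.w_le_S x hw)).symm
    obtain ⟨c, hc, hA, hm, hcc⟩ := C.key hx (C.inA_mem hv) hv.2.1 (mem_normalizer_of_comm hcom)
      (fun r _ hra hr => hra (C.fix_only hv hv1 hr)) (fun w hw => hw.2.1) hx ht ht1
    refine ⟨c, hc, ?_, hcc hcom⟩
    have h1 := C.inA_not_w hx.symm (C.inA_mul hv hA) hm
    rw [mul_eq_one_iff_inv_eq, inv_eq_self hv.2.1] at h1
    exact h1.symm
  obtain ⟨c, hc, hcz, hcw⟩ := main z hz hz1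
  obtain ⟨c', hc', hcz', hcw'⟩ := main z' hz' hz'1
  refine ⟨c' * c⁻¹, ?_, fun w hw => ?_, ?_⟩
  · rw [mul_smul, inv_smul_eq_iff.mpr hc.symm, hc']
  · exact (Commute.mul_left (hcw' w hw) (Commute.inv_left (hcw w hw))).eq
  · rw [← hcz, ← hcz']; group

omit [Finite Ω] in
/-- The lines through `a`, given by their groups. -/
noncomputable def Ctx.lines : Finset (Subgroup G) :=
  (Set.toFinite {W : Subgroup G | ∃ x : Ω, x ≠ a ∧ C.wGrp a x = W}).toFinset

omit [Finite Ω] in
theorem Ctx.mem_lines {W : Subgroup G} : W ∈ C.lines ↔ ∃ x : Ω, x ≠ a ∧ C.wGrp a x = W := by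
  simp [Ctx.lines]

open Classical in
omit [Finite Ω] in
/-- The number of lines through `a` whose group contains `v`. -/
noncomputable def Ctx.mu (v : G) : ℕ := (C.lines.filter fun W => v ∈ W).card

open Classical in
omit [Finite Ω] in
/-- The number of lines through `a` left invariant by `v`. -/
noncomputable def Ctx.kappa (v : G) : ℕ :=
  (C.lines.filter fun W : Subgroup G => v ∈ normalizer (W : Set G)).card

/-- All lines have the same number of points. -/
theorem Ctx.fib_eq {x y : Ω} (hx : x ≠ a) (hy : y ≠ a) :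
    Nat.card {r : Ω // r ≠ a ∧ C.wGrp a r = C.wGrp a x} =
      Nat.card {r : Ω // r ≠ a ∧ C.wGrp a r = C.wGrp a y} := by
  obtain ⟨u, hu, rfl⟩ := C.trU x y hx hy
  have hua := C.Ua u hu
  refine Nat.card_congr ((MulAction.toPerm u).subtypeEquiv fun r => ?_)
  refine and_congr (not_congr ?_) ⟨fun h => C.w_congr hua h, fun h => ?_⟩
  · show r = a ↔ u • r = a
    exact ⟨fun h => by rw [h, hua], fun h => smul_left_cancel u (h.trans hua.symm)⟩
  · have := C.w_congr (g := u⁻¹) (fix_inv hua) h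
    simpa using this

open Classical in
theorem Ctx.card_pts {f : ℕ}
    (hf : ∀ x : Ω, x ≠ a → Nat.card {r : Ω // r ≠ a ∧ C.wGrp a r = C.wGrp a x} = f)
    (P : Subgroup G → Prop) :
    Nat.card {x : Ω // x ≠ a ∧ P (C.wGrp a x)} = (C.lines.filter P).card * f := by
  haveI := Fintype.ofFinite Ω
  rw [Nat.card_eq_fintype_card, Fintype.card_subtype,
    Finset.card_eq_sum_card_fiberwise (f := fun x => C.wGrp a x) (t := C.lines.filter P)]
  · refine Finset.sum_const_nat fun W hW => ?_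
    rw [Finset.mem_filter, C.mem_lines] at hW
    obtain ⟨⟨x, hx, rfl⟩, hP⟩ := hW
    rw [← hf x hx, Nat.card_eq_fintype_card, Fintype.card_subtype, Finset.filter_filter]
    refine congrArg Finset.card (Finset.filter_congr fun r _ => ?_)
    exact ⟨fun h => ⟨h.1.1, h.2⟩, fun h => ⟨⟨h.1, by rw [h.2]; exact hP⟩, h.2⟩⟩
  · intro x hx
    rw [Finset.mem_coe, Finset.mem_filter] at hx
    rw [Finset.mem_coe, Finset.mem_filter, C.mem_lines]
    exact ⟨⟨x, hx.2.1, rfl⟩, hx.2.2⟩

theorem Ctx.mu_mul {f : ℕ}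
    (hf : ∀ x : Ω, x ≠ a → Nat.card {r : Ω // r ≠ a ∧ C.wGrp a r = C.wGrp a x} = f) (v : G) :
    C.mu v * f = Nat.card {x : Ω // x ≠ a ∧ v ∈ C.wGrp a x} := by
  classical
  rw [C.card_pts hf fun W => v ∈ W, Ctx.mu]

theorem Ctx.mu_conj {f : ℕ}
    (hf : ∀ x : Ω, x ≠ a → Nat.card {r : Ω // r ≠ a ∧ C.wGrp a r = C.wGrp a x} = f) (hf0 : 0 < f)
    {k : G} (hk : k • a = a) (v : G) : C.mu (k * v * k⁻¹) = C.mu v := by
  refine Nat.eq_of_mul_eq_mul_right hf0 ?_
  rw [C.mu_mul hf, C.mu_mul hf]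
  refine (Nat.card_congr ((MulAction.toPerm k).subtypeEquiv fun r => ?_)).symm
  show (r ≠ a ∧ v ∈ C.wGrp a r) ↔ (k • r ≠ a ∧ k * v * k⁻¹ ∈ C.wGrp a (k • r))
  rw [C.w_map hk]
  refine and_congr_left' (not_congr ⟨fun h => by rw [h, hk], fun h => ?_⟩)
  exact smul_left_cancel k (h.trans hk.symm)

/-- The count. -/
theorem Ctx.count {f : ℕ}
    (hf : ∀ x : Ω, x ≠ a → Nat.card {r : Ω // r ≠ a ∧ C.wGrp a r = C.wGrp a x} = f)
    (hfe : Even f) {j : G} (hjS : j ∈ S) (hj : j * j = 1) :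
    C.lines.card * f + 1 = (1 + C.mu j * f) * (1 + (C.kappa j - C.mu j) * f) := by
  classical
  haveI := Fintype.ofFinite Ω
  obtain ⟨x₀, hx₀⟩ := C.exists_ne
  -- counting around `a`
  have around : ∀ P : Ω → Prop, P a →
      Nat.card {x : Ω // P x} = 1 + Nat.card {x : Ω // x ≠ a ∧ P x} := by
    intro P hP
    rw [Nat.card_eq_fintype_card, Nat.card_eq_fintype_card, Fintype.card_subtype,
      Fintype.card_subtype, add_comm]
    rw [show (Finset.univ.filter P) = insert a (Finset.univ.filter fun x => x ≠ a ∧ P x) from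
      Finset.ext fun x => by by_cases h : x = a <;> simp [h, hP]]
    rw [Finset.card_insert_of_notMem (by simp)]
  have hJ : Nat.card {p : Ω // j • p = p} = 1 + C.mu j * f := by
    rw [around (fun p => j • p = p) (C.S_fix hjS), C.mu_mul hf,
      Nat.card_congr (Equiv.subtypeEquivRight (p := fun x => x ≠ a ∧ j • x = x)
        (q := fun x => x ≠ a ∧ j ∈ C.wGrp a x) fun x => and_congr_right fun _ =>
        ⟨fun h => ⟨C.S_fix hjS, h, is2_of_sq hj⟩, fun h => h.2.1⟩)]
  have hall : Nat.card Ω = 1 + C.lines.card * f := by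
    have h1 := C.card_pts hf fun _ => True
    simp only [Finset.filter_eq_self.mpr, implies_true] at h1
    have h2 := around (fun _ => True) trivial
    rw [h1, Nat.card_congr (Equiv.subtypeUnivEquiv fun _ => trivial)] at h2
    exact h2
  -- every moved point's line meets the fixed points once
  let Lr : Ω → Ω → Prop := fun p r => ∀ w ∈ C.wGrp p (j • p), w • r = r
  have hLodd : ∀ p, j • p ≠ p → Odd (Nat.card {r : Ω // Lr p r}) := by
    intro p hp
    obtain ⟨g, hga, hgx⟩ := C.trans2 a x₀ p (j • p) hx₀.symm (Ne.symm hp)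
    have e1 : {r : Ω // ∀ w ∈ C.wGrp a x₀, w • r = r} ≃ {r : Ω // Lr p r} := by
      refine (MulAction.toPerm g).subtypeEquiv fun r => ⟨fun h w hw => ?_, fun h w hw => ?_⟩
      · have hw' : g⁻¹ * w * g ∈ C.wGrp a x₀ := by
          rw [← C.w_conj g, hga, hgx]
          have e : g * (g⁻¹ * w * g) * g⁻¹ = w := by group
          rwa [e]
        have := fix_conj g (h _ hw')
        have e : g * (g⁻¹ * w * g) * g⁻¹ = w := by group
        rwa [e] at this
      · exact fix_of_conj g (h _ (by have := (C.w_conj g).mpr hw; rwa [hga, hgx] at this))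
    have e2 : Nat.card {r : Ω // ∀ w ∈ C.wGrp a x₀, w • r = r} = 1 + f := by
      rw [around (fun r => ∀ w ∈ C.wGrp a x₀, w • r = r) fun w hw => hw.1, ← hf x₀ hx₀]
      congr 1
      exact Nat.card_congr (Equiv.subtypeEquivRight fun r => and_congr_right fun hr =>
        (C.w_eq_iff hx₀ hr).symm)
    rw [← Nat.card_congr e1, e2, add_comm]
    exact hfe.add_one
  let R : Ω → Ω → Prop := fun r p => j • p ≠ p ∧ j • r = r ∧ Lr p r
  have hjw : ∀ p : Ω, ∀ w ∈ C.wGrp p (j • p), j * w * j⁻¹ ∈ C.wGrp p (j • p) := by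
    intro p w hw
    have := (C.w_conj j).mpr hw
    rwa [← mul_smul, hj, one_smul, C.w_comm] at this
  have hex : ∀ p, j • p ≠ p → ∃ r, R r p := by
    intro p hp
    let F : {r : Ω // Lr p r} → {r : Ω // Lr p r} := fun r => ⟨j • r.1, fun w hw => by
      have := r.2 _ (hjw p w hw)
      rw [inv_eq_self hj, mul_smul, mul_smul] at this
      have h2 := congrArg (j • ·) this
      simp only [← mul_smul j j, hj, one_smul] at h2
      exact h2⟩
    have hFF : ∀ r, F (F r) = r := fun r => Subtype.ext (show j • j • r.1 = r.1 by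
      rw [← mul_smul, hj, one_smul])
    obtain ⟨⟨⟨r, hr⟩, hjr⟩⟩ : Nonempty {r // F r = r} := by
      rw [← not_isEmpty_iff]
      intro hemp
      have h1 := card_mod_two F hFF
      rw [Nat.card_of_isEmpty (α := {r // F r = r})] at h1
      have h2 := Nat.odd_iff.mp (hLodd p hp)
      have : Nat.card {r : Ω // Lr p r} % 2 = 0 % 2 := h1
      omega
    exact ⟨r, hp, congrArg Subtype.val hjr, hr⟩
  have huniq : ∀ p r s, R r p → R s p → r = s := by
    intro p r s hr hs
    by_contra hne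
    have h1 : j ∈ C.wGrp r s := ⟨hr.2.1, hs.2.1, is2_of_sq hj⟩
    rw [C.w_eq (Ne.symm hr.1) hne fun w hw => ⟨hr.2.2 w hw, hs.2.2 w hw⟩] at h1
    exact hr.1 h1.1
  have eout : (Σ r : {p : Ω // j • p = p}, {p : Ω // R r.1 p}) ≃ {p : Ω // ¬ j • p = p} :=
    Equiv.ofBijective (fun rp => ⟨rp.2.1, rp.2.2.1⟩) ⟨by
      rintro ⟨⟨r, hr⟩, ⟨p, hp⟩⟩ ⟨⟨s, hs⟩, ⟨p', hp'⟩⟩ h
      simp only [Subtype.mk.injEq] at h
      subst h
      obtain rfl := huniq p r s hp hp'
      rfl, fun p => by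
      obtain ⟨r, hr⟩ := hex p.1 p.2
      exact ⟨⟨⟨r, hr.2.1⟩, ⟨p.1, hr⟩⟩, rfl⟩⟩
  have Rmove : ∀ c : G, c * j = j * c → ∀ r p, R r p → R (c • r) (c • p) := by
    intro c hc r p hR
    have hcp : ∀ x : Ω, j • c • x = c • j • x := fun x => by rw [← mul_smul, ← hc, mul_smul]
    refine ⟨fun h => hR.1 ?_, by rw [hcp, hR.2.1], fun w hw => ?_⟩
    · rw [hcp] at h
      exact smul_left_cancel c h
    · have e : c * (c⁻¹ * w * c) * c⁻¹ = w := by group
      rw [hcp, ← e, C.w_conj] at hw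
      rw [← e]
      exact fix_conj c (hR.2.2 _ hw)
  have efib : ∀ r : {p : Ω // j • p = p}, Nonempty ({p : Ω // R r.1 p} ≃ {p : Ω // R a p}) := by
    intro r
    obtain ⟨c, hc, hcr⟩ := C.cent_trans (Y := {j}) (fun y hy => by
      rw [Set.mem_singleton_iff] at hy; subst hy; exact is2_of_sq hj)
      (p := r.1) (q := a) (fun y hy => by rw [Set.mem_singleton_iff] at hy; subst hy; exact r.2)
      (fun y hy => by rw [Set.mem_singleton_iff] at hy; subst hy; exact C.S_fix hjS)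
    have hcj : c * j = j * c := hc j rfl
    refine ⟨(MulAction.toPerm c).subtypeEquiv fun p => ⟨fun h => hcr ▸ Rmove c hcj _ _ h,
      fun h => ?_⟩⟩
    have := Rmove c⁻¹ (Commute.inv_left hcj).eq _ _ h
    rwa [inv_smul_eq_iff.mpr hcr.symm, MulAction.toPerm_apply, inv_smul_smul] at this
  have hout : Nat.card {p : Ω // ¬ j • p = p} = (1 + C.mu j * f) * Nat.card {p : Ω // R a p} := by
    rw [← Nat.card_congr eout, Nat.card_congr ((Equiv.sigmaCongrRight fun r => (efib r).some).trans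
      (Equiv.sigmaEquivProd _ _)), Nat.card_prod, hJ]
  have hRa : Nat.card {p : Ω // R a p} = (C.kappa j - C.mu j) * f := by
    have hnm : ∀ W : Subgroup G, j ∈ W → j ∈ normalizer (W : Set G) :=
      fun W hW => le_normalizer hW
    have h1 : Nat.card {p : Ω // R a p} = Nat.card {p : Ω // p ≠ a ∧
        (j ∈ normalizer (C.wGrp a p : Set G) ∧ j ∉ C.wGrp a p)} := by
      refine Nat.card_congr (Equiv.subtypeEquivRight fun p => ⟨fun h => ?_, fun h => ?_⟩)
      · have hpa : p ≠ a := fun e => h.1 (e ▸ C.S_fix hjS)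
        have hWeq : C.wGrp a p = C.wGrp p (j • p) :=
          C.w_eq (Ne.symm h.1) hpa.symm fun w hw => ⟨h.2.2 w hw, hw.1⟩
        refine ⟨hpa, ?_, fun hW => h.1 hW.2.1⟩
        rw [hWeq, mem_normalizer_iff]
        refine fun w => ⟨hjw p w, fun hw => ?_⟩
        have h3 := hjw p _ hw
        have e : j * (j * w * j⁻¹) * j⁻¹ = w := by
          rw [inv_eq_self hj]
          calc j * (j * w * j) * j = (j * j) * w * (j * j) := by group
            _ = w := by rw [hj, one_mul, mul_one]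
        rwa [e] at h3
      · obtain ⟨hpa, hn, hW⟩ := h
        have hp : j • p ≠ p := fun e => hW ⟨C.S_fix hjS, e, is2_of_sq hj⟩
        have hWeq : C.wGrp p (j • p) = C.wGrp a p :=
          C.w_eq hpa.symm (Ne.symm hp) fun w hw =>
            ⟨hw.2.1, C.norm_fix hn (fun w hw => hw.2.1) w hw⟩
        exact ⟨hp, C.S_fix hjS, fun w hw => (hWeq ▸ hw : w ∈ C.wGrp a p).1⟩
    rw [h1, C.card_pts hf fun W : Subgroup G => j ∈ normalizer (W : Set G) ∧ j ∉ W, Ctx.kappa, Ctx.mu]
    congr 1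
    rw [← Finset.card_sdiff_of_subset (Finset.monotone_filter_right _ fun W _ hW => hnm W hW)]
    refine congrArg Finset.card (Finset.ext fun W => ?_)
    simp only [Finset.mem_sdiff, Finset.mem_filter]
    tauto
  have hsplit : Nat.card Ω = Nat.card {p : Ω // j • p = p} + Nat.card {p : Ω // ¬ j • p = p} := by
    rw [← Nat.card_sum]
    exact Nat.card_congr (Equiv.sumCompl _).symm
  rw [hall, hJ, hout, hRa] at hsplit
  rw [add_comm _ 1, hsplit, Nat.mul_add, mul_one]

/-- The invariant lines are distributed over the central involutions. -/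
theorem Ctx.kappa_eq {j : G} (hjS : j ∈ S) (hj : j * j = 1) :
    C.kappa j = ∑ z ∈ (Set.toFinite {z : G | InA a z}).toFinset, C.mu (j * z) := by
  classical
  rw [Ctx.kappa]
  simp only [Ctx.mu]
  rw [← Finset.card_biUnion]
  · refine congrArg Finset.card (Finset.ext fun W => ?_)
    simp only [Finset.mem_filter, Finset.mem_biUnion, Set.Finite.mem_toFinset, Set.mem_setOf_eq]
    constructor
    · rintro ⟨hW, hn⟩
      obtain ⟨x, hx, rfl⟩ := C.mem_lines.mp hW
      obtain ⟨z, hz, hzm⟩ := C.pick hx hjS hj hn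
      exact ⟨z, hz, hW, hzm⟩
    · rintro ⟨z, hz, hW, hzm⟩
      refine ⟨hW, ?_⟩
      obtain ⟨x, hx, rfl⟩ := C.mem_lines.mp hW
      have h1 : z⁻¹ ∈ normalizer (C.wGrp a x : Set G) := inv_mem (mem_normalizer_of_comm
        fun w hw => (C.inA_comm hz (C.w_le_S x hw)).symm)
      have h2 := mul_mem (le_normalizer hzm) h1
      rwa [mul_inv_cancel_right] at h2
  · intro z hz z' hz' hne
    simp only [Finset.mem_coe, Set.Finite.mem_toFinset, Set.mem_setOf_eq] at hz hz'
    show Disjoint _ _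
    rw [Finset.disjoint_filter]
    intro W hW h1 h2
    obtain ⟨x, hx, rfl⟩ := C.mem_lines.mp hW
    refine hne ?_
    have h3 := mul_mem (inv_mem h1) h2
    rw [mul_inv_rev, inv_eq_self hj, mul_assoc, ← mul_assoc j j, hj, one_mul,
      inv_eq_self hz.2.1] at h3
    have h4 := C.inA_not_w hx.symm (C.inA_mul hz hz') h3
    rw [mul_eq_one_iff_inv_eq, inv_eq_self hz.2.1] at h4
    exact h4

end

end Cfsg.Agent.Suz27.Reg
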