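import Mathlib
import Cfsg.Agent.Lib.PGroup.Basic

/-!
A 2-group `P` with an elementary abelian subgroup `E` such that every non-identity element of `E`
has centraliser `E Z(P)`, with a family of automorphisms centralising `E` and transitive on
`Z(P) - 1`: the squares generate a subgroup meeting `E` trivially, and if no non-identity element
of `E` is central modulo `Z(P)` then `E` has order at most two (helper74).
-/

set_option autoImplicit false

namespace Cfsg.Agent.Suz27.Pair

open Subgroup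
open scoped commutatorElement

universe u

variable {P : Type u} [Group P]

/-- The set-up. -/
structure Hyp (E : Subgroup P) : Prop where
  p2 : IsPGroup 2 P
  sqE : ∀ e ∈ E, e * e = 1
  sqZ : ∀ z ∈ center P, z * z = 1
  disj : E ⊓ center P = ⊥
  cent : ∀ e ∈ E, e ≠ 1 → ∀ x : P, x * e = e * x → ∃ e' ∈ E, ∃ z ∈ center P, x = e' * z
  trans : ∀ z ∈ center P, ∀ z' ∈ center P, z ≠ 1 → z' ≠ 1 →
    ∃ k : P ≃* P, (∀ e ∈ E, k e = e) ∧ k z = z'

/-- The subgroup generated by the squares. -/
def sqGrp (P : Type u) [Group P] : Subgroup P := closure (Set.range fun x : P => x * x)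

theorem sq_mem (x : P) : x * x ∈ sqGrp P := subset_closure ⟨x, rfl⟩

theorem commutator_mem (x y : P) : ⁅x, y⁆ ∈ sqGrp P := by
  have h : ⁅x, y⁆ = (x * y) * (x * y) * ((y⁻¹ * x⁻¹ * y) * (y⁻¹ * x⁻¹ * y)) * (y⁻¹ * y⁻¹) := by
    rw [commutatorElement_def]; group
  rw [h]
  exact mul_mem (mul_mem (sq_mem _) (sq_mem _)) (sq_mem _)

instance sqGrp_normal : (sqGrp P).Normal := by
  refine ⟨fun n hn g => ?_⟩
  have h := mul_mem (commutator_mem g n) hn
  rwa [commutatorElement_def, inv_mul_cancel_right] at h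

theorem map_mem_sqGrp {Q : Type u} [Group Q] (f : P →* Q) {x : P} (hx : x ∈ sqGrp P) :
    f x ∈ sqGrp Q := by
  have h : (sqGrp P).map f ≤ sqGrp Q := by
    rw [sqGrp, MonoidHom.map_closure, closure_le]
    rintro _ ⟨_, ⟨y, rfl⟩, rfl⟩
    show f (y * y) ∈ sqGrp Q
    rw [map_mul]
    exact sq_mem _
  exact h ⟨x, hx, rfl⟩

section

variable {E : Subgroup P} (h : Hyp E)
include h

theorem Hyp.mem_center_E {e : P} (he : e ∈ E) (hc : e ∈ center P) : e = 1 := by
  have : e ∈ E ⊓ center P := ⟨he, hc⟩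
  rwa [h.disj, mem_bot] at this

theorem Hyp.commE {e e' : P} (he : e ∈ E) (he' : e' ∈ E) : e * e' = e' * e := by
  have h1 := inv_eq_of_mul_eq_one_right (h.sqE _ (mul_mem he he'))
  rw [mul_inv_rev, inv_eq_of_mul_eq_one_right (h.sqE e he),
    inv_eq_of_mul_eq_one_right (h.sqE e' he')] at h1
  exact h1.symm

theorem Hyp.sq_eq_one {x e z : P} (he : e ∈ E) (hz : z ∈ center P) (hx : x = e * z) :
    x * x = 1 := by
  rw [hx]
  calc e * z * (e * z) = e * (z * e) * z := by group
    _ = e * e * (z * z) := by rw [← mem_center_iff.mp hz e]; group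
    _ = 1 := by rw [h.sqE e he, h.sqZ z hz, one_mul]

/-- The image of the set-up modulo the centre, when no element of `E` is central there. -/
theorem Hyp.quotient [Finite P] {e₀ : P} (he₀ : e₀ ∈ E) (he₀1 : e₀ ≠ 1)
    (hnc : ∀ e ∈ E, e ≠ 1 → ∃ x : P, ⁅x, e⁆ ∉ center P) :
    Hyp (E.map (QuotientGroup.mk' (center P))) := by
  have hmk : ∀ x : P, (x : P ⧸ center P) = 1 ↔ x ∈ center P := fun x => QuotientGroup.eq_one_iff x
  have hcomm : ∀ x y : P, (x : P ⧸ center P) * y = y * x ↔ ⁅x, y⁆ ∈ center P := fun x y => by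
    rw [← hmk, ← commutatorElement_eq_one_iff_mul_comm]
    exact Iff.rfl
  have hcen : ∀ v : P, (v : P ⧸ center P) ∈ center (P ⧸ center P) ↔
      ∀ x, ⁅x, v⁆ ∈ center P := fun v => by
    rw [mem_center_iff]
    exact ⟨fun hv x => (hcomm x v).mp (hv x), fun hv g => by
      induction g using QuotientGroup.induction_on with
      | H x => exact (hcomm x v).mpr (hv x)⟩
  have hinv : ∀ x y : P, ⁅x, y⁆ ∈ center P → ⁅y, x⁆ ∈ center P := fun x y hxy => by
    rw [← commutatorElement_inv]; exact inv_mem hxy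
  -- the map `x ↦ ⁅x, e⁆` where it is central
  have hmulc : ∀ x y e : P, ⁅y, e⁆ ∈ center P → ⁅x * y, e⁆ = ⁅y, e⁆ * ⁅x, e⁆ := fun x y e hy => by
    calc ⁅x * y, e⁆ = x * ⁅y, e⁆ * x⁻¹ * ⁅x, e⁆ := by simp only [commutatorElement_def]; group
      _ = _ := by rw [mem_center_iff.mp hy x]; group
  -- elements central modulo the centre are detected by each element of `E`
  have inj : ∀ v : P, (∀ x : P, ⁅x, v⁆ ∈ center P) → ∀ e ∈ E, e ≠ 1 → ⁅v, e⁆ = 1 → v ∈ center P := by
    intro v hv e he he1 hc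
    obtain ⟨e', he', z, hz, rfl⟩ := h.cent e he he1 v (commutatorElement_eq_one_iff_mul_comm.mp hc)
    by_cases h1 : e' = 1
    · rw [h1, one_mul]; exact hz
    · exfalso
      obtain ⟨x, hx⟩ := hnc e' he' h1
      refine hx ?_
      have : ⁅x, e' * z⁆ = ⁅x, e'⁆ := by
        simp only [commutatorElement_def, mul_inv_rev]
        calc x * (e' * z) * x⁻¹ * (z⁻¹ * e'⁻¹) = x * e' * (z * x⁻¹) * z⁻¹ * e'⁻¹ := by group
          _ = x * e' * x⁻¹ * e'⁻¹ := by rw [← mem_center_iff.mp hz x⁻¹]; group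
      rw [← this]; exact hv x
  -- some element is central modulo the centre and not central
  haveI : Fact (Nat.Prime 2) := ⟨Nat.prime_two⟩
  haveI : Nontrivial (P ⧸ center P) := ⟨⟨(e₀ : P ⧸ center P), 1, fun h1 =>
    he₀1 (h.mem_center_E he₀ ((hmk e₀).mp h1))⟩⟩
  haveI : Nontrivial (center (P ⧸ center P)) :=
    (h.p2.to_quotient (center P)).center_nontrivial
  obtain ⟨⟨w, hw⟩, hw1⟩ := exists_ne (1 : center (P ⧸ center P))
  obtain ⟨v₀, rfl⟩ := QuotientGroup.mk'_surjective (center P) w
  rw [QuotientGroup.mk'_apply] at hw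
  have hv₀ := (hcen v₀).mp hw
  have hv₀' : v₀ ∉ center P := fun hc => hw1 (Subtype.ext ((hmk v₀).mpr hc))
  have hk : ∀ (k : P ≃* P) (v : P), (∀ x : P, ⁅x, v⁆ ∈ center P) → ∀ x : P, ⁅x, k v⁆ ∈ center P := by
    intro k v hv x
    obtain ⟨y, rfl⟩ := k.surjective x
    rw [← map_commutatorElement]
    exact mem_center_iff.mpr fun g => by
      obtain ⟨g', rfl⟩ := k.surjective g
      rw [← map_mul, ← map_mul, mem_center_iff.mp (hv y) g']
  have surj : ∀ e ∈ E, e ≠ 1 → ∀ z ∈ center P, ∃ v : P, (∀ x : P, ⁅x, v⁆ ∈ center P) ∧ ⁅v, e⁆ = z := by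
    intro e he he1 z hz
    by_cases hz1 : z = 1
    · exact ⟨1, fun x => by rw [commutatorElement_one_right]; exact one_mem _,
        by rw [commutatorElement_one_left, hz1]⟩
    obtain ⟨k, hke, hkz⟩ := h.trans _ (hinv _ _ (hv₀ e)) z hz
      (fun h1 => hv₀' (inj v₀ hv₀ e he he1 h1)) hz1
    refine ⟨k v₀, hk k v₀ hv₀, ?_⟩
    rw [← hkz, map_commutatorElement, hke e he]
  refine ⟨h.p2.to_quotient _, ?_, ?_, ?_, ?_, ?_⟩
  · rintro _ ⟨e, he, rfl⟩
    rw [← map_mul, h.sqE e he, map_one]
  · intro w hw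
    obtain ⟨v, rfl⟩ := QuotientGroup.mk'_surjective (center P) w
    rw [QuotientGroup.mk'_apply] at hw
    have hv := (hcen v).mp hw
    rw [← map_mul, QuotientGroup.mk'_apply, hmk]
    refine inj _ (fun x => (hcen (v * v)).mp (mul_mem hw hw) x) e₀ he₀ he₀1 ?_
    rw [hmulc v v e₀ (hinv _ _ (hv e₀))]
    exact h.sqZ _ (hinv _ _ (hv e₀))
  · rw [eq_bot_iff]
    rintro _ ⟨⟨e, he, rfl⟩, hc⟩
    rw [mem_bot]
    by_contra h1
    have he1 : e ≠ 1 := fun h0 => h1 (by rw [h0, map_one])
    obtain ⟨x, hx⟩ := hnc e he he1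
    exact hx ((hcen e).mp hc x)
  · rintro _ ⟨e, he, rfl⟩ he1 x hx
    induction x using QuotientGroup.induction_on with
    | H x =>
      have he1' : e ≠ 1 := fun h0 => he1 (by rw [h0, map_one])
      have hxe : ⁅x, e⁆ ∈ center P := (hcomm x e).mp hx
      obtain ⟨v, hv, hve⟩ := surj e he he1' _ hxe
      have hc : ⁅v⁻¹ * x, e⁆ = 1 := by
        rw [hmulc _ _ _ hxe]
        have h2 := hmulc v v⁻¹ e (by
          exact hinv _ _ ((hcen v⁻¹).mp (inv_mem ((hcen v).mpr hv)) e))
        rw [mul_inv_cancel, commutatorElement_one_left] at h2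
        rw [← hve, eq_inv_of_mul_eq_one_left h2.symm, mul_inv_cancel]
      obtain ⟨e', he', z, hz, hex⟩ :=
        h.cent e he he1' _ (commutatorElement_eq_one_iff_mul_comm.mp hc)
      refine ⟨(e' : P ⧸ center P), ⟨e', he', rfl⟩, (v : P ⧸ center P), (hcen v).mpr hv, ?_⟩
      have hvc := mem_center_iff.mp ((hcen v).mpr hv) (e' : P ⧸ center P)
      rw [hvc, show x = v * (e' * z) by rw [← hex, mul_inv_cancel_left], QuotientGroup.mk_mul,
        QuotientGroup.mk_mul, (hmk z).mpr hz, mul_one]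
  · intro w hw w' hw' hw1' hw'1
    obtain ⟨v, rfl⟩ := QuotientGroup.mk'_surjective (center P) w
    obtain ⟨v', rfl⟩ := QuotientGroup.mk'_surjective (center P) w'
    rw [QuotientGroup.mk'_apply] at hw hw' hw1' hw'1
    have hv := (hcen v).mp hw
    have hv' := (hcen v').mp hw'
    obtain ⟨k, hke, hkz⟩ := h.trans _ (hinv _ _ (hv e₀)) _ (hinv _ _ (hv' e₀))
      (fun h1 => hw1' ((hmk v).mpr (inj v hv e₀ he₀ he₀1 h1)))
      (fun h1 => hw'1 ((hmk v').mpr (inj v' hv' e₀ he₀ he₀1 h1)))
    have hmap : (center P).map k.toMonoidHom = center P := by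
      ext x
      rw [mem_map_equiv, mem_center_iff, mem_center_iff]
      exact ⟨fun hx g => by
        have := congrArg k (hx (k.symm g))
        simpa using this, fun hx g => by
        have := congrArg k.symm (hx (k g))
        simpa using this⟩
    refine ⟨QuotientGroup.congr (center P) (center P) k hmap, ?_, ?_⟩
    · rintro _ ⟨e, he, rfl⟩
      show ((k e : P) : P ⧸ center P) = (e : P ⧸ center P)
      rw [hke e he]
    · show ((k v : P) : P ⧸ center P) = (v' : P ⧸ center P)
      rw [QuotientGroup.eq]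
      have hkv := hk k v hv
      have hm : ∀ x, ⁅x, (k v)⁻¹ * v'⁆ ∈ center P :=
        (hcen _).mp (mul_mem (inv_mem ((hcen (k v)).mpr hkv)) hw')
      refine inj _ hm e₀ he₀ he₀1 ?_
      have h2 := hmulc (k v) ((k v)⁻¹ * v') e₀ (hinv _ _ (hm e₀))
      rw [mul_inv_cancel_left, ← hkz, map_commutatorElement, hke e₀ he₀] at h2
      exact right_eq_mul.mp h2

end

theorem center_nontrivial [Finite P] (hp : IsPGroup 2 P) {e : P} (he : e ≠ 1) :
    1 < Nat.card (center P) := by
  haveI : Fact (Nat.Prime 2) := ⟨Nat.prime_two⟩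
  haveI : Nontrivial P := ⟨⟨e, 1, he⟩⟩
  rw [Finite.one_lt_card_iff_nontrivial]
  exact hp.center_nontrivial

/-- The squares do not reach `E`. -/
theorem eq_one_of_mem_sqGrp : ∀ {P : Type u} [Group P] [Finite P] {E : Subgroup P}, Hyp E →
    ∀ e ∈ E, e ∈ sqGrp P → e = 1 := by
  suffices H : ∀ (n : ℕ) {P : Type u} [Group P] [Finite P] {E : Subgroup P}, Nat.card P = n →
      Hyp E → ∀ e ∈ E, e ∈ sqGrp P → e = 1 from fun {P} _ _ {E} h => H _ rfl h
  intro n
  induction n using Nat.strong_induction_on with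
  | _ n ih =>
    intro P _ _ E hn h e he hes
    by_contra he1
    by_cases hA : ∃ i ∈ E, i ≠ 1 ∧ ∀ x : P, ⁅x, i⁆ ∈ center P
    · obtain ⟨i, hi, hi1, hic⟩ := hA
      have hle : sqGrp P ≤ center P := by
        rw [sqGrp, closure_le]
        rintro _ ⟨x, rfl⟩
        have hc : ⁅x * x, i⁆ = 1 := by
          calc ⁅x * x, i⁆ = x * ⁅x, i⁆ * x⁻¹ * ⁅x, i⁆ := by simp only [commutatorElement_def]; group
            _ = ⁅x, i⁆ * ⁅x, i⁆ := by rw [mem_center_iff.mp (hic x) x]; group
            _ = 1 := h.sqZ _ (hic x)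
        obtain ⟨e', he', z, hz, hxz⟩ :=
          h.cent i hi hi1 _ (commutatorElement_eq_one_iff_mul_comm.mp hc)
        show x * x ∈ center P
        by_cases h1 : e' = 1
        · rw [hxz, h1, one_mul]; exact hz
        exfalso
        have hcom : x * e' = e' * x := by
          have h2 : x * (e' * z) = e' * z * x := by rw [← hxz, mul_assoc]
          have h3 : x * e' * z = e' * x * z := by
            rw [mul_assoc, h2, mul_assoc, mul_assoc, mem_center_iff.mp hz x]
          exact mul_right_cancel h3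
        obtain ⟨e'', he'', z'', hz'', hxx⟩ := h.cent e' he' h1 x hcom
        rw [h.sq_eq_one he'' hz'' hxx] at hxz
        exact h1 (h.mem_center_E he' (by
          rw [eq_inv_of_mul_eq_one_left hxz.symm]; exact inv_mem hz))
      exact he1 (h.mem_center_E he (hle hes))
    · simp only [not_exists, not_and, not_forall] at hA
      have hq := h.quotient he he1 hA
      have hlt : Nat.card (P ⧸ center P) < n := by
        have h1 := card_eq_card_quotient_mul_card_subgroup (center P)
        have h2 := center_nontrivial h.p2 he1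
        have h3 : 0 < Nat.card (P ⧸ center P) := Nat.card_pos
        rw [← hn, h1]
        exact lt_mul_of_one_lt_right h3 h2
      have := ih _ hlt rfl hq (QuotientGroup.mk' _ e) ⟨e, he, rfl⟩ (map_mem_sqGrp _ hes)
      exact he1 (h.mem_center_E he ((QuotientGroup.eq_one_iff e).mp this))

/-- If no non-identity element of `E` is central modulo the centre, `E` has order at most two. -/
theorem eq_of_not_central [Finite P] {E : Subgroup P} (h : Hyp E)
    (hnc : ∀ e ∈ E, e ≠ 1 → ∃ x : P, ⁅x, e⁆ ∉ center P)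
    {e i : P} (he : e ∈ E) (hi : i ∈ E) (he1 : e ≠ 1) (hi1 : i ≠ 1) : e = i := by
  haveI : Fact (Nat.Prime 2) := ⟨Nat.prime_two⟩
  by_contra hne
  have hq := h.quotient he he1 hnc
  set π := QuotientGroup.mk' (center P) with hπ
  -- every element central modulo the centre has square `⁅v, e⁆`
  have key : ∀ e ∈ E, e ≠ 1 → ∀ v : P, π v ∈ center (P ⧸ center P) → v ∉ center P →
      ⁅v, e⁆ = v * v := by
    intro e he he1
    have hπe : π e ≠ 1 := fun h0 => he1 (h.mem_center_E he ((QuotientGroup.eq_one_iff e).mp h0))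
    have hsub : center (P ⧸ center P) ≤ sqGrp (P ⧸ center P) := by
      obtain ⟨x, hx⟩ := hnc e he he1
      have hne1 : (⟨π ⁅x, e⁆, map_mem_sqGrp _ (commutator_mem x e)⟩ : sqGrp (P ⧸ center P)) ≠ 1 :=
        fun h0 => hx ((QuotientGroup.eq_one_iff _).mp (congrArg Subtype.val h0))
      haveI : Nontrivial (sqGrp (P ⧸ center P)) := ⟨⟨_, 1, hne1⟩⟩
      have hmeet : ∃ c ∈ sqGrp (P ⧸ center P), c ∈ center (P ⧸ center P) ∧ c ≠ 1 := by
        by_contra hno
        simp only [not_exists, not_and, not_not] at hno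
        have hp := hq.p2
        have hd : Disjoint (sqGrp (P ⧸ center P)) (center (P ⧸ center P)) :=
          disjoint_def.mpr fun {c} h1 h2 => hno c h1 h2
        have hb : sqGrp (P ⧸ center P) = ⊥ :=
          by_contra fun hne => Cfsg.Agent.PGroup.inf_center_ne_bot hp hne hd.eq_bot
        exact hne1 (Subtype.ext (mem_bot.mp (hb ▸ map_mem_sqGrp _ (commutator_mem x e))))
      obtain ⟨c, hcs, hcz, hc1⟩ := hmeet
      intro d hd
      by_cases hd1 : d = 1
      · rw [hd1]; exact one_mem _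
      obtain ⟨k, -, hk⟩ := hq.trans c hcz d hd hc1 hd1
      rw [← hk]
      exact map_mem_sqGrp k.toMonoidHom hcs
    let H : Subgroup P := (centralizer ({π e} : Set (P ⧸ center P))).comap π
    have hH : H < ⊤ := by
      obtain ⟨x, hx⟩ := hnc e he he1
      refine lt_top_iff_ne_top.mpr fun h0 => hx ?_
      have hxH : x ∈ H := h0 ▸ mem_top x
      rw [mem_comap, mem_centralizer_singleton_iff] at hxH
      rw [← QuotientGroup.eq_one_iff]
      show π ⁅x, e⁆ = 1
      rw [map_commutatorElement, commutatorElement_eq_one_iff_mul_comm]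
      exact hxH
    haveI := h.p2.isNilpotent
    obtain ⟨u, hu, hun⟩ := SetLike.exists_of_lt (Group.normalizerCondition_of_isNilpotent H hH)
    have heH : e ∈ H := mem_centralizer_singleton_iff.mpr rfl
    have hue : u * e * u⁻¹ ∈ H := (mem_normalizer_iff.mp hu e).mp heH
    set y := ⁅u, e⁆ with hy
    have hyH : y ∈ H := mul_mem hue (inv_mem heH)
    have hyZ : y ∉ center P := fun hyc => hun (by
      rw [mem_comap, mem_centralizer_singleton_iff]
      exact commutatorElement_eq_one_iff_mul_comm.mp (by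
        rw [← map_commutatorElement]; exact (QuotientGroup.eq_one_iff _).mpr hyc))
    obtain ⟨e', he', c, hc, hye⟩ := hq.cent (π e) ⟨e, he, rfl⟩ hπe (π y)
      (mem_centralizer_singleton_iff.mp hyH)
    have he'1 : e' = 1 := eq_one_of_mem_sqGrp hq e' he' (by
      rw [show e' = π y * c⁻¹ by rw [hye, mul_inv_cancel_right]]
      exact mul_mem (map_mem_sqGrp _ (commutator_mem u e)) (inv_mem (hsub hc)))
    rw [he'1, one_mul] at hye
    have hyc : π y ∈ center (P ⧸ center P) := hye ▸ hc
    have hyy : ⁅y, e⁆ = y * y := by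
      have hee : e⁻¹ = e := inv_eq_of_mul_eq_one_right (h.sqE e he)
      have h1 : (y * e) * (y * e) = 1 := by
        rw [hy, commutatorElement_def, inv_mul_cancel_right]
        calc u * e * u⁻¹ * (u * e * u⁻¹) = u * (e * e) * u⁻¹ := by group
          _ = 1 := by rw [h.sqE e he]; group
      have h2 : e * y⁻¹ * e = y := by
        have : e * y * e = y⁻¹ := eq_inv_of_mul_eq_one_right (by rw [← h1]; group)
        rw [← this]
        calc e * (e * y * e) * e = (e * e) * y * (e * e) := by group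
          _ = y := by rw [h.sqE e he, one_mul, mul_one]
      calc ⁅y, e⁆ = y * (e * y⁻¹ * e) := by rw [commutatorElement_def, hee]; group
        _ = y * y := by rw [h2]
    intro v hv hvZ
    have hsurj : ∀ w, π w ∈ center (P ⧸ center P) → w ∉ center P → π w ≠ 1 := fun w _ hw h0 =>
      hw ((QuotientGroup.eq_one_iff w).mp h0)
    have hce : ∀ w, π w ∈ center (P ⧸ center P) → ⁅w, e⁆ ∈ center P := fun w hw => by
      rw [← QuotientGroup.eq_one_iff]
      show π ⁅w, e⁆ = 1
      rw [map_commutatorElement, commutatorElement_eq_one_iff_mul_comm]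
      exact (mem_center_iff.mp hw (π e)).symm
    have hne1 : ∀ w, π w ∈ center (P ⧸ center P) → w ∉ center P → ⁅w, e⁆ ≠ 1 := fun w hw hwZ h0 => by
      obtain ⟨e', he', z, hz, rfl⟩ := h.cent e he he1 w (commutatorElement_eq_one_iff_mul_comm.mp h0)
      refine hsurj _ hw hwZ ?_
      have hz1 : π z = 1 := (QuotientGroup.eq_one_iff z).mpr hz
      rw [map_mul, hz1, mul_one] at hw ⊢
      exact hq.mem_center_E ⟨e', he', rfl⟩ hw
    obtain ⟨k, hke, hk⟩ := h.trans _ (hce y hyc) _ (hce v hv) (hne1 y hyc hyZ) (hne1 v hv hvZ)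
    have hky : π (k y) ∈ center (P ⧸ center P) := by
      rw [mem_center_iff]
      intro g
      induction g using QuotientGroup.induction_on with
      | H g =>
        obtain ⟨g', rfl⟩ := k.surjective g
        have h1 : ⁅g', y⁆ ∈ center P := by
          rw [← QuotientGroup.eq_one_iff]
          show π ⁅g', y⁆ = 1
          rw [map_commutatorElement, commutatorElement_eq_one_iff_mul_comm]
          exact mem_center_iff.mp hyc (π g')
        have h2 : ⁅k g', k y⁆ ∈ center P := by
          rw [← map_commutatorElement, mem_center_iff]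
          intro x
          obtain ⟨x', rfl⟩ := k.surjective x
          rw [← map_mul, ← map_mul, mem_center_iff.mp h1 x']
        show π (k g') * π (k y) = π (k y) * π (k g')
        rw [← commutatorElement_eq_one_iff_mul_comm, ← map_commutatorElement]
        exact (QuotientGroup.eq_one_iff _).mpr h2
    -- `v` is `k y` times a central element
    set z := (k y)⁻¹ * v with hz
    have hzZ : z ∈ center P := by
      by_contra hzn
      have hzc : π z ∈ center (P ⧸ center P) := by
        rw [hz, map_mul, map_inv]; exact mul_mem (inv_mem hky) hv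
      refine hne1 z hzc hzn ?_
      have hm : ⁅k y * z, e⁆ = ⁅z, e⁆ * ⁅k y, e⁆ := by
        calc ⁅k y * z, e⁆ = k y * ⁅z, e⁆ * (k y)⁻¹ * ⁅k y, e⁆ := by
              simp only [commutatorElement_def]; group
          _ = _ := by rw [mem_center_iff.mp (hce z hzc) (k y)]; group
      have hkk : ⁅k y, e⁆ = ⁅v, e⁆ :=
        Eq.trans (by rw [map_commutatorElement (f := k) y e, hke e he]) hk
      rw [show k y * z = v from mul_inv_cancel_left _ _, hkk] at hm
      exact right_eq_mul.mp hm
    calc ⁅v, e⁆ = k ⁅y, e⁆ := hk.symm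
      _ = k y * k y := by rw [hyy, map_mul]
      _ = k y * k y * (z * z) := by rw [h.sqZ z hzZ, mul_one]
      _ = (k y * z) * (k y * z) := by
        calc k y * k y * (z * z) = k y * (k y * z) * z := by group
          _ = k y * (z * k y) * z := by rw [← mem_center_iff.mp hzZ (k y)]
          _ = _ := by group
      _ = v * v := by rw [hz, mul_inv_cancel_left]
  haveI : Nontrivial (P ⧸ center P) := ⟨⟨π e, 1, fun h0 =>
    he1 (h.mem_center_E he ((QuotientGroup.eq_one_iff e).mp h0))⟩⟩
  haveI : Nontrivial (center (P ⧸ center P)) := hq.p2.center_nontrivial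
  obtain ⟨⟨w, hw⟩, hw1⟩ := exists_ne (1 : center (P ⧸ center P))
  obtain ⟨v, rfl⟩ := QuotientGroup.mk'_surjective (center P) w
  have hvZ : v ∉ center P := fun h0 => hw1 (Subtype.ext ((QuotientGroup.eq_one_iff v).mpr h0))
  have hei : e * i ≠ 1 := fun h0 => hne (by
    rw [eq_inv_of_mul_eq_one_left h0, inv_eq_of_mul_eq_one_right (h.sqE i hi)])
  have k1 := key e he he1 v hw hvZ
  have k2 := key i hi hi1 v hw hvZ
  have k3 := key (e * i) (mul_mem he hi) hei v hw hvZ
  have hvv : v * v ∈ center P := by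
    have := hq.sqZ _ hw
    rw [← map_mul] at this
    exact (QuotientGroup.eq_one_iff _).mp this
  have hvi : ⁅v, e * i⁆ = ⁅v, e⁆ * ⁅v, i⁆ := by
    calc ⁅v, e * i⁆ = ⁅v, e⁆ * (e * ⁅v, i⁆ * e⁻¹) := by simp only [commutatorElement_def]; group
      _ = _ := by
        have : ⁅v, i⁆ ∈ center P := k2 ▸ hvv
        rw [mem_center_iff.mp this e, mul_inv_cancel_right]
  rw [k1, k2, k3] at hvi
  have h1 : v * v = 1 := left_eq_mul.mp hvi
  obtain ⟨e', he', z, hz, rfl⟩ := h.cent e he he1 v
    (commutatorElement_eq_one_iff_mul_comm.mp (k1.trans h1))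
  have hz1 : π z = 1 := (QuotientGroup.eq_one_iff z).mpr hz
  refine hvZ ?_
  rw [map_mul, hz1, mul_one] at hw
  have h2 : π e' = 1 := hq.mem_center_E ⟨e', he', rfl⟩ hw
  exact mul_mem ((QuotientGroup.eq_one_iff e').mp h2) hz

end Cfsg.Agent.Suz27.Pair
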