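import Mathlib
import Cfsg.Agent.Suz27.RegularCount
import Cfsg.Agent.Suz27.TwoGroupPair
import Cfsg.Agent.Lib.Involution.IndexTwo

/-!
In a simple group acting doubly transitively with odd degree, such that the point stabiliser has a
nilpotent normal subgroup of odd index transitive on the other points, the two-point stabilisers
have odd order (helper74).
-/

set_option autoImplicit false

namespace Cfsg.Agent.Suz27.Reg

open MulAction Subgroup
open scoped commutatorElement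

theorem index_dvd_card {H : Type*} [Group H] {F : Type*} [MulAction H F] [Finite H] [Finite F]
    (K : Subgroup H) (h : ∀ x : F, stabilizer H x = K) : K.index ∣ Nat.card F := by
  classical
  haveI := Fintype.ofFinite (Quotient (orbitRel H F))
  rw [Nat.card_congr (selfEquivSigmaOrbitsQuotientStabilizer H F), Nat.card_sigma]
  exact Finset.dvd_sum fun ω _ => by rw [← index_eq_card, h]

theorem exists_invol {G : Type*} [Group G] [Finite G] {X : Subgroup G} (h : IsPGroup 2 X)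
    (hne : X ≠ ⊥) : ∃ j ∈ X, j * j = 1 ∧ j ≠ 1 := by
  haveI : Fact (Nat.Prime 2) := ⟨Nat.prime_two⟩
  haveI : Nontrivial X := (nontrivial_iff_ne_bot X).mpr hne
  obtain ⟨k, hk⟩ := IsPGroup.iff_card.mp h
  have hd : 2 ∣ Nat.card X := by
    rcases k with _ | k
    · have := Finite.one_lt_card (α := X)
      omega
    · exact hk ▸ dvd_pow_self 2 k.succ_ne_zero
  obtain ⟨z, hz⟩ := exists_prime_orderOf_dvd_card' 2 hd
  refine ⟨z, z.2, ?_, fun h => ?_⟩
  · rw [← sq, ← orderOf_dvd_iff_pow_eq_one, Subgroup.orderOf_coe, hz]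
  · rw [show z = 1 from Subtype.ext h, orderOf_one] at hz
    omega

theorem eq_one_of_odd_dvd_two_pow {m k : ℕ} (hm : Odd m) (h : m ∣ 2 ^ k) : m = 1 := by
  obtain ⟨i, -, rfl⟩ := (Nat.dvd_prime_pow Nat.prime_two).mp h
  rcases i with _ | i
  · rfl
  · exact absurd hm (Nat.not_odd_iff_even.mpr (even_iff_two_dvd.mpr (dvd_pow_self 2 i.succ_ne_zero)))

section

variable {G : Type*} [Group G] {Ω : Type*} [MulAction G Ω] {a : Ω} {U S : Subgroup G}
  (C : Ctx a U S) [Finite G] [Finite Ω]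
include C

omit [Finite G] [Finite Ω] in
/-- The central elements of square one fixing `a`. -/
def Ctx.aGrp [Finite G] : Subgroup G where
  carrier := {z | InA a z}
  one_mem' := inA_one a
  mul_mem' := fun hz hz' => C.inA_mul hz hz'
  inv_mem' := fun {z} hz => by
    show InA a z⁻¹
    rw [inv_eq_self hz.2.1]
    exact hz

theorem Ctx.card_aGrp [IsSimpleGroup G] : ∃ s : ℕ, 2 ≤ s ∧ Nat.card C.aGrp = 2 ^ s := by
  haveI : Fact (Nat.Prime 2) := ⟨Nat.prime_two⟩
  have hp : IsPGroup 2 C.aGrp := fun z =>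
    ⟨1, Subtype.ext (show (z : G) ^ 2 ^ 1 = 1 by rw [pow_one, sq]; exact z.2.2.1)⟩
  obtain ⟨s, hs⟩ := IsPGroup.iff_card.mp hp
  refine ⟨s, ?_, hs⟩
  obtain ⟨z, z', hz, hz', h1, h1', hne⟩ := C.two_inA
  haveI := Fintype.ofFinite C.aGrp
  have h3 : 3 ≤ Nat.card C.aGrp := by
    rw [Nat.card_eq_fintype_card]
    refine Fintype.two_lt_card_iff.mpr ⟨1, ⟨z, hz⟩, ⟨z', hz'⟩, ?_, ?_, ?_⟩
    · exact fun h => h1 (congrArg Subtype.val h).symm
    · exact fun h => h1' (congrArg Subtype.val h).symm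
    · exact fun h => hne (congrArg Subtype.val h)
  by_contra hlt
  have : 2 ^ s ≤ 2 ^ 1 := Nat.pow_le_pow_right (by norm_num) (by omega)
  omega

theorem Ctx.smul_line {g : G} (hga : g • a = a) {b r : Ω} (hb : b ≠ a)
    (hg : g ∈ normalizer (C.wGrp a b : Set G)) (hr : r ≠ a ∧ C.wGrp a r = C.wGrp a b) :
    g • r ≠ a ∧ C.wGrp a (g • r) = C.wGrp a b := by
  have h1 : g • r ≠ a := fun h => hr.1 (smul_left_cancel g (h.trans hga.symm))
  exact ⟨h1, (C.w_eq_iff hb h1).mpr (C.norm_fix hg ((C.w_eq_iff hb hr.1).mp hr.2))⟩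

/-- The index in `H` of the fixer of the line divides the number of its points other than `a`. -/
theorem Ctx.relIndex_dvd {b : Ω} (hb : b ≠ a) (H K : Subgroup G) (hHS : H ≤ S)
    (hH : H ≤ normalizer (C.wGrp a b : Set G))
    (hK : ∀ h ∈ H, h ∈ C.wGrp a b ↔ h ∈ K) :
    K.relIndex H ∣ Nat.card {r : Ω // r ≠ a ∧ C.wGrp a r = C.wGrp a b} := by
  letI : MulAction H {r : Ω // r ≠ a ∧ C.wGrp a r = C.wGrp a b} :=
    { smul := fun h r => ⟨(h : G) • r.1, C.smul_line (C.S_fix (hHS h.2)) hb (hH h.2) r.2⟩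
      one_smul := fun r => Subtype.ext (one_smul G r.1)
      mul_smul := fun h h' r => Subtype.ext (mul_smul (h : G) (h' : G) r.1) }
  refine index_dvd_card (K.subgroupOf H) fun r => ?_
  ext h
  rw [mem_stabilizer_iff, mem_subgroupOf, ← hK h.1 h.2]
  constructor
  · intro e
    have e' : (h : G) • r.1 = r.1 := congrArg Subtype.val e
    rw [← r.2.2]
    exact ⟨C.S_fix (hHS h.2), e', is2_of_mem C.S2 (hHS h.2)⟩
  · intro e
    rw [← r.2.2] at e
    exact Subtype.ext e.2.1

theorem Ctx.lines_two_pow {b : Ω} (hb : b ≠ a) : ∃ k : ℕ, C.lines.card ∣ 2 ^ k := by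
  classical
  haveI : Fact (Nat.Prime 2) := ⟨Nat.prime_two⟩
  haveI := Fintype.ofFinite S
  obtain ⟨k, hk⟩ := IsPGroup.iff_card.mp C.S2
  refine ⟨k, ?_⟩
  let φ : S → Subgroup G := fun s => C.wGrp a ((s : G) • b)
  have hφ : ∀ s : S, φ s ∈ C.lines := fun s => C.mem_lines.mpr ⟨_, fun h =>
    hb (smul_left_cancel (s : G) (h.trans (C.S_fix s.2).symm)), rfl⟩
  have hfib : ∀ W ∈ C.lines, {s ∈ (Finset.univ : Finset S) | φ s = W}.card =
      {s ∈ (Finset.univ : Finset S) | φ s = C.wGrp a b}.card := by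
    intro W hW
    obtain ⟨x, hx, rfl⟩ := C.mem_lines.mp hW
    obtain ⟨u, hu, rfl⟩ := C.trU b x hb hx
    obtain ⟨t, ht, c, hc, rfl⟩ := C.split u hu
    have hta := C.S_fix ht
    have hca : c • a = a := by
      have h1 := C.Ua _ hu
      rw [mul_smul] at h1
      exact smul_left_cancel t (h1.trans hta.symm)
    have hcb : c • b ≠ a := fun h => hb (smul_left_cancel c (h.trans hca.symm))
    have hWc : C.wGrp a (c • b) = C.wGrp a b := by
      refine C.w_eq hb.symm hcb.symm fun w hw => ⟨hw.1, ?_⟩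
      rw [← mul_smul, ← hc w (C.w_le_S b hw), mul_smul, hw.2.1]
    have hW' : C.wGrp a ((t * c) • b) = C.wGrp a (t • b) := by
      rw [mul_smul]; exact C.w_congr hta hWc
    refine (Finset.card_equiv (Equiv.mulLeft (⟨t, ht⟩ : S)) fun s => ?_).symm
    simp only [Finset.mem_filter, Finset.mem_univ, true_and, Equiv.coe_mulLeft, φ]
    rw [hW', Subgroup.coe_mul, mul_smul]
    exact ⟨fun h => C.w_congr hta h, fun h => by
      simpa using C.w_congr (g := t⁻¹) (fix_inv hta) h⟩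
  have h := Finset.card_eq_sum_card_fiberwise (f := φ) (s := Finset.univ) (t := C.lines)
    fun s _ => hφ s
  rw [Finset.sum_const_nat hfib, Finset.card_univ, ← Nat.card_eq_fintype_card, hk] at h
  exact Dvd.intro _ h.symm

/-- An involution in the group of a line lies in the group of no other line through `a`. -/
theorem Ctx.mu_eq_one [IsSimpleGroup G] {f : ℕ}
    (hf : ∀ x : Ω, x ≠ a → Nat.card {r : Ω // r ≠ a ∧ C.wGrp a r = C.wGrp a x} = f)
    {x : Ω} (hx : x ≠ a) {j : G} (hjW : j ∈ C.wGrp a x) (hj : j * j = 1) (hj1 : j ≠ 1) :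
    C.mu j = 1 ∧ C.kappa j = Nat.card C.aGrp ∧ (∃ t, Odd t ∧ f = Nat.card C.aGrp * t) ∧
      Nat.card C.aGrp < C.lines.card := by
  classical
  have hjS : j ∈ S := C.w_le_S x hjW
  obtain ⟨s, hs, hq⟩ := C.card_aGrp
  have hqf : Nat.card C.aGrp ∣ f := by
    have h1 := C.relIndex_dvd hx C.aGrp ⊥ (fun z hz => C.inA_mem hz)
      (fun z hz => mem_normalizer_of_comm fun w hw => (C.inA_comm hz (C.w_le_S x hw)).symm)
      (fun z hz => ⟨fun h => mem_bot.mpr (C.inA_not_w hx.symm hz h),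
        fun h => mem_bot.mp h ▸ one_mem _⟩)
    rwa [hf x hx, relIndex_bot_left] at h1
  obtain ⟨t, ht⟩ := hqf
  have hf0 : 0 < f := by
    rw [← hf x hx]
    haveI : Nonempty {r : Ω // r ≠ a ∧ C.wGrp a r = C.wGrp a x} := ⟨⟨x, hx, rfl⟩⟩
    exact Nat.card_pos
  have hqe : Even (Nat.card C.aGrp) := by
    rw [hq, even_iff_two_dvd]; exact dvd_pow_self 2 (by omega)
  have hfe : Even f := ht ▸ hqe.mul_right t
  set A := (Set.toFinite {z : G | InA a z}).toFinset with hA
  have hAm : ∀ z, z ∈ A ↔ InA a z := fun z => by rw [hA, Set.Finite.mem_toFinset]; rfl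
  have hAc : A.card = Nat.card C.aGrp := by
    rw [← Nat.card_eq_finsetCard]
    exact Nat.card_congr (Equiv.subtypeEquivRight fun z => hAm z)
  obtain ⟨z₀, hz₀, hz₀1⟩ := C.exists_inA a
  have hconst : ∀ z ∈ A.erase 1, C.mu (j * z) = C.mu (j * z₀) := by
    intro z hz
    rw [Finset.mem_erase, hAm] at hz
    obtain ⟨k, hka, hkW, hkz⟩ := C.trans_inA hx hz₀ hz₀1 hz.2 hz.1
    rw [← C.mu_conj hf hf0 hka (j * z₀)]
    congr 1
    calc j * z = j * (k * z₀ * k⁻¹) := by rw [hkz]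
      _ = (j * k) * (z₀ * k⁻¹) := by group
      _ = (k * j) * (z₀ * k⁻¹) := by rw [hkW j hjW]
      _ = k * (j * z₀) * k⁻¹ := by group
  set m := C.mu j with hm
  set m' := C.mu (j * z₀) with hm'
  have hkap : C.kappa j = m + (Nat.card C.aGrp - 1) * m' := by
    rw [C.kappa_eq hjS hj, ← hA, ← Finset.add_sum_erase A _ ((hAm 1).mpr (inA_one a)),
      Finset.sum_const_nat hconst, mul_one, Finset.card_erase_of_mem ((hAm 1).mpr (inA_one a)),
      hAc]
  have hm1 : 1 ≤ m := Finset.one_le_card.mpr ⟨C.wGrp a x,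
    Finset.mem_filter.mpr ⟨C.mem_lines.mpr ⟨x, hx, rfl⟩, hjW⟩⟩
  obtain ⟨p, hp⟩ : ∃ p, Nat.card C.aGrp = p + 2 := ⟨Nat.card C.aGrp - 2, by
    have : 2 ^ 2 ≤ 2 ^ s := Nat.pow_le_pow_right (by norm_num) hs
    omega⟩
  have hjz : j * z₀ * (j * z₀) = 1 := by
    calc j * z₀ * (j * z₀) = j * (z₀ * j) * z₀ := by group
      _ = (j * j) * (z₀ * z₀) := by rw [← C.inA_comm hz₀ hjS]; group
      _ = 1 := by rw [hj, hz₀.2.1, one_mul]
  have hkap' : C.kappa (j * z₀) = C.kappa j := by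
    refine congrArg Finset.card (Finset.filter_congr fun W hW => ?_)
    obtain ⟨y, hy, rfl⟩ := C.mem_lines.mp hW
    exact Subgroup.mul_mem_cancel_right _
      (mem_normalizer_of_comm fun w hw => (C.inA_comm hz₀ (C.w_le_S y hw)).symm)
  have c1 := C.count hf hfe hjS hj
  have c2 := C.count hf hfe (mul_mem hjS (C.inA_mem hz₀)) hjz
  rw [hkap', hkap, hp, show p + 2 - 1 = p + 1 by omega, ← hm'] at c2
  rw [hkap, hp, show p + 2 - 1 = p + 1 by omega, ← hm, Nat.add_sub_cancel_left] at c1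
  rw [show m + (p + 1) * m' - m' = m + p * m' by
    rw [add_mul, one_mul, ← add_assoc, Nat.add_sub_cancel]] at c2
  have hN : C.lines.card = m + (p + 1) * m' + f * m * ((p + 1) * m') :=
    Nat.eq_of_mul_eq_mul_right hf0 (by nlinarith [c1])
  have hm'0 : m' ≠ 0 := by
    intro h0
    rw [h0, mul_zero, mul_zero, add_zero, add_zero] at hN
    have hall := (Finset.card_filter_eq_iff (s := C.lines) (p := fun W => j ∈ W)).mp hN.symm
    refine hj1 (C.faithful j fun y => ?_)
    by_cases hy : y = a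
    · rw [hy]; exact C.S_fix hjS
    · exact (hall _ (C.mem_lines.mpr ⟨y, hy, rfl⟩)).2.1
  have hp0 : 0 < p := by
    have : 2 ^ 2 ≤ 2 ^ s := Nat.pow_le_pow_right (by norm_num) hs
    omega
  have hN' : C.lines.card = m + (p + 1) * m' + f * m' * (m + p * m') :=
    Nat.eq_of_mul_eq_mul_right hf0 (by nlinarith [c2])
  have heq : m' = m := by
    have h1 : f * (m' * (p * m')) = f * (m' * (p * m)) := by nlinarith [hN, hN']
    exact Nat.eq_of_mul_eq_mul_left hp0
      (Nat.eq_of_mul_eq_mul_left (Nat.pos_of_ne_zero hm'0) (Nat.eq_of_mul_eq_mul_left hf0 h1))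
  rw [heq] at hN
  obtain ⟨k, hk⟩ := C.lines_two_pow hx
  have hfac : C.lines.card = m * ((p + 2) * (1 + t * m * (p + 1))) := by
    rw [hN, ht, hp]; ring
  have hb : (1 + t * m * (p + 1)) ∣ 2 ^ k :=
    dvd_trans (Dvd.intro_left (m * (p + 2)) (by rw [hfac, mul_assoc])) hk
  have ht0 : 0 < t := Nat.pos_of_ne_zero fun h => by rw [h, mul_zero] at ht; omega
  have hodd : Odd (t * m * (p + 1)) := by
    rw [← Nat.not_even_iff_odd]
    intro he
    have h1 := eq_one_of_odd_dvd_two_pow (by simpa [add_comm] using he.add_one) hb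
    have : 0 < t * m * (p + 1) := by positivity
    omega
  obtain ⟨htm, -⟩ := Nat.odd_mul.mp hodd
  obtain ⟨hto, hmo⟩ := Nat.odd_mul.mp htm
  have hmone : m = 1 :=
    eq_one_of_odd_dvd_two_pow hmo (dvd_trans (Dvd.intro _ hfac.symm) hk)
  refine ⟨hmone, ?_, ⟨t, hto, ht⟩, ?_⟩
  · rw [hkap, heq, hmone, hp]; omega
  · rw [hfac, hmone, hp, one_mul]
    have : 1 < 1 + t * 1 * (p + 1) := by
      have : 0 < t * 1 * (p + 1) := by positivity
      omega
    exact lt_mul_of_one_lt_right (by omega) this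

/-- The 2-elements fixing two points are trivial. -/
theorem Ctx.regular [IsSimpleGroup G] {b : Ω} (hb : b ≠ a) : C.wGrp a b = ⊥ := by
  classical
  haveI : Fact (Nat.Prime 2) := ⟨Nat.prime_two⟩
  by_contra hne
  set W := C.wGrp a b with hWdef
  set f := Nat.card {r : Ω // r ≠ a ∧ C.wGrp a r = C.wGrp a b} with hfdef
  have hf : ∀ x : Ω, x ≠ a → Nat.card {r : Ω // r ≠ a ∧ C.wGrp a r = C.wGrp a x} = f :=
    fun x hx => C.fib_eq hx hb
  obtain ⟨j₀, hj₀W, hj₀, hj₀1⟩ := exists_invol (C.w_two a b) hne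
  obtain ⟨-, -, ⟨t, hto, hft⟩, hqN⟩ := C.mu_eq_one hf hb hj₀W hj₀ hj₀1
  -- distinct lines meet trivially
  have hTI : ∀ x y : Ω, x ≠ a → y ≠ a → ∀ v : G, v ≠ 1 → v ∈ C.wGrp a x → v ∈ C.wGrp a y →
      C.wGrp a x = C.wGrp a y := by
    intro x y hx hy v hv hvx hvy
    by_contra hxy
    have hbot : C.wGrp a x ⊓ C.wGrp a y ≠ ⊥ := fun h => hv (by
      have : v ∈ C.wGrp a x ⊓ C.wGrp a y := ⟨hvx, hvy⟩
      rwa [h, mem_bot] at this)
    obtain ⟨j, hj, hjj, hj1⟩ := exists_invol ((C.w_two a x).to_le inf_le_left) hbot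
    have h1 := (C.mu_eq_one hf hx hj.1 hjj hj1).1
    exact hxy (Finset.card_le_one.mp h1.le _
      (Finset.mem_filter.mpr ⟨C.mem_lines.mpr ⟨x, hx, rfl⟩, hj.1⟩) _
      (Finset.mem_filter.mpr ⟨C.mem_lines.mpr ⟨y, hy, rfl⟩, hj.2⟩))
  have hmove : ∀ g : G, g • a = a → g • b ≠ a :=
    fun g hg h => hb (smul_left_cancel g (h.trans hg.symm))
  have hback : ∀ g : G, g • a = a → C.wGrp a (g • b) = W → g ∈ normalizer (W : Set G) := by
    intro g hg h
    rw [mem_normalizer_iff]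
    intro w
    show w ∈ W ↔ g * w * g⁻¹ ∈ W
    conv_rhs => rw [← h, C.w_map hg]
  -- `M = W A`
  set M := S ⊓ normalizer (W : Set G) with hM
  have hWM : W ≤ M := le_inf (C.w_le_S b) le_normalizer
  have hAM : C.aGrp ≤ M := fun z hz =>
    ⟨C.inA_mem hz, mem_normalizer_of_comm fun w hw => (C.inA_comm hz (C.w_le_S b hw)).symm⟩
  let μ : W × C.aGrp → M := fun p => ⟨(p.1 : G) * p.2, mul_mem (hWM p.1.2) (hAM p.2.2)⟩
  have hμ : Function.Injective μ := by
    rintro ⟨⟨w, hw⟩, ⟨z, hz⟩⟩ ⟨⟨w', hw'⟩, ⟨z', hz'⟩⟩ h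
    have h0 : w * z = w' * z' := congrArg Subtype.val h
    have h1 : w'⁻¹ * w = z' * z⁻¹ := by
      calc w'⁻¹ * w = w'⁻¹ * (w * z) * z⁻¹ := by group
        _ = z' * z⁻¹ := by rw [h0]; group
    have h2 : w'⁻¹ * w = 1 :=
      C.inA_not_w hb.symm (h1 ▸ C.inA_mul hz' ((C.aGrp).inv_mem hz))
        (mul_mem (inv_mem hw') hw)
    obtain rfl := (inv_mul_eq_one.mp h2).symm
    obtain rfl := mul_left_cancel h0
    rfl
  have hMcard : Nat.card M = Nat.card W * W.relIndex M := by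
    rw [← relIndex_bot_left, ← relIndex_bot_left, relIndex_mul_relIndex ⊥ W M bot_le hWM]
  have hr_dvd : W.relIndex M ∣ f :=
    C.relIndex_dvd hb M W inf_le_left inf_le_right fun h _ => Iff.rfl
  have hr : W.relIndex M = Nat.card C.aGrp := by
    have hle : Nat.card W * Nat.card C.aGrp ≤ Nat.card M := by
      rw [← Nat.card_prod]; exact Nat.card_le_card_of_injective μ hμ
    rw [hMcard] at hle
    have hle' := Nat.le_of_mul_le_mul_left hle Nat.card_pos
    obtain ⟨k, hk⟩ := IsPGroup.iff_card.mp (C.S2.to_le (inf_le_left : M ≤ S))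
    obtain ⟨i, -, hi⟩ := (Nat.dvd_prime_pow Nat.prime_two).mp
      (hk ▸ hMcard ▸ dvd_mul_left (W.relIndex M) (Nat.card W) : W.relIndex M ∣ 2 ^ k)
    obtain ⟨s, -, hs⟩ := C.card_aGrp
    rw [hi, hs] at hle'
    have hsi : s ≤ i := (Nat.pow_le_pow_iff_right (by norm_num)).mp hle'
    rw [hi, hft, hs, show i = s + (i - s) by omega, pow_add] at hr_dvd
    rw [hi, hs]
    by_contra hne'
    have h3 : 2 ∣ t := dvd_trans (dvd_pow_self 2 (show i - s ≠ 0 by
      intro h0; exact hne' (by rw [show i = s by omega])))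
      (Nat.dvd_of_mul_dvd_mul_left (by positivity) hr_dvd)
    exact Nat.not_even_iff_odd.mpr hto (even_iff_two_dvd.mpr h3)
  have hdecomp : ∀ m ∈ M, ∃ w ∈ W, ∃ z, InA a z ∧ m = w * z := by
    intro m hm
    obtain ⟨⟨⟨w, hw⟩, ⟨z, hz⟩⟩, he⟩ := (Nat.bijective_iff_injective_and_card μ).mpr
      ⟨hμ, by rw [Nat.card_prod, hMcard, hr]⟩ |>.2 ⟨m, hm⟩
    exact ⟨w, hw, z, hz, (congrArg Subtype.val he).symm⟩
  -- `W` has exponent two
  haveI : Group.IsNilpotent S := C.S2.isNilpotent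
  have hMS : M.subgroupOf S < ⊤ := by
    rw [lt_top_iff_ne_top, Ne, subgroupOf_eq_top]
    intro hle
    have h1 : ∀ L ∈ C.lines, L = W := by
      intro L hL
      obtain ⟨x, hx, rfl⟩ := C.mem_lines.mp hL
      obtain ⟨u, hu, rfl⟩ := C.trU b x hb hx
      obtain ⟨s, hs, c, hc, rfl⟩ := C.split u hu
      have hua := C.Ua _ hu
      have hn : s * c ∈ normalizer (W : Set G) :=
        mul_mem (hle hs).2 (mem_normalizer_of_comm fun w hw => hc w (C.w_le_S b hw))
      exact (C.w_eq_iff hb hx).mpr (C.norm_fix hn fun w hw => hw.2.1)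
    have : C.lines.card ≤ 1 := Finset.card_le_one.mpr fun L hL L' hL' =>
      (h1 L hL).trans (h1 L' hL').symm
    have h2 : 0 < Nat.card C.aGrp := Nat.card_pos
    omega
  obtain ⟨u, hu, huM⟩ :=
    SetLike.exists_of_lt (Group.normalizerCondition_of_isNilpotent (M.subgroupOf S) hMS)
  have huS : (u : G) ∈ S := u.2
  have hua := C.S_fix huS
  have hub := hmove u hua
  have hWne : C.wGrp a ((u : G) • b) ≠ W := fun h =>
    huM (mem_subgroupOf.mpr ⟨huS, hback u hua h⟩)
  have hW2 : ∀ w ∈ W, w * w = 1 := by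
    intro w hw
    have hwu : (u : G) * w * (u : G)⁻¹ ∈ M := mem_subgroupOf.mp
      ((mem_normalizer_iff.mp hu ⟨w, C.w_le_S b hw⟩).mp (mem_subgroupOf.mpr (hWM hw)))
    obtain ⟨w₁, hw₁, z, hz, he⟩ := hdecomp _ hwu
    have h1 : (u : G) * w * (u : G)⁻¹ ∈ C.wGrp a ((u : G) • b) := (C.w_map hua).mpr hw
    have h2 : (u : G) * w * (u : G)⁻¹ * ((u : G) * w * (u : G)⁻¹) ∈ W := by
      rw [he]
      have e : w₁ * z * (w₁ * z) = w₁ * w₁ * (z * z) := by
        calc w₁ * z * (w₁ * z) = w₁ * (z * w₁) * z := by group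
          _ = _ := by rw [← C.inA_comm hz (C.w_le_S b hw₁)]; group
      rw [e, hz.2.1, mul_one]
      exact mul_mem hw₁ hw₁
    have h3 : (u : G) * w * (u : G)⁻¹ * ((u : G) * w * (u : G)⁻¹) = 1 := by
      by_contra h4
      exact hWne (hTI _ b hub hb _ h4 (mul_mem h1 h1) h2)
    have := sq_conj (u : G)⁻¹ h3
    simpa [mul_assoc] using this
  have hcW : ∀ w ∈ W, ∀ w' ∈ W, w * w' = w' * w := fun w hw w' hw' => by
    have h := inv_eq_self (hW2 _ (mul_mem hw hw'))
    rw [mul_inv_rev, inv_eq_self (hW2 w hw), inv_eq_self (hW2 w' hw')] at h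
    exact h.symm
  -- centralisers in `S`
  have hnorm : ∀ x ∈ S, ∀ e ∈ W, e ≠ 1 → x * e = e * x → x ∈ M := by
    intro x hx e he he1 hxe
    refine ⟨hx, hback x (C.S_fix hx) (hTI _ b (hmove x (C.S_fix hx)) hb e he1 ?_ he)⟩
    have := (C.w_map (C.S_fix hx)).mpr he
    rwa [hxe, mul_inv_cancel_right] at this
  have hcenA : ∀ z : S, z ∈ center S → InA a (z : G) := by
    intro z hz
    have hzc : ∀ s ∈ S, s * (z : G) = (z : G) * s := fun s hs =>
      congrArg Subtype.val (mem_center_iff.mp hz ⟨s, hs⟩)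
    obtain ⟨w, hw, z', hz', he⟩ :=
      hdecomp _ (hnorm z z.2 j₀ hj₀W hj₀1 (hzc j₀ (C.w_le_S b hj₀W)).symm)
    have hwA : InA a w := by
      refine C.inA_iff.mpr ⟨C.w_le_S b hw, hW2 w hw, fun s hs => ?_⟩
      have h1 : w = (z : G) * z'⁻¹ := by rw [he, mul_inv_cancel_right]
      rw [h1, ← mul_assoc, hzc s hs, mul_assoc, mul_assoc]
      exact congrArg _ (Commute.inv_right (C.inA_comm hz' hs : Commute s z')).eq
    rw [he, C.inA_not_w hb.symm hwA hw, one_mul]
    exact hz'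
  -- the two-group lemma
  have hyp : Pair.Hyp (W.subgroupOf S) := by
    refine ⟨C.S2, fun e he => Subtype.ext (hW2 e he), fun z hz => Subtype.ext (hcenA z hz).2.1,
      ?_, fun e he he1 x hxe => ?_, fun z hz z' hz' hz1 hz'1 => ?_⟩
    · rw [eq_bot_iff]
      rintro e ⟨he, hec⟩
      exact mem_bot.mpr (Subtype.ext (C.inA_not_w hb.symm (hcenA e hec) he))
    · obtain ⟨w, hw, z, hz, he'⟩ := hdecomp _
        (hnorm x x.2 e he (fun h => he1 (Subtype.ext h)) (congrArg Subtype.val hxe))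
      exact ⟨⟨w, C.w_le_S b hw⟩, hw, ⟨z, C.inA_mem hz⟩,
        mem_center_iff.mpr fun s => Subtype.ext (C.inA_comm hz s.2), Subtype.ext he'⟩
    · obtain ⟨k, hka, hkW, hkz⟩ := C.trans_inA hb (hcenA z hz) (fun h => hz1 (Subtype.ext h))
        (hcenA z' hz') (fun h => hz'1 (Subtype.ext h))
      refine ⟨
        { toFun := fun s => ⟨k * s * k⁻¹, C.Sn k hka s s.2⟩
          invFun := fun s => ⟨k⁻¹ * s * k, by
            simpa using C.Sn k⁻¹ (fix_inv hka) s s.2⟩
          left_inv := fun s => Subtype.ext (by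
            show k⁻¹ * (k * s * k⁻¹) * k = s
            group)
          right_inv := fun s => Subtype.ext (by
            show k * (k⁻¹ * s * k) * k⁻¹ = s
            group)
          map_mul' := fun s s' => Subtype.ext (by
            show k * (s * s') * k⁻¹ = k * s * k⁻¹ * (k * s' * k⁻¹)
            group) }, fun e he => Subtype.ext ?_, Subtype.ext hkz⟩
      show k * e * k⁻¹ = e
      rw [hkW e he, mul_inv_cancel_right]
  have hnc : ∀ e ∈ W.subgroupOf S, e ≠ 1 → ∃ x : S, ⁅x, e⁆ ∉ center S := by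
    intro e he he1
    by_contra hall
    simp only [not_exists, not_not] at hall
    have he1' : (e : G) ≠ 1 := fun h => he1 (Subtype.ext h)
    have hee : (e : G) * e = 1 := hW2 _ he
    have hk : C.kappa (e : G) = Nat.card C.aGrp := (C.mu_eq_one hf hb he hee he1').2.1
    have hlines : ∀ L ∈ C.lines, (e : G) ∈ normalizer (L : Set G) := by
      intro L hL
      obtain ⟨x, hx, rfl⟩ := C.mem_lines.mp hL
      obtain ⟨u, hu, rfl⟩ := C.trU b x hb hx
      obtain ⟨s, hs, c, hc, rfl⟩ := C.split u hu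
      have hA := hcenA _ (hall (⟨s, hs⟩⁻¹ : S))
      have hconj : s⁻¹ * (e : G) * s ∈ normalizer (W : Set G) := by
        have h1 : s⁻¹ * (e : G) * s =
            ((⁅(⟨s, hs⟩⁻¹ : S), e⁆ : S) : G) * (e : G) := by
          show _ = s⁻¹ * e * s⁻¹⁻¹ * (e : G)⁻¹ * e
          rw [inv_inv, inv_mul_cancel_right]
        rw [h1]
        exact mul_mem (hAM hA).2 (le_normalizer he)
      have hu' := C.Ua _ hu
      rw [mem_normalizer_iff]
      intro w
      have e0 : ∀ w : G, s * c * ((s * c)⁻¹ * w * (s * c)) * (s * c)⁻¹ = w := fun w => by group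
      show w ∈ C.wGrp a ((s * c) • b) ↔ (e : G) * w * (e : G)⁻¹ ∈ C.wGrp a ((s * c) • b)
      rw [← e0 w, C.w_map hu', ← e0 ((e : G) * _ * _), C.w_map hu', e0]
      have hce : c * (e : G) = e * c := hc e (C.w_le_S b he)
      have hcn : c ∈ normalizer (W : Set G) :=
        mem_normalizer_of_comm fun w hw => hc w (C.w_le_S b hw)
      have hmem : (s * c)⁻¹ * (e : G) * (s * c) ∈ normalizer (W : Set G) := by
        have := mul_mem (mul_mem (inv_mem hcn) hconj) hcn
        simpa [mul_assoc] using this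
      have key := mem_normalizer_iff.mp hmem ((s * c)⁻¹ * w * (s * c))
      have e1 : (s * c)⁻¹ * (e : G) * (s * c) * ((s * c)⁻¹ * w * (s * c)) *
          ((s * c)⁻¹ * (e : G) * (s * c))⁻¹ = (s * c)⁻¹ * (e * w * (e : G)⁻¹) * (s * c) := by
        group
      rw [e1] at key
      exact key
    rw [Ctx.kappa, Finset.filter_true_of_mem hlines] at hk
    omega
  have huniqW : ∀ e ∈ W, ∀ i ∈ W, e ≠ 1 → i ≠ 1 → e = i := fun e he i hi he1 hi1 =>
    congrArg Subtype.val (Pair.eq_of_not_central hyp hnc (e := ⟨e, C.w_le_S b he⟩)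
      (i := ⟨i, C.w_le_S b hi⟩) he hi (fun h => he1 (congrArg Subtype.val h))
      fun h => hi1 (congrArg Subtype.val h))
  have hjS : j₀ ∈ S := C.w_le_S b hj₀W
  set j : S := ⟨j₀, hjS⟩ with hjdef
  have hjsq : j ∉ Pair.sqGrp S := fun h =>
    hj₀1 (congrArg Subtype.val (Pair.eq_one_of_mem_sqGrp hyp j hj₀W h))
  -- a maximal subgroup containing the squares and avoiding `j`
  obtain ⟨Q, ⟨hQle, hjQ⟩, hmax⟩ := (Set.toFinite
    {Q : Subgroup S | Pair.sqGrp S ≤ Q ∧ j ∉ Q}).exists_maximal ⟨_, le_rfl, hjsq⟩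
  have hQn : Q.Normal := ⟨fun n hn g => by
    have h := mul_mem (hQle (Pair.commutator_mem g n)) hn
    rwa [commutatorElement_def, inv_mul_cancel_right] at h⟩
  have hQidx : Q.index = 2 := by
    refine index_eq_two_iff.mpr ⟨j, fun x => ?_⟩
    by_cases hx : x ∈ Q
    · exact Or.inr ⟨hx, fun h => hjQ ((mul_mem_cancel_left hx).mp h)⟩
    refine Or.inl ⟨?_, hx⟩
    by_contra hxj
    have hjmem : j ∈ Q ⊔ zpowers x := by
      by_contra hj'
      exact hx (hmax ⟨hQle.trans le_sup_left, hj'⟩ le_sup_left (mem_sup_right (mem_zpowers x)))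
    rw [sup_comm, mem_sup_of_normal_right] at hjmem
    obtain ⟨y, hy, n, hn, hyn⟩ := hjmem
    obtain ⟨i, rfl⟩ := mem_zpowers_iff.mp hy
    have hxx : x * x ∈ Q := hQle (Pair.sq_mem x)
    rcases Int.even_or_odd' i with ⟨l, rfl | rfl⟩
    · refine hjQ (hyn ▸ mul_mem ?_ hn)
      rw [zpow_mul, zpow_two]
      exact zpow_mem hxx l
    · refine hxj ?_
      rw [← hyn, show x ^ (2 * l + 1) = x * (x * x) ^ l by
        rw [add_comm, zpow_add, zpow_one, zpow_mul, zpow_two], ← mul_assoc, ← mul_assoc]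
      exact mul_mem (mul_mem hxx (zpow_mem hxx l)) hn
  -- no conjugate of `j` lies in `Q`
  have hno : ∀ g : G, g * j₀ * g⁻¹ ∉ Q.map S.subtype := by
    rintro g ⟨y, hyQ, hy⟩
    have hxS : g * j₀ * g⁻¹ ∈ S := by rw [← hy]; exact y.2
    obtain ⟨c, hc, hca⟩ := C.cent_trans (Y := {g * j₀ * g⁻¹})
      (fun v hv => by rw [Set.mem_singleton_iff] at hv; subst hv; exact is2_of_mem C.S2 hxS)
      (p := g • a) (q := a)
      (fun v hv => by rw [Set.mem_singleton_iff] at hv; subst hv; exact fix_conj g hj₀W.1)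
      (fun v hv => by rw [Set.mem_singleton_iff] at hv; subst hv; exact C.S_fix hxS)
    have hcg : (c * g) • a = a := by rw [mul_smul, hca]
    have hcx : c * g * j₀ * (c * g)⁻¹ = g * j₀ * g⁻¹ := by
      calc c * g * j₀ * (c * g)⁻¹ = (c * (g * j₀ * g⁻¹)) * c⁻¹ := by group
        _ = g * j₀ * g⁻¹ := by rw [hc _ rfl, mul_inv_cancel_right]
    obtain ⟨v, hv, hvb⟩ := C.trU b ((c * g) • b) hb (hmove _ hcg)
    obtain ⟨s, hs, c', hc', rfl⟩ := C.split v hv
    set d := (s * c')⁻¹ * (c * g) with hd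
    have hda : d • a = a := by rw [hd, mul_smul, hcg, fix_inv (C.Ua _ hv)]
    have hdb : d • b = b := by rw [hd, mul_smul, ← hvb, inv_smul_smul]
    have hdj : d * j₀ * d⁻¹ = j₀ := by
      refine huniqW _ ?_ _ hj₀W (fun h => hj₀1 (by simpa using h)) hj₀1
      have := (C.w_map hda).mpr hj₀W
      rwa [hdb] at this
    have hxs : g * j₀ * g⁻¹ = s * j₀ * s⁻¹ := by
      rw [← hcx]
      calc c * g * j₀ * (c * g)⁻¹ = s * c' * (d * j₀ * d⁻¹) * (s * c')⁻¹ := by rw [hd]; group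
        _ = s * (c' * j₀) * c'⁻¹ * s⁻¹ := by rw [hdj]; group
        _ = s * j₀ * s⁻¹ := by rw [hc' j₀ hjS]; group
    refine hjQ ?_
    have hy' : y = ⁅(⟨s, hs⟩ : S), j⁆ * j := Subtype.ext (by
      show (y : G) = s * j₀ * s⁻¹ * j₀⁻¹ * j₀
      rw [inv_mul_cancel_right, ← hxs]
      exact hy)
    rw [hy'] at hyQ
    exact (mul_mem_cancel_left (hQle (Pair.commutator_mem _ _))).mp hyQ
  obtain ⟨N, hN, hNi, -⟩ := Cfsg.Agent.Involution.thompson_transfer (C.S2.toSylow C.Sidx)
    (Q.map S.subtype) (map_subtype_le Q) (by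
      show (Q.map S.subtype).relIndex S = 2
      rw [relIndex, subgroupOf, comap_map_eq_self_of_injective S.subtype_injective, hQidx])
    hj₀ hno
  rcases IsSimpleGroup.eq_bot_or_eq_top_of_normal N hN with rfl | rfl
  · rw [index_bot] at hNi
    haveI := Fintype.ofFinite G
    haveI := Fintype.ofFinite Ω
    have h3 := C.three
    have hsurj : Function.Surjective (fun g : G => g • a) := fun y => C.exists_smul a y
    have := Nat.card_le_card_of_surjective _ hsurj
    omega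
  · rw [index_top] at hNi
    omega

end

/-- In a simple group acting doubly transitively with odd degree greater than two, such that the
stabiliser of `a` has a nilpotent normal subgroup `U` of odd index transitive on the other points,
the two-point stabilisers have odd order. -/
theorem two_point_odd {G Ω : Type*} [Group G] [Finite G] [IsSimpleGroup G] [MulAction G Ω]
    [Finite Ω] (a : Ω) (U : Subgroup G) (hodd : Odd (Nat.card Ω))
    (h2 : MulAction.IsMultiplyPretransitive G Ω 2) (hU : U ≤ stabilizer G a)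
    (hUn : ∀ g ∈ stabilizer G a, ∀ u ∈ U, g * u * g⁻¹ ∈ U) (hnil : Group.IsNilpotent U)
    (hidx : Odd (U.relIndex (stabilizer G a)))
    (htr : ∀ x y : Ω, x ≠ a → y ≠ a → ∃ u ∈ U, u • x = y) (h3 : 2 < Nat.card Ω) :
    ∀ b, b ≠ a → Odd (Nat.card ↥(stabilizer G a ⊓ stabilizer G b)) := by
  haveI : Fact (Nat.Prime 2) := ⟨Nat.prime_two⟩
  haveI := hnil
  have ht : ∀ p q p' q' : Ω, p ≠ q → p' ≠ q' → ∃ g : G, g • p = p' ∧ g • q = q' :=
    fun p q p' q' hpq hpq' => (is_two_pretransitive_iff.mp h2) hpq hpq'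
  haveI hpre : IsPretransitive G Ω := isPretransitive_of_is_two_pretransitive
  obtain ⟨P⟩ : Nonempty (Sylow 2 U) := inferInstance
  haveI hPn : (P : Subgroup U).Normal :=
    Sylow.normal_of_normalizerCondition Group.normalizerCondition_of_isNilpotent P
  haveI hsub : Subsingleton (Sylow 2 U) := by
    haveI := Sylow.unique_of_normal P hPn
    infer_instance
  have hmemP : ∀ x : U, Is2 (x : G) → x ∈ (P : Subgroup U) := by
    intro x hx
    obtain ⟨k, hk⟩ := hx
    obtain ⟨R, hR⟩ := (isPGroup_zpowers (G := U) (x := x) ⟨k, Subtype.ext hk⟩).exists_le_sylow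
    rw [Subsingleton.elim P R]
    exact hR (mem_zpowers x)
  set S := (P : Subgroup U).map U.subtype with hS
  have hmemS : ∀ x ∈ U, Is2 x → x ∈ S := fun x hx h2 => ⟨⟨x, hx⟩, hmemP _ h2, rfl⟩
  have hS2 : IsPGroup 2 S := P.2.map U.subtype
  have hSU : S ≤ U := map_subtype_le _
  have hSidx : ¬ 2 ∣ S.index := by
    rw [← relIndex_mul_index hSU, ← relIndex_mul_index hU, Nat.prime_two.dvd_mul,
      Nat.prime_two.dvd_mul]
    rintro (h | h | h)
    · rw [hS, relIndex, subgroupOf, comap_map_eq_self_of_injective U.subtype_injective] at h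
      exact P.not_dvd_index h
    · exact Nat.not_even_iff_odd.mpr hidx (even_iff_two_dvd.mpr h)
    · rw [index_stabilizer_of_transitive] at h
      exact Nat.not_even_iff_odd.mpr hodd (even_iff_two_dvd.mpr h)
  have hfaith : ∀ g : G, (∀ x : Ω, g • x = x) → g = 1 := by
    intro g hg
    have hk : g ∈ (toPermHom G Ω).ker := by
      rw [MonoidHom.mem_ker]
      exact Equiv.ext hg
    rcases IsSimpleGroup.eq_bot_or_eq_top_of_normal (toPermHom G Ω).ker inferInstance with h | h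
    · rwa [h, mem_bot] at hk
    · exfalso
      haveI : Nontrivial Ω := Finite.one_lt_card_iff_nontrivial.mp (by omega)
      obtain ⟨b, hb⟩ := _root_.exists_ne a
      obtain ⟨g', hg'⟩ := exists_smul_eq G a b
      have h1 : g' ∈ (toPermHom G Ω).ker := h ▸ mem_top g'
      exact hb (hg'.symm.trans (Equiv.congr_fun (MonoidHom.mem_ker.mp h1) a))
  have C : Ctx a U S :=
    { odd := hodd
      three := h3
      trans2 := ht
      faithful := hfaith
      Ua := fun u hu => hU hu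
      trU := htr
      SU := hSU
      S2 := hS2
      Sidx := hSidx
      Sn := fun g hg s hs =>
        hmemS _ (hUn g hg s (hSU hs)) (is2_conj g (is2_of_mem hS2 hs))
      split := fun u hu => by
        obtain ⟨k, m, hm, hord⟩ := Nat.exists_eq_two_pow_mul_odd (orderOf_pos u).ne'
        obtain ⟨α, β, hab⟩ : IsCoprime ((2 : ℤ) ^ k) (m : ℤ) := by
          have h1 : Nat.Coprime (2 ^ k) m := (Nat.coprime_two_left.mpr hm).pow_left k
          exact_mod_cast Nat.isCoprime_iff_coprime.mpr h1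
        have hu1 : u ^ ((2 : ℤ) ^ k * m) = 1 := by
          rw [show ((2 : ℤ) ^ k * m) = ((orderOf u : ℕ) : ℤ) by rw [hord]; push_cast; ring,
            zpow_natCast, pow_orderOf_eq_one]
        refine ⟨u ^ (β * m), hmemS _ (zpow_mem hu _) ⟨k, ?_⟩, u ^ (α * 2 ^ k), fun t ht => ?_, ?_⟩
        · rw [← zpow_natCast, ← zpow_mul,
            show β * (m : ℤ) * ((2 ^ k : ℕ) : ℤ) = (2 ^ k * m) * β by push_cast; ring, zpow_mul,
            hu1, one_zpow]
        · obtain ⟨l, hl⟩ := is2_of_mem hS2 ht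
          refine (Cfsg.Agent.Transfer.nilpotent_commute_of_coprime hnil
            (x := (⟨_, zpow_mem hu (α * 2 ^ k)⟩ : U)) (y := ⟨t, hSU ht⟩) ?_).map U.subtype |>.eq
          rw [Subgroup.orderOf_mk, Subgroup.orderOf_mk]
          refine Nat.Coprime.of_dvd (a₂ := m) (b₂ := 2 ^ l) ?_
            (orderOf_dvd_iff_pow_eq_one.mpr hl) ((Nat.coprime_two_right.mpr hm).pow_right l)
          rw [orderOf_dvd_iff_pow_eq_one, ← zpow_natCast, ← zpow_mul,
            show α * 2 ^ k * ((m : ℕ) : ℤ) = (2 ^ k * m) * α by ring, zpow_mul, hu1, one_zpow]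
        · rw [← zpow_add, show β * (m : ℤ) + α * 2 ^ k = 1 by linarith, zpow_one] }
  intro b hb
  rw [← Nat.not_even_iff_odd]
  intro he
  obtain ⟨z, hz⟩ := exists_prime_orderOf_dvd_card' 2 (even_iff_two_dvd.mp he)
  have h1 : (z : G) ∈ C.wGrp a b := by
    refine ⟨z.2.1, z.2.2, is2_of_sq ?_⟩
    rw [← sq, ← orderOf_dvd_iff_pow_eq_one, Subgroup.orderOf_coe, hz]
  rw [C.regular hb, mem_bot] at h1
  rw [show z = 1 from Subtype.ext h1, orderOf_one] at hz
  omega

end Cfsg.Agent.Suz27.Reg
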