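import Cfsg.Agent.Suz27.Defs
import Cfsg.Agent.Lib.Fitting

/-!
Two-transitive groups of odd degree with odd two-point stabilisers and a transitive nilpotent normal
subgroup `U` in a point stabiliser: involutions, and the conjugates of `U` attached to the points.
-/

set_option autoImplicit false

namespace Cfsg.Agent.Suz27

open MulAction RankOne

universe u v

/-- The hypotheses used to prove that `U` is regular. -/
structure OddTwoTrans (G : Type u) (Ω : Type v) [Group G] [MulAction G Ω] (a : Ω)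
    (U : Subgroup G) : Prop where
  finite : Finite Ω
  faithful : FaithfulSMul G Ω
  two_transitive : IsMultiplyPretransitive G Ω 2
  odd_degree : Odd (Nat.card Ω)
  le : U ≤ stabilizer G a
  conj_mem : ∀ g ∈ stabilizer G a, ∀ u ∈ U, g * u * g⁻¹ ∈ U
  nilpotent : Group.IsNilpotent U
  transitive : ∀ p q : Ω, p ≠ a → q ≠ a → ∃ u ∈ U, u • p = q
  odd_two_point : ∀ p q : Ω, p ≠ q → Odd (Nat.card ↥(stabilizer G p ⊓ stabilizer G q))
  rank2 : ∃ x y : G, x ≠ 1 ∧ y ≠ 1 ∧ x ≠ y ∧ x * x = 1 ∧ y * y = 1 ∧ x * y = y * x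

/-- The conjugate of `U` attached to the point `c`. -/
def ptGrp {G : Type u} {Ω : Type v} [Group G] [MulAction G Ω] (a : Ω) (U : Subgroup G) (c : Ω) :
    Subgroup G where
  carrier := {x | ∀ g : G, g • a = c → g⁻¹ * x * g ∈ U}
  one_mem' g _ := by simp
  mul_mem' := fun {x y} hx hy g hg => by
    have e : g⁻¹ * (x * y) * g = (g⁻¹ * x * g) * (g⁻¹ * y * g) := by group
    rw [e]; exact mul_mem (hx g hg) (hy g hg)
  inv_mem' := fun {x} hx g hg => by
    have e : g⁻¹ * x⁻¹ * g = (g⁻¹ * x * g)⁻¹ := by group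
    rw [e]; exact inv_mem (hx g hg)

/-- The elements of `ptGrp a U c` fixing `d`. -/
abbrev wGrp {G : Type u} {Ω : Type v} [Group G] [MulAction G Ω] (a : Ω) (U : Subgroup G) (c d : Ω) :
    Subgroup G :=
  ptGrp a U c ⊓ stabilizer G d

variable {G : Type u} {Ω : Type v} [Group G] [MulAction G Ω] {a : Ω} {U : Subgroup G}

namespace OddTwoTrans

variable (h : OddTwoTrans G Ω a U)
include h

lemma exists_pair {p q p' q' : Ω} (hpq : p ≠ q) (hpq' : p' ≠ q') :
    ∃ g : G, g • p = p' ∧ g • q = q' :=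
  is_two_pretransitive_iff.1 h.two_transitive hpq hpq'

lemma exists_other (c : Ω) : ∃ d : Ω, d ≠ c := by
  haveI := h.finite
  haveI := h.faithful
  obtain ⟨x, -, hx, -, -, -, -, -⟩ := h.rank2
  by_contra hall
  push Not at hall
  exact hx (eq_of_smul_eq_smul (α := Ω) fun p => by rw [one_smul, hall (x • p), hall p])

lemma exists_move (c : Ω) : ∃ g : G, g • a = c := by
  letI := h.two_transitive
  haveI := isPretransitive_of_is_two_pretransitive (G := G) (α := Ω)
  exact exists_smul_eq G a c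

variable [Finite G]

lemma exists_fixed {z : G} (hz : IsInv z) : ∃ c : Ω, z • c = c := by
  haveI := h.finite
  haveI : Fact (Nat.Prime 2) := ⟨Nat.prime_two⟩
  have hp : IsPGroup 2 (Subgroup.zpowers z) := by
    refine IsPGroup.of_card (n := 1) ?_
    rw [Nat.card_zpowers, pow_one]
    exact orderOf_eq_prime (by rw [pow_two, hz.2]) hz.1
  have hmod := hp.card_modEq_card_fixedPoints (α := Ω)
  have hodd := Nat.odd_iff.1 h.odd_degree
  have hne : Nat.card (fixedPoints (Subgroup.zpowers z) Ω) ≠ 0 := by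
    intro h0; rw [h0, Nat.ModEq] at hmod; omega
  obtain ⟨⟨c, hc⟩⟩ := (Nat.card_ne_zero.1 hne).1
  exact ⟨c, hc ⟨z, Subgroup.mem_zpowers z⟩⟩

lemma fixed_unique {z : G} (hz : IsInv z) {c c' : Ω} (hc : z • c = c) (hc' : z • c' = c') :
    c = c' := by
  by_contra hne
  refine hz.1 (eq_one_of_mul_self (odd_orderOf_of_mem (h.odd_two_point c c' hne) ?_) hz.2)
  exact Subgroup.mem_inf.2 ⟨hc, hc'⟩

lemma comm_fix {z g : G} (hz : IsInv z) {c : Ω} (hc : z • c = c) (hzg : z * g = g * z) :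
    g • c = c :=
  h.fixed_unique hz (by rw [← mul_smul, hzg, mul_smul, hc]) hc

lemma odd_mul {u v : G} (hu : IsInv u) (hv : IsInv v) {c : Ω} (hc : u • c = c)
    (hvc : v • c ≠ c) : Odd (orderOf (u * v)) := by
  by_contra hodd
  rw [Nat.not_odd_iff_even] at hodd
  obtain ⟨k, hk⟩ := hodd
  have hpos : 0 < orderOf (u * v) := orderOf_pos _
  set z := (u * v) ^ k with hz
  have hz1 : z ≠ 1 := fun h => by
    have h2 : orderOf (u * v) ≤ k := orderOf_le_of_pow_eq_one (by omega) h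
    omega
  have hzz : z * z = 1 := by rw [hz, ← pow_add, ← hk, pow_orderOf_eq_one]
  have hzi : z⁻¹ = z := inv_eq_self hzz
  have e1 : u * (u * v) * u⁻¹ = (u * v)⁻¹ := by
    rw [mul_inv_rev, inv_eq_self hu.2, inv_eq_self hv.2, ← mul_assoc u u, hu.2, one_mul]
  have huz : u * z * u⁻¹ = z := by
    rw [hz, ← conj_pow, e1, inv_pow, ← hz, hzi]
  have huz' : u * z = z * u := by
    calc u * z = u * z * u⁻¹ * u := by group
      _ = _ := by rw [huz]
  have hvz : z * v = v * z := by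
    have hc' : u * v * z = z * (u * v) := (Commute.self_pow (u * v) k).eq
    calc z * v = u * u * z * v := by rw [hu.2, one_mul]
      _ = u * (z * (u * v)) := by rw [mul_assoc u u z, huz']; group
      _ = u * u * (v * z) := by rw [← hc']; group
      _ = v * z := by rw [hu.2, one_mul]
  exact hvc (h.comm_fix ⟨hz1, hzz⟩ (h.comm_fix hu hc huz') hvz)

/-- An involution fixing a prescribed point. -/
lemma exists_inv_fix (c : Ω) : ∃ z : G, IsInv z ∧ z • c = c := by
  obtain ⟨x, -, hx, -, -, hxx, -, -⟩ := h.rank2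
  obtain ⟨p, hp⟩ := h.exists_fixed ⟨hx, hxx⟩
  obtain ⟨g, hg⟩ := h.exists_move c
  obtain ⟨g', hg'⟩ := h.exists_move p
  refine ⟨g * g'⁻¹ * x * (g * g'⁻¹)⁻¹, IsInv.conj ⟨hx, hxx⟩ _, ?_⟩
  have e : (g * g'⁻¹)⁻¹ • c = p := by
    rw [mul_inv_rev, inv_inv, mul_smul, ← hg, inv_smul_smul, hg']
  rw [mul_smul, mul_smul, e, hp, ← e, smul_inv_smul]

/-- An involution moving one prescribed point to another. -/
lemma exists_swap {c d : Ω} (hcd : c ≠ d) : ∃ t : G, IsInv t ∧ t • c = d := by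
  obtain ⟨w, hw, hwd⟩ := h.exists_inv_fix d
  have hwc : w • c ≠ c := fun e => hcd (h.fixed_unique hw e hwd)
  obtain ⟨g, hgc, hgd⟩ := h.exists_pair (Ne.symm hwc) hcd
  refine ⟨g * w * g⁻¹, hw.conj g, ?_⟩
  have e : g⁻¹ • c = c := by rw [inv_smul_eq_iff, hgc]
  rw [mul_smul, mul_smul, e, hgd]

/-- Two involutions with the same fixed point are conjugate by an element fixing it. -/
lemma conj_stab {z z' : G} (hz : IsInv z) (hz' : IsInv z') {c : Ω} (hzc : z • c = c)
    (hzc' : z' • c = c) : ∃ g : G, g • c = c ∧ g * z * g⁻¹ = z' := by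
  obtain ⟨d, hd⟩ := h.exists_other c
  obtain ⟨w, hw, hwd⟩ := h.exists_inv_fix d
  have hwc : w • c ≠ c := fun e => hd (h.fixed_unique hw hwd e)
  obtain ⟨x, -, hx⟩ := dihedral_conj hz.2 hw.2 (h.odd_mul hz hw hzc hwc)
  obtain ⟨y, -, hy⟩ := dihedral_conj hz'.2 hw.2 (h.odd_mul hz' hw hzc' hwc)
  have e : (y⁻¹ * x) * z * (y⁻¹ * x)⁻¹ = z' := by
    calc y⁻¹ * x * z * (y⁻¹ * x)⁻¹ = y⁻¹ * (x * z * x⁻¹) * y := by group
      _ = z' := by rw [hx, ← hy]; group
  refine ⟨y⁻¹ * x, h.fixed_unique hz' ?_ hzc', e⟩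
  rw [← e, mul_smul, mul_smul, inv_smul_smul, hzc]

lemma even_card_U : Even (Nat.card U) := by
  haveI := h.finite
  classical
  obtain ⟨b, hb⟩ := h.exists_other a
  have horb : MulAction.orbit U b = {p : Ω | p ≠ a} := by
    ext p
    constructor
    · rintro ⟨⟨u, hu⟩, rfl⟩ e
      have hua : u⁻¹ • a = a := inv_mem (h.le hu)
      exact hb (by rw [← hua, ← e]; simp [Subgroup.smul_def])
    · intro hp
      obtain ⟨u, hu, rfl⟩ := h.transitive b p hb hp
      exact ⟨⟨u, hu⟩, rfl⟩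
  have hdvd : Nat.card (MulAction.orbit U b) ∣ Nat.card U := by
    rw [Nat.card_coe_set_eq, ← index_stabilizer U b]
    exact Subgroup.index_dvd_card _
  have hcard : Nat.card (MulAction.orbit U b) + 1 = Nat.card Ω := by
    rw [horb]
    have h1 := Set.ncard_add_ncard_compl ({a} : Set Ω)
    rw [Set.ncard_singleton] at h1
    rw [Nat.card_coe_set_eq, show {p : Ω | p ≠ a} = ({a} : Set Ω)ᶜ from rfl]
    omega
  refine even_iff_two_dvd.2 (Dvd.dvd.trans ?_ hdvd)
  obtain ⟨m, hm⟩ := h.odd_degree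
  exact ⟨m, by omega⟩

/-- The involutions fixing `a` are central in `U`. -/
lemma inv_central {z : G} (hz : IsInv z) (hza : z • a = a) :
    z ∈ U ∧ ∀ u ∈ U, z * u = u * z := by
  haveI := h.nilpotent
  haveI : Fact (Nat.Prime 2) := ⟨Nat.prime_two⟩
  obtain ⟨P⟩ : Nonempty (Sylow 2 U) := inferInstance
  haveI : Nontrivial P := by
    rw [← Finite.one_lt_card_iff_nontrivial]
    have hd : 2 ∣ Nat.card P := by
      rw [Sylow.card_eq_multiplicity]
      exact dvd_pow_self 2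
        (Nat.Prime.factorization_pos_of_dvd Nat.prime_two Nat.card_pos.ne'
          (even_iff_two_dvd.1 h.even_card_U)).ne'
    exact lt_of_lt_of_le one_lt_two (Nat.le_of_dvd Nat.card_pos hd)
  haveI : Nontrivial (Subgroup.center P) := P.2.center_nontrivial
  obtain ⟨z₀, hz₀⟩ := exists_prime_orderOf_dvd_card' (G := Subgroup.center P) 2
    (by
      obtain ⟨m, hm, hm'⟩ := (P.2.to_subgroup _).nontrivial_iff_card.1
        (inferInstance : Nontrivial (Subgroup.center P))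
      rw [hm']; exact dvd_pow_self 2 hm.ne')
  have hord : orderOf (((z₀ : P) : U) : G) = 2 := by
    rw [Subgroup.orderOf_coe, Subgroup.orderOf_coe, Subgroup.orderOf_coe, hz₀]
  set x : G := (((z₀ : P) : U) : G) with hx
  have hxU : x ∈ U := ((z₀ : P) : U).2
  have hxi : IsInv x := ⟨fun e => by rw [e, orderOf_one] at hord; omega,
    by rw [← pow_two, ← hord, pow_orderOf_eq_one]⟩
  have hxc : ∀ u ∈ U, x * u = u * x := fun u hu =>
    (congrArg Subtype.val (invol_central.commute_center_sylow.{u, v} P z₀ ⟨u, hu⟩)).symm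
  obtain ⟨g, hga, rfl⟩ := h.conj_stab hxi hz (h.le hxU) hza
  refine ⟨h.conj_mem g hga x hxU, fun u hu => ?_⟩
  have hu' : g⁻¹ * u * g ∈ U := by simpa using h.conj_mem g⁻¹ (inv_mem hga) u hu
  calc g * x * g⁻¹ * u = g * (x * (g⁻¹ * u * g)) * g⁻¹ := by group
    _ = _ := by rw [hxc _ hu']; group

omit [Finite G]

lemma mem_ptGrp_of {g x : G} {c : Ω} (hg : g • a = c) (hx : g⁻¹ * x * g ∈ U) :
    x ∈ ptGrp a U c := by
  intro g' hg'
  have hh : g'⁻¹ * g ∈ stabilizer G a := by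
    rw [mem_stabilizer_iff, mul_smul, hg, ← hg', inv_smul_smul]
  have := h.conj_mem _ hh _ hx
  simpa [mul_assoc] using this

lemma ptGrp_self : ptGrp a U a = U :=
  le_antisymm (fun x hx => by simpa using hx 1 (one_smul _ _))
    (fun x hx => h.mem_ptGrp_of (one_smul _ _) (by simpa using hx))

lemma ptGrp_fix {c : Ω} {x : G} (hx : x ∈ ptGrp a U c) : x • c = c := by
  obtain ⟨g, rfl⟩ := h.exists_move c
  have h1 : (g⁻¹ * x * g) • a = a := h.le (hx g rfl)
  rw [mul_smul, mul_smul, inv_smul_eq_iff] at h1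
  exact h1

lemma conj_ptGrp {c : Ω} {x : G} (hx : x ∈ ptGrp a U c) (g : G) :
    g * x * g⁻¹ ∈ ptGrp a U (g • c) := by
  obtain ⟨k, hk⟩ := h.exists_move c
  refine h.mem_ptGrp_of (g := g * k) (by rw [mul_smul, hk]) ?_
  have e : (g * k)⁻¹ * (g * x * g⁻¹) * (g * k) = k⁻¹ * x * k := by group
  rw [e]; exact hx k hk

lemma map_ptGrp (c : Ω) (g : G) :
    (ptGrp a U c).map (MulAut.conj g).toMonoidHom = ptGrp a U (g • c) := by
  refine le_antisymm ?_ fun x hx => ?_
  · rintro _ ⟨x, hx, rfl⟩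
    exact h.conj_ptGrp hx g
  · refine ⟨g⁻¹ * x * g, ?_, by simp [mul_assoc]⟩
    have := h.conj_ptGrp hx g⁻¹
    simpa using this

lemma ptGrp_nilpotent (c : Ω) : Group.IsNilpotent (ptGrp a U c) := by
  obtain ⟨g, hg⟩ := h.exists_move c
  haveI := h.nilpotent
  refine Group.nilpotent_of_mulEquiv (G := U) ?_
  exact (U.equivMapOfInjective _ (MulAut.conj g).injective).trans
    (MulEquiv.subgroupCongr (by conv_lhs => rw [← h.ptGrp_self, h.map_ptGrp, hg]))

lemma ptGrp_transitive {c p q : Ω} (hp : p ≠ c) (hq : q ≠ c) :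
    ∃ x ∈ ptGrp a U c, x • p = q := by
  obtain ⟨g, rfl⟩ := h.exists_move c
  obtain ⟨u, hu, hupq⟩ := h.transitive (g⁻¹ • p) (g⁻¹ • q)
    (fun e => hp (by rw [← e, smul_inv_smul])) (fun e => hq (by rw [← e, smul_inv_smul]))
  refine ⟨g * u * g⁻¹, h.mem_ptGrp_of rfl (by simpa [mul_assoc] using hu), ?_⟩
  rw [mul_smul, mul_smul, hupq, smul_inv_smul]

lemma inv_mem_ptGrp [Finite G] {z : G} (hz : IsInv z) {c : Ω} (hzc : z • c = c) :
    z ∈ ptGrp a U c ∧ ∀ x ∈ ptGrp a U c, z * x = x * z := by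
  obtain ⟨g, rfl⟩ := h.exists_move c
  have hz' : IsInv (g⁻¹ * z * g) := by simpa using hz.conj g⁻¹
  obtain ⟨h1, h2⟩ := h.inv_central hz' (by rw [mul_smul, mul_smul, hzc, inv_smul_smul])
  refine ⟨h.mem_ptGrp_of rfl h1, fun x hx => ?_⟩
  have := h2 _ (hx g rfl)
  calc z * x = g * ((g⁻¹ * z * g) * (g⁻¹ * x * g)) * g⁻¹ := by group
    _ = _ := by rw [this]; group

/-! ### The subgroups `wGrp` -/

lemma wGrp_le (c d : Ω) : wGrp a U c d ≤ stabilizer G c ⊓ stabilizer G d :=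
  inf_le_inf_right _ fun _ hx => h.ptGrp_fix hx

lemma map_wGrp (c d : Ω) (g : G) :
    (wGrp a U c d).map (MulAut.conj g).toMonoidHom = wGrp a U (g • c) (g • d) := by
  refine le_antisymm ?_ fun x hx => ?_
  · rintro _ ⟨x, hx, rfl⟩
    refine ⟨h.conj_ptGrp hx.1 g, ?_⟩
    show (g * x * g⁻¹) • (g • d) = g • d
    rw [mul_smul, inv_smul_smul, mul_smul, show x • d = d from hx.2]
  · refine ⟨g⁻¹ * x * g, ⟨?_, ?_⟩, by simp [mul_assoc]⟩
    · have := h.conj_ptGrp hx.1 g⁻¹
      simpa using this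
    · show (g⁻¹ * x * g) • d = d
      rw [mul_smul, mul_smul, show x • g • d = g • d from hx.2, inv_smul_smul]

lemma conj_mem_wGrp {c d : Ω} {x : G} (hx : x ∈ wGrp a U c d) (g : G) :
    g * x * g⁻¹ ∈ wGrp a U (g • c) (g • d) := by
  rw [← h.map_wGrp c d g]
  exact ⟨x, hx, rfl⟩

lemma card_wGrp {c d c' d' : Ω} (hcd : c ≠ d) (hcd' : c' ≠ d') :
    Nat.card (wGrp a U c d) = Nat.card (wGrp a U c' d') := by
  obtain ⟨g, rfl, rfl⟩ := h.exists_pair hcd hcd'
  rw [← h.map_wGrp c d g, Subgroup.card_map_of_injective (MulAut.conj g).injective]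

/-- A further fixed point determines the same subgroup. -/
lemma wGrp_eq [Finite G] {c d d' : Ω} (hd : c ≠ d) (hd' : c ≠ d')
    (hfix : ∀ x ∈ wGrp a U c d, x • d' = d') : wGrp a U c d' = wGrp a U c d :=
  (Subgroup.eq_of_le_of_card_ge (fun x hx => ⟨hx.1, hfix x hx⟩ : wGrp a U c d ≤ wGrp a U c d')
    (h.card_wGrp hd' hd).le).symm

end OddTwoTrans

end Cfsg.Agent.Suz27
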