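import Cfsg.Agent.Suz27.RegularOddBase

/-!
The subgroup of `U` fixing a second point `d` centralises the involutions fixing `d`, and is
normalised by the involutions interchanging the two points.
-/

set_option autoImplicit false

namespace Cfsg.Agent.Suz27

open MulAction RankOne

universe u v

variable {G : Type u} {Ω : Type v} [Group G] [Finite G] [MulAction G Ω] {a : Ω} {U : Subgroup G}

/-- `|C| ≤ |W'|` for a subgroup `C` of `W ⊔ W'` meeting `W` inside `W'`. -/
private lemma card_le_of_inf_le {W W' C : Subgroup G} (hn : W' ≤ Subgroup.normalizer (W : Set G))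
    (hC : C ≤ W' ⊔ W) (hinf : C ⊓ W ≤ W') : Nat.card C ≤ Nat.card W' := by
  have hnn : (W.subgroupOf (W' ⊔ W)).Normal :=
    Subgroup.normal_subgroupOf_of_le_normalizer (sup_le hn Subgroup.le_normalizer)
  have h1 := Subgroup.relIndex_sup_right (W'.subgroupOf (W' ⊔ W)) (W.subgroupOf (W' ⊔ W))
  rw [← Subgroup.subgroupOf_sup le_sup_left le_sup_right, Subgroup.subgroupOf_self,
    Subgroup.relIndex_subgroupOf le_sup_left, Subgroup.relIndex_top_right, ← Subgroup.relIndex] at h1
  -- `h1 : W.relIndex (W' ⊔ W) = W.relIndex W'`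
  have h2 : W.relIndex C ≤ W.relIndex W' := by
    rw [← h1]
    exact Subgroup.relIndex_le_of_le_right hC Subgroup.FiniteIndex.index_ne_zero
  have hsplit : ∀ X : Subgroup G, Nat.card ↥(W ⊓ X) * W.relIndex X = Nat.card X := fun X => by
    rw [← Subgroup.inf_relIndex_right W X, ← Subgroup.relIndex_bot_left (W ⊓ X),
      Subgroup.relIndex_mul_relIndex _ _ _ bot_le inf_le_right, Subgroup.relIndex_bot_left]
  have h3 : Nat.card ↥(W ⊓ C) ≤ Nat.card ↥(W ⊓ W') :=
    Subgroup.card_le_of_le (le_inf inf_le_left (inf_comm W C ▸ hinf))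
  calc Nat.card C = Nat.card ↥(W ⊓ C) * W.relIndex C := (hsplit C).symm
    _ ≤ Nat.card ↥(W ⊓ W') * W.relIndex W' := Nat.mul_le_mul h3 h2
    _ = _ := hsplit W'

namespace OddTwoTrans

variable (h : OddTwoTrans G Ω a U)
include h

lemma wGrp_comm_left {c d : Ω} {z x : G} (hz : IsInv z) (hzc : z • c = c)
    (hx : x ∈ wGrp a U c d) : z * x = x * z :=
  (h.inv_mem_ptGrp hz hzc).2 x hx.1

/-- `wGrp a U c d` centralises the involutions fixing `d`. -/
theorem wGrp_comm_right {c d : Ω} (hcd : c ≠ d) {z x : G} (hz : IsInv z) (hzd : z • d = d)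
    (hx : x ∈ wGrp a U c d) : z * x = x * z := by
  classical
  obtain ⟨t, ht, htc⟩ := h.exists_swap hcd
  have htd : t • d = c := by rw [← htc, ht.smul_smul]
  obtain ⟨e, he⟩ := h.exists_fixed ht
  have hec : e ≠ c := fun E => hcd (by rw [← htc, ← E, he])
  have hed : e ≠ d := fun E => hcd (by rw [← htd, ← E, he])
  set W := wGrp a U c d with hW
  set W' := wGrp a U d c with hW'
  set Y := wGrp a U e c with hY
  set D := stabilizer G c ⊓ stabilizer G d with hD
  have hWD : W ≤ D := h.wGrp_le c d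
  have hWD' : W' ≤ D := by rw [hD, inf_comm]; exact h.wGrp_le d c
  have hDn : D ≤ Subgroup.normalizer (W : Set G) ∧ D ≤ Subgroup.normalizer (W' : Set G) := by
    constructor <;> intro g hg <;> rw [Subgroup.mem_normalizer_iff_map_conj_eq] <;>
      exact (h.map_wGrp _ _ g).trans (by rw [show g • c = c from hg.1, show g • d = d from hg.2])
  have hflipW : W.map (MulAut.conj t).toMonoidHom = W' := by rw [hW, h.map_wGrp, htc, htd]
  have hflipW' : W'.map (MulAut.conj t).toMonoidHom = W := by rw [hW', h.map_wGrp, htc, htd]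
  have hflip : ∀ y, y ∈ W' ⊔ W → t * y * t⁻¹ ∈ W' ⊔ W := fun y hy => by
    have : t * y * t⁻¹ ∈ (W' ⊔ W).map (MulAut.conj t).toMonoidHom := ⟨y, hy, rfl⟩
    rwa [Subgroup.map_sup, hflipW, hflipW', sup_comm] at this
  -- `Y` commutes with `t`, hence fixes `d`, and lies in `W' ⊔ W`
  have hYt : ∀ j ∈ Y, t * j = j * t := fun j hj => h.wGrp_comm_left ht he hj
  obtain ⟨u, hu, hude⟩ := h.ptGrp_transitive (c := c) hcd.symm hec
  have huc := h.ptGrp_fix hu
  have hYR : Y ≤ W' ⊔ W := by
    intro j hj
    have hjd : j • d = d := by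
      rw [← htc, ← mul_smul, ← hYt j hj, mul_smul, show j • c = c from hj.2]
    rw [hY, ← hude] at hj
    rw [← huc] at hj
    rw [← h.map_wGrp] at hj
    obtain ⟨y, hy, rfl⟩ := hj
    replace hy : y ∈ W' := hy
    have hy' : (y⁻¹ * u * y) * u⁻¹ ∈ ptGrp a U c := by
      refine mul_mem ?_ (inv_mem hu)
      have := h.conj_ptGrp hu y⁻¹
      rwa [inv_inv, show y⁻¹ • c = c by rw [inv_smul_eq_iff]; exact hy.2.symm] at this
    have hyd : y • d = d := h.ptGrp_fix hy.1
    have hw : (y⁻¹ * u * y) * u⁻¹ ∈ W := by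
      refine ⟨hy', ?_⟩
      have e1 : y⁻¹ * u * y * u⁻¹ = y⁻¹ * (u * y * u⁻¹) := by group
      show (y⁻¹ * u * y * u⁻¹) • d = d
      rw [e1, mul_smul]
      rw [show (u * y * u⁻¹) • d = d from hjd, inv_smul_eq_iff, hyd]
    have e2 : (MulAut.conj u).toMonoidHom y = y * (y⁻¹ * u * y * u⁻¹) := by
      simp only [MulEquiv.coe_toMonoidHom, MulAut.conj_apply]; group
    rw [e2]
    exact mul_mem (Subgroup.mem_sup_left hy) (Subgroup.mem_sup_right hw)
  set C := (W' ⊔ W) ⊓ Subgroup.centralizer {t} with hC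
  have hYC : Y ≤ C := le_inf hYR fun j hj => Subgroup.mem_centralizer_singleton_iff.2 (hYt j hj).symm
  have hCY : Y = C := by
    refine Subgroup.eq_of_le_of_card_ge hYC ?_
    rw [h.card_wGrp hec hcd.symm]
    refine card_le_of_inf_le (hWD'.trans hDn.1) inf_le_left ?_
    intro y hy
    obtain ⟨⟨-, hy1⟩, hy2⟩ := hy
    show y ∈ W'
    rw [← hflipW]
    refine ⟨y, hy2, ?_⟩
    have := Subgroup.mem_centralizer_singleton_iff.1 hy1
    simp only [MulEquiv.coe_toMonoidHom, MulAut.conj_apply]
    rw [← this]; group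
  by_cases hall : W' ⊔ W ≤ C
  · -- everything commutes with `t`
    have hWW : W ≤ W' := fun y hy => by
      rw [← hflipW]
      refine ⟨y, hy, ?_⟩
      have := Subgroup.mem_centralizer_singleton_iff.1 (hall (Subgroup.mem_sup_right hy)).2
      simp only [MulEquiv.coe_toMonoidHom, MulAut.conj_apply]
      rw [← this]; group
    exact h.wGrp_comm_left hz hzd (hWW hx)
  · -- normalisers grow in the nilpotent group `W' ⊔ W`
    set R := W' ⊔ W with hR
    have hRD : R ≤ D := sup_le hWD' hWD
    have hnil : Group.IsNilpotent R := by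
      have hn1 : (W.subgroupOf D).Normal := Subgroup.normal_subgroupOf_of_le_normalizer hDn.1
      have hn2 : (W'.subgroupOf D).Normal := Subgroup.normal_subgroupOf_of_le_normalizer hDn.2
      have hi : ∀ (X : Subgroup G) (p q : Ω), X = wGrp a U p q → X ≤ D →
          Group.IsNilpotent (X.subgroupOf D) := fun X p q hX hXD => by
        haveI : Group.IsNilpotent X := Fitting.isNilpotent_of_le (h.ptGrp_nilpotent p)
          (hX ▸ inf_le_left)
        exact Group.nilpotent_of_mulEquiv (Subgroup.subgroupOfEquivOfLe hXD).symm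
      haveI := Fitting.isNilpotent_sup_of_normal hn2 hn1 (hi W' d c hW' hWD') (hi W c d hW hWD)
      rw [← Subgroup.subgroupOf_sup hWD' hWD] at this
      exact Group.nilpotent_of_mulEquiv (Subgroup.subgroupOfEquivOfLe hRD)
    haveI := hnil
    have hlt : C.subgroupOf R < ⊤ :=
      lt_of_le_of_ne le_top fun E => hall (Subgroup.subgroupOf_eq_top.1 E)
    obtain ⟨-, hnot⟩ := SetLike.lt_iff_le_and_exists.1
      (Group.normalizerCondition_of_isNilpotent _ hlt)
    obtain ⟨⟨y, hyR⟩, hyN, hyC⟩ := hnot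
    have hyt : t * y ≠ y * t := fun E =>
      hyC (Subgroup.mem_inf.2 ⟨hyR, Subgroup.mem_centralizer_singleton_iff.2 E.symm⟩)
    have hyconj : ∀ j ∈ Y, y * j * y⁻¹ ∈ Y := fun j hj => by
      rw [hCY] at hj ⊢
      exact ((Subgroup.mem_normalizer_iff.1 hyN) ⟨j, hj.1⟩).1 hj
    have hyc : y • c = c := (hRD hyR).1
    have hYe : Y.map (MulAut.conj y).toMonoidHom = Y := by
      refine Subgroup.eq_of_le_of_card_ge ?_
        (Subgroup.card_map_of_injective (MulAut.conj y).injective).ge
      rintro _ ⟨j, hj, rfl⟩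
      exact hyconj j hj
    have hye : y • e ≠ e := by
      intro E
      apply hyt
      -- `t` and its conjugate both fix `e` and exchange `c` and `d`
      set t' := y * t * y⁻¹ with ht'
      have hti : IsInv t' := ht.conj y
      have hte : t' • e = e := by
        rw [ht', mul_smul, mul_smul, inv_smul_eq_iff.2 E.symm, he, E]
      have hcomm := (h.inv_mem_ptGrp ht he).2 t' (h.inv_mem_ptGrp hti hte).1
      by_contra
      have hne : t * t' ≠ 1 := fun E' => hyt (by
        have e1 : t' = t := by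
          rw [← inv_eq_self ht.2]; exact (eq_inv_of_mul_eq_one_right E')
        calc t * y = t' * y := by rw [e1]
          _ = y * t := by rw [ht']; group)
      have hinv : IsInv (t * t') := ⟨hne, by
        calc t * t' * (t * t') = t * (t' * t) * t' := by group
          _ = (t * t) * (t' * t') := by rw [← hcomm]; group
          _ = 1 := by rw [ht.2, hti.2, one_mul]⟩
      have hfix : (t * t') • c = c := by
        rw [ht', mul_smul, mul_smul, mul_smul, inv_smul_eq_iff.2 hyc.symm, htc,
          show y • d = d from (hRD hyR).2, htd]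
      exact hec (h.fixed_unique hinv (by rw [mul_smul, hte, he]) hfix)
    -- `Y = wGrp (y e) c`, so `Y` centralises the involutions fixing `c`
    have hYe' : wGrp a U (y • e) c = Y := by
      nth_rewrite 1 [← hyc]
      rw [← h.map_wGrp]
      exact hYe
    obtain ⟨v, hv, hve⟩ := h.ptGrp_transitive (c := e) hye hec.symm
    have hvY : Y.map (MulAut.conj v).toMonoidHom = Y := by
      have hfix : ∀ j ∈ Y, j • (y • e) = y • e := fun j hj => by
        rw [← hYe'] at hj; exact h.ptGrp_fix hj.1
      have e1 : wGrp a U e (y • e) = Y := h.wGrp_eq hec (Ne.symm hye) hfix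
      have e2 : (wGrp a U e (y • e)).map (MulAut.conj v).toMonoidHom = wGrp a U e c := by
        rw [h.map_wGrp, h.ptGrp_fix hv, hve]
      rw [e1] at e2
      exact e2
    have hYc : ∀ (z : G) (j : G), IsInv z → z • c = c → j ∈ Y → z * j = j * z := by
      intro z j hz hzc hj
      have hz' : IsInv (v⁻¹ * z * v) := by simpa using hz.conj v⁻¹
      have hzf : (v⁻¹ * z * v) • (y • e) = y • e := by
        rw [mul_smul, mul_smul, hve, hzc, inv_smul_eq_iff, hve]
      have hj' : v⁻¹ * j * v ∈ Y := by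
        rw [← hvY] at hj
        obtain ⟨i, hi, rfl⟩ := hj
        simpa [mul_assoc] using hi
      have hcomm := h.wGrp_comm_left hz' hzf (hYe'.symm ▸ hj' : v⁻¹ * j * v ∈ wGrp a U (y • e) c)
      calc z * j = v * ((v⁻¹ * z * v) * (v⁻¹ * j * v)) * v⁻¹ := by group
        _ = _ := by rw [hcomm]; group
    -- transport to `(c, d)`
    obtain ⟨g, hge, hgc⟩ := h.exists_pair hec hcd
    have hx' : g⁻¹ * x * g ∈ Y := by
      have := h.conj_mem_wGrp hx g⁻¹
      rwa [inv_inv, inv_smul_eq_iff.2 hge.symm, inv_smul_eq_iff.2 hgc.symm] at this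
    have hz' : IsInv (g⁻¹ * z * g) := by simpa using hz.conj g⁻¹
    have hcomm := hYc _ _ hz' (by rw [mul_smul, mul_smul, hgc, hzd, ← hgc, inv_smul_smul]) hx'
    calc z * x = g * ((g⁻¹ * z * g) * (g⁻¹ * x * g)) * g⁻¹ := by group
      _ = _ := by rw [hcomm]; group

/-- The two subgroups attached to a pair of points coincide. -/
theorem wGrp_swap {c d : Ω} (hcd : c ≠ d) : wGrp a U d c = wGrp a U c d := by
  classical
  haveI := h.finite
  haveI := Fintype.ofFinite Ω
  haveI := Fintype.ofFinite G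
  set J := wGrp a U c d with hJ
  let invs : Finset G := Finset.univ.filter IsInv
  let fp : G → Ω := fun z => if hz : IsInv z then (h.exists_fixed hz).choose else c
  have hfp : ∀ z p, IsInv z → (fp z = p ↔ z • p = p) := by
    intro z p hz
    have hs : z • fp z = fp z := by
      simp only [fp, dif_pos hz]; exact (h.exists_fixed hz).choose_spec
    exact ⟨fun e => e ▸ hs, fun e => h.fixed_unique hz hs e⟩
  let I : Ω → Finset G := fun p => invs.filter fun z => fp z = p
  let S : Ω → Finset G := fun p => invs.filter fun z => z • c = p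
  have mem_I : ∀ {z p}, z ∈ I p ↔ IsInv z ∧ z • p = p := by
    intro z p
    simp only [I, invs, Finset.mem_filter, Finset.mem_univ, true_and]
    exact ⟨fun e => ⟨e.1, (hfp z p e.1).1 e.2⟩, fun e => ⟨e.1, (hfp z p e.1).2 e.2⟩⟩
  have mem_S : ∀ {z p}, z ∈ S p ↔ IsInv z ∧ z • c = p := by
    intro z p; simp [S, invs]
  -- both families of fibres have constant size
  have hIc : ∀ p, (I p).card = (I c).card := by
    intro p
    obtain ⟨g₁, hg₁⟩ := h.exists_move p
    obtain ⟨g₂, hg₂⟩ := h.exists_move c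
    set g := g₁ * g₂⁻¹ with hg
    have hgc : g • c = p := by rw [hg, mul_smul, ← hg₂, inv_smul_smul, hg₁]
    refine (Finset.card_equiv (MulAut.conj g).toEquiv fun z => ?_).symm
    simp only [MulEquiv.toEquiv_eq_coe, EquivLike.coe_coe, MulAut.conj_apply, mem_I]
    refine ⟨fun e => ⟨e.1.conj g, by rw [mul_smul, mul_smul, ← hgc, inv_smul_smul, e.2]⟩,
      fun e => ⟨by simpa [mul_assoc] using e.1.conj g⁻¹, ?_⟩⟩
    have h2 := e.2
    rw [mul_smul, mul_smul, ← hgc, inv_smul_smul] at h2
    exact smul_left_cancel g h2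
  have hSc : ∀ p, p ≠ c → (S p).card = (S d).card := by
    intro p hp
    obtain ⟨g, hgc, hgd⟩ := h.exists_pair hcd (Ne.symm hp)
    refine (Finset.card_equiv (MulAut.conj g).toEquiv fun z => ?_).symm
    simp only [MulEquiv.toEquiv_eq_coe, EquivLike.coe_coe, MulAut.conj_apply, mem_S]
    have hgc' : g⁻¹ • c = c := by rw [inv_smul_eq_iff, hgc]
    refine ⟨fun e => ⟨e.1.conj g, by rw [mul_smul, mul_smul, hgc', e.2, hgd]⟩,
      fun e => ⟨by simpa [mul_assoc] using e.1.conj g⁻¹, ?_⟩⟩
    have h2 := e.2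
    rw [mul_smul, mul_smul, hgc', ← hgd] at h2
    exact smul_left_cancel g h2
  have hcount : ∀ T : Finset Ω, c ∉ T →
      (invs.filter fun z => fp z ∈ T).card = T.card * (I c).card ∧
      (invs.filter fun z => z • c ∈ T).card = T.card * (S d).card := by
    intro T hT
    constructor
    · rw [Finset.card_eq_sum_card_fiberwise (f := fp) (s := invs.filter fun z => fp z ∈ T) (t := T)
        (fun z hz => (Finset.mem_filter.1 hz).2)]
      refine (Finset.sum_congr rfl fun p hp => ?_).trans (Finset.sum_const_nat fun _ _ => rfl)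
      rw [Finset.filter_filter, ← hIc p]
      exact congrArg Finset.card (Finset.filter_congr fun z _ =>
        ⟨fun e => e.2, fun e => ⟨by rw [e]; exact hp, e⟩⟩)
    · rw [Finset.card_eq_sum_card_fiberwise (f := fun z => z • c)
        (s := invs.filter fun z => z • c ∈ T) (t := T)
        (fun z hz => (Finset.mem_filter.1 hz).2)]
      refine (Finset.sum_congr rfl fun p hp => ?_).trans (Finset.sum_const_nat fun _ _ => rfl)
      rw [Finset.filter_filter, ← hSc p (fun e => hT (e ▸ hp))]
      exact congrArg Finset.card (Finset.filter_congr fun z _ =>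
        ⟨fun e => e.2, fun e => ⟨by rw [e]; exact hp, e⟩⟩)
  have hks : (I c).card = (S d).card := by
    obtain ⟨h1, h2⟩ := hcount (Finset.univ.erase c) (Finset.notMem_erase _ _)
    have e : (invs.filter fun z => fp z ∈ Finset.univ.erase c) =
        invs.filter fun z => z • c ∈ Finset.univ.erase c := by
      refine Finset.filter_congr fun z hz => ?_
      have hz' : IsInv z := (Finset.mem_filter.1 hz).2
      simp only [Finset.mem_erase, Finset.mem_univ, and_true]
      exact not_congr (hfp z c hz')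
    rw [e, h2] at h1
    exact (Nat.eq_of_mul_eq_mul_left
      (Finset.card_pos.2 ⟨d, Finset.mem_erase.2 ⟨hcd.symm, Finset.mem_univ d⟩⟩) h1).symm
  set F : Finset Ω := (Finset.univ.filter fun p => ∀ x ∈ J, x • p = p).erase c with hF
  have mem_F : ∀ {p}, p ∈ F ↔ p ≠ c ∧ ∀ x ∈ J, x • p = p := by intro p; simp [hF]
  -- an involution fixing a point of `F` centralises `J`
  have hcomm : ∀ z, IsInv z → fp z ∈ F → ∀ x ∈ J, z * x = x * z := by
    intro z hz hzF x hx
    obtain ⟨hp, hpfix⟩ := mem_F.1 hzF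
    refine h.wGrp_comm_right (Ne.symm hp) hz ((hfp z _ hz).1 rfl) ?_
    rw [h.wGrp_eq hcd (Ne.symm hp) hpfix]
    exact hx
  obtain ⟨hA, hB⟩ := hcount F (fun hc => (mem_F.1 hc).1 rfl)
  have hAB : (invs.filter fun z => fp z ∈ F) ⊆ invs.filter fun z => z • c ∈ F := by
    intro z hz
    obtain ⟨hz1, hz2⟩ := Finset.mem_filter.1 hz
    have hzi : IsInv z := (Finset.mem_filter.1 hz1).2
    refine Finset.mem_filter.2 ⟨hz1, mem_F.2 ⟨fun e => ?_, fun x hx => ?_⟩⟩
    · exact (mem_F.1 hz2).1 ((hfp z c hzi).2 e)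
    · rw [← mul_smul, ← hcomm z hzi hz2 x hx, mul_smul,
        show x • c = c from (h.wGrp_le c d hx).1]
  have hABeq := Finset.eq_of_subset_of_card_le hAB (by rw [hA, hB, hks])
  obtain ⟨t, ht, htc⟩ := h.exists_swap hcd
  have htF : fp t ∈ F := by
    have hmem : t ∈ invs.filter fun z => z • c ∈ F := by
      refine Finset.mem_filter.2 ⟨Finset.mem_filter.2 ⟨Finset.mem_univ _, ht⟩, ?_⟩
      rw [htc]
      exact mem_F.2 ⟨hcd.symm, fun x hx => (h.wGrp_le c d hx).2⟩
    rw [← hABeq] at hmem
    exact (Finset.mem_filter.1 hmem).2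
  have htd : t • d = c := by rw [← htc, ht.smul_smul]
  symm
  refine Subgroup.eq_of_le_of_card_ge (fun x hx => ?_) (h.card_wGrp hcd.symm hcd).le
  have := h.conj_mem_wGrp hx t
  rwa [hcomm t ht htF x hx, mul_inv_cancel_right, htc, htd] at this

end OddTwoTrans

end Cfsg.Agent.Suz27
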